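import Mathlib

set_option autoImplicit false

namespace Cfsg.Agent.Lib.Helper64

variable {G : Type*} [Group G]

/-- Normalizers grow in finite `p`-groups, stated inside an ambient group. -/
theorem exists_normalizing_not_mem [Finite G] {p : ℕ} [Fact p.Prime] {P D : Subgroup G}
    (hP : IsPGroup p P) (hDP : D < P) :
    ∃ x ∈ P, x ∉ D ∧ x ∈ Subgroup.normalizer (D : Set G) := by
  have hD' : D.subgroupOf P < ⊤ := by
    rw [lt_top_iff_ne_top, Ne, Subgroup.subgroupOf_eq_top]
    exact not_le_of_gt hDP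
  have : Group.IsNilpotent ↥P := hP.isNilpotent
  have nc := (Group.normalizerCondition_of_isNilpotent (G := ↥P)) (D.subgroupOf P) hD'
  obtain ⟨x, hxN, hxD⟩ := SetLike.exists_of_lt nc
  refine ⟨x.1, x.2, fun h => hxD (Subgroup.mem_subgroupOf.mpr h), ?_⟩
  rw [Subgroup.mem_normalizer_iff] at hxN ⊢
  intro h
  constructor
  · intro hh
    have := (hxN ⟨h, hDP.le hh⟩).mp (Subgroup.mem_subgroupOf.mpr hh)
    exact Subgroup.mem_subgroupOf.mp this
  · intro hh
    have hhP : h ∈ P := by
      have h1 : x.1 * h * x.1⁻¹ ∈ P := hDP.le hh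
      have h2 : h = x.1⁻¹ * (x.1 * h * x.1⁻¹) * x.1 := by group
      rw [h2]
      exact P.mul_mem (P.mul_mem (P.inv_mem x.2) h1) x.2
    have := (hxN ⟨h, hhP⟩).mpr (Subgroup.mem_subgroupOf.mpr hh)
    exact Subgroup.mem_subgroupOf.mp this

/-- In a `p`-closed subgroup `N`, every `p`-subgroup of `N` lies in the image of its Sylow subgroup. -/
theorem le_map_sylow_of_normal [Finite G] {p : ℕ} [Fact p.Prime] {N : Subgroup G}
    (S : Sylow p N) (hS : (S : Subgroup N).Normal) {K : Subgroup G} (hK : IsPGroup p K)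
    (hKN : K ≤ N) : K ≤ (S : Subgroup N).map N.subtype := by
  have hK' : IsPGroup p (K.subgroupOf N) := hK.comap_subtype
  obtain ⟨S', hS'⟩ := hK'.exists_le_sylow
  letI := Sylow.unique_of_normal S hS
  have hSS : S' = S := Subsingleton.elim _ _
  intro k hk
  refine ⟨⟨k, hKN hk⟩, ?_, rfl⟩
  rw [← hSS]
  exact hS' (Subgroup.mem_subgroupOf.mpr hk)

/-- If every proper subgroup of `G` has a normal Sylow `p`-subgroup and `G` has no nontrivial
normal `p`-subgroup, then distinct Sylow `p`-subgroups of `G` meet trivially. -/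
theorem sylow_inf_eq_bot_of_minimal [Finite G] {p : ℕ} [Fact p.Prime]
    (hsub : ∀ H : Subgroup G, H ≠ ⊤ → ∀ S : Sylow p H, (S : Subgroup H).Normal)
    (hO : ∀ D : Subgroup G, IsPGroup p D → D.Normal → D = ⊥) :
    ∀ P Q : Sylow p G, P ≠ Q → (P : Subgroup G) ⊓ Q = ⊥ := by
  suffices h : ∀ D : Subgroup G, ∀ P Q : Sylow p G, P ≠ Q → (P : Subgroup G) ⊓ Q = D → D = ⊥ from
    fun P Q hPQ => h _ P Q hPQ rfl
  intro D
  induction D using WellFoundedGT.induction with
  | ind D ih =>
    intro P Q hPQ hD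
    by_contra hDbot
    have hDleP : D ≤ P := hD ▸ inf_le_left
    have hDleQ : D ≤ Q := hD ▸ inf_le_right
    have hDP : D < P := by
      refine lt_of_le_of_ne hDleP ?_
      intro h
      apply hPQ
      have hle : (P : Subgroup G) ≤ Q := by rw [← h]; exact hDleQ
      exact (Sylow.ext (P.is_maximal' Q.isPGroup' hle)).symm
    have hDQ : D < Q := by
      refine lt_of_le_of_ne hDleQ ?_
      intro h
      apply hPQ
      have hle : (Q : Subgroup G) ≤ P := by rw [← h]; exact hDleP
      exact Sylow.ext (Q.is_maximal' P.isPGroup' hle)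
    have hN : Subgroup.normalizer (D : Set G) ≠ ⊤ := by
      rw [Ne, Subgroup.normalizer_eq_top_iff]
      intro hn
      exact hDbot (hO D (P.isPGroup'.to_le hDleP) hn)
    obtain ⟨x, hxP, hxD, hxN⟩ := exists_normalizing_not_mem P.isPGroup' hDP
    obtain ⟨y, hyQ, hyD, hyN⟩ := exists_normalizing_not_mem Q.isPGroup' hDQ
    let S : Sylow p (Subgroup.normalizer (D : Set G)) := default
    have hSn := hsub _ hN S
    obtain ⟨R', hR'⟩ := (S.isPGroup'.map (Subgroup.normalizer (D : Set G)).subtype).exists_le_sylow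
    have hPN : (P : Subgroup G) ⊓ Subgroup.normalizer (D : Set G) ≤ R' :=
      (le_map_sylow_of_normal S hSn (P.isPGroup'.to_le inf_le_left) inf_le_right).trans hR'
    have hQN : (Q : Subgroup G) ⊓ Subgroup.normalizer (D : Set G) ≤ R' :=
      (le_map_sylow_of_normal S hSn (Q.isPGroup'.to_le inf_le_left) inf_le_right).trans hR'
    have hDN : D ≤ Subgroup.normalizer (D : Set G) := Subgroup.le_normalizer
    have hR'P : R' = P := by
      by_contra hne
      have hlt : D < (P : Subgroup G) ⊓ R' := by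
        refine lt_of_le_of_ne (le_inf hDleP ((le_inf hDleP hDN).trans hPN)) ?_
        intro heq
        apply hxD
        rw [heq]
        exact ⟨hxP, hPN ⟨hxP, hxN⟩⟩
      have := ih _ hlt P R' (Ne.symm hne) rfl
      rw [this] at hlt
      exact not_lt_bot hlt
    have hR'Q : R' = Q := by
      by_contra hne
      have hlt : D < (Q : Subgroup G) ⊓ R' := by
        refine lt_of_le_of_ne (le_inf hDleQ ((le_inf hDleQ hDN).trans hQN)) ?_
        intro heq
        apply hyD
        rw [heq]
        exact ⟨hyQ, hQN ⟨hyQ, hyN⟩⟩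
      have := ih _ hlt Q R' (Ne.symm hne) rfl
      rw [this] at hlt
      exact not_lt_bot hlt
    exact hPQ (hR'P.symm.trans hR'Q)

end Cfsg.Agent.Lib.Helper64
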