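import Mathlib

set_option autoImplicit false

namespace Cfsg.Agent.Lib.Helper64

variable {G : Type*} [Group G]

/-- Coprime action: a `p`-subgroup `P` normalizes some Sylow `q`-subgroup of a normal subgroup `A`
of order prime to `p`. -/
theorem exists_invariant_sylow [Finite G] {p q : ℕ} [Fact p.Prime] [Fact q.Prime]
    (A : Subgroup G) [A.Normal] (hpA : ¬ p ∣ Nat.card A) {P : Subgroup G} (hP : IsPGroup p P) :
    ∃ Q : Sylow q A, ∀ x ∈ P, ∀ b ∈ (Q : Subgroup A).map A.subtype,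
      x * b * x⁻¹ ∈ (Q : Subgroup A).map A.subtype := by
  letI : MulDistribMulAction P A :=
    MulDistribMulAction.compHom A ((MulAut.conjNormal (H := A)).comp P.subtype)
  have hcard : ¬ p ∣ Nat.card (Sylow q A) := fun h =>
    hpA (h.trans ((Sylow.card_dvd_index (default : Sylow q A)).trans (Subgroup.index_dvd_card _)))
  obtain ⟨Q, hQ⟩ := hP.nonempty_fixed_point_of_prime_not_dvd_card (Sylow q A) hcard
  refine ⟨Q, ?_⟩
  intro x hx b hb
  obtain ⟨b', hb'Q, rfl⟩ := hb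
  have hfix : (⟨x, hx⟩ : P) • Q = Q := hQ ⟨x, hx⟩
  have hmem : (⟨x, hx⟩ : P) • b' ∈ ((⟨x, hx⟩ : P) • Q : Sylow q A) := by
    rw [← SetLike.mem_coe, ← Sylow.coe_coe, Sylow.pointwise_smul_def]
    exact Subgroup.smul_mem_pointwise_smul _ _ _ hb'Q
  rw [hfix] at hmem
  exact ⟨_, hmem, rfl⟩

end Cfsg.Agent.Lib.Helper64
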