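import Mathlib
import Cfsg.Prelude.Def_OddOrderLocal
import Cfsg.Agent.Lib.Helper45.NormalFour
import Cfsg.Agent.Lib.Helper52.NormalRankTwo

/-!
# Bender–Glauberman §9: Corollaries 9.2 and 9.3 from 9.1(a)  -- helper64

`Crit91 G` is the statement of BG Theorem 9.1(a) (uniqueness criterion via centralizers) as a
hypothesis.  From it we derive:

* `bg92`: if `L` is a uniqueness subgroup, `K ≤ C_G(L)` and `r(K) ≥ 2` then `K` is a uniqueness
  subgroup;
* `bg93`: if `A` is an abelian `p`-uniqueness subgroup of rank `≥ 3` and `B` is a noncyclic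
  `p`-subgroup with `r_p(C_G(B)) ≥ 3`, then `B` is a uniqueness subgroup.
-/

set_option autoImplicit false
set_option linter.style.haveILetI false

namespace Cfsg.Agent.Lib.Helper64.BG9

open Subgroup
open scoped Pointwise

variable {G : Type*} [Group G]

/-- BG 9.1(a) as a hypothesis. -/
def Crit91 (G : Type*) [Group G] : Prop :=
  ∀ (M : Subgroup G), IsCoatom M → ∀ (p : ℕ) [Fact p.Prime] (B : Subgroup G), B ≤ M →
    Cfsg.IsElementaryAbelian p B → ¬ IsCyclic B →
    (∀ b ∈ B, b ≠ 1 → Subgroup.centralizer ({b} : Set G) ≤ M) → Cfsg.InUniqueMaximal B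

theorem center_eq_bot (hG : Cfsg.IsMinSimpleOddOrder G) : Subgroup.center G = ⊥ := by
  haveI := hG.2.1
  rcases (inferInstance : (Subgroup.center G).Normal).eq_bot_or_eq_top with h | h
  · exact h
  · exfalso
    apply hG.2.2.1
    refine ⟨⟨fun a b => ?_⟩⟩
    have hb : b ∈ Subgroup.center G := by rw [h]; trivial
    exact Subgroup.mem_center_iff.mp hb a

theorem centralizer_singleton_ne_top (hG : Cfsg.IsMinSimpleOddOrder G) {k : G} (hk : k ≠ 1) :
    Subgroup.centralizer ({k} : Set G) ≠ ⊤ := by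
  intro h
  apply hk
  have : k ∈ Subgroup.center G := by
    rw [Subgroup.mem_center_iff]
    intro g
    have hg : g ∈ Subgroup.centralizer ({k} : Set G) := by rw [h]; trivial
    exact (Subgroup.mem_centralizer_iff.mp hg k rfl).symm
  rw [center_eq_bot hG] at this
  exact Subgroup.mem_bot.mp this

theorem exists_coatom_ge [Finite G] {H : Subgroup G} (hH : H ≠ ⊤) :
    ∃ M : Subgroup G, IsCoatom M ∧ H ≤ M := by
  rcases eq_top_or_exists_le_coatom H with h | h
  · exact absurd h hH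
  · exact h

/-- If `L` lies in the unique maximal subgroup `M`, every nonidentity element centralizing `L` has
its centralizer in `M`. -/
theorem cent_le_of_unique [Finite G] (hG : Cfsg.IsMinSimpleOddOrder G) {L M : Subgroup G}
    (_hLM : L ≤ M) (huniq : ∀ M' : Subgroup G, IsCoatom M' ∧ L ≤ M' → M' = M)
    {k : G} (hk : k ≠ 1) (hkL : k ∈ Subgroup.centralizer (L : Set G)) :
    Subgroup.centralizer ({k} : Set G) ≤ M := by
  obtain ⟨M', hM', hle⟩ := exists_coatom_ge (centralizer_singleton_ne_top hG hk)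
  have hL : L ≤ Subgroup.centralizer ({k} : Set G) := by
    intro l hl
    rw [Subgroup.mem_centralizer_iff]
    intro x hx
    rw [Set.mem_singleton_iff] at hx
    subst hx
    exact (Subgroup.mem_centralizer_iff.mp hkL l hl).symm
  have := huniq M' ⟨hM', hL.trans hle⟩
  rw [← this]
  exact hle

theorem not_isCyclic_of_exp [Finite G] {p : ℕ} (hp : p.Prime) (B : Subgroup G)
    (hBe : ∀ b ∈ B, b ^ p = 1) (hc : p < Nat.card B) : ¬ IsCyclic B := by
  intro hcyc
  have h1 : Monoid.exponent B = Nat.card B := IsCyclic.exponent_eq_card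
  have h2 : Monoid.exponent B ∣ p := by
    apply Monoid.exponent_dvd_of_forall_pow_eq_one
    intro g
    apply Subtype.ext
    simpa using hBe g.1 g.2
  rw [h1] at h2
  have := Nat.le_of_dvd hp.pos h2
  omega

theorem not_rankLE_one [Finite G] {p : ℕ} (hp : p.Prime) (Y Y₀ : Subgroup G) (hle : Y₀ ≤ Y)
    (hY₀ : Cfsg.IsElementaryAbelian p Y₀) (hc : p ^ 2 ≤ Nat.card Y₀) : ¬ Cfsg.RankLE 1 ↥Y := by
  intro h
  haveI := hY₀.1
  have h1 := h p hp (Y₀.subgroupOf Y) inferInstance (by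
    intro a ha
    apply Subtype.ext
    have := hY₀.2 a.1 ha
    simpa using this)
  have h2 : Nat.card (Y₀.subgroupOf Y) = Nat.card Y₀ :=
    Nat.card_congr (Subgroup.subgroupOfEquivOfLe hle).toEquiv
  rw [h2] at h1
  have : p ^ 1 < p ^ 2 := Nat.pow_lt_pow_right hp.one_lt (by norm_num)
  omega

/-- **BG Corollary 9.2.** -/
theorem bg92 [Finite G] (hG : Cfsg.IsMinSimpleOddOrder G) (h91 : Crit91 G)
    (L K : Subgroup G) (hL : Cfsg.InUniqueMaximal L)
    (hK : K ≤ Subgroup.centralizer (L : Set G)) (hKr : ¬ Cfsg.RankLE 1 K) :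
    Cfsg.InUniqueMaximal K := by
  obtain ⟨M, ⟨hM, hLM⟩, huniq⟩ := hL
  unfold Cfsg.RankLE at hKr
  push Not at hKr
  obtain ⟨p, hp, hKp⟩ := hKr
  unfold Cfsg.PRankLE at hKp
  push Not at hKp
  obtain ⟨A, hAc, hAe, hAcard⟩ := hKp
  haveI : Fact p.Prime := ⟨hp⟩
  have hKM : K ≤ M := by
    intro k hk
    by_cases hk1 : k = 1
    · rw [hk1]; exact M.one_mem
    · apply cent_le_of_unique hG hLM huniq hk1 (hK hk)
      rw [Subgroup.mem_centralizer_iff]
      intro x hx
      rw [Set.mem_singleton_iff] at hx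
      rw [hx]
  set B : Subgroup G := A.map K.subtype with hB
  have hBK : B ≤ K := Subgroup.map_subtype_le A
  have hBe : Cfsg.IsElementaryAbelian p B := by
    refine ⟨inferInstance, ?_⟩
    rintro _ ⟨a, ha, rfl⟩
    have := hAe a ha
    simpa using congrArg Subtype.val this
  have hBcard : Nat.card B = Nat.card A :=
    Subgroup.card_map_of_injective K.subtype_injective
  have hBnc : ¬ IsCyclic B := by
    apply not_isCyclic_of_exp hp B hBe.2
    rw [hBcard]
    simpa using hAcard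
  have hBU : Cfsg.InUniqueMaximal B := by
    apply h91 M hM p B (hBK.trans hKM) hBe hBnc
    intro b hb hb1
    exact cent_le_of_unique hG hLM huniq hb1 (hK (hBK hb))
  obtain ⟨M₁, ⟨hM₁, hBM₁⟩, huniq₁⟩ := hBU
  have hMM₁ : M = M₁ := huniq₁ M ⟨hM, hBK.trans hKM⟩
  refine ⟨M, ⟨hM, hKM⟩, ?_⟩
  rintro M' ⟨hM', hKM'⟩
  rw [hMM₁]
  exact huniq₁ M' ⟨hM', hBK.trans hKM'⟩

/-! ### Conjugation invariance -/

theorem smul_top' (ψ : MulAut G) : ψ • (⊤ : Subgroup G) = ⊤ := by
  ext x
  simp [Subgroup.mem_pointwise_smul_iff_inv_smul_mem]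

theorem isCoatom_smul (φ : MulAut G) {M : Subgroup G} (hM : IsCoatom M) : IsCoatom (φ • M) := by
  refine ⟨?_, ?_⟩
  · intro h
    apply hM.1
    have : φ⁻¹ • (φ • M) = ⊤ := by rw [h, smul_top']
    rwa [inv_smul_smul] at this
  · intro b hb
    have h1 : M < φ⁻¹ • b := by
      refine lt_of_le_of_ne (Subgroup.pointwise_smul_subset_iff.mp hb.le) ?_
      intro h
      apply hb.ne
      rw [h, smul_inv_smul]
    have := hM.2 _ h1
    have h2 : φ • (φ⁻¹ • b) = φ • ⊤ := by rw [this]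
    rwa [smul_inv_smul, smul_top'] at h2

theorem inUniqueMaximal_smul (φ : MulAut G) {X : Subgroup G} (h : Cfsg.InUniqueMaximal X) :
    Cfsg.InUniqueMaximal (φ • X) := by
  obtain ⟨M, ⟨hM, hXM⟩, huniq⟩ := h
  refine ⟨φ • M, ⟨isCoatom_smul φ hM, Subgroup.pointwise_smul_le_pointwise_smul_iff.mpr hXM⟩, ?_⟩
  rintro M' ⟨hM', hXM'⟩
  have h1 : IsCoatom (φ⁻¹ • M') := isCoatom_smul φ⁻¹ hM'
  have h2 : X ≤ φ⁻¹ • M' := Subgroup.pointwise_smul_subset_iff.mp hXM'
  have := huniq _ ⟨h1, h2⟩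
  rw [← this, smul_inv_smul]

theorem elemAb_smul {p : ℕ} (φ : MulAut G) {A : Subgroup G} (hA : Cfsg.IsElementaryAbelian p A) :
    Cfsg.IsElementaryAbelian p (φ • A) := by
  refine ⟨⟨⟨fun x y => ?_⟩⟩, ?_⟩
  · apply Subtype.ext
    have hx := Subgroup.mem_pointwise_smul_iff_inv_smul_mem.mp x.2
    have hy := Subgroup.mem_pointwise_smul_iff_inv_smul_mem.mp y.2
    have h := congrArg Subtype.val (hA.1.is_comm.comm ⟨_, hx⟩ ⟨_, hy⟩)
    simp only [MulAut.smul_def, Subgroup.coe_mul] at h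
    rw [← map_mul, ← map_mul] at h
    exact (φ⁻¹).injective h
  · intro a ha
    have ha' := Subgroup.mem_pointwise_smul_iff_inv_smul_mem.mp ha
    have h := hA.2 _ ha'
    simp only [MulAut.smul_def] at h
    rw [← map_pow] at h
    exact (φ⁻¹).injective (h.trans (map_one _).symm)

theorem card_smul' (φ : MulAut G) (A : Subgroup G) : Nat.card (φ • A : Subgroup G) = Nat.card A := by
  rw [Subgroup.pointwise_smul_def]
  apply Subgroup.card_map_of_injective
  exact φ.injective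

/-! ### BG 9.3 -/

theorem not_rankLE_one_of_noncyclic [Finite G] (hG : Cfsg.IsMinSimpleOddOrder G) {p : ℕ}
    [hpf : Fact p.Prime] (B : Subgroup G) (hBp : IsPGroup p B) (hBnc : ¬ IsCyclic B) :
    ¬ Cfsg.RankLE 1 ↥B := by
  intro h
  have hp : p.Prime := hpf.out
  rcases Cfsg.Agent.Lib.Helper52.normal_rank_two p hBp with ⟨N, hNn, hNc, hNe⟩ | hc | ⟨h2, -, -⟩
  · have hcomm : IsMulCommutative N := IsPGroup.isMulCommutative_of_card_eq_prime_sq hNc
    have := h p hp N hcomm (fun a ha => hNe a ha)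
    rw [hNc] at this
    have : p ^ 1 < p ^ 2 := Nat.pow_lt_pow_right hp.one_lt (by norm_num)
    omega
  · exact hBnc hc
  · obtain ⟨n, hn⟩ := IsPGroup.iff_card.mp hBp
    have hn0 : n ≠ 0 := by
      intro h0
      rw [h0, pow_zero] at hn
      apply hBnc
      haveI : Subsingleton B := (Nat.card_eq_one_iff_unique.mp hn).1
      exact isCyclic_of_subsingleton
    have h2B : 2 ∣ Nat.card B := by
      rw [hn, h2]
      exact dvd_pow_self 2 hn0
    have h2G : 2 ∣ Nat.card G := h2B.trans (Subgroup.card_subgroup_dvd_card B)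
    have hodd := hG.1
    rw [Nat.odd_iff] at hodd
    omega

/-- Meeting the centralizer of a normal elementary abelian subgroup of order `p²`. -/
theorem exists_meet {p : ℕ} [hpf : Fact p.Prime] (S : Subgroup G) [Finite S] (hS : IsPGroup p S)
    (U : Subgroup S) [hUn : U.Normal] (hUe : Cfsg.IsElementaryAbelian p U)
    (hUc : Nat.card U = p ^ 2) (X : Subgroup G) (hXS : X ≤ S) (hX : p ^ 2 < Nat.card X) :
    ∃ X₂ : Subgroup G, X₂ ≤ X ∧ p ^ 2 ≤ Nat.card X₂ ∧
      X₂ ≤ Subgroup.centralizer ((U.map S.subtype : Subgroup G) : Set G) := by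
  refine ⟨((X.subgroupOf S) ⊓ Subgroup.centralizer (U : Set S)).map S.subtype, ?_, ?_, ?_⟩
  · rintro _ ⟨y, hy, rfl⟩
    exact hy.1
  · rw [Subgroup.card_map_of_injective S.subtype_injective]
    apply Cfsg.Agent.Lib.Helper45.sq_le_card_inf_centralizer hS U hUe hUc
    rw [Nat.card_congr (Subgroup.subgroupOfEquivOfLe hXS).toEquiv]
    exact hX
  · rintro _ ⟨y, hy, rfl⟩
    rw [Subgroup.mem_centralizer_iff]
    rintro _ ⟨u, hu, rfl⟩
    have := Subgroup.mem_centralizer_iff.mp hy.2 u hu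
    exact congrArg Subtype.val this

theorem elemAb_of_le {p : ℕ} {X Y : Subgroup G} (h : X ≤ Y) (hY : Cfsg.IsElementaryAbelian p Y) :
    Cfsg.IsElementaryAbelian p X := by
  refine ⟨⟨⟨fun a b => ?_⟩⟩, fun a ha => hY.2 a (h ha)⟩
  apply Subtype.ext
  have := hY.1.is_comm.comm ⟨a.1, h a.2⟩ ⟨b.1, h b.2⟩
  simpa using congrArg Subtype.val this

theorem centralizer_symm {X Y : Subgroup G} (h : X ≤ Subgroup.centralizer (Y : Set G)) :
    Y ≤ Subgroup.centralizer (X : Set G) := by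
  intro y hy
  rw [Subgroup.mem_centralizer_iff]
  intro x hx
  exact (Subgroup.mem_centralizer_iff.mp (h hx) y hy).symm

/-- **BG Corollary 9.3.** -/
theorem bg93 [Finite G] (hG : Cfsg.IsMinSimpleOddOrder G) (h91 : Crit91 G)
    (p : ℕ) [hpf : Fact p.Prime] (A B : Subgroup G) (hAp : IsPGroup p A) (hAc : IsMulCommutative A)
    (hA3 : ¬ Cfsg.PRankLE p 2 ↥A) (hAU : Cfsg.InUniqueMaximal A) (hBp : IsPGroup p B)
    (hBnc : ¬ IsCyclic B)
    (hB3 : ¬ Cfsg.PRankLE p 2 ↥(Subgroup.centralizer (B : Set G))) :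
    Cfsg.InUniqueMaximal B := by
  have hp : p.Prime := hpf.out
  -- the elementary abelian subgroup of `A`
  unfold Cfsg.PRankLE at hA3
  push Not at hA3
  obtain ⟨A₀', hA₀c, hA₀e, hA₀card⟩ := hA3
  set A₀ : Subgroup G := A₀'.map A.subtype with hA₀
  have hA₀A : A₀ ≤ A := Subgroup.map_subtype_le A₀'
  have hA₀el : Cfsg.IsElementaryAbelian p A₀ := by
    refine ⟨inferInstance, ?_⟩
    rintro _ ⟨a, ha, rfl⟩
    have := hA₀e a ha
    simpa using congrArg Subtype.val this
  have hA₀card' : p ^ 2 < Nat.card A₀ := by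
    rw [hA₀, Subgroup.card_map_of_injective A.subtype_injective]
    exact hA₀card
  have hAcent : A ≤ Subgroup.centralizer (A : Set G) := by
    intro a ha
    rw [Subgroup.mem_centralizer_iff]
    intro x hx
    have := hAc.is_comm.comm ⟨x, hx⟩ ⟨a, ha⟩
    exact congrArg Subtype.val this
  have hA₀U : Cfsg.InUniqueMaximal A₀ :=
    bg92 hG h91 A A₀ hAU (hA₀A.trans hAcent) (not_rankLE_one hp A₀ A₀ le_rfl hA₀el hA₀card'.le)
  -- the elementary abelian subgroup of `C_G(B)`
  unfold Cfsg.PRankLE at hB3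
  push Not at hB3
  obtain ⟨E', hE'c, hE'e, hE'card⟩ := hB3
  set E : Subgroup G := E'.map (Subgroup.centralizer (B : Set G)).subtype with hE
  have hEB : E ≤ Subgroup.centralizer (B : Set G) := Subgroup.map_subtype_le E'
  have hEel : Cfsg.IsElementaryAbelian p E := by
    refine ⟨inferInstance, ?_⟩
    rintro _ ⟨a, ha, rfl⟩
    have := hE'e a ha
    simpa using congrArg Subtype.val this
  have hEcard : p ^ 2 < Nat.card E := by
    rw [hE, Subgroup.card_map_of_injective (Subgroup.subtype_injective _)]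
    exact hE'card
  have hEp : IsPGroup p E := by
    intro e
    refine ⟨1, ?_⟩
    apply Subtype.ext
    simpa using hEel.2 e.1 e.2
  have hTp : IsPGroup p (B ⊔ E : Subgroup G) :=
    IsPGroup.to_sup_of_normal_left' hBp hEp (hEB.trans (Subgroup.centralizer_le_normalizer _))
  obtain ⟨Q, hTQ⟩ := hTp.exists_le_sylow
  obtain ⟨P, hAP⟩ := hAp.exists_le_sylow
  obtain ⟨g, hg⟩ := MulAction.exists_smul_eq G P Q
  set φ : MulAut G := MulAut.conj g with hφ
  set A₁ : Subgroup G := φ • A₀ with hA₁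
  have hA₁Q : A₁ ≤ (Q : Subgroup G) := by
    rw [← hg, Sylow.coe_subgroup_smul]
    exact Subgroup.pointwise_smul_le_pointwise_smul_iff.mpr (hA₀A.trans hAP)
  have hA₁U : Cfsg.InUniqueMaximal A₁ := inUniqueMaximal_smul φ hA₀U
  have hA₁el : Cfsg.IsElementaryAbelian p A₁ := elemAb_smul φ hA₀el
  have hA₁card : p ^ 2 < Nat.card A₁ := by rw [hA₁, card_smul']; exact hA₀card'
  -- inside the Sylow subgroup
  set S : Subgroup G := (Q : Subgroup G) with hSdef
  have hS : IsPGroup p S := Q.isPGroup'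
  have hrk : ¬ Cfsg.PRankLE p 2 ↥S := by
    intro h
    haveI := hA₁el.1
    have h1 := h (A₁.subgroupOf S) inferInstance (by
      intro a ha
      apply Subtype.ext
      have := hA₁el.2 a.1 ha
      simpa using this)
    rw [Nat.card_congr (Subgroup.subgroupOfEquivOfLe hA₁Q).toEquiv] at h1
    omega
  obtain ⟨U, hUn, hUe, hUc⟩ := Cfsg.Agent.Lib.Helper45.exists_normal_elemAb_card_sq p hS hrk
  haveI := hUn
  set V : Subgroup G := U.map S.subtype with hV
  have hVel : Cfsg.IsElementaryAbelian p V := by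
    haveI := hUe.1
    refine ⟨inferInstance, ?_⟩
    rintro _ ⟨a, ha, rfl⟩
    have := hUe.2 a ha
    simpa using congrArg Subtype.val this
  have hVcard : Nat.card V = p ^ 2 := by
    rw [hV, Subgroup.card_map_of_injective S.subtype_injective, hUc]
  -- step 1: A₂
  obtain ⟨A₂, hA₂le, hA₂card, hA₂V⟩ := exists_meet S hS U hUe hUc A₁ hA₁Q hA₁card
  have hA₁cent : A₁ ≤ Subgroup.centralizer (A₁ : Set G) := by
    intro a ha
    rw [Subgroup.mem_centralizer_iff]
    intro x hx
    have := hA₁el.1.is_comm.comm ⟨x, hx⟩ ⟨a, ha⟩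
    exact congrArg Subtype.val this
  have hA₂U : Cfsg.InUniqueMaximal A₂ :=
    bg92 hG h91 A₁ A₂ hA₁U (hA₂le.trans hA₁cent)
      (not_rankLE_one hp A₂ A₂ le_rfl (elemAb_of_le hA₂le hA₁el) hA₂card)
  -- step 2: V
  have hVU : Cfsg.InUniqueMaximal V :=
    bg92 hG h91 A₂ V hA₂U (centralizer_symm hA₂V)
      (not_rankLE_one hp V V le_rfl hVel hVcard.ge)
  -- step 3: E₂
  have hES : E ≤ S := le_sup_right.trans hTQ
  obtain ⟨E₂, hE₂le, hE₂card, hE₂V⟩ := exists_meet S hS U hUe hUc E hES hEcard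
  have hE₂U : Cfsg.InUniqueMaximal E₂ :=
    bg92 hG h91 V E₂ hVU hE₂V
      (not_rankLE_one hp E₂ E₂ le_rfl (elemAb_of_le hE₂le hEel) hE₂card)
  -- step 4: B
  exact bg92 hG h91 E₂ B hE₂U (centralizer_symm (hE₂le.trans hEB))
    (not_rankLE_one_of_noncyclic hG B hBp hBnc)

end Cfsg.Agent.Lib.Helper64.BG9
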