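import Mathlib
import Cfsg.Agent.Lib.Helper64.BG9
import Cfsg.Agent.S1397
import Cfsg.Agent.Lib.Helper53.NormalAbelian
import Cfsg.Agent.Lib.Helper97.PRank

/-!
# Bender–Glauberman §9: Lemma 9.4 from 9.1(a)  -- helper64

* `exists_scn3`: for odd `p`, a `p`-subgroup `S` of rank at least 3 has a member of `SCN_3(S)`.
* `bg94`: if `r_p(F(M)) ≥ 3` for a maximal subgroup `M`, every abelian `p`-subgroup of rank at
  least 3 is a uniqueness subgroup.
-/

set_option autoImplicit false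
set_option linter.style.haveILetI false

namespace Cfsg.Agent.Lib.Helper64.BG9

open Subgroup
open scoped Pointwise

variable {G : Type*} [Group G]

/-- For odd `p`, `SCN_3(S)` is nonempty when the `p`-group `S` has rank at least 3. -/
theorem exists_scn3 [Finite G] {p : ℕ} [hpf : Fact p.Prime] (hp2 : p ≠ 2) (S : Subgroup G)
    (hS : IsPGroup p S) (hr : ¬ Cfsg.PRankLE p 2 ↥S) :
    ∃ A : Subgroup G, Cfsg.IsSCN S A ∧ ¬ Cfsg.PRankLE p 2 ↥A := by
  obtain ⟨M₀, hM₀n, hM₀c, hM₀e, hM₀card⟩ :=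
    Cfsg.Agent.Lib.Helper97.PRank.exists_normal_elemAb_card_cube hp2 hS hr
  have hM₀comm : ∀ x ∈ M₀, ∀ y ∈ M₀, x * y = y * x := by
    intro x hx y hy
    exact congrArg Subtype.val (hM₀c.is_comm.comm ⟨x, hx⟩ ⟨y, hy⟩)
  obtain ⟨A₁, hM₀A₁, hA₁n, hA₁c, hA₁max⟩ :=
    Cfsg.Agent.Lib.Helper53.exists_max_normal_abelian M₀ hM₀n hM₀comm
  haveI := hA₁n
  have hcent : Subgroup.centralizer (A₁ : Set S) = A₁ :=
    Cfsg.Agent.Lib.Helper53.centralizer_eq_of_max_normal_abelian hS A₁ hA₁c hA₁max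
  refine ⟨A₁.map S.subtype, ⟨Subgroup.map_subtype_le A₁, ?_, ?_⟩, ?_⟩
  · intro s hs
    rw [Subgroup.mem_normalizer_iff]
    intro x
    constructor
    · rintro ⟨a, ha, rfl⟩
      refine ⟨⟨s, hs⟩ * a * ⟨s, hs⟩⁻¹, hA₁n.conj_mem a ha ⟨s, hs⟩, ?_⟩
      simp
    · rintro ⟨b, hb, hbx⟩
      refine ⟨⟨s, hs⟩⁻¹ * b * ⟨s, hs⟩, ?_, ?_⟩
      · have := hA₁n.conj_mem b hb ⟨s, hs⟩⁻¹
        simpa using this
      · simp only [Subgroup.subtype_apply] at hbx
        simp only [Subgroup.subtype_apply, Subgroup.coe_mul, Subgroup.coe_inv, hbx]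
        group
  · ext x
    constructor
    · rintro ⟨hxS, hxC⟩
      have : (⟨x, hxS⟩ : S) ∈ Subgroup.centralizer (A₁ : Set S) := by
        rw [Subgroup.mem_centralizer_iff]
        intro a ha
        apply Subtype.ext
        exact Subgroup.mem_centralizer_iff.mp hxC a.1 ⟨a, ha, rfl⟩
      rw [hcent] at this
      exact ⟨⟨x, hxS⟩, this, rfl⟩
    · rintro ⟨a, ha, rfl⟩
      refine ⟨a.2, Subgroup.mem_centralizer_iff.mpr ?_⟩
      rintro _ ⟨b, hb, rfl⟩
      exact congrArg Subtype.val (hA₁c b hb a ha)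
  · apply Cfsg.Agent.Lib.Helper23.not_pRankLE_two_of_elemAb (A₀ := M₀.map S.subtype)
      (Subgroup.map_mono hM₀A₁)
    · rintro _ ⟨a, ha, rfl⟩ _ ⟨b, hb, rfl⟩
      exact congrArg Subtype.val (hM₀comm a ha b hb)
    · rintro _ ⟨a, ha, rfl⟩
      have := hM₀e a ha
      simpa using congrArg Subtype.val this
    · rw [Subgroup.card_map_of_injective S.subtype_injective, hM₀card]

theorem scn_abelian {S A : Subgroup G} (hA : Cfsg.IsSCN S A) : IsMulCommutative A := by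
  refine ⟨⟨fun a b => ?_⟩⟩
  apply Subtype.ext
  have hb : b.1 ∈ S ⊓ Subgroup.centralizer (A : Set G) := by rw [hA.2.2]; exact b.2
  exact (Subgroup.mem_centralizer_iff.mp hb.2 a.1 a.2)

theorem self_le_centralizer {A : Subgroup G} (hAc : IsMulCommutative A) :
    A ≤ Subgroup.centralizer (A : Set G) := by
  intro a ha
  rw [Subgroup.mem_centralizer_iff]
  intro x hx
  exact congrArg Subtype.val (hAc.is_comm.comm ⟨x, hx⟩ ⟨a, ha⟩)

/-- An abelian `p`-subgroup of rank at least 3 is a uniqueness subgroup as soon as one such subgroup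
is. -/
theorem bg93_abelian [Finite G] (hG : Cfsg.IsMinSimpleOddOrder G) (h91 : Crit91 G)
    (p : ℕ) [hpf : Fact p.Prime] (A B : Subgroup G) (hAp : IsPGroup p A) (hAc : IsMulCommutative A)
    (hA3 : ¬ Cfsg.PRankLE p 2 ↥A) (hAU : Cfsg.InUniqueMaximal A) (hBp : IsPGroup p B)
    (hBc : IsMulCommutative B) (hB3 : ¬ Cfsg.PRankLE p 2 ↥B) :
    Cfsg.InUniqueMaximal B := by
  have hp : p.Prime := hpf.out
  have hB3' := hB3
  unfold Cfsg.PRankLE at hB3'
  push Not at hB3'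
  obtain ⟨X, hXc, hXe, hXcard⟩ := hB3'
  have hXcomm : ∀ x ∈ X, ∀ y ∈ X, x * y = y * x := by
    intro x hx y hy
    exact congrArg Subtype.val (hXc.is_comm.comm ⟨x, hx⟩ ⟨y, hy⟩)
  have hBnc : ¬ IsCyclic B := by
    intro hcyc
    have : IsCyclic X := inferInstance
    refine not_isCyclic_of_exp hp X hXe ?_ this
    have : p ^ 1 < p ^ 2 := Nat.pow_lt_pow_right hp.one_lt (by norm_num)
    rw [pow_one] at this
    omega
  have hXG : p ^ 2 < Nat.card (X.map B.subtype) := by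
    rw [Subgroup.card_map_of_injective B.subtype_injective]; exact hXcard
  have hX3 : p ^ 3 ≤ Nat.card (X.map B.subtype) := by
    have hXp : IsPGroup p (X.map B.subtype) := hBp.to_le (Subgroup.map_subtype_le X)
    obtain ⟨k, hk⟩ := IsPGroup.iff_card.mp hXp
    rw [hk] at hXG ⊢
    have : 2 < k := (Nat.pow_lt_pow_iff_right hp.one_lt).mp hXG
    exact Nat.pow_le_pow_right hp.pos this
  have hBcent : ¬ Cfsg.PRankLE p 2 ↥(Subgroup.centralizer (B : Set G)) := by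
    apply Cfsg.Agent.Lib.Helper23.not_pRankLE_two_of_elemAb (A₀ := X.map B.subtype)
      ((Subgroup.map_subtype_le X).trans (self_le_centralizer hBc))
    · rintro _ ⟨a, ha, rfl⟩ _ ⟨b, hb, rfl⟩
      exact congrArg Subtype.val (hXcomm a ha b hb)
    · rintro _ ⟨a, ha, rfl⟩
      have := hXe a ha
      simpa using congrArg Subtype.val this
    · exact hX3
  exact bg93 hG h91 p A B hAp hAc hA3 hAU hBp hBnc hBcent

/-- **BG Lemma 9.4.** -/
theorem bg94 [Finite G] (hG : Cfsg.IsMinSimpleOddOrder G) (h91 : Crit91 G)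
    (M : Subgroup G) (hM : IsCoatom M) (p : ℕ) [hpf : Fact p.Prime]
    (hF : ¬ Cfsg.PRankLE p 2 ↥(Cfsg.fittingOf M))
    (A : Subgroup G) (hAp : IsPGroup p A) (hAc : IsMulCommutative A)
    (hA3 : ¬ Cfsg.PRankLE p 2 ↥A) :
    Cfsg.InUniqueMaximal A := by
  have hp : p.Prime := hpf.out
  -- an elementary abelian subgroup of `F(M)` of order at least `p ^ 3`
  have hF' := hF
  unfold Cfsg.PRankLE at hF'
  push Not at hF'
  obtain ⟨E', hE'c, hE'e, hE'card⟩ := hF'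
  set E₀ : Subgroup G := E'.map (Cfsg.fittingOf M).subtype with hE₀
  have hE₀F : E₀ ≤ Cfsg.fittingOf M := Subgroup.map_subtype_le E'
  have hE₀el : Cfsg.IsElementaryAbelian p E₀ := by
    refine ⟨inferInstance, ?_⟩
    rintro _ ⟨a, ha, rfl⟩
    have := hE'e a ha
    simpa using congrArg Subtype.val this
  have hE₀card : p ^ 2 < Nat.card E₀ := by
    rw [hE₀, Subgroup.card_map_of_injective (Subgroup.subtype_injective _)]
    exact hE'card
  -- a maximal one
  obtain ⟨A₀, hE₀A₀, hA₀max⟩ := Finite.exists_le_maximal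
    (p := fun B : Subgroup G => B ≤ Cfsg.fittingOf M ∧ Cfsg.IsElementaryAbelian p B)
    ⟨hE₀F, hE₀el⟩
  obtain ⟨⟨hA₀F, hA₀el⟩, hA₀m⟩ := hA₀max
  have hA₀p : IsPGroup p A₀ := by
    intro a
    refine ⟨1, ?_⟩
    apply Subtype.ext
    simpa using hA₀el.2 a.1 a.2
  have hA₀card : p ^ 2 < Nat.card A₀ :=
    lt_of_lt_of_le hE₀card (Subgroup.card_le_of_le hE₀A₀)
  have hA₀3 : p ^ 3 ≤ Nat.card A₀ := by
    obtain ⟨k, hk⟩ := IsPGroup.iff_card.mp hA₀p
    rw [hk] at hA₀card ⊢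
    have : 2 < k := (Nat.pow_lt_pow_iff_right hp.one_lt).mp hA₀card
    exact Nat.pow_le_pow_right hp.pos this
  have hmax' : ∀ B : Subgroup G, B ≤ Cfsg.fittingOf M → Cfsg.IsElementaryAbelian p B →
      A₀ ≤ B → B = A₀ := by
    intro B hBF hBe hle
    exact le_antisymm (hA₀m ⟨hBF, hBe⟩ hle) hle
  obtain ⟨ha, hb⟩ := Cfsg.Agent.S1397.result hG M hM p A₀ hA₀F hA₀el hA₀3 hmax'
  have hA₀rk : ¬ Cfsg.PRankLE p 2 ↥A₀ :=
    Cfsg.Agent.Lib.Helper23.not_pRankLE_two_of_elemAb (A₀ := A₀) le_rfl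
      (fun x hx y hy => congrArg Subtype.val (hA₀el.1.is_comm.comm ⟨x, hx⟩ ⟨y, hy⟩)) hA₀el.2 hA₀3
  by_cases hFp : IsPGroup p ↥(Cfsg.fittingOf M)
  · -- `F(M)` is a `p`-group
    have hE₀M : E₀ ≤ M := hE₀F.trans (Subgroup.map_subtype_le _)
    have hE₀p : IsPGroup p (E₀.subgroupOf M) := by
      intro a
      refine ⟨1, ?_⟩
      apply Subtype.ext
      apply Subtype.ext
      have := hE₀el.2 a.1.1 a.2
      simpa using this
    obtain ⟨P, hP⟩ := hE₀p.exists_le_sylow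
    obtain ⟨-, hscn⟩ := hb hFp P
    set S : Subgroup G := (P : Subgroup M).map M.subtype with hSdef
    have hSp : IsPGroup p S := by
      rw [hSdef]
      exact P.isPGroup'.map _
    have hE₀S : E₀ ≤ S := by
      intro x hx
      exact ⟨⟨x, hE₀M hx⟩, hP hx, rfl⟩
    have hSrk : ¬ Cfsg.PRankLE p 2 ↥S := by
      apply Cfsg.Agent.Lib.Helper23.not_pRankLE_two_of_elemAb (A₀ := E₀) hE₀S
        (fun x hx y hy => congrArg Subtype.val (hE₀el.1.is_comm.comm ⟨x, hx⟩ ⟨y, hy⟩)) hE₀el.2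
      obtain ⟨k, hk⟩ := IsPGroup.iff_card.mp (hSp.to_le hE₀S)
      rw [hk] at hE₀card ⊢
      have : 2 < k := (Nat.pow_lt_pow_iff_right hp.one_lt).mp hE₀card
      exact Nat.pow_le_pow_right hp.pos this
    have hp2 : p ≠ 2 := by
      intro h2
      obtain ⟨k, hk⟩ := IsPGroup.iff_card.mp hA₀p
      have hk0 : k ≠ 0 := by
        intro h0
        rw [h0, pow_zero] at hk
        rw [hk] at hA₀card
        have : 1 ≤ p ^ 2 := Nat.one_le_pow _ _ hp.pos
        omega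
      have h1 : p ∣ Nat.card A₀ := by rw [hk]; exact dvd_pow_self p hk0
      have h2G : 2 ∣ Nat.card G := by
        rw [h2] at h1
        exact h1.trans (Subgroup.card_subgroup_dvd_card A₀)
      have hodd := hG.1
      rw [Nat.odd_iff] at hodd
      omega
    obtain ⟨A₁, hA₁scn, hA₁rk⟩ := exists_scn3 hp2 S hSp hSrk
    obtain ⟨-, hA₁U⟩ := hscn A₁ hA₁scn hA₁rk
    exact bg93_abelian hG h91 p A₁ A (hSp.to_le hA₁scn.1) (scn_abelian hA₁scn) hA₁rk hA₁U
      hAp hAc hA3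
  · -- `F(M)` is not a `p`-group
    have hLU := ha hFp
    have hA₀U : Cfsg.InUniqueMaximal A₀ := by
      apply bg92 hG h91 _ A₀ hLU
      · apply centralizer_symm
        exact inf_le_right
      · exact not_rankLE_one hp A₀ A₀ le_rfl hA₀el hA₀card.le
    exact bg93_abelian hG h91 p A₀ A hA₀p hA₀el.1 hA₀rk hA₀U hAp hAc hA3

end Cfsg.Agent.Lib.Helper64.BG9
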