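import Mathlib
import Cfsg.Agent.Lib.Helper64.BG9b

/-!
# Bender–Glauberman §9: Theorem 9.6 (the Uniqueness Theorem) from 9.1(a) and 9.5  -- helper64

`Crit95 G` is the statement of BG Lemma 9.5 (members of `SCN_3(P)` are uniqueness subgroups) as a
hypothesis.  `bg96` derives the Uniqueness Theorem from `Crit91 G` and `Crit95 G`.
-/

set_option autoImplicit false
set_option linter.style.haveILetI false

namespace Cfsg.Agent.Lib.Helper64.BG9

open Subgroup

variable {G : Type*} [Group G]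

/-- BG Lemma 9.5 as a hypothesis. -/
def Crit95 (G : Type*) [Group G] : Prop :=
  ∀ (p : ℕ) [Fact p.Prime] (P : Sylow p G) (A : Subgroup G),
    Cfsg.IsSCN (P : Subgroup G) A → ¬ Cfsg.PRankLE p 2 ↥A → Cfsg.InUniqueMaximal A

/-- Every elementary abelian subgroup of order at least `p ^ 3` is a uniqueness subgroup. -/
theorem elemAb_rank3_unique [Finite G] (hG : Cfsg.IsMinSimpleOddOrder G) (h91 : Crit91 G)
    (h95 : Crit95 G) {p : ℕ} [hpf : Fact p.Prime] (E : Subgroup G)
    (hEe : Cfsg.IsElementaryAbelian p E) (hEcard : p ^ 2 < Nat.card E) :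
    Cfsg.InUniqueMaximal E := by
  have hp : p.Prime := hpf.out
  have hEp : IsPGroup p E := by
    intro e
    refine ⟨1, ?_⟩
    apply Subtype.ext
    simpa using hEe.2 e.1 e.2
  have hE3 : p ^ 3 ≤ Nat.card E := by
    obtain ⟨k, hk⟩ := IsPGroup.iff_card.mp hEp
    rw [hk] at hEcard ⊢
    have : 2 < k := (Nat.pow_lt_pow_iff_right hp.one_lt).mp hEcard
    exact Nat.pow_le_pow_right hp.pos this
  have hEcomm : ∀ x ∈ E, ∀ y ∈ E, x * y = y * x :=
    fun x hx y hy => congrArg Subtype.val (hEe.1.is_comm.comm ⟨x, hx⟩ ⟨y, hy⟩)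
  have hErk : ¬ Cfsg.PRankLE p 2 ↥E :=
    Cfsg.Agent.Lib.Helper23.not_pRankLE_two_of_elemAb (A₀ := E) le_rfl hEcomm hEe.2 hE3
  have hp2 : p ≠ 2 := by
    intro h2
    have h1 : p ∣ Nat.card E := Cfsg.Agent.Lib.Helper23.dvd_card_of_pow_le hEp hE3
    have h2G : 2 ∣ Nat.card G := by
      rw [h2] at h1
      exact h1.trans (Subgroup.card_subgroup_dvd_card E)
    have hodd := hG.1
    rw [Nat.odd_iff] at hodd
    omega
  obtain ⟨P, hEP⟩ := hEp.exists_le_sylow
  have hPrk : ¬ Cfsg.PRankLE p 2 ↥(P : Subgroup G) :=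
    Cfsg.Agent.Lib.Helper23.not_pRankLE_two_of_elemAb (A₀ := E) hEP hEcomm hEe.2 hE3
  obtain ⟨A, hAscn, hArk⟩ := exists_scn3 hp2 (P : Subgroup G) P.isPGroup' hPrk
  have hAU := h95 p P A hAscn hArk
  exact bg93_abelian hG h91 p A E (P.isPGroup'.to_le hAscn.1) (scn_abelian hAscn) hArk hAU
    hEp hEe.1 hErk

/-- **BG Theorem 9.6 (the Uniqueness Theorem).** -/
theorem bg96 [Finite G] (hG : Cfsg.IsMinSimpleOddOrder G) (h91 : Crit91 G) (h95 : Crit95 G)
    (K : Subgroup G) (hK : K ≠ ⊤) (hK2 : ¬ Cfsg.RankLE 1 K)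
    (hK3 : ¬ Cfsg.RankLE 2 K ∨ ¬ Cfsg.RankLE 2 (Subgroup.centralizer (K : Set G))) :
    Cfsg.InUniqueMaximal K := by
  rcases hK3 with h3 | h3
  · unfold Cfsg.RankLE at h3
    push Not at h3
    obtain ⟨p, hp, h3p⟩ := h3
    haveI : Fact p.Prime := ⟨hp⟩
    unfold Cfsg.PRankLE at h3p
    push Not at h3p
    obtain ⟨E', hE'c, hE'e, hE'card⟩ := h3p
    set E : Subgroup G := E'.map K.subtype with hE
    have hEK : E ≤ K := Subgroup.map_subtype_le E'
    have hEel : Cfsg.IsElementaryAbelian p E := by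
      refine ⟨inferInstance, ?_⟩
      rintro _ ⟨a, ha, rfl⟩
      have := hE'e a ha
      simpa using congrArg Subtype.val this
    have hEcard : p ^ 2 < Nat.card E := by
      rw [hE, Subgroup.card_map_of_injective K.subtype_injective]
      exact hE'card
    obtain ⟨M, ⟨hM, hEM⟩, huniq⟩ := elemAb_rank3_unique hG h91 h95 E hEel hEcard
    obtain ⟨M', hM', hKM'⟩ := exists_coatom_ge hK
    have hMM' : M' = M := huniq M' ⟨hM', hEK.trans hKM'⟩
    refine ⟨M, ⟨hM, hMM' ▸ hKM'⟩, ?_⟩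
    rintro L ⟨hL, hKL⟩
    exact huniq L ⟨hL, hEK.trans hKL⟩
  · unfold Cfsg.RankLE at h3
    push Not at h3
    obtain ⟨p, hp, h3p⟩ := h3
    haveI : Fact p.Prime := ⟨hp⟩
    unfold Cfsg.PRankLE at h3p
    push Not at h3p
    obtain ⟨E', hE'c, hE'e, hE'card⟩ := h3p
    set E : Subgroup G := E'.map (Subgroup.centralizer (K : Set G)).subtype with hE
    have hEK : E ≤ Subgroup.centralizer (K : Set G) := Subgroup.map_subtype_le E'
    have hEel : Cfsg.IsElementaryAbelian p E := by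
      refine ⟨inferInstance, ?_⟩
      rintro _ ⟨a, ha, rfl⟩
      have := hE'e a ha
      simpa using congrArg Subtype.val this
    have hEcard : p ^ 2 < Nat.card E := by
      rw [hE, Subgroup.card_map_of_injective (Subgroup.subtype_injective _)]
      exact hE'card
    have hEU := elemAb_rank3_unique hG h91 h95 E hEel hEcard
    exact bg92 hG h91 E K hEU (centralizer_symm hEK) hK2

end Cfsg.Agent.Lib.Helper64.BG9
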