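import Cfsg.Agent.Lib.Helper32.Transitivity

set_option autoImplicit false

/-!
# Signalizers generated by their invariant Sylow subgroups (assembly helper for BG 9.5)

If all maximal `A`-invariant `q`-subgroups (`q ≠ p`) of `G` lie in `M`, then every `A`-invariant
`p'`-subgroup of `G` lies in `M`.
-/

namespace Cfsg.Agent.Lib.Helper64

open Subgroup Cfsg Cfsg.Agent.Lib.Helper33 Cfsg.Agent.Lib.Helper24 Cfsg.Agent.Lib.Helper32

universe u

variable {G : Type u} [Group G] [Finite G]

/-- A subgroup of a finite group containing a Sylow `q`-subgroup for every prime `q` is everything. -/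
theorem eq_top_of_forall_sylow_le {Y : Type u} [Group Y] [Finite Y] (J : Subgroup Y)
    (h : ∀ q : ℕ, ∀ _ : Fact q.Prime, ∃ S : Sylow q Y, (S : Subgroup Y) ≤ J) : J = ⊤ := by
  rw [← Subgroup.index_eq_one]
  by_contra hne
  obtain ⟨q, hq, hqd⟩ := Nat.exists_prime_and_dvd hne
  haveI : Fact q.Prime := ⟨hq⟩
  obtain ⟨S, hS⟩ := h q ⟨hq⟩
  exact S.not_dvd_index (hqd.trans (Subgroup.index_dvd_of_le hS))

/-- If every maximal `A`-invariant `q`-subgroup of `G` (`q ≠ p` prime) lies in `M`, then every
`A`-invariant `p'`-subgroup of `G` lies in `M` (`A` a `p`-group). -/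
theorem sig_le {M A : Subgroup G} {p : ℕ} [Fact p.Prime] (hAp : IsPGroup p A)
    (h : ∀ q : ℕ, q.Prime → q ≠ p → ∀ Q ∈ Cfsg.maxInvSubgroups ⊤ A {q}, Q ≤ M) :
    ∀ Y : Subgroup G, (Nat.card Y).Coprime p → A ≤ Subgroup.normalizer (Y : Set G) → Y ≤ M := by
  intro Y hYp hAY
  have hp : p.Prime := Fact.out
  have hcop : (Nat.card A).Coprime (Nat.card Y) := by
    obtain ⟨k, hk⟩ := IsPGroup.iff_card.mp hAp
    rw [hk]
    exact Nat.Coprime.pow_left k hYp.symm
  have hsolv : Group.IsSolvable A ∨ Group.IsSolvable Y := by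
    left
    haveI : Group.IsNilpotent A := hAp.isNilpotent
    infer_instance
  -- the subgroup of `Y` consisting of the elements lying in `M`
  have key : (M.subgroupOf Y) = ⊤ := by
    apply eq_top_of_forall_sylow_le
    intro q hqF
    haveI := hqF
    have hq : q.Prime := Fact.out
    obtain ⟨S, hS⟩ := exists_invariant_sylow (p := q) A Y hAY hcop hsolv
    refine ⟨S, ?_⟩
    have hSp : IsPGroup q ((S : Subgroup Y).map Y.subtype) := (sylow_map_facts Y S).2.1
    have hle : (S : Subgroup Y).map Y.subtype ≤ M := by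
      by_cases hqp : q = p
      · -- the Sylow `p`-subgroup of the `p'`-group `Y` is trivial
        subst hqp
        have hbot : (S : Subgroup Y) = ⊥ := by
          rw [← Subgroup.card_eq_one]
          obtain ⟨k, hk⟩ := IsPGroup.iff_card.mp S.2
          have hdvd : Nat.card (S : Subgroup Y) ∣ Nat.card Y := Subgroup.card_subgroup_dvd_card _
          rcases Nat.eq_zero_or_pos k with hk0 | hk0
          · rw [hk, hk0, pow_zero]
          · exfalso
            have : q ∣ Nat.card Y := by
              refine dvd_trans ?_ hdvd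
              rw [hk]
              exact dvd_pow_self q hk0.ne'
            have h1 : q ∣ Nat.gcd (Nat.card Y) q := Nat.dvd_gcd this dvd_rfl
            rw [Nat.Coprime] at hYp
            rw [hYp] at h1
            exact hp.one_lt.ne' (Nat.dvd_one.mp h1)
        rw [hbot, Subgroup.map_bot]
        exact bot_le
      · obtain ⟨Q, hQ, hSQ⟩ := exists_maxInv_ge (mem_invSubgroups_of_isPGroup hq hSp hS)
        exact hSQ.trans (h q hq hqp Q hQ)
    intro x hx
    rw [Subgroup.mem_subgroupOf]
    exact hle (Subgroup.mem_map_of_mem _ hx)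
  intro y hy
  have : (⟨y, hy⟩ : Y) ∈ M.subgroupOf Y := by rw [key]; trivial
  exact Subgroup.mem_subgroupOf.mp this

end Cfsg.Agent.Lib.Helper64
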