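import Cfsg.Agent.S1393
import Cfsg.Agent.Lib.Helper22.Signalizer
import Cfsg.Agent.Lib.Helper32.Transitivity
import Cfsg.Agent.Lib.Helper64.BG9b

set_option autoImplicit false

/-!
# BG 9.5: glue lemmas for the hub arguments

* `centralizer_le_of_uniq` (G1): an elementary abelian `p`-group `E` of order `≥ p ^ 3` acting on a
  noncyclic `t`-group `Z` of exponent `t` all of whose noncyclic subgroups are uniqueness subgroups
  for `M`: some `a ∈ E#` has `C_G(a) ≤ M`.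
* `inv_le_of_uniq` (G2): then every `A`-invariant `t`-subgroup of `G` lies in `M`.
-/

namespace Cfsg.Agent.Lib.Helper64

open Subgroup Cfsg Cfsg.Agent.Lib.Helper33 Cfsg.Agent.Lib.Helper24 Cfsg.Agent.Lib.Helper32

universe u

variable {G : Type u} [Group G] [Finite G]

/-- a `q`-subgroup of a minimal simple group of odd order is proper -/
theorem ne_top_of_isPGroup (hG : Cfsg.IsMinSimpleOddOrder G) {q : ℕ} [Fact q.Prime]
    {Q : Subgroup G} (hQ : IsPGroup q Q) : Q ≠ ⊤ := by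
  intro htop
  have hGq : IsPGroup q G := by
    intro g
    obtain ⟨k, hk⟩ := hQ ⟨g, by rw [htop]; trivial⟩
    exact ⟨k, by simpa using congrArg Subtype.val hk⟩
  have hc : Subgroup.center G = ⊥ := BG9.center_eq_bot hG
  haveI : IsSimpleGroup G := hG.2.1
  haveI : Nontrivial G := IsSimpleGroup.toNontrivial
  exact (Subgroup.nontrivial_iff_ne_bot _).mp hGq.center_nontrivial hc

/-- two subgroups of index at most `p` in a group of order at least `p ^ 3` meet nontrivially -/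
theorem exists_ne_one_mem_inf {p : ℕ} [Fact p.Prime] {E B₁ B₂ : Subgroup G} (hB₁ : B₁ ≤ E)
    (hB₂ : B₂ ≤ E) (h₁ : Nat.card E ≤ Nat.card B₁ * p) (h₂ : Nat.card E ≤ Nat.card B₂ * p)
    (hE3 : p ^ 3 ≤ Nat.card E) : ∃ a ∈ B₁ ⊓ B₂, a ≠ 1 := by
  have hp : p.Prime := Fact.out
  by_contra hcon
  push Not at hcon
  have hbot : B₁ ⊓ B₂ = ⊥ := (Subgroup.eq_bot_iff_forall _).mpr hcon
  have hrel : ∀ {B : Subgroup G}, B ≤ E → Nat.card E ≤ Nat.card B * p → B.relIndex E ≤ p := by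
    intro B hB h
    have h1 : Nat.card (B.subgroupOf E) * (B.subgroupOf E).index = Nat.card E :=
      Subgroup.card_mul_index _
    rw [Nat.card_congr (Subgroup.subgroupOfEquivOfLe hB).toEquiv] at h1
    have hpos : 0 < Nat.card B := Nat.card_pos
    have : Nat.card B * B.relIndex E ≤ Nat.card B * p := by
      rw [Subgroup.relIndex, h1]; exact h
    exact Nat.le_of_mul_le_mul_left this hpos
  have h3 := Subgroup.relIndex_inf_le (H := B₁) (K := B₂) (L := E)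
  rw [hbot, Subgroup.relIndex_bot_left] at h3
  have h4 : Nat.card E ≤ p * p := h3.trans (Nat.mul_le_mul (hrel hB₁ h₁) (hrel hB₂ h₂))
  have h5 : p * p < p ^ 3 := by
    have : p ^ 3 = p * p * p := by ring
    rw [this]
    have h2 := hp.two_le
    nlinarith
  omega

omit [Finite G] in
/-- a cyclic subgroup of exponent dividing the prime `t` has order dividing `t` -/
theorem card_dvd_of_isCyclic_of_exp {t : ℕ} {Y : Subgroup G} (hc : IsCyclic Y)
    (he : ∀ x ∈ Y, x ^ t = 1) : Nat.card Y ∣ t := by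
  obtain ⟨g, hg⟩ := hc.exists_generator
  have h1 : orderOf g = Nat.card Y := orderOf_eq_card_of_forall_mem_zpowers hg
  rw [← h1]
  apply orderOf_dvd_of_pow_eq_one
  apply Subtype.ext
  simpa using he g.1 g.2

/-- **(G1)** -/
theorem exists_centralizer_le_of_uniq (hG : Cfsg.IsMinSimpleOddOrder G) {p t : ℕ} [Fact p.Prime]
    [Fact t.Prime] (hpt : p ≠ t) {E : Subgroup G} (hE : Cfsg.IsElementaryAbelian p E)
    (hE3 : p ^ 3 ≤ Nat.card E) {M Z : Subgroup G} (hEZ : E ≤ normalizer (Z : Set G))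
    (hZt : IsPGroup t Z) (hZe : ∀ x ∈ Z, x ^ t = 1) (hZnc : ¬ IsCyclic Z)
    (hU : ∀ B H : Subgroup G, B ≤ Z → ¬ IsCyclic B → B ≤ H → H ≠ ⊤ → H ≤ M) :
    ∃ a ∈ E, a ≠ 1 ∧ centralizer ({a} : Set G) ≤ M := by
  have hp : p.Prime := Fact.out
  have ht : t.Prime := Fact.out
  have hZp : ¬ p ∣ Nat.card Z := by
    obtain ⟨k, hk⟩ := IsPGroup.iff_card.mp hZt
    rw [hk]
    intro h
    exact hpt ((Nat.prime_dvd_prime_iff_eq hp ht).mp (hp.dvd_of_dvd_pow h))
  have hZne : ¬ Z ≤ ⊥ := by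
    intro h
    apply hZnc
    have : Z = ⊥ := le_bot_iff.mp h
    rw [this]
    infer_instance
  -- the conclusion for an element centralizing a noncyclic subgroup of `Z`
  have key : ∀ a ∈ E, a ≠ 1 → ¬ IsCyclic ↥(Z ⊓ centralizer ({a} : Set G)) →
      ∃ a ∈ E, a ≠ 1 ∧ centralizer ({a} : Set G) ≤ M := by
    intro a ha ha1 hnc
    exact ⟨a, ha, ha1, hU _ _ inf_le_left hnc inf_le_right
      (BG9.centralizer_singleton_ne_top hG ha1)⟩
  obtain ⟨B₁, hB₁E, hB₁c, hB₁⟩ :=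
    Cfsg.Agent.Lib.Helper22.exists_hyperplane_centralizer_not_le p E hE Z ⊥ hZp hEZ hZne
  set X₁ := Z ⊓ centralizer (B₁ : Set G) with hX₁
  have hX₁ne : X₁ ≠ ⊥ := fun h => hB₁ (le_of_eq h)
  by_cases hZX : Z ≤ X₁
  · -- `B₁` centralizes `Z`
    obtain ⟨a, ha, ha1⟩ := exists_ne_one_mem_inf hB₁E hB₁E hB₁c hB₁c hE3
    refine key a (hB₁E ha.1) ha1 ?_
    intro hcyc
    apply hZnc
    have : Z ⊓ centralizer ({a} : Set G) = Z := by
      apply inf_of_le_left
      intro z hz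
      have hz' : z ∈ centralizer (B₁ : Set G) := (hZX hz).2
      rw [Subgroup.mem_centralizer_iff] at hz' ⊢
      intro b hb
      rw [Set.mem_singleton_iff] at hb
      subst hb
      exact hz' b ha.1
    rwa [this] at hcyc
  · obtain ⟨B₂, hB₂E, hB₂c, hB₂⟩ :=
      Cfsg.Agent.Lib.Helper22.exists_hyperplane_centralizer_not_le p E hE Z X₁ hZp hEZ hZX
    obtain ⟨a, ha, ha1⟩ := exists_ne_one_mem_inf hB₁E hB₂E hB₁c hB₂c hE3
    refine key a (hB₁E ha.1) ha1 ?_
    intro hcyc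
    set Y := Z ⊓ centralizer ({a} : Set G) with hY
    have hcent : ∀ {B : Subgroup G}, a ∈ B → Z ⊓ centralizer (B : Set G) ≤ Y := by
      intro B haB z hz
      have hz' : z ∈ centralizer (B : Set G) := hz.2
      have hgoal : z ∈ centralizer ({a} : Set G) := by
        rw [Subgroup.mem_centralizer_iff] at hz' ⊢
        intro b hb
        rw [Set.mem_singleton_iff] at hb
        subst hb
        exact hz' b haB
      exact ⟨hz.1, hgoal⟩
    have hX₁Y : X₁ ≤ Y := hcent ha.1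
    have hX₂Y : Z ⊓ centralizer (B₂ : Set G) ≤ Y := hcent ha.2
    have hYt : Nat.card Y ∣ t := card_dvd_of_isCyclic_of_exp hcyc (fun x hx => hZe x hx.1)
    have hX₁card : Nat.card X₁ ∣ Nat.card Y := Subgroup.card_dvd_of_le hX₁Y
    have hX₁1 : Nat.card X₁ ≠ 1 := fun h => hX₁ne (Subgroup.card_eq_one.mp h)
    have hX₁t : Nat.card X₁ = t := by
      rcases (Nat.dvd_prime ht).mp (hX₁card.trans hYt) with h | h
      · exact absurd h hX₁1
      · exact h
    have hYcard : Nat.card Y = t := by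
      rcases (Nat.dvd_prime ht).mp hYt with h | h
      · exfalso
        rw [h] at hX₁card
        exact hX₁1 (Nat.dvd_one.mp hX₁card)
      · exact h
    have hXY : X₁ = Y := Subgroup.eq_of_le_of_card_ge hX₁Y (by rw [hX₁t, hYcard])
    apply hB₂
    rw [hXY]
    exact hX₂Y

/-- **(G1)**, centralizer form: `C_G(A) ≤ M`. -/
theorem centralizer_le_of_uniq (hG : Cfsg.IsMinSimpleOddOrder G) {p t : ℕ} [Fact p.Prime]
    [Fact t.Prime] (hpt : p ≠ t) {A E : Subgroup G} (hEA : E ≤ A)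
    (hE : Cfsg.IsElementaryAbelian p E)
    (hE3 : p ^ 3 ≤ Nat.card E) {M Z : Subgroup G} (hAZ : A ≤ normalizer (Z : Set G))
    (hZt : IsPGroup t Z) (hZe : ∀ x ∈ Z, x ^ t = 1) (hZnc : ¬ IsCyclic Z)
    (hU : ∀ B H : Subgroup G, B ≤ Z → ¬ IsCyclic B → B ≤ H → H ≠ ⊤ → H ≤ M) :
    centralizer (A : Set G) ≤ M := by
  obtain ⟨a, ha, -, hle⟩ :=
    exists_centralizer_le_of_uniq hG hpt hE hE3 (hEA.trans hAZ) hZt hZe hZnc hU
  refine le_trans ?_ hle
  apply Subgroup.centralizer_le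
  rw [Set.singleton_subset_iff]
  exact hEA ha

/-- **(G2)**: if `K = O_{π(A)'}(C_G(A)) ≤ M` and the `A`-invariant `t`-subgroup `Z` has all its proper
overgroups inside `M`, then every `A`-invariant `t`-subgroup of `G` lies in `M`. -/
theorem inv_le_of_uniq (hG : Cfsg.IsMinSimpleOddOrder G) {A : Subgroup G}
    (hTH : Cfsg.TransitivityHypothesis A)
    (hZA : ¬ Cfsg.RankLE 2 ↥(A ⊓ Subgroup.centralizer (A : Set G))) {t : ℕ} [Fact t.Prime]
    (htA : ¬ t ∣ Nat.card A) {M Z : Subgroup G}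
    (hKM : Cfsg.piCoreOf (Cfsg.primesNotDvd (Nat.card A)) (Subgroup.centralizer (A : Set G)) ≤ M)
    (hZt : IsPGroup t Z) (hAZ : A ≤ normalizer (Z : Set G))
    (hU : ∀ H : Subgroup G, Z ≤ H → H ≠ ⊤ → H ≤ M) :
    ∀ N : Subgroup G, IsPGroup t N → A ≤ normalizer (N : Set G) → N ≤ M := by
  have ht : t.Prime := Fact.out
  intro N hNt hAN
  obtain ⟨Q₀, hQ₀, hZQ₀⟩ := exists_maxInv_ge (mem_invSubgroups_of_isPGroup ht hZt hAZ)
  obtain ⟨Q₁, hQ₁, hNQ₁⟩ := exists_maxInv_ge (mem_invSubgroups_of_isPGroup ht hNt hAN)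
  have hQ₀M : Q₀ ≤ M :=
    hU Q₀ hZQ₀ (ne_top_of_isPGroup hG (isPGroup_of_mem_invSubgroups ht hQ₀.1))
  obtain ⟨k, hk, hkQ⟩ := Cfsg.Agent.S1393.result hG A hTH hZA t ht htA Q₀ hQ₀ Q₁ hQ₁
  refine hNQ₁.trans ?_
  rw [hkQ]
  rintro _ ⟨x, hx, rfl⟩
  have hxM : x ∈ M := hQ₀M hx
  have hkM : k ∈ M := hKM hk
  simpa using M.mul_mem (M.mul_mem hkM hxM) (M.inv_mem hkM)

/-- **(G2)** with `C_G(A) ≤ M` as hypothesis. -/
theorem inv_le_of_uniq' (hG : Cfsg.IsMinSimpleOddOrder G) {A : Subgroup G}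
    (hTH : Cfsg.TransitivityHypothesis A)
    (hZA : ¬ Cfsg.RankLE 2 ↥(A ⊓ Subgroup.centralizer (A : Set G))) {t : ℕ} [Fact t.Prime]
    (htA : ¬ t ∣ Nat.card A) {M Z : Subgroup G}
    (hCM : Subgroup.centralizer (A : Set G) ≤ M)
    (hZt : IsPGroup t Z) (hAZ : A ≤ normalizer (Z : Set G))
    (hU : ∀ H : Subgroup G, Z ≤ H → H ≠ ⊤ → H ≤ M) :
    ∀ N : Subgroup G, IsPGroup t N → A ≤ normalizer (N : Set G) → N ≤ M :=
  inv_le_of_uniq hG hTH hZA htA ((piCoreOf_le _ _).trans hCM) hZt hAZ hU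

end Cfsg.Agent.Lib.Helper64
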