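import Cfsg.Agent.S1393
import Cfsg.Agent.S1396
import Cfsg.Agent.S1401
import Cfsg.Agent.Lib.Helper23.FitLocal
import Cfsg.Agent.Lib.Helper32.Transitivity
import Cfsg.Agent.Lib.Helper64.BG9b

set_option autoImplicit false

/-!
# BG 9.5, step (T4): two maximal subgroups over `A ∈ SCN_3(P)` with large `O_t` for the same
prime `t ≠ p` coincide.
-/

namespace Cfsg.Agent.Lib.Helper64

open Subgroup Cfsg Cfsg.Agent.Lib.Helper33 Cfsg.Agent.Lib.Helper24 Cfsg.Agent.Lib.Helper32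
open Cfsg.Agent.Lib.Helper23 (pCoreOf)

universe u

variable {G : Type u} [Group G] [Finite G]

/-- If `r_t(F(H)) ≥ 3` for a maximal subgroup `H`, then `O_t(H)` contains a subgroup lying in a unique
maximal subgroup (BG 9.4). -/
theorem exists_uniq_le_pCoreOf (hG : Cfsg.IsMinSimpleOddOrder G) {H : Subgroup G} (hH : IsCoatom H)
    {t : ℕ} [Fact t.Prime] (hHt : ¬ Cfsg.PRankLE t 2 ↥(Cfsg.fittingOf H)) :
    ∃ E : Subgroup G, E ≤ pCoreOf t H ∧ Cfsg.InUniqueMaximal E := by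
  have hF' := hHt
  unfold Cfsg.PRankLE at hF'
  push Not at hF'
  obtain ⟨E', hE'c, hE'e, hE'card⟩ := hF'
  set E₀ : Subgroup G := E'.map (Cfsg.fittingOf H).subtype with hE₀
  have hE₀F : E₀ ≤ Cfsg.fittingOf H := Subgroup.map_subtype_le E'
  have hE₀c : IsMulCommutative E₀ := inferInstance
  have hE₀e : ∀ a ∈ E₀, a ^ t = 1 := by
    rintro _ ⟨a, ha, rfl⟩
    have := hE'e a ha
    simpa using congrArg Subtype.val this
  have hE₀card : t ^ 2 < Nat.card E₀ := by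
    rw [hE₀, Subgroup.card_map_of_injective (Subgroup.subtype_injective _)]
    exact hE'card
  have hE₀p : IsPGroup t E₀ := by
    intro a
    refine ⟨1, ?_⟩
    apply Subtype.ext
    simpa using hE₀e a.1 a.2
  have hE₀3 : ¬ Cfsg.PRankLE t 2 ↥E₀ := by
    intro h
    have h1 := h ⊤ inferInstance (fun a _ => Subtype.ext (by simpa using hE₀e a.1 a.2))
    rw [Subgroup.card_top] at h1
    omega
  refine ⟨E₀, ?_, Cfsg.Agent.S1401.result hG H hH t hHt E₀ hE₀p hE₀c hE₀3⟩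
  intro x hx
  exact Cfsg.Agent.Lib.Helper23.mem_pCoreOf_of_mem_fittingOf (hE₀F hx) (k := 1)
    (by rw [pow_one]; exact hE₀e x hx)

/-- **BG 9.5, step (T4).** -/
theorem same_prime (hG : Cfsg.IsMinSimpleOddOrder G) {p : ℕ} [Fact p.Prime] (P : Sylow p G)
    {A : Subgroup G} (hA : Cfsg.IsSCN (P : Subgroup G) A) (hA3 : ¬ Cfsg.PRankLE p 2 ↥A)
    {H L : Subgroup G} (hH : IsCoatom H) (hL : IsCoatom L) (hAH : A ≤ H) (hAL : A ≤ L)
    (hKH : Cfsg.piCoreOf (Cfsg.primesNotDvd (Nat.card A)) (Subgroup.centralizer (A : Set G)) ≤ H)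
    {t : ℕ} [Fact t.Prime] (htp : t ≠ p)
    (hHt : ¬ Cfsg.PRankLE t 2 ↥(Cfsg.fittingOf H))
    (hLt : ¬ Cfsg.PRankLE t 2 ↥(Cfsg.fittingOf L)) : H = L := by
  have hp : p.Prime := Fact.out
  have ht : t.Prime := Fact.out
  have hAp : IsPGroup p A := P.2.to_le hA.1
  have hAc : IsMulCommutative A := BG9.scn_abelian hA
  -- `A ≠ ⊥`
  have hAne : A ≠ ⊥ := by
    intro h0
    apply hA3
    intro B _ _
    have h1 : Nat.card B ≤ Nat.card A := Subgroup.card_le_card_group B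
    have h2 : Nat.card A = 1 := by rw [h0]; exact Subgroup.card_bot
    rw [h2] at h1
    exact h1.trans (Nat.one_le_pow _ _ hp.pos)
  have hA1 : ¬ Cfsg.PRankLE p 1 ↥A := by
    intro h
    apply hA3
    intro B hBc hBe
    exact (h B hBc hBe).trans (Nat.pow_le_pow_right hp.pos (by norm_num))
  obtain ⟨n, hn⟩ := IsPGroup.iff_card.mp hAp
  have hpG : p ∣ Nat.card G := by
    have hn0 : n ≠ 0 := by
      rintro rfl
      rw [pow_zero] at hn
      exact hAne (Subgroup.card_eq_one.mp hn)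
    have : p ∣ Nat.card A := by rw [hn]; exact dvd_pow_self p hn0
    exact this.trans (Subgroup.card_subgroup_dvd_card A)
  have htA : ¬ t ∣ Nat.card A := by
    rw [hn]
    intro h
    exact htp ((Nat.prime_dvd_prime_iff_eq ht hp).mp (ht.dvd_of_dvd_pow h))
  have hTrans : Cfsg.TransitivityHypothesis A :=
    Cfsg.Agent.S1396.result hG p hpG A hAp hAc (Or.inr ⟨P, hA, hA1⟩)
  have hinf : A ⊓ centralizer (A : Set G) = A := inf_of_le_left (BG9.self_le_centralizer hAc)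
  have hZ : ¬ Cfsg.RankLE 2 ↥(A ⊓ centralizer (A : Set G)) := by
    rw [hinf]
    intro h
    exact hA3 (h p hp)
  -- the two cores and the uniqueness subgroups inside them
  obtain ⟨EH, hEH, hEHU⟩ := exists_uniq_le_pCoreOf hG hH hHt
  obtain ⟨EL, hEL, hELU⟩ := exists_uniq_le_pCoreOf hG hL hLt
  have hTHn : H ≤ normalizer ((pCoreOf t H : Subgroup G) : Set G) :=
    Cfsg.Agent.Lib.Helper23.le_normalizer_pCoreOf t H
  have hTLn : L ≤ normalizer ((pCoreOf t L : Subgroup G) : Set G) :=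
    Cfsg.Agent.Lib.Helper23.le_normalizer_pCoreOf t L
  have hTHm : pCoreOf t H ∈ invSubgroups ⊤ A {t} :=
    mem_invSubgroups_of_isPGroup ht (Cfsg.Agent.Lib.Helper23.isPGroup_pCoreOf t H) (hAH.trans hTHn)
  have hTLm : pCoreOf t L ∈ invSubgroups ⊤ A {t} :=
    mem_invSubgroups_of_isPGroup ht (Cfsg.Agent.Lib.Helper23.isPGroup_pCoreOf t L) (hAL.trans hTLn)
  obtain ⟨QH, hQH, hTQH⟩ := exists_maxInv_ge hTHm
  obtain ⟨QL, hQL, hTQL⟩ := exists_maxInv_ge hTLm
  obtain ⟨k, hk, hkQ⟩ := Cfsg.Agent.S1393.result hG A hTrans hZ t ht htA QH hQH QL hQL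
  have hkH : k ∈ H := hKH hk
  have hTH' : pCoreOf t H ≤ QL := by
    have h1 : cj k (pCoreOf t H) = pCoreOf t H := cj_eq_self_iff.mpr (hTHn hkH)
    rw [hkQ, ← cj_def, ← h1]
    exact cj_mono hTQH
  -- `QL` is a proper subgroup
  have hQLp : IsPGroup t QL := isPGroup_of_mem_invSubgroups ht hQL.1
  have hQLne : QL ≠ ⊤ := by
    intro htop
    have hd : Disjoint A QL := IsPGroup.disjoint_of_ne p t htp.symm A QL hAp hQLp
    rw [htop, disjoint_top] at hd
    exact hAne hd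
  obtain ⟨X, hX, hQX⟩ := BG9.exists_coatom_ge hQLne
  have h1 : X = H :=
    hEHU.unique ⟨hX, (hEH.trans hTH').trans hQX⟩
      ⟨hH, hEH.trans (Cfsg.Agent.Lib.Helper23.pCoreOf_le t H)⟩
  have h2 : X = L :=
    hELU.unique ⟨hX, (hEL.trans hTQL).trans hQX⟩
      ⟨hL, hEL.trans (Cfsg.Agent.Lib.Helper23.pCoreOf_le t L)⟩
  rw [← h1, ← h2]

end Cfsg.Agent.Lib.Helper64
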