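import Cfsg.Agent.S1451
import Cfsg.Agent.Lib.Helper21.Rank
import Cfsg.Agent.Lib.Helper22.Fitting
import Cfsg.Agent.Lib.Helper56.BG95U
import Cfsg.Agent.Lib.Helper64.BG95Sig
import Cfsg.Agent.Lib.Helper64.BG95Same

set_option autoImplicit false

/-!
# BG 9.5: assembly from the hub lemmas (transfer-free architecture)

* `commutator_le_fittingOf`: a proper subgroup `M` of a minimal simple group of odd order with
  `r(F(M)) ≤ 2` has `M' ≤ F(M)` (BG 4.18 = S1451, transported to the ambient group).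
* `bg95_of_hub`: `hub_unique`, `hub_sig`, `no_hub` imply BG Theorem 9.5.
-/

namespace Cfsg.Agent.Lib.Helper64

open Subgroup Cfsg Cfsg.Agent.Lib.Helper33 Cfsg.Agent.Lib.Helper24 Cfsg.Agent.Lib.Helper32

universe u

variable {G : Type u} [Group G] [Finite G]

/-- `M' ≤ F(M)` for a proper subgroup `M` with `r(F(M)) ≤ 2`. -/
theorem commutator_le_fittingOf (hG : Cfsg.IsMinSimpleOddOrder G) {M : Subgroup G} (hM : M ≠ ⊤)
    (hr : Cfsg.RankLE 2 ↥(Cfsg.fittingOf M)) : ⁅M, M⁆ ≤ Cfsg.fittingOf M := by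
  haveI : Group.IsSolvable ↥M := hG.2.2.2 M hM
  have hodd : Odd (Nat.card ↥M) := by
    have h1 : Nat.card ↥M ∣ Nat.card G := Subgroup.card_subgroup_dvd_card M
    exact hG.1.of_dvd_nat h1
  have hr' : Cfsg.RankLE 2 ↥(Cfsg.fittingSubgroup ↥M) := by
    intro q hq
    let f : ↥(Cfsg.fittingSubgroup ↥M) →* ↥(Cfsg.fittingOf M) :=
      ((Cfsg.fittingSubgroup ↥M).equivMapOfInjective M.subtype M.subtype_injective).toMonoidHom
    exact Cfsg.Agent.Lib.Helper21.pRankLE_of_injective q 2 f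
      ((Cfsg.fittingSubgroup ↥M).equivMapOfInjective M.subtype M.subtype_injective).injective
      (hr q hq)
  have hnil : Group.IsNilpotent ↥(commutator ↥M) :=
    (Cfsg.Agent.S1451.result hodd (Or.inr hr')).1
  have hle : commutator ↥M ≤ Cfsg.fittingSubgroup ↥M :=
    Cfsg.Agent.Lib.Helper22.le_fittingSubgroup inferInstance hnil
  rw [← Subgroup.map_subtype_commutator]
  exact Subgroup.map_mono hle

/-- **BG Theorem 9.5** from the three hub lemmas. -/
theorem bg95_of_hub (hG : Cfsg.IsMinSimpleOddOrder G) {p : ℕ} [Fact p.Prime] (P : Sylow p G)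
    {A : Subgroup G} (hA : Cfsg.IsSCN (P : Subgroup G) A) (hA3 : ¬ Cfsg.PRankLE p 2 ↥A)
    (hUnique : ∀ {H L : Subgroup G}, IsCoatom H → IsCoatom L → A ≤ H → A ≤ L →
      ∀ {t s : ℕ}, t.Prime → s.Prime → t ≠ p → s ≠ p →
      ¬ Cfsg.PRankLE t 2 ↥(Cfsg.fittingOf H) → ¬ Cfsg.PRankLE s 2 ↥(Cfsg.fittingOf L) → H = L)
    (hSig : ∀ {H : Subgroup G}, IsCoatom H → A ≤ H → ∀ {t : ℕ}, t.Prime → t ≠ p →
      ¬ Cfsg.PRankLE t 2 ↥(Cfsg.fittingOf H) →
      (∀ M : Subgroup G, IsCoatom M → A ≤ M → M ≠ H → ⁅M, M⁆ ≤ Cfsg.fittingOf M) →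
      ∀ s : ℕ, s.Prime → s ≠ p → ∀ S ∈ Cfsg.maxInvSubgroups ⊤ A {s}, S ≤ H)
    (hNoHub : (∀ M : Subgroup G, IsCoatom M → A ≤ M → ⁅M, M⁆ ≤ Cfsg.fittingOf M) →
      Cfsg.InUniqueMaximal A) :
    Cfsg.InUniqueMaximal A := by
  have hp : p.Prime := Fact.out
  have hAp : IsPGroup p A := P.2.to_le hA.1
  have hAc : IsMulCommutative A := BG9.scn_abelian hA
  have hAne : A ≠ ⊥ := by
    intro h0
    apply hA3
    intro B _ _
    have h1 : Nat.card B ≤ Nat.card A := Subgroup.card_le_card_group B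
    have h2 : Nat.card A = 1 := by rw [h0]; exact Subgroup.card_bot
    rw [h2] at h1
    exact h1.trans (Nat.one_le_pow _ _ hp.pos)
  by_cases hhub : ∃ M : Subgroup G, IsCoatom M ∧ A ≤ M ∧ ¬ Cfsg.RankLE 2 ↥(Cfsg.fittingOf M)
  · obtain ⟨M, hM, hAM, hMr⟩ := hhub
    unfold Cfsg.RankLE at hMr
    push Not at hMr
    obtain ⟨t, ht, hMt⟩ := hMr
    by_cases htp : t = p
    · subst htp
      exact Cfsg.Agent.S1401.result hG M hM t hMt A hAp hAc hA3
    · -- `M` is a hub for `t ≠ p`; all other maximal subgroups over `A` have small Fitting subgroup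
      by_cases hother : ∀ L : Subgroup G, IsCoatom L → A ≤ L → L ≠ M →
          Cfsg.RankLE 2 ↥(Cfsg.fittingOf L)
      · have hder : ∀ L : Subgroup G, IsCoatom L → A ≤ L → L ≠ M → ⁅L, L⁆ ≤ Cfsg.fittingOf L :=
          fun L hL hAL hLM => commutator_le_fittingOf hG hL.1 (hother L hL hAL hLM)
        have hall := hSig hM hAM ht htp hMt hder
        refine Cfsg.Agent.Lib.Helper56.BG95.inUniqueMaximal_of_inv_le' hG hM hAM hAp hAne ?_
        exact sig_le hAp (fun q hq hqp Q hQ => hall q hq hqp Q hQ)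
      · push Not at hother
        obtain ⟨L, hL, hAL, hLM, hLr⟩ := hother
        unfold Cfsg.RankLE at hLr
        push Not at hLr
        obtain ⟨s, hs, hLs⟩ := hLr
        by_cases hsp : s = p
        · subst hsp
          exact Cfsg.Agent.S1401.result hG L hL s hLs A hAp hAc hA3
        · exact absurd (hUnique hL hM hAL hAM hs ht hsp htp hLs hMt) hLM
  · push Not at hhub
    exact hNoHub (fun M hM hAM => commutator_le_fittingOf hG hM.1 (hhub M hM hAM))

end Cfsg.Agent.Lib.Helper64
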