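import Cfsg.Agent.Lib.Helper2.ClassTwo
import Cfsg.Agent.Lib.Helper32.PGroupCenter
import Cfsg.Agent.Lib.Helper97.PRank

set_option autoImplicit false

/-!
# `Ω₁(Z₂(P))` for a `t`-group `P`, `t` odd (abstract part of BG 9.5, step (E))

`omegaZ2 t P` is the set of `x` with `x ^ t = 1` and `[x, g] ∈ Z(P)` for all `g`; for odd `t` it is a
characteristic subgroup of exponent `t`.  If `P` has rank at least 3 it is noncyclic and every
subgroup of order `t ^ 2` of it is centralized by an elementary abelian subgroup of order `≥ t ^ 3`.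
-/

namespace Cfsg.Agent.Lib.Helper64.OZ

open Subgroup
open scoped commutatorElement

variable {P : Type*} [Group P]

/-- `Ω₁(Z₂(P))`, as the subgroup generated by its defining set -/
def omegaZ2 (t : ℕ) (P : Type*) [Group P] : Subgroup P :=
  Subgroup.closure {x : P | x ^ t = 1 ∧ ∀ g : P, ⁅x, g⁆ ∈ Subgroup.center P}

theorem comm_pow_eq_one {t : ℕ} {x : P} (hx : x ^ t = 1) (g : P)
    (hc : ⁅x, g⁆ ∈ Subgroup.center P) : ⁅x, g⁆ ^ t = 1 := by
  have hcg : Commute ⁅x, g⁆ g := ((Subgroup.mem_center_iff.mp hc) g).symm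
  have hcx : Commute ⁅x, g⁆ x := ((Subgroup.mem_center_iff.mp hc) x).symm
  have h := Cfsg.Agent.Lib.Helper2.pow_mul_comm_of_commutator_central g x hcg hcx t
  rw [hx, one_mul, mul_one] at h
  have h2 : ⁅x, g⁆ ^ t * g = 1 * g := by rw [one_mul]; exact h.symm
  exact mul_right_cancel h2

theorem mem_omegaZ2 {t : ℕ} (ht : t.Prime) (ht2 : t ≠ 2) {x : P} :
    x ∈ omegaZ2 t P ↔ x ^ t = 1 ∧ ∀ g : P, ⁅x, g⁆ ∈ Subgroup.center P := by
  constructor
  · intro hx
    refine Subgroup.closure_induction (p := fun x _ => x ^ t = 1 ∧ ∀ g : P, ⁅x, g⁆ ∈ Subgroup.center P)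
      (fun x hx => hx) ?_ ?_ ?_ hx
    · refine ⟨one_pow t, fun g => ?_⟩
      rw [commutatorElement_one_left]
      exact Subgroup.one_mem _
    · rintro x y - - ⟨hx1, hx2⟩ ⟨hy1, hy2⟩
      have hyx : ⁅y, x⁆ ∈ Subgroup.center P := hy2 x
      have hcx : Commute ⁅y, x⁆ x := ((Subgroup.mem_center_iff.mp hyx) x).symm
      have hcy : Commute ⁅y, x⁆ y := ((Subgroup.mem_center_iff.mp hyx) y).symm
      refine ⟨?_, fun g => ?_⟩
      · rw [Cfsg.Agent.Lib.Helper2.mul_pow_prime_of_commutator_central ht ht2 x y hcx hcy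
          (comm_pow_eq_one hy1 x hyx), hx1, hy1, one_mul]
      · have h1 : ⁅x * y, g⁆ = x * ⁅y, g⁆ * x⁻¹ * ⁅x, g⁆ := by
          simp only [commutatorElement_def]; group
        have h2 : x * ⁅y, g⁆ * x⁻¹ = ⁅y, g⁆ := by
          have := (Subgroup.mem_center_iff.mp (hy2 g)) x
          rw [this]; group
        rw [h1, h2]
        exact Subgroup.mul_mem _ (hy2 g) (hx2 g)
    · rintro x - ⟨hx1, hx2⟩
      refine ⟨by rw [inv_pow, hx1, inv_one], fun g => ?_⟩
      have h1 : ⁅x⁻¹, g⁆ = x⁻¹ * ⁅x, g⁆⁻¹ * x := by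
        simp only [commutatorElement_def]; group
      have h2 : x⁻¹ * ⁅x, g⁆⁻¹ * x = ⁅x, g⁆⁻¹ := by
        have := (Subgroup.mem_center_iff.mp (Subgroup.inv_mem _ (hx2 g))) x
        rw [mul_assoc, ← this]; group
      rw [h1, h2]
      exact Subgroup.inv_mem _ (hx2 g)
  · intro hx
    exact Subgroup.subset_closure hx

instance omegaZ2_characteristic (t : ℕ) : (omegaZ2 t P).Characteristic := by
  rw [Subgroup.characteristic_iff_map_le]
  intro φ
  rw [omegaZ2, MonoidHom.map_closure]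
  apply Subgroup.closure_mono
  rintro _ ⟨x, ⟨hx1, hx2⟩, rfl⟩
  refine ⟨?_, fun g => ?_⟩
  · show (φ x) ^ t = 1
    rw [← map_pow, hx1, map_one]
  · show ⁅φ x, g⁆ ∈ Subgroup.center P
    have h1 : ⁅φ x, g⁆ = φ ⁅x, φ.symm g⁆ := by
      rw [map_commutatorElement, MulEquiv.apply_symm_apply]
    rw [h1]
    have hc : Subgroup.center P ≤ (Subgroup.center P).comap φ.toMonoidHom :=
      Subgroup.characteristic_iff_le_comap.mp inferInstance φ
    exact hc (hx2 _)

theorem pow_eq_one_of_mem {t : ℕ} (ht : t.Prime) (ht2 : t ≠ 2) {x : P} (hx : x ∈ omegaZ2 t P) :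
    x ^ t = 1 := ((mem_omegaZ2 ht ht2).mp hx).1

theorem mem_of_mem_center {t : ℕ} {z : P} (hz : z ∈ Subgroup.center P) (hzt : z ^ t = 1) :
    z ∈ omegaZ2 t P := by
  apply Subgroup.subset_closure
  refine ⟨hzt, fun g => ?_⟩
  have : ⁅z, g⁆ = 1 := by
    rw [commutatorElement_def, ← (Subgroup.mem_center_iff.mp hz) g]; group
  rw [this]; exact Subgroup.one_mem _


theorem card_dvd_of_cyclic_exp {t : ℕ} {Y : Subgroup P} (hc : IsCyclic Y)
    (he : ∀ x ∈ Y, x ^ t = 1) : Nat.card Y ∣ t := by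
  obtain ⟨g, hg⟩ := hc.exists_generator
  have h1 : orderOf g = Nat.card Y := orderOf_eq_card_of_forall_mem_zpowers hg
  rw [← h1]
  apply orderOf_dvd_of_pow_eq_one
  apply Subtype.ext
  simpa using he g.1 g.2

theorem zpowers_normal_of_mem_center {z : P} (hz : z ∈ Subgroup.center P) :
    (Subgroup.zpowers z).Normal := by
  refine ⟨fun n hn g => ?_⟩
  have hnc : n ∈ Subgroup.center P := (Subgroup.zpowers_le.mpr hz) hn
  have : g * n * g⁻¹ = n := by
    rw [(Subgroup.mem_center_iff.mp hnc) g]; group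
  rw [this]; exact hn

variable [Finite P] {t : ℕ} [htf : Fact t.Prime]

/-- For odd `t`, `Ω₁(Z₂(P))` is noncyclic if the `t`-group `P` has rank at least 3. -/
theorem not_isCyclic_omegaZ2 (ht2 : t ≠ 2) (hP : IsPGroup t P) (hr : ¬ Cfsg.PRankLE t 2 P) :
    ¬ IsCyclic (omegaZ2 t P) := by
  have ht : t.Prime := htf.out
  obtain ⟨M, hMn, -, hMe, hMcard⟩ :=
    Cfsg.Agent.Lib.Helper97.PRank.exists_normal_elemAb_card_cube ht2 hP hr
  haveI := hMn
  have hMne : M ≠ ⊥ := by
    intro h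
    rw [h, Subgroup.card_bot] at hMcard
    have : 1 < t ^ 3 := Nat.one_lt_pow (by norm_num) ht.one_lt
    omega
  obtain ⟨z, hzM, hzZ, hz1⟩ :=
    Cfsg.Agent.Lib.Helper32.exists_ne_one_mem_normal_inf_center hP M hMne
  have hzt : z ^ t = 1 := hMe z hzM
  have hzE : z ∈ omegaZ2 t P := mem_of_mem_center hzZ hzt
  set Z₁ := Subgroup.zpowers z with hZ₁
  have hZ₁c : Z₁ ≤ Subgroup.center P := Subgroup.zpowers_le.mpr hzZ
  haveI hZ₁n : Z₁.Normal := zpowers_normal_of_mem_center hzZ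
  have hZ₁card : Nat.card Z₁ = t := by
    rw [hZ₁, Nat.card_zpowers]
    exact orderOf_eq_prime hzt hz1
  -- an element of `M` outside `Z₁`
  have hMZ : ¬ M ≤ Z₁ := by
    intro hle
    have := Subgroup.card_le_of_le hle
    rw [hMcard, hZ₁card] at this
    have h2 : t ^ 1 < t ^ 3 := Nat.pow_lt_pow_right ht.one_lt (by norm_num)
    rw [pow_one] at h2
    omega
  obtain ⟨m, hmM, hmZ⟩ := SetLike.not_le_iff_exists.mp hMZ
  -- pass to the quotient by `Z₁`
  have hQp : IsPGroup t (P ⧸ Z₁) := hP.to_quotient Z₁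
  haveI : (M.map (QuotientGroup.mk' Z₁)).Normal :=
    hMn.map (QuotientGroup.mk' Z₁) (QuotientGroup.mk'_surjective Z₁)
  have hMbar : M.map (QuotientGroup.mk' Z₁) ≠ ⊥ := by
    intro h
    have h1 : QuotientGroup.mk' Z₁ m ∈ M.map (QuotientGroup.mk' Z₁) :=
      Subgroup.mem_map_of_mem _ hmM
    rw [h, Subgroup.mem_bot] at h1
    exact hmZ ((QuotientGroup.eq_one_iff m).mp h1)
  obtain ⟨xbar, hxM, hxZ, hx1⟩ :=
    Cfsg.Agent.Lib.Helper32.exists_ne_one_mem_normal_inf_center hQp _ hMbar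
  obtain ⟨u, huM, rfl⟩ := hxM
  have huZ : u ∉ Z₁ := fun h => hx1 ((QuotientGroup.eq_one_iff u).mpr h)
  have hucomm : ∀ g : P, ⁅u, g⁆ ∈ Z₁ := by
    intro g
    rw [← QuotientGroup.eq_one_iff]
    have h1 : ((⁅u, g⁆ : P) : P ⧸ Z₁) = ⁅(QuotientGroup.mk' Z₁ u), (QuotientGroup.mk' Z₁ g)⁆ := by
      rw [← map_commutatorElement]; rfl
    rw [h1, commutatorElement_def, ← (Subgroup.mem_center_iff.mp hxZ) (QuotientGroup.mk' Z₁ g)]
    group
  have huE : u ∈ omegaZ2 t P :=
    Subgroup.subset_closure ⟨hMe u huM, fun g => hZ₁c (hucomm g)⟩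
  -- conclusion
  intro hcyc
  have hdvd := card_dvd_of_cyclic_exp hcyc (fun x hx => pow_eq_one_of_mem ht ht2 hx)
  have hZ₁E : Z₁ ≤ omegaZ2 t P := Subgroup.zpowers_le.mpr hzE
  have hle : Nat.card (omegaZ2 t P) ≤ Nat.card Z₁ := by
    rw [hZ₁card]; exact Nat.le_of_dvd ht.pos hdvd
  have heq : Z₁ = omegaZ2 t P := Subgroup.eq_of_le_of_card_ge hZ₁E hle
  exact huZ (heq ▸ huE)

/-- Every subgroup of order `t ^ 2` of `Ω₁(Z₂(P))` is centralized by an elementary abelian subgroup of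
order greater than `t ^ 2` (`t` odd, `P` of rank at least 3). -/
theorem exists_elemAb_centralizing (ht2 : t ≠ 2) (hP : IsPGroup t P) (hr : ¬ Cfsg.PRankLE t 2 P)
    (U : Subgroup P) (hU : U ≤ omegaZ2 t P) (hUc : Nat.card U = t ^ 2) :
    ∃ B : Subgroup P, (∀ a ∈ B, ∀ b ∈ B, a * b = b * a) ∧ (∀ a ∈ B, a ^ t = 1) ∧
      t ^ 2 < Nat.card B ∧ B ≤ Subgroup.centralizer (U : Set P) := by
  have ht : t.Prime := htf.out
  have hUe : ∀ a ∈ U, a ^ t = 1 := fun a ha => pow_eq_one_of_mem ht ht2 (hU ha)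
  have hUcomm : ∀ a ∈ U, ∀ b ∈ U, a * b = b * a := by
    intro a ha b hb
    have := (IsPGroup.isMulCommutative_of_card_eq_prime_sq hUc).is_comm.comm (⟨a, ha⟩ : U) ⟨b, hb⟩
    exact congrArg Subtype.val this
  by_cases hZU : ∀ z ∈ Subgroup.center P, z ^ t = 1 → z ∈ U
  · -- `U` is normal in `P`
    haveI hUn : U.Normal := by
      refine ⟨fun u hu g => ?_⟩
      have hc := ((mem_omegaZ2 ht ht2).mp (hU hu)).2 g
      have hct := comm_pow_eq_one (hUe u hu) g hc
      have hcU : ⁅u, g⁆ ∈ U := hZU _ hc hct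
      have : g * u * g⁻¹ = ⁅u, g⁆⁻¹ * u := by
        rw [commutatorElement_def]; group
      rw [this]
      exact U.mul_mem (U.inv_mem hcU) hu
    obtain ⟨B, -, hUB, hBc, hBe, hBcard⟩ :=
      Cfsg.Agent.Lib.Helper97.PRank.exists_normal_elemAb_gt ht2 hP hr U hUcomm hUe hUc
    refine ⟨B, hBc, hBe, hBcard, ?_⟩
    intro b hb
    rw [Subgroup.mem_centralizer_iff]
    intro u hu
    exact hBc u (hUB hu) b hb
  · push Not at hZU
    obtain ⟨z, hzZ, hzt, hzU⟩ := hZU
    haveI hZn : (Subgroup.zpowers z).Normal := zpowers_normal_of_mem_center hzZ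
    have hZc : Subgroup.zpowers z ≤ Subgroup.center P := Subgroup.zpowers_le.mpr hzZ
    have hmem : ∀ b ∈ U ⊔ Subgroup.zpowers z, ∃ u ∈ U, ∃ w ∈ Subgroup.zpowers z, b = u * w := by
      intro b hb
      have hb' : b ∈ ((U ⊔ Subgroup.zpowers z : Subgroup P) : Set P) := hb
      rw [Subgroup.mul_normal, Set.mem_mul] at hb'
      obtain ⟨u, hu, w, hw, rfl⟩ := hb'
      exact ⟨u, hu, w, hw, rfl⟩
    have hwt : ∀ w ∈ Subgroup.zpowers z, w ^ t = 1 := by
      intro w hw
      obtain ⟨k, rfl⟩ := Subgroup.mem_zpowers_iff.mp hw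
      rw [← zpow_natCast, ← zpow_mul, mul_comm, zpow_mul, zpow_natCast, hzt, one_zpow]
    have hwc : ∀ w ∈ Subgroup.zpowers z, ∀ g : P, g * w = w * g :=
      fun w hw g => (Subgroup.mem_center_iff.mp (hZc hw)) g
    refine ⟨U ⊔ Subgroup.zpowers z, ?_, ?_, ?_, ?_⟩
    · intro a ha b hb
      obtain ⟨u, hu, w, hw, rfl⟩ := hmem a ha
      obtain ⟨u', hu', w', hw', rfl⟩ := hmem b hb
      calc u * w * (u' * w') = u * (w * u') * w' := by group
        _ = u * (u' * w) * w' := by rw [hwc w hw u']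
        _ = (u * u') * (w * w') := by group
        _ = (u' * u) * (w' * w) := by rw [hUcomm u hu u' hu', hwc w hw w']
        _ = u' * (u * w') * w := by group
        _ = u' * (w' * u) * w := by rw [hwc w' hw' u]
        _ = u' * w' * (u * w) := by group
    · intro a ha
      obtain ⟨u, hu, w, hw, rfl⟩ := hmem a ha
      have hc : Commute u w := hwc w hw u
      rw [hc.mul_pow, hUe u hu, hwt w hw, one_mul]
    · by_contra hle
      push Not at hle
      have hEB : U = U ⊔ Subgroup.zpowers z :=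
        Subgroup.eq_of_le_of_card_ge le_sup_left (by rw [hUc]; exact hle)
      apply hzU
      rw [hEB]
      exact (le_sup_right : Subgroup.zpowers z ≤ _) (Subgroup.mem_zpowers z)
    · intro b hb
      obtain ⟨u, hu, w, hw, rfl⟩ := hmem b hb
      rw [Subgroup.mem_centralizer_iff]
      intro u' hu'
      calc u' * (u * w) = (u' * u) * w := by group
        _ = (u * u') * w := by rw [hUcomm u' hu' u hu]
        _ = u * (u' * w) := by group
        _ = u * (w * u') := by rw [hwc w hw u']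
        _ = u * w * u' := by group

end Cfsg.Agent.Lib.Helper64.OZ
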