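import Cfsg.Agent.S1400
import Cfsg.Agent.S1401
import Cfsg.Agent.Lib.Helper23.FitLocal
import Cfsg.Agent.Lib.Helper23.LargeFitD
import Cfsg.Agent.Lib.Helper24.Coprime
import Cfsg.Agent.Lib.Helper64.BG95E1

set_option autoImplicit false

/-!
# BG 9.5, step (E): the characteristic subgroup `E = Ω₁(Z₂(O_t(H)))`

For a maximal subgroup `H` with `r_t(F(H)) ≥ 3` the subgroup `E = Ω₁(Z₂(O_t(H)))` is normalized by
`H`, noncyclic, of exponent `t`, and every noncyclic subgroup of `E` is a uniqueness subgroup (with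
`H` as unique maximal overgroup).
-/

namespace Cfsg.Agent.Lib.Helper64

open Subgroup Cfsg
open Cfsg.Agent.Lib.Helper23 (pCoreOf)

universe u

variable {G : Type u} [Group G] [Finite G]

/-- an elementary abelian uniqueness subgroup of order `≥ t ^ 3` inside `O_t(H)` -/
theorem exists_elemAb_uniq_le_pCoreOf (hG : Cfsg.IsMinSimpleOddOrder G) {H : Subgroup G}
    (hH : IsCoatom H) {t : ℕ} [Fact t.Prime] (hHt : ¬ Cfsg.PRankLE t 2 ↥(Cfsg.fittingOf H)) :
    ∃ E₀ : Subgroup G, E₀ ≤ pCoreOf t H ∧ IsPGroup t E₀ ∧ IsMulCommutative E₀ ∧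
      (∀ a ∈ E₀, a ^ t = 1) ∧ t ^ 3 ≤ Nat.card E₀ ∧ ¬ Cfsg.PRankLE t 2 ↥E₀ ∧
      Cfsg.InUniqueMaximal E₀ := by
  have ht : t.Prime := Fact.out
  have hF' := hHt
  unfold Cfsg.PRankLE at hF'
  push Not at hF'
  obtain ⟨E', hE'c, hE'e, hE'card⟩ := hF'
  set E₀ : Subgroup G := E'.map (Cfsg.fittingOf H).subtype with hE₀
  have hE₀F : E₀ ≤ Cfsg.fittingOf H := Subgroup.map_subtype_le E'
  have hE₀c : IsMulCommutative E₀ := inferInstance
  have hE₀e : ∀ a ∈ E₀, a ^ t = 1 := by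
    rintro _ ⟨a, ha, rfl⟩
    have := hE'e a ha
    simpa using congrArg Subtype.val this
  have hE₀card : t ^ 2 < Nat.card E₀ := by
    rw [hE₀, Subgroup.card_map_of_injective (Subgroup.subtype_injective _)]
    exact hE'card
  have hE₀p : IsPGroup t E₀ := by
    intro a
    refine ⟨1, ?_⟩
    apply Subtype.ext
    simpa using hE₀e a.1 a.2
  have hE₀3' : t ^ 3 ≤ Nat.card E₀ := by
    obtain ⟨k, hk⟩ := IsPGroup.iff_card.mp hE₀p
    rw [hk] at hE₀card ⊢
    have : 2 < k := (Nat.pow_lt_pow_iff_right ht.one_lt).mp hE₀card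
    exact Nat.pow_le_pow_right ht.pos this
  have hE₀3 : ¬ Cfsg.PRankLE t 2 ↥E₀ := by
    intro h
    have h1 := h ⊤ inferInstance (fun a _ => Subtype.ext (by simpa using hE₀e a.1 a.2))
    rw [Subgroup.card_top] at h1
    omega
  refine ⟨E₀, ?_, hE₀p, hE₀c, hE₀e, hE₀3', hE₀3,
    Cfsg.Agent.S1401.result hG H hH t hHt E₀ hE₀p hE₀c hE₀3⟩
  intro x hx
  exact Cfsg.Agent.Lib.Helper23.mem_pCoreOf_of_mem_fittingOf (hE₀F hx) (k := 1)
    (by rw [pow_one]; exact hE₀e x hx)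

/-- **BG 9.5, step (E).** -/
theorem exists_E (hG : Cfsg.IsMinSimpleOddOrder G) {H : Subgroup G} (hH : IsCoatom H) {t : ℕ}
    [Fact t.Prime] (hHt : ¬ Cfsg.PRankLE t 2 ↥(Cfsg.fittingOf H)) :
    ∃ E : Subgroup G, E ≤ pCoreOf t H ∧ H ≤ normalizer (E : Set G) ∧ IsPGroup t E ∧
      (∀ x ∈ E, x ^ t = 1) ∧ ¬ IsCyclic E ∧
      ∀ U : Subgroup G, U ≤ E → ¬ IsCyclic U →
        Cfsg.InUniqueMaximal U ∧ ∀ M : Subgroup G, IsCoatom M → U ≤ M → M = H := by
  have ht : t.Prime := Fact.out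
  obtain ⟨E₀, hE₀T, hE₀p, hE₀c, hE₀e, hE₀card, hE₀3, hE₀U⟩ :=
    exists_elemAb_uniq_le_pCoreOf hG hH hHt
  set T : Subgroup G := pCoreOf t H with hT
  have hTH : T ≤ H := Cfsg.Agent.Lib.Helper23.pCoreOf_le t H
  have hTp : IsPGroup t T := Cfsg.Agent.Lib.Helper23.isPGroup_pCoreOf t H
  have hTr : ¬ Cfsg.PRankLE t 2 ↥T :=
    Cfsg.Agent.Lib.Helper23.not_pRankLE_two_of_elemAb (A₀ := E₀) hE₀T
      (fun x hx y hy => congrArg Subtype.val (hE₀c.is_comm.comm ⟨x, hx⟩ ⟨y, hy⟩)) hE₀e hE₀card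
  -- `t` is odd
  have ht2 : t ≠ 2 := by
    rintro rfl
    have h1 : 2 ^ 3 ∣ Nat.card E₀ := by
      obtain ⟨k, hk⟩ := IsPGroup.iff_card.mp hE₀p
      rw [hk] at hE₀card ⊢
      have : 3 ≤ k := by
        by_contra hlt
        push Not at hlt
        have := Nat.pow_lt_pow_right (a := 2) (by norm_num) hlt
        omega
      exact pow_dvd_pow 2 this
    have h2 : 2 ∣ Nat.card G :=
      (dvd_trans (dvd_pow_self 2 (by norm_num)) h1).trans (Subgroup.card_subgroup_dvd_card E₀)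
    have hodd := hG.1
    rw [Nat.odd_iff] at hodd
    omega
  set Eabs : Subgroup ↥T := OZ.omegaZ2 t ↥T with hEabs
  set E : Subgroup G := Eabs.map T.subtype with hE
  have hET : E ≤ T := Subgroup.map_subtype_le _
  have hEe : ∀ x ∈ E, x ^ t = 1 := by
    rintro _ ⟨x, hx, rfl⟩
    have := OZ.pow_eq_one_of_mem ht ht2 hx
    simpa using congrArg Subtype.val this
  have hEp : IsPGroup t E := hTp.to_le hET
  have hEn : H ≤ normalizer (E : Set G) :=
    (Cfsg.Agent.Lib.Helper23.le_normalizer_pCoreOf t H).trans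
      (Cfsg.Agent.Lib.Helper24.normalizer_le_normalizer_map_of_characteristic T Eabs)
  have hEnc : ¬ IsCyclic E := by
    intro hc
    apply OZ.not_isCyclic_omegaZ2 ht2 hTp hTr
    exact isCyclic_of_surjective
      (Eabs.equivMapOfInjective T.subtype T.subtype_injective).symm
      (Eabs.equivMapOfInjective T.subtype T.subtype_injective).symm.surjective
  refine ⟨E, hET, hEn, hEp, hEe, hEnc, ?_⟩
  intro U hUE hUnc
  have hUp : IsPGroup t U := hEp.to_le hUE
  have hUH : U ≤ H := hUE.trans (hET.trans hTH)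
  -- a subgroup of order `t ^ 2`
  obtain ⟨k, hk⟩ := IsPGroup.iff_card.mp hUp
  have hk2 : 2 ≤ k := by
    by_contra hlt
    push Not at hlt
    apply hUnc
    interval_cases k
    · rw [pow_zero] at hk
      have : U = ⊥ := Subgroup.card_eq_one.mp hk
      rw [this]; infer_instance
    · rw [pow_one] at hk
      exact isCyclic_of_prime_card hk
  have hdvd : t ^ 2 ∣ Nat.card ↥U := by rw [hk]; exact pow_dvd_pow t hk2
  obtain ⟨K, hK⟩ := Sylow.exists_subgroup_card_pow_prime t hdvd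
  set U' : Subgroup G := K.map U.subtype with hU'
  have hU'U : U' ≤ U := Subgroup.map_subtype_le _
  have hU'card : Nat.card U' = t ^ 2 := by
    rw [hU', Subgroup.card_map_of_injective U.subtype_injective]; exact hK
  have hU'E : U' ≤ E := hU'U.trans hUE
  have hU'T : U' ≤ T := hU'E.trans hET
  have hU'p : IsPGroup t U' := hUp.to_le hU'U
  have hU'nc : ¬ IsCyclic U' := by
    intro hc
    have := OZ.card_dvd_of_cyclic_exp hc (fun x hx => hEe x (hU'E hx))
    rw [hU'card] at this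
    have h1 := Nat.le_of_dvd ht.pos this
    have h2 : t < t ^ 2 := by
      have := Nat.pow_lt_pow_right ht.one_lt (show 1 < 2 by norm_num)
      rwa [pow_one] at this
    omega
  -- the centralizer of `U'` has rank at least 3
  have hUT'card : Nat.card (U'.subgroupOf T) = t ^ 2 := by
    rw [Nat.card_congr (Subgroup.subgroupOfEquivOfLe hU'T).toEquiv]; exact hU'card
  have hUT'E : U'.subgroupOf T ≤ Eabs := by
    intro x hx
    have hx' : (x : G) ∈ E := hU'E (Subgroup.mem_subgroupOf.mp hx)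
    obtain ⟨y, hy, hyx⟩ := hx'
    have : y = x := Subtype.ext hyx
    rwa [← this]
  obtain ⟨B, hBc, hBe, hBcard, hBU⟩ :=
    OZ.exists_elemAb_centralizing ht2 hTp hTr (U'.subgroupOf T) hUT'E hUT'card
  set BG : Subgroup G := B.map T.subtype with hBG
  have hBGle : BG ≤ centralizer (U' : Set G) := by
    rintro _ ⟨b, hb, rfl⟩
    rw [Subgroup.mem_centralizer_iff]
    intro u hu
    have hb' := Subgroup.mem_centralizer_iff.mp (hBU hb) ⟨u, hU'T hu⟩
      (Subgroup.mem_subgroupOf.mpr hu)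
    exact congrArg Subtype.val hb'
  have hBGcomm : ∀ x ∈ BG, ∀ y ∈ BG, x * y = y * x := by
    rintro _ ⟨a, ha, rfl⟩ _ ⟨b, hb, rfl⟩
    exact congrArg Subtype.val (hBc a ha b hb)
  have hBGe : ∀ a ∈ BG, a ^ t = 1 := by
    rintro _ ⟨a, ha, rfl⟩
    simpa using congrArg Subtype.val (hBe a ha)
  have hBGcard : t ^ 3 ≤ Nat.card BG := by
    rw [hBG, Subgroup.card_map_of_injective T.subtype_injective]
    have hBp : IsPGroup t B := hTp.to_subgroup B
    obtain ⟨j, hj⟩ := IsPGroup.iff_card.mp hBp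
    rw [hj] at hBcard ⊢
    have : 2 < j := (Nat.pow_lt_pow_iff_right ht.one_lt).mp hBcard
    exact Nat.pow_le_pow_right ht.pos this
  have hU'3 : ¬ Cfsg.PRankLE t 2 ↥(centralizer (U' : Set G)) :=
    Cfsg.Agent.Lib.Helper23.not_pRankLE_two_of_elemAb (A₀ := BG) hBGle hBGcomm hBGe hBGcard
  have hU'U' : Cfsg.InUniqueMaximal U' :=
    Cfsg.Agent.S1400.result hG t E₀ U' hE₀p hE₀c hE₀3 hE₀U hU'p hU'nc hU'3
  have huniq : ∀ M : Subgroup G, IsCoatom M → U ≤ M → M = H := by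
    intro M hM hUM
    exact hU'U'.unique ⟨hM, hU'U.trans hUM⟩ ⟨hH, hU'U.trans hUH⟩
  exact ⟨⟨H, ⟨hH, hUH⟩, fun M hM => huniq M hM.1 hM.2⟩, huniq⟩

end Cfsg.Agent.Lib.Helper64
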