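import Mathlib

set_option autoImplicit false

namespace Cfsg.Agent.Lib.Helper64

variable {G : Type*} [Group G]

theorem card_eq_card_inf_mul_relIndex (H K : Subgroup G) :
    Nat.card K = Nat.card ↥(H ⊓ K) * H.relIndex K := by
  rw [← Subgroup.relIndex_bot_left, ← Subgroup.relIndex_bot_left, ← Subgroup.inf_relIndex_right H K]
  exact (Subgroup.relIndex_mul_relIndex ⊥ (H ⊓ K) K bot_le inf_le_right).symm

/-- For `K` normal, `|K : H ∩ K|` divides `|G : H|`. -/
theorem relIndex_dvd_index_of_normal_right [Finite G] (H K : Subgroup G) [K.Normal] :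
    H.relIndex K ∣ H.index := by
  have h1 := card_eq_card_inf_mul_relIndex H K
  have h2 := card_eq_card_inf_mul_relIndex K H
  rw [inf_comm] at h2
  have h3 := Subgroup.card_mul_index K
  have h4 := Subgroup.card_mul_index H
  obtain ⟨d, hd⟩ := Subgroup.relIndex_dvd_index_of_normal (H := K) (K := H)
  have ha : 0 < Nat.card ↥(H ⊓ K) := Nat.card_pos
  have hb : 0 < K.relIndex H := by
    rcases Nat.eq_zero_or_pos (K.relIndex H) with h | h
    · rw [h, mul_zero] at h2
      exact absurd h2 Nat.card_pos.ne'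
    · exact h
  refine ⟨d, ?_⟩
  have h5 : Nat.card ↥(H ⊓ K) * K.relIndex H * H.index
      = Nat.card ↥(H ⊓ K) * K.relIndex H * (H.relIndex K * d) := by
    generalize Nat.card ↥(H ⊓ K) = a at *
    generalize H.relIndex K = c at *
    generalize K.relIndex H = b at *
    calc a * b * H.index = Nat.card G := by rw [← h2, h4]
      _ = a * c * (b * d) := by rw [← h3, h1, hd]
      _ = a * b * (c * d) := by ring
  exact Nat.eq_of_mul_eq_mul_left (Nat.mul_pos ha hb) h5

/-- The intersection of a Sylow subgroup with a normal subgroup is a Sylow subgroup of it. -/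
theorem exists_sylow_inf_normal [Finite G] {p : ℕ} [Fact p.Prime] (R : Sylow p G)
    (T : Subgroup G) [T.Normal] :
    ∃ P : Sylow p T, (P : Subgroup T).map T.subtype = (R : Subgroup G) ⊓ T := by
  have h1 : IsPGroup p ((R : Subgroup G).subgroupOf T) := R.isPGroup'.comap_subtype
  have h2 : ¬ p ∣ ((R : Subgroup G).subgroupOf T).index := by
    intro h
    exact R.not_dvd_index (h.trans (relIndex_dvd_index_of_normal_right (R : Subgroup G) T))
  refine ⟨h1.toSylow h2, ?_⟩
  rw [IsPGroup.toSylow_coe, Subgroup.subgroupOf_map_subtype]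

/-- A simple `p`-group is commutative. -/
theorem isMulCommutative_of_isPGroup_of_simple {p : ℕ} [Fact p.Prime] {T : Type*} [Group T]
    [Finite T] [IsSimpleGroup T] (h : IsPGroup p T) : IsMulCommutative T := by
  have hc : Subgroup.center T ≠ ⊥ := by
    have := h.center_nontrivial
    exact (Subgroup.nontrivial_iff_ne_bot _).mp this
  have htop : Subgroup.center T = ⊤ :=
    ((Subgroup.center T).normal_of_characteristic.eq_bot_or_eq_top).resolve_left hc
  refine ⟨⟨fun a b => ?_⟩⟩
  have hb : b ∈ Subgroup.center T := by rw [htop]; exact Subgroup.mem_top b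
  exact (Subgroup.mem_center_iff.mp hb a)

/-- If `T` is a nonabelian simple normal subgroup and `Q` a `p`-subgroup meeting `T` nontrivially,
then `Q ⊓ T` is not normal. -/
theorem not_normal_inf_of_simple [Finite G] {p : ℕ} [Fact p.Prime] (T : Subgroup G)
    (hT : IsSimpleGroup T) (hna : ¬ IsMulCommutative T) (Q : Subgroup G) (hQ : IsPGroup p Q)
    (hQT : Q ⊓ T ≠ ⊥) : ¬ (Q ⊓ T).Normal := by
  intro hn
  have hK : ((Q ⊓ T).subgroupOf T).Normal := hn.subgroupOf T
  rcases hK.eq_bot_or_eq_top with h | h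
  · rw [Subgroup.subgroupOf_eq_bot, disjoint_iff, inf_assoc, inf_idem] at h
    exact hQT h
  · rw [Subgroup.subgroupOf_eq_top] at h
    have hTQ : T ≤ Q := h.trans inf_le_left
    have hTp : IsPGroup p T := hQ.to_le hTQ
    exact hna (isMulCommutative_of_isPGroup_of_simple hTp)

theorem mem_map_conj {H : Subgroup G} {g x : G} :
    x ∈ H.map (MulAut.conj g).toMonoidHom ↔ g⁻¹ * x * g ∈ H := by
  rw [Subgroup.mem_map_equiv, MulAut.conj_symm_apply]

theorem isCoatom_map_conj {M : Subgroup G} (hM : IsCoatom M) (g : G) :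
    IsCoatom (M.map (MulAut.conj g).toMonoidHom) :=
  ((MulAut.conj g).mapSubgroup.isCoatom_iff M).mpr hM

theorem map_conj_map_conj (M : Subgroup G) (g h : G) :
    (M.map (MulAut.conj g).toMonoidHom).map (MulAut.conj h).toMonoidHom
      = M.map (MulAut.conj (h * g)).toMonoidHom := by
  ext x
  simp only [mem_map_conj]
  constructor <;> intro hx <;> convert hx using 1 <;> group

theorem map_conj_of_mem {M : Subgroup G} {m : G} (hm : m ∈ M) :
    M.map (MulAut.conj m).toMonoidHom = M := by
  ext x
  rw [mem_map_conj]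
  constructor
  · intro hx
    have : x = m * (m⁻¹ * x * m) * m⁻¹ := by group
    rw [this]
    exact M.mul_mem (M.mul_mem hm hx) (M.inv_mem hm)
  · intro hx
    exact M.mul_mem (M.mul_mem (M.inv_mem hm) hx) hm

/-- A `p`-subgroup lies in a conjugate of every subgroup of index prime to `p`. -/
theorem exists_le_map_conj_of_not_dvd_index [Finite G] {p : ℕ} [Fact p.Prime] {R : Subgroup G}
    (hR : IsPGroup p R) (M : Subgroup G) (hM : ¬ p ∣ M.index) :
    ∃ g : G, R ≤ M.map (MulAut.conj g).toMonoidHom := by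
  obtain ⟨q, hq⟩ := hR.nonempty_fixed_point_of_prime_not_dvd_card (G ⧸ M) hM
  obtain ⟨g, rfl⟩ := QuotientGroup.mk_surjective q
  refine ⟨g, fun a ha => ?_⟩
  rw [mem_map_conj]
  have := hq ⟨a, ha⟩
  have h1 : ((a * g : G) : G ⧸ M) = (g : G ⧸ M) := this
  rw [QuotientGroup.eq] at h1
  have h2 : g⁻¹ * a * g = ((a * g)⁻¹ * g)⁻¹ := by group
  rw [h2]
  exact M.inv_mem h1

end Cfsg.Agent.Lib.Helper64
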