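import Cfsg.Agent.Lib.Helper23.AlphaB
import Cfsg.Agent.Lib.Helper62.SigmaHall
import Cfsg.Agent.Lib.Helper64.BG95Glue
import Cfsg.Agent.Lib.Helper24.BG121

set_option autoImplicit false

/-!
# BG §12: nonabelian `p`-subgroups are uniqueness subgroups (from 12.5(b) and 12.14 as hypotheses)
-/

namespace Cfsg.Agent.Lib.Helper64

open Subgroup Cfsg Cfsg.Agent.Lib.Helper23 Cfsg.Agent.Lib.Helper63
open scoped commutatorElement

universe u

variable {G : Type u} [Group G] [Finite G]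

theorem isMulCommutative_of_isCyclic {H : Type*} [Group H] (h : IsCyclic H) :
    IsMulCommutative H := by
  obtain ⟨g, hg⟩ := h.exists_generator
  refine ⟨⟨fun a b => ?_⟩⟩
  obtain ⟨m, rfl⟩ := Subgroup.mem_zpowers_iff.mp (hg a)
  obtain ⟨n, rfl⟩ := Subgroup.mem_zpowers_iff.mp (hg b)
  exact (Commute.zpow_zpow_self g m n).eq

/-- a nonabelian `p`-subgroup of a group of odd order contains an elementary abelian subgroup of order
`p ^ 2` -/
theorem exists_elemAb_sq_of_nonabelian (hodd : Odd (Nat.card G)) {p : ℕ} [Fact p.Prime]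
    {P : Subgroup G} (hP : IsPGroup p P) (hPna : ¬ IsMulCommutative P) :
    ∃ A : Subgroup G, A ≤ P ∧ Cfsg.IsElementaryAbelian p A ∧ Nat.card A = p ^ 2 := by
  rcases Cfsg.Agent.Lib.Helper52.normal_rank_two p hP with ⟨N, -, hNc, hNe⟩ | hc | ⟨h2, -, -⟩
  · refine ⟨N.map P.subtype, Subgroup.map_subtype_le _, ⟨?_, ?_⟩, ?_⟩
    · haveI : IsMulCommutative N := IsPGroup.isMulCommutative_of_card_eq_prime_sq hNc
      infer_instance
    · rintro _ ⟨a, ha, rfl⟩
      simpa using congrArg Subtype.val (hNe a ha)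
    · rw [Subgroup.card_map_of_injective P.subtype_injective]; exact hNc
  · exact absurd (isMulCommutative_of_isCyclic hc) hPna
  · exfalso
    obtain ⟨n, hn⟩ := IsPGroup.iff_card.mp hP
    have hn0 : n ≠ 0 := by
      intro h0
      rw [h0, pow_zero] at hn
      apply hPna
      haveI : Subsingleton P := (Nat.card_eq_one_iff_unique.mp hn).1
      exact ⟨⟨fun a b => Subsingleton.elim _ _⟩⟩
    have h2P : 2 ∣ Nat.card P := by
      rw [hn, h2]
      exact dvd_pow_self 2 hn0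
    have h2G : 2 ∣ Nat.card G := h2P.trans (Subgroup.card_subgroup_dvd_card P)
    rw [Nat.odd_iff] at hodd
    omega

/-- a `p`-subgroup of `H` lies in every subgroup `N` normalized by `H` whose index in `H` is prime to
`p` -/
theorem le_of_isPGroup_of_not_dvd_relIndex {p : ℕ} [Fact p.Prime] {N H P : Subgroup G} (hNH : N ≤ H)
    (hHN : H ≤ normalizer (N : Set G)) (hPH : P ≤ H) (hP : IsPGroup p P)
    (hidx : ¬ p ∣ N.relIndex H) : P ≤ N := by
  have hp : p.Prime := Fact.out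
  haveI hn : (N.subgroupOf H).Normal := (normal_subgroupOf_iff_le_normalizer hNH).mpr hHN
  intro x hx
  obtain ⟨k, hk⟩ := hP ⟨x, hx⟩
  have hk' : (⟨x, hPH hx⟩ : H) ^ (p ^ k) = 1 := by
    apply Subtype.ext
    simpa using congrArg Subtype.val hk
  set y : H ⧸ N.subgroupOf H := QuotientGroup.mk' (N.subgroupOf H) ⟨x, hPH hx⟩ with hy
  have h1 : orderOf y ∣ p ^ k := by
    apply orderOf_dvd_of_pow_eq_one
    rw [hy, ← map_pow, hk', map_one]
  have h2 : orderOf y ∣ N.relIndex H := by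
    rw [Subgroup.relIndex, Subgroup.index_eq_card]
    exact orderOf_dvd_natCard y
  have hcop : (p ^ k).Coprime (N.relIndex H) :=
    Nat.Coprime.pow_left k ((Nat.Prime.coprime_iff_not_dvd hp).mpr hidx)
  have h3 : orderOf y = 1 := Nat.eq_one_of_dvd_coprimes hcop h1 h2
  have h4 : y = 1 := orderOf_eq_one_iff.mp h3
  have h5 : (⟨x, hPH hx⟩ : H) ∈ N.subgroupOf H := (QuotientGroup.eq_one_iff _).mp h4
  exact Subgroup.mem_subgroupOf.mp h5

/-- **BG Corollary 12.(13)**: every nonabelian `p`-subgroup lies in a unique maximal subgroup, from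
the Uniqueness Theorem, 10.1(a), 12.5(b) (`h17`) and 12.14 (`h23`) as hypotheses. -/
theorem nonabelian_uniq (hG : Cfsg.IsMinSimpleOddOrder G) (hU : BG10.UniqStmt G)
    (hF : ∀ M : Subgroup G, IsCoatom M → SigmaFusion M)
    (h17 : ∀ M : Subgroup G, IsCoatom M → ∀ (p : ℕ) [Fact p.Prime], p ∈ Cfsg.tau2 M →
      ∀ A : Subgroup G, (A ≤ M ∧ Cfsg.IsElementaryAbelian p A ∧ Nat.card A = p ^ 2) →
      ∀ P : Sylow p M, IsMulCommutative (P : Subgroup M))
    (h23 : ∀ M : Subgroup G, IsCoatom M → ∀ (p : ℕ) [Fact p.Prime], p ∈ Cfsg.sigma M →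
      ∀ X : Subgroup G, X ≤ M → Nat.card X = p →
      X ≤ ⁅Cfsg.sigmaCore M, Cfsg.sigmaCore M⁆ →
      (Subgroup.centralizer (X : Set G) ≤ M ∧
        ∀ L : Subgroup G, IsCoatom L → Subgroup.centralizer (X : Set G) ≤ L → L = M))
    (p : ℕ) [Fact p.Prime] (P : Subgroup G) (hP : IsPGroup p P) (hPna : ¬ IsMulCommutative P) :
    Cfsg.InUniqueMaximal P := by
  have hp : p.Prime := Fact.out
  have hPtop : P ≠ ⊤ := ne_top_of_isPGroup hG hP
  obtain ⟨M₀, hM₀, hPM₀⟩ := BG9.exists_coatom_ge hPtop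
  obtain ⟨A, hAP, hAe, hAcard⟩ := exists_elemAb_sq_of_nonabelian hG.1 hP hPna
  -- the derived group of `P` is nontrivial and contains a subgroup of order `p`
  have hP' : ⁅P, P⁆ ≠ ⊥ := by
    intro h
    apply hPna
    refine ⟨⟨fun a b => ?_⟩⟩
    have h1 : ⁅(a : G), (b : G)⁆ ∈ ⁅P, P⁆ := Subgroup.commutator_mem_commutator a.2 b.2
    rw [h, Subgroup.mem_bot] at h1
    apply Subtype.ext
    have := commutatorElement_eq_one_iff_mul_comm.mp h1
    simpa using this
  have hP'P : ⁅P, P⁆ ≤ P := Subgroup.commutator_le.mpr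
    (fun g₁ h₁ g₂ h₂ => P.mul_mem (P.mul_mem (P.mul_mem h₁ h₂) (P.inv_mem h₁)) (P.inv_mem h₂))
  have hP'p : IsPGroup p ↥(⁅P, P⁆ : Subgroup G) := hP.to_le hP'P
  obtain ⟨n, hn⟩ := IsPGroup.iff_card.mp hP'p
  have hn0 : n ≠ 0 := by
    rintro rfl
    rw [pow_zero] at hn
    exact hP' (Subgroup.card_eq_one.mp hn)
  have hdvd : p ^ 1 ∣ Nat.card ↥⁅P, P⁆ := by
    rw [hn]; exact pow_dvd_pow p (Nat.one_le_iff_ne_zero.mpr hn0)
  obtain ⟨K, hK⟩ := Sylow.exists_subgroup_card_pow_prime p hdvd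
  set X : Subgroup G := K.map (⁅P, P⁆ : Subgroup G).subtype with hX
  have hXP' : X ≤ ⁅P, P⁆ := Subgroup.map_subtype_le _
  have hXcard : Nat.card X = p := by
    rw [hX, Subgroup.card_map_of_injective (Subgroup.subtype_injective _), hK, pow_one]
  -- the key: for a maximal subgroup `H ≥ P`, `H` is the unique maximal subgroup over `C_G(X)`
  have key : ∀ H : Subgroup G, IsCoatom H → P ≤ H →
      (Subgroup.centralizer (X : Set G) ≤ H ∧
        ∀ L : Subgroup G, IsCoatom L → Subgroup.centralizer (X : Set G) ≤ L → L = H) := by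
    intro H hH hPH
    -- `p ∈ σ(H)`
    have hσ : p ∈ Cfsg.sigma H := by
      by_contra hσ
      have hα : p ∉ Cfsg.alpha H := fun h => hσ (alpha_subset_sigma hG hU hH h)
      have hr2 : Cfsg.PRankLE p 2 ↥H := by
        by_contra h
        exact hα ⟨hp, h⟩
      have hAH : A ≤ H := hAP.trans hPH
      have hr1 : ¬ Cfsg.PRankLE p 1 ↥H := by
        intro h
        have h1 := h (A.subgroupOf H) ?_ ?_
        · rw [Nat.card_congr (Subgroup.subgroupOfEquivOfLe hAH).toEquiv, hAcard] at h1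
          have : p ^ 1 < p ^ 2 := Nat.pow_lt_pow_right hp.one_lt (by norm_num)
          omega
        · refine ⟨⟨fun a b => ?_⟩⟩
          apply Subtype.ext
          apply Subtype.ext
          have := hAe.1.is_comm.comm ⟨a.1.1, a.2⟩ ⟨b.1.1, b.2⟩
          simpa using congrArg Subtype.val this
        · intro a ha
          apply Subtype.ext
          simpa using hAe.2 a.1 ha
      have hτ : p ∈ Cfsg.tau2 H := ⟨hp, hσ, hr2, hr1⟩
      have hPH' : IsPGroup p (P.subgroupOf H) := hP.comap_subtype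
      obtain ⟨S, hS⟩ := hPH'.exists_le_sylow
      have hSc := h17 H hH p hτ A ⟨hAH, hAe, hAcard⟩ S
      apply hPna
      refine ⟨⟨fun a b => ?_⟩⟩
      have ha : (⟨a.1, hPH a.2⟩ : H) ∈ (S : Subgroup H) := hS (Subgroup.mem_subgroupOf.mpr a.2)
      have hb : (⟨b.1, hPH b.2⟩ : H) ∈ (S : Subgroup H) := hS (Subgroup.mem_subgroupOf.mpr b.2)
      have := hSc.is_comm.comm ⟨_, ha⟩ ⟨_, hb⟩
      apply Subtype.ext
      simpa using congrArg (fun z : (S : Subgroup H) => ((z : H) : G)) this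
    -- `P ≤ H_σ`
    obtain ⟨hHall, -, -⟩ := Cfsg.Agent.Lib.Helper62.sigmaCore_hall hG hU hH (hF H hH)
    have hPσ : P ≤ Cfsg.sigmaCore H :=
      le_of_isPGroup_of_not_dvd_relIndex hHall.1
        (Cfsg.Agent.Lib.Helper24.BG.le_normalizer_sigmaCore H) hPH hP (hHall.2.2 p hp hσ)
    have hXσ : X ≤ ⁅Cfsg.sigmaCore H, Cfsg.sigmaCore H⁆ :=
      hXP'.trans (Subgroup.commutator_mono hPσ hPσ)
    exact h23 H hH p hσ X ((hXP'.trans hP'P).trans hPH) hXcard hXσ
  refine ⟨M₀, ⟨hM₀, hPM₀⟩, ?_⟩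
  rintro H ⟨hH, hPH⟩
  exact (key M₀ hM₀ hPM₀).2 H hH (key H hH hPH).1

end Cfsg.Agent.Lib.Helper64
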