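import Mathlib

set_option autoImplicit false

namespace Cfsg.Agent.Lib.Helper64

open Finset

/-- Lifting the exponent, in divisibility form: for an odd prime `p` and `r ≡ 1 (mod p)`, the
numbers `r ^ t - 1` and `(r - 1) * t` have the same `p`-adic valuation. -/
theorem lte_dvd {p : ℕ} (hp : p.Prime) (hp2 : p ≠ 2) {r : ℤ} (hr : (p : ℤ) ∣ r - 1)
    (z : ℤ) (t e : ℕ) :
    (p : ℤ) ^ e ∣ z * (r ^ t - 1) ↔ (p : ℤ) ^ e ∣ z * ((r - 1) * t) := by
  have hodd : Odd p := hp.odd_of_ne_two hp2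
  have hpi : Prime (p : ℤ) := Nat.prime_iff_prime_int.mp hp
  have hx : ¬ (p : ℤ) ∣ r := by
    intro h
    have h1 : (p : ℤ) ∣ 1 := by
      have := dvd_sub h hr
      simpa using this
    exact hpi.not_dvd_one h1
  have hlte := Int.emultiplicity_pow_sub_pow hp hodd (x := r) (y := 1) hr hx t
  rw [one_pow] at hlte
  rw [pow_dvd_iff_le_emultiplicity, pow_dvd_iff_le_emultiplicity, emultiplicity_mul hpi,
    emultiplicity_mul hpi, emultiplicity_mul hpi, hlte, Int.natCast_emultiplicity]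

/-- The geometric sum `1 + r + ... + r^(t-1)` has the same `p`-adic valuation as `t`. -/
theorem geom_dvd {p : ℕ} (hp : p.Prime) (hp2 : p ≠ 2) {r : ℤ} (hr : (p : ℤ) ∣ r - 1)
    (z : ℤ) (t e : ℕ) :
    (p : ℤ) ^ e ∣ z * (∑ i ∈ range t, r ^ i) ↔ (p : ℤ) ^ e ∣ z * t := by
  have hpi : Prime (p : ℤ) := Nat.prime_iff_prime_int.mp hp
  by_cases h1 : r = 1
  · subst h1; simp
  · have hfin : emultiplicity (p : ℤ) (r - 1) ≠ ⊤ := by
      rw [← finiteMultiplicity_iff_emultiplicity_ne_top]
      exact Int.finiteMultiplicity_iff.mpr ⟨by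
        simpa using hp.ne_one, sub_ne_zero.mpr h1⟩
    have hodd : Odd p := hp.odd_of_ne_two hp2
    have hx : ¬ (p : ℤ) ∣ r := by
      intro h
      have h1 : (p : ℤ) ∣ 1 := by
        have := dvd_sub h hr
        simpa using this
      exact hpi.not_dvd_one h1
    have hlte := Int.emultiplicity_pow_sub_pow hp hodd (x := r) (y := 1) hr hx t
    rw [one_pow, ← mul_geom_sum, emultiplicity_mul hpi] at hlte
    have hgs : emultiplicity (p : ℤ) (∑ i ∈ range t, r ^ i) = emultiplicity p t := by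
      exact ENat.add_right_injective_of_ne_top hfin hlte
    rw [pow_dvd_iff_le_emultiplicity, pow_dvd_iff_le_emultiplicity, emultiplicity_mul hpi,
      emultiplicity_mul hpi, hgs, Int.natCast_emultiplicity]

end Cfsg.Agent.Lib.Helper64
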