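import Mathlib
import Cfsg.Agent.Lib.Helper64.SylowMax

set_option autoImplicit false

namespace Cfsg.Agent.Lib.Helper64

variable {G : Type*} [Group G]

theorem sylow_smul_eq_map_conj {p : ℕ} (g : G) (R : Sylow p G) :
    ((g • R : Sylow p G) : Subgroup G) = (R : Subgroup G).map (MulAut.conj g).toMonoidHom := rfl

theorem mem_sylow_smul {p : ℕ} {g x : G} {R : Sylow p G} :
    x ∈ ((g • R : Sylow p G) : Subgroup G) ↔ g⁻¹ * x * g ∈ (R : Subgroup G) := by
  rw [sylow_smul_eq_map_conj, mem_map_conj]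

/-- If a Sylow subgroup `R` lies in `M` and in a conjugate of `M`, the conjugating element can be
taken in the normalizer of `R`. -/
theorem map_conj_eq_map_conj_normalizer [Finite G] {p : ℕ} [Fact p.Prime] (R : Sylow p G)
    (M : Subgroup G) (g : G) (hRM : (R : Subgroup G) ≤ M)
    (hRM' : (R : Subgroup G) ≤ M.map (MulAut.conj g).toMonoidHom) :
    ∃ n ∈ Subgroup.normalizer ((R : Subgroup G) : Set G),
      M.map (MulAut.conj g).toMonoidHom = M.map (MulAut.conj n).toMonoidHom := by
  have hR' : ((g⁻¹ • R : Sylow p G) : Subgroup G) ≤ M := by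
    intro x hx
    rw [mem_sylow_smul, inv_inv] at hx
    have := hRM' hx
    rw [mem_map_conj] at this
    convert this using 1; group
  obtain ⟨m, hm⟩ := MulAction.exists_smul_eq M ((g⁻¹ • R : Sylow p G).subtype hR') (R.subtype hRM)
  rw [Sylow.smul_subtype] at hm
  have hm' : m • (g⁻¹ • R : Sylow p G) = R := Sylow.subtype_injective hm
  have hm2 : ((m : G) * g⁻¹) • R = R := by
    rw [mul_smul]; exact hm'
  rw [Sylow.smul_eq_iff_mem_normalizer] at hm2
  refine ⟨g * (m : G)⁻¹, ?_, ?_⟩
  · have : g * (m : G)⁻¹ = ((m : G) * g⁻¹)⁻¹ := by group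
    rw [this]
    exact Subgroup.inv_mem _ hm2
  · rw [← map_conj_map_conj, map_conj_of_mem (M.inv_mem m.2)]

end Cfsg.Agent.Lib.Helper64
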