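import Mathlib
import Cfsg.Agent.Lib.Helper64.SylowMax
import Cfsg.Agent.Lib.Helper64.SylowConj

set_option autoImplicit false

namespace Cfsg.Agent.Lib.Helper64

variable {G : Type*} [Group G]

/-- Frattini argument for a subgroup `L` normalized by `g` and containing the Sylow subgroup `P`. -/
theorem frattini_mem [Finite G] {p : ℕ} [Fact p.Prime] (P : Sylow p G) {L : Subgroup G}
    (hPL : (P : Subgroup G) ≤ L) {g : G} (hg : g ∈ Subgroup.normalizer (L : Set G)) :
    g ∈ Subgroup.normalizer ((P : Subgroup G) : Set G) ⊔ L := by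
  have hR' : ((g⁻¹ • P : Sylow p G) : Subgroup G) ≤ L := by
    intro x hx
    rw [mem_sylow_smul, inv_inv] at hx
    have h1 := hPL hx
    have h2 := (Subgroup.mem_normalizer_iff''.mp hg (g * x * g⁻¹)).mp h1
    convert h2 using 1; group
  obtain ⟨m, hm⟩ := MulAction.exists_smul_eq L ((g⁻¹ • P : Sylow p G).subtype hR') (P.subtype hPL)
  rw [Sylow.smul_subtype] at hm
  have hm' : m • (g⁻¹ • P : Sylow p G) = P := Sylow.subtype_injective hm
  have hm2 : ((m : G) * g⁻¹) • P = P := by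
    rw [mul_smul]; exact hm'
  rw [Sylow.smul_eq_iff_mem_normalizer] at hm2
  have : g = ((m : G) * g⁻¹)⁻¹ * (m : G) := by group
  rw [this]
  exact Subgroup.mul_mem_sup (Subgroup.inv_mem _ hm2) m.2

theorem normalizer_sup_normal [Finite G] {p : ℕ} [Fact p.Prime] (P : Sylow p G)
    (K : Subgroup G) [K.Normal] :
    Subgroup.normalizer (((P : Subgroup G) ⊔ K : Subgroup G) : Set G)
      = Subgroup.normalizer ((P : Subgroup G) : Set G) ⊔ K := by
  apply le_antisymm
  · intro g hg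
    have := frattini_mem P (le_sup_left : (P : Subgroup G) ≤ (P : Subgroup G) ⊔ K) hg
    have hle : Subgroup.normalizer ((P : Subgroup G) : Set G) ⊔ ((P : Subgroup G) ⊔ K)
        ≤ Subgroup.normalizer ((P : Subgroup G) : Set G) ⊔ K :=
      sup_le le_sup_left (sup_le (Subgroup.le_normalizer.trans le_sup_left) le_sup_right)
    exact hle this
  · apply sup_le
    · intro g hg
      rw [Subgroup.mem_normalizer_iff]
      intro h
      have hK : ∀ g' : G, ∀ x, x ∈ (P : Subgroup G) ⊔ K → g' ∈ Subgroup.normalizer ((P : Subgroup G) : Set G)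
          → g' * x * g'⁻¹ ∈ (P : Subgroup G) ⊔ K := by
        intro g' x hx hg'
        obtain ⟨a, ha, b, hb, rfl⟩ := Subgroup.mem_sup_of_normal_right.mp hx
        have : g' * (a * b) * g'⁻¹ = (g' * a * g'⁻¹) * (g' * b * g'⁻¹) := by group
        rw [this]
        exact Subgroup.mul_mem_sup ((Subgroup.mem_normalizer_iff.mp hg' a).mp ha)
          (‹K.Normal›.conj_mem b hb g')
      constructor
      · intro hh
        exact hK g h hh hg
      · intro hh
        have := hK g⁻¹ _ hh (Subgroup.inv_mem _ hg)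
        convert this using 1; group
    · exact (le_sup_right : K ≤ (P : Subgroup G) ⊔ K).trans Subgroup.le_normalizer

/-- The number of Sylow subgroups of a quotient. -/
theorem card_sylow_quotient [Finite G] {p : ℕ} [Fact p.Prime] (P : Sylow p G)
    (K : Subgroup G) [K.Normal] :
    Nat.card (Sylow p (G ⧸ K)) = (Subgroup.normalizer ((P : Subgroup G) : Set G) ⊔ K).index := by
  have hsurj := QuotientGroup.mk'_surjective K
  have h0 : Nat.card (Sylow p (G ⧸ K)) = (Subgroup.normalizer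
      ((((P : Subgroup G).map (QuotientGroup.mk' K) : Subgroup (G ⧸ K))) : Set (G ⧸ K))).index :=
    Sylow.card_eq_index_normalizer (P.mapSurjective hsurj)
  rw [h0, ← Subgroup.index_comap_of_surjective _ hsurj,
    Subgroup.comap_normalizer_eq_of_surjective _ hsurj,
    Subgroup.comap_map_eq, QuotientGroup.ker_mk', normalizer_sup_normal]

/-- Cardinality of a factorized subgroup. -/
theorem card_eq_mul_of_factor (A B C : Subgroup G) (hdisj : A ⊓ B = ⊥)
    (hmul : ∀ a ∈ A, ∀ b ∈ B, a * b ∈ C) (hsurj : ∀ c ∈ C, ∃ a ∈ A, ∃ b ∈ B, a * b = c) :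
    Nat.card C = Nat.card A * Nat.card B := by
  rw [← Nat.card_prod]
  symm
  apply Nat.card_congr
  refine Equiv.ofBijective (fun ab : A × B => (⟨ab.1.1 * ab.2.1, hmul _ ab.1.2 _ ab.2.2⟩ : C)) ⟨?_, ?_⟩
  · rintro ⟨⟨a, ha⟩, ⟨b, hb⟩⟩ ⟨⟨a', ha'⟩, ⟨b', hb'⟩⟩ h
    have h1 : a * b = a' * b' := congrArg Subtype.val h
    have h2 : a'⁻¹ * a = b' * b⁻¹ := by
      calc a'⁻¹ * a = a'⁻¹ * (a * b) * b⁻¹ := by group
        _ = a'⁻¹ * (a' * b') * b⁻¹ := by rw [h1]
        _ = b' * b⁻¹ := by group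
    have h3 : a'⁻¹ * a ∈ A ⊓ B := ⟨A.mul_mem (A.inv_mem ha') ha, h2 ▸ B.mul_mem hb' (B.inv_mem hb)⟩
    rw [hdisj, Subgroup.mem_bot] at h3
    have h4 : a = a' := by
      calc a = a' * (a'⁻¹ * a) := by group
        _ = a' := by rw [h3, mul_one]
    subst h4
    have h5 : b = b' := mul_left_cancel h1
    subst h5
    rfl
  · rintro ⟨c, hc⟩
    obtain ⟨a, ha, b, hb, rfl⟩ := hsurj c hc
    exact ⟨(⟨a, ha⟩, ⟨b, hb⟩), rfl⟩

/-- `|H ⊔ K| * |H ⊓ K| = |K| * |H|` for `K` normal. -/
theorem card_sup_mul_card_inf [Finite G] (H K : Subgroup G) [K.Normal] :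
    Nat.card ↥(H ⊔ K) * Nat.card ↥(H ⊓ K) = Nat.card K * Nat.card H := by
  have h1 := card_eq_card_inf_mul_relIndex K (H ⊔ K)
  rw [inf_eq_left.mpr (le_sup_right : K ≤ H ⊔ K), Subgroup.relIndex_sup_right] at h1
  have h2 := card_eq_card_inf_mul_relIndex K H
  rw [inf_comm] at h2
  rw [h1, h2]; ring

end Cfsg.Agent.Lib.Helper64
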