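import Mathlib
import Cfsg.Agent.Lib.Helper64.MetaNT
import Cfsg.Agent.Lib.Helper64.SylowCount

set_option autoImplicit false

namespace Cfsg.Agent.Lib.Helper64

open Finset
open scoped commutatorElement

/-- If `b a b⁻¹ = a ^ r` then `b^j a^i = a^(i r^j) b^j`. -/
theorem pow_mul_pow_of_conj {G : Type*} [Group G] {a b : G} {r : ℕ} (h : b * a * b⁻¹ = a ^ r)
    (i j : ℕ) : b ^ j * a ^ i = a ^ (i * r ^ j) * b ^ j := by
  have h1 : ∀ i : ℕ, b * a ^ i = a ^ (i * r) * b := by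
    intro i
    have h' : b * a ^ i * b⁻¹ = a ^ (i * r) := by
      rw [← conj_pow, h, ← pow_mul, mul_comm]
    calc b * a ^ i = (b * a ^ i * b⁻¹) * b := by group
      _ = a ^ (i * r) * b := by rw [h']
  induction j generalizing i with
  | zero => simp
  | succ j ih =>
    calc b ^ (j + 1) * a ^ i = b ^ j * (b * a ^ i) := by rw [pow_succ, mul_assoc]
      _ = b ^ j * (a ^ (i * r) * b) := by rw [h1]
      _ = (b ^ j * a ^ (i * r)) * b := by rw [mul_assoc]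
      _ = a ^ (i * r * r ^ j) * b ^ j * b := by rw [ih]
      _ = a ^ (i * r ^ (j + 1)) * b ^ (j + 1) := by
          rw [mul_assoc, ← pow_succ, mul_assoc i, ← pow_succ']

/-- Coordinates on a metacyclic group: `G = ⟨a⟩⟨b⟩` with `b a b⁻¹ = a ^ r`, `r ≡ 1 (mod p)`. -/
structure MetaDatum (G : Type*) [Group G] (p : ℕ) where
  a : G
  b : G
  r : ℕ
  hr : (p : ℤ) ∣ (r : ℤ) - 1
  hconj : b * a * b⁻¹ = a ^ r
  hgen : ∀ g : G, ∃ i j : ℕ, g = a ^ i * b ^ j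

namespace MetaDatum

variable {G : Type*} [Group G] {p : ℕ} (D : MetaDatum G p)

theorem b_pow_mul_a_pow (i j : ℕ) : D.b ^ j * D.a ^ i = D.a ^ (i * D.r ^ j) * D.b ^ j :=
  pow_mul_pow_of_conj D.hconj i j

theorem mul_formula (i j s t : ℕ) :
    (D.a ^ i * D.b ^ j) * (D.a ^ s * D.b ^ t) = D.a ^ (i + s * D.r ^ j) * D.b ^ (j + t) := by
  calc (D.a ^ i * D.b ^ j) * (D.a ^ s * D.b ^ t)
      = D.a ^ i * (D.b ^ j * D.a ^ s) * D.b ^ t := by group
    _ = D.a ^ i * (D.a ^ (s * D.r ^ j) * D.b ^ j) * D.b ^ t := by rw [D.b_pow_mul_a_pow]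
    _ = D.a ^ (i + s * D.r ^ j) * D.b ^ (j + t) := by rw [pow_add, pow_add]; group

theorem pow_formula (i j t : ℕ) :
    (D.a ^ i * D.b ^ j) ^ t = D.a ^ (i * ∑ x ∈ range t, (D.r ^ j) ^ x) * D.b ^ (j * t) := by
  induction t with
  | zero => simp
  | succ t ih =>
    rw [pow_succ, ih, D.mul_formula, Finset.sum_range_succ, mul_add, mul_add, mul_one,
      ← pow_mul]

/-- The commutator of `x = a^u b^v` and `g = a^i b^j` as a power of `a`. -/
theorem comm_formula (u v i j : ℕ) :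
    (D.a ^ u * D.b ^ v) * (D.a ^ i * D.b ^ j) * (D.a ^ u * D.b ^ v)⁻¹ * (D.a ^ i * D.b ^ j)⁻¹
      = D.a ^ (((u + i * D.r ^ v : ℕ) : ℤ) - ((i + u * D.r ^ j : ℕ) : ℤ)) := by
  have h1 := D.mul_formula u v i j
  have h2 := D.mul_formula i j u v
  calc (D.a ^ u * D.b ^ v) * (D.a ^ i * D.b ^ j) * (D.a ^ u * D.b ^ v)⁻¹ * (D.a ^ i * D.b ^ j)⁻¹
      = ((D.a ^ u * D.b ^ v) * (D.a ^ i * D.b ^ j)) *
          ((D.a ^ i * D.b ^ j) * (D.a ^ u * D.b ^ v))⁻¹ := by group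
    _ = D.a ^ (u + i * D.r ^ v) * D.b ^ (v + j) * (D.a ^ (i + u * D.r ^ j) * D.b ^ (j + v))⁻¹ := by
        rw [h1, h2]
    _ = D.a ^ (u + i * D.r ^ v) * (D.a ^ (i + u * D.r ^ j))⁻¹ := by
        rw [add_comm j v]; group
    _ = _ := by rw [zpow_sub, zpow_natCast, zpow_natCast]

theorem r_pos [Fact p.Prime] : 1 ≤ D.r := by
  by_contra h
  have h0 : D.r = 0 := by omega
  have := D.hr
  rw [h0] at this
  have hp : (p : ℤ) ∣ 1 := by simpa using this
  exact (Nat.prime_iff_prime_int.mp (Fact.out : p.Prime)).not_dvd_one hp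

theorem r_cast [Fact p.Prime] : ((D.r - 1 : ℕ) : ℤ) = (D.r : ℤ) - 1 := by
  have := D.r_pos
  push_cast [this]; ring

/-- Conjugation by `a^i b^j` on powers of `a`. -/
theorem conj_a_pow (i j d : ℕ) :
    (D.a ^ i * D.b ^ j) * D.a ^ d * (D.a ^ i * D.b ^ j)⁻¹ = D.a ^ (d * D.r ^ j) := by
  calc (D.a ^ i * D.b ^ j) * D.a ^ d * (D.a ^ i * D.b ^ j)⁻¹
      = D.a ^ i * (D.b ^ j * D.a ^ d) * (D.b ^ j)⁻¹ * (D.a ^ i)⁻¹ := by group
    _ = D.a ^ i * (D.a ^ (d * D.r ^ j) * D.b ^ j) * (D.b ^ j)⁻¹ * (D.a ^ i)⁻¹ := by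
        rw [D.b_pow_mul_a_pow]
    _ = D.a ^ i * D.a ^ (d * D.r ^ j) * (D.a ^ i)⁻¹ := by group
    _ = D.a ^ (d * D.r ^ j) := by
        rw [← pow_add, add_comm, pow_add]; group

instance normal_zpowers_a_pow (d : ℕ) : (Subgroup.zpowers (D.a ^ d)).Normal := by
  refine ⟨?_⟩
  intro x hx g
  obtain ⟨z, rfl⟩ := Subgroup.mem_zpowers_iff.mp hx
  obtain ⟨i, j, rfl⟩ := D.hgen g
  have : (D.a ^ i * D.b ^ j) * (D.a ^ d) ^ z * (D.a ^ i * D.b ^ j)⁻¹
      = ((D.a ^ i * D.b ^ j) * D.a ^ d * (D.a ^ i * D.b ^ j)⁻¹) ^ z := by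
    rw [conj_zpow]
  rw [this, D.conj_a_pow, pow_mul]
  exact Subgroup.zpow_mem _ (Subgroup.pow_mem _ (Subgroup.mem_zpowers _) _) _

end MetaDatum


theorem index_centralizer_le_card {G : Type*} [Group G] [Finite G] (g : G) (M : Subgroup G)
    (h : ∀ x : G, x * g * x⁻¹ * g⁻¹ ∈ M) :
    (Subgroup.centralizer ({g} : Set G)).index ≤ Nat.card M := by
  classical
  rw [Subgroup.index]
  let f : G ⧸ Subgroup.centralizer ({g} : Set G) → M :=
    fun q => ⟨q.out * g * q.out⁻¹ * g⁻¹, h _⟩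
  apply Nat.card_le_card_of_injective f
  intro q q' hqq
  have h1 : q.out * g * q.out⁻¹ * g⁻¹ = q'.out * g * q'.out⁻¹ * g⁻¹ := congrArg Subtype.val hqq
  have h2 : q.out * g * q.out⁻¹ = q'.out * g * q'.out⁻¹ := mul_right_cancel h1
  rw [← QuotientGroup.out_eq' q, ← QuotientGroup.out_eq' q', QuotientGroup.eq]
  rw [Subgroup.mem_centralizer_iff]
  intro y hy
  rw [Set.mem_singleton_iff] at hy; subst hy
  calc y * (q.out⁻¹ * q'.out) = q.out⁻¹ * (q.out * y * q.out⁻¹) * q'.out := by group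
    _ = q.out⁻¹ * (q'.out * y * q'.out⁻¹) * q'.out := by rw [h2]
    _ = q.out⁻¹ * q'.out * y := by group

theorem pow_mem_of_index_le {G : Type*} [Group G] [Finite G] {p : ℕ} [Fact p.Prime]
    (hG : IsPGroup p G) (H : Subgroup G) (e : ℕ) (h : H.index ≤ p ^ e) (x : G) :
    x ^ (p ^ e) ∈ H := by
  have hp : p.Prime := Fact.out
  set K := Subgroup.zpowers x with hK
  have hrel : H.relIndex K ≤ H.index := by
    have := Subgroup.relIndex_le_of_le_right (le_top : K ≤ ⊤) (H := H)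
      (by rw [Subgroup.relIndex_top_right]; exact Subgroup.index_ne_zero_of_finite)
    rwa [Subgroup.relIndex_top_right] at this
  obtain ⟨k, hk⟩ := (IsPGroup.iff_orderOf.mp hG) x
  have hdvd : H.relIndex K ∣ p ^ k := by
    rw [← hk, ← Nat.card_zpowers]
    exact Subgroup.relIndex_dvd_card H K
  obtain ⟨f, hf, hfe⟩ := (Nat.dvd_prime_pow hp).mp hdvd
  have hfe' : f ≤ e := by
    have : p ^ f ≤ p ^ e := by rw [← hfe]; exact hrel.trans h
    exact (Nat.pow_le_pow_iff_right hp.one_lt).mp this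
  have : (H.subgroupOf K).Normal := by
    refine ⟨?_⟩
    intro n hn g
    have : g * n * g⁻¹ = n := by
      obtain ⟨i, hi⟩ := Subgroup.mem_zpowers_iff.mp g.2
      obtain ⟨j, hj⟩ := Subgroup.mem_zpowers_iff.mp n.2
      apply Subtype.ext
      simp only [Subgroup.coe_mul, Subgroup.coe_inv]
      rw [← hi, ← hj]; group
    rw [this]; exact hn
  have hmem := Subgroup.pow_index_mem (H.subgroupOf K) (⟨x, Subgroup.mem_zpowers x⟩ : K)
  rw [Subgroup.mem_subgroupOf] at hmem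
  have hmem' : x ^ (H.relIndex K) ∈ H := by
    simpa [Subgroup.relIndex] using hmem
  rw [hfe] at hmem'
  have : x ^ p ^ e = (x ^ p ^ f) ^ (p ^ (e - f)) := by
    rw [← pow_mul, ← pow_add, Nat.add_sub_cancel' hfe']
  rw [this]
  exact H.pow_mem hmem' _

namespace MetaDatum

variable {G : Type*} [Group G] {p : ℕ} (D : MetaDatum G p)

/-- The basic commutator `b a b⁻¹ a⁻¹ = a ^ (r - 1)`. -/
def c : G := D.a ^ (D.r - 1)

theorem commute_b_pow_a_pow [Finite G] [Fact p.Prime] (hp2 : p ≠ 2) (hG : IsPGroup p G)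
    (t i : ℕ) : Commute (D.b ^ t) (D.a ^ i) ↔ orderOf D.c ∣ i * t := by
  have hp : p.Prime := Fact.out
  obtain ⟨m, hm⟩ := (IsPGroup.iff_orderOf.mp hG) D.a
  have h1 : Commute (D.b ^ t) (D.a ^ i) ↔ D.a ^ (i * D.r ^ t) = D.a ^ i := by
    unfold Commute SemiconjBy
    rw [D.b_pow_mul_a_pow]
    exact mul_left_inj _
  have h2 : orderOf D.c ∣ i * t ↔ p ^ m ∣ (D.r - 1) * (i * t) := by
    rw [orderOf_dvd_iff_pow_eq_one, ← hm, orderOf_dvd_iff_pow_eq_one]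
    unfold c; rw [← pow_mul]
  rw [h1, h2, pow_eq_pow_iff_modEq, hm, Nat.ModEq.comm, Nat.modEq_iff_dvd,
    ← Int.natCast_dvd_natCast]
  have e1 : ((i * D.r ^ t : ℕ) : ℤ) - (i : ℤ) = (i : ℤ) * ((D.r : ℤ) ^ t - 1) := by
    push_cast; ring
  have e2 : (((D.r - 1) * (i * t) : ℕ) : ℤ) = (i : ℤ) * (((D.r : ℤ) - 1) * t) := by
    rw [Nat.cast_mul, D.r_cast]; push_cast; ring
  rw [e1, e2]
  push_cast
  exact lte_dvd hp hp2 D.hr _ _ _

end MetaDatum


namespace MetaDatum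

variable {G : Type*} [Group G] {p : ℕ} (D : MetaDatum G p)

/-- The subgroup generated by `a^(p^s)` and `b^(p^s)`. -/
def U (s : ℕ) : Subgroup G :=
  Subgroup.zpowers (D.a ^ p ^ s) ⊔ Subgroup.zpowers (D.b ^ p ^ s)

theorem mem_zpowers_pow_iff [Finite G] (x : G) (d : ℕ) (g : G) :
    g ∈ Subgroup.zpowers (x ^ d) ↔ ∃ i : ℕ, g = x ^ (d * i) := by
  rw [← (isOfFinOrder_of_finite (x ^ d)).mem_powers_iff_mem_zpowers, Submonoid.mem_powers_iff]
  constructor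
  · rintro ⟨i, rfl⟩; exact ⟨i, by rw [pow_mul]⟩
  · rintro ⟨i, rfl⟩; exact ⟨i, by rw [pow_mul]⟩

theorem mem_U [Finite G] (s : ℕ) (g : G) :
    g ∈ D.U s ↔ ∃ i j : ℕ, g = D.a ^ (p ^ s * i) * D.b ^ (p ^ s * j) := by
  unfold U
  rw [Subgroup.mem_sup_of_normal_left]
  constructor
  · rintro ⟨y, hy, z, hz, rfl⟩
    obtain ⟨i, rfl⟩ := (mem_zpowers_pow_iff _ _ _).mp hy
    obtain ⟨j, rfl⟩ := (mem_zpowers_pow_iff _ _ _).mp hz
    exact ⟨i, j, rfl⟩
  · rintro ⟨i, j, rfl⟩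
    exact ⟨_, (mem_zpowers_pow_iff _ _ _).mpr ⟨i, rfl⟩, _, (mem_zpowers_pow_iff _ _ _).mpr ⟨j, rfl⟩, rfl⟩

theorem U_zero [Finite G] : D.U 0 = ⊤ := by
  rw [eq_top_iff]
  intro g _
  rw [mem_U]
  obtain ⟨i, j, rfl⟩ := D.hgen g
  exact ⟨i, j, by simp⟩

/-- Elements of `U s` have conjugacy classes of size at most `p^(n-s)`. -/
theorem index_centralizer_le_of_mem_U [Finite G] [Fact p.Prime] (hp2 : p ≠ 2)
    {n : ℕ} (hn : orderOf D.c = p ^ n) {s : ℕ} (hs : s ≤ n) {g : G} (hg : g ∈ D.U s) :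
    (Subgroup.centralizer ({g} : Set G)).index ≤ p ^ (n - s) := by
  have hp : p.Prime := Fact.out
  have hcard : Nat.card (Subgroup.zpowers (D.c ^ p ^ s)) = p ^ (n - s) := by
    rw [Nat.card_zpowers, orderOf_pow, hn, Nat.gcd_eq_right (pow_dvd_pow p hs),
      Nat.pow_div hs hp.pos]
  rw [← hcard]
  apply index_centralizer_le_card
  intro x
  obtain ⟨i, j, rfl⟩ := (D.mem_U s g).mp hg
  obtain ⟨u, v, rfl⟩ := D.hgen x
  rw [D.comm_formula]
  have hdvd : (((D.r - 1) * p ^ s : ℕ) : ℤ) ∣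
      ((u + p ^ s * i * D.r ^ v : ℕ) : ℤ) - ((p ^ s * i + u * D.r ^ (p ^ s * j) : ℕ) : ℤ) := by
    have e : ((u + p ^ s * i * D.r ^ v : ℕ) : ℤ) - ((p ^ s * i + u * D.r ^ (p ^ s * j) : ℕ) : ℤ)
        = (p : ℤ) ^ s * i * ((D.r : ℤ) ^ v - 1) - u * ((D.r : ℤ) ^ (p ^ s * j) - 1) := by
      push_cast; ring
    rw [e, Nat.cast_mul, D.r_cast]
    apply dvd_sub
    · obtain ⟨q, hq⟩ := sub_one_dvd_pow_sub_one (D.r : ℤ) v
      rw [hq]
      exact ⟨i * q, by push_cast; ring⟩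
    · have h1 : (p : ℤ) ^ s ∣ 1 * ∑ x ∈ range (p ^ s * j), (D.r : ℤ) ^ x := by
        rw [geom_dvd hp hp2 D.hr]
        exact ⟨j, by push_cast; ring⟩
      obtain ⟨q, hq⟩ := h1
      rw [← mul_geom_sum, one_mul] at *
      rw [hq]
      exact ⟨u * q, by push_cast; ring⟩
  obtain ⟨q, hq⟩ := hdvd
  rw [hq, zpow_mul, zpow_natCast]
  unfold c
  rw [← pow_mul]
  exact Subgroup.zpow_mem _ (Subgroup.mem_zpowers _) _

/-- If the class of `a^i b^j` has at most `p^(n-s)` elements then `p^s` divides `i` and `j`. -/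
theorem dvd_of_index_centralizer_le [Finite G] [Fact p.Prime] (hp2 : p ≠ 2) (hG : IsPGroup p G)
    {n : ℕ} (hn : orderOf D.c = p ^ n) {s : ℕ} (hs : s ≤ n) (i j : ℕ)
    (h : (Subgroup.centralizer ({D.a ^ i * D.b ^ j} : Set G)).index ≤ p ^ (n - s)) :
    p ^ s ∣ i ∧ p ^ s ∣ j := by
  have hp : p.Prime := Fact.out
  have hmem := pow_mem_of_index_le hG _ _ h
  have hcomm : ∀ x : G, Commute (x ^ p ^ (n - s)) (D.a ^ i * D.b ^ j) := by
    intro x
    have := hmem x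
    rw [Subgroup.mem_centralizer_iff] at this
    exact (this _ rfl).symm
  have hpn : p ^ n = p ^ s * p ^ (n - s) := by rw [← pow_add, Nat.add_sub_cancel' hs]
  constructor
  · have h1 : Commute (D.b ^ p ^ (n - s)) (D.a ^ i) := by
      have h2 : Commute (D.b ^ p ^ (n - s)) (D.b ^ j) := (Commute.refl D.b).pow_pow _ _
      have h3 := (hcomm D.b).mul_right h2.inv_right
      simpa using h3
    rw [D.commute_b_pow_a_pow hp2 hG, hn, hpn] at h1
    exact Nat.dvd_of_mul_dvd_mul_right (pow_pos hp.pos _) h1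
  · have h1 : Commute (D.a ^ p ^ (n - s)) (D.b ^ j) := by
      have h2 : Commute (D.a ^ p ^ (n - s)) (D.a ^ i) := (Commute.refl D.a).pow_pow _ _
      have h3 := h2.inv_right.mul_right (hcomm D.a)
      simpa using h3
    have h1' := h1.symm
    rw [D.commute_b_pow_a_pow hp2 hG, hn, hpn, mul_comm (p ^ (n - s)) j] at h1'
    exact Nat.dvd_of_mul_dvd_mul_right (pow_pos hp.pos _) h1'

theorem mem_U_iff_index [Finite G] [Fact p.Prime] (hp2 : p ≠ 2) (hG : IsPGroup p G)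
    {n : ℕ} (hn : orderOf D.c = p ^ n) {s : ℕ} (hs : s ≤ n) (g : G) :
    g ∈ D.U s ↔ (Subgroup.centralizer ({g} : Set G)).index ≤ p ^ (n - s) := by
  constructor
  · exact D.index_centralizer_le_of_mem_U hp2 hn hs
  · intro h
    obtain ⟨i, j, rfl⟩ := D.hgen g
    obtain ⟨⟨i', rfl⟩, ⟨j', rfl⟩⟩ := D.dvd_of_index_centralizer_le hp2 hG hn hs i j h
    exact (D.mem_U s _).mpr ⟨i', j', rfl⟩

theorem mem_U_iff_dvd [Finite G] [Fact p.Prime] (hp2 : p ≠ 2) (hG : IsPGroup p G)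
    {n : ℕ} (hn : orderOf D.c = p ^ n) {s : ℕ} (hs : s ≤ n) (i j : ℕ) :
    D.a ^ i * D.b ^ j ∈ D.U s ↔ p ^ s ∣ i ∧ p ^ s ∣ j := by
  constructor
  · intro h
    exact D.dvd_of_index_centralizer_le hp2 hG hn hs i j
      (D.index_centralizer_le_of_mem_U hp2 hn hs h)
  · rintro ⟨⟨i', rfl⟩, ⟨j', rfl⟩⟩
    exact (D.mem_U s _).mpr ⟨i', j', rfl⟩

theorem U_eq_center [Finite G] [Fact p.Prime] (hp2 : p ≠ 2) (hG : IsPGroup p G)
    {n : ℕ} (hn : orderOf D.c = p ^ n) : D.U n = Subgroup.center G := by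
  ext g
  rw [D.mem_U_iff_index hp2 hG hn le_rfl, Nat.sub_self, pow_zero]
  have h1 : (Subgroup.centralizer ({g} : Set G)).index ≤ 1 ↔
      (Subgroup.centralizer ({g} : Set G)).index = 1 := by
    have : (Subgroup.centralizer ({g} : Set G)).index ≠ 0 := Subgroup.index_ne_zero_of_finite
    omega
  rw [h1, Subgroup.index_eq_one, Subgroup.centralizer_eq_top_iff_subset, Set.singleton_subset_iff]
  rfl

end MetaDatum


namespace MetaDatum

variable {G : Type*} [Group G] {p : ℕ} (D : MetaDatum G p)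

theorem commutator_eq [Fact p.Prime] : commutator G = Subgroup.zpowers D.c := by
  apply le_antisymm
  · rw [commutator_def, Subgroup.commutator_le]
    intro x _ g _
    obtain ⟨i, j, rfl⟩ := D.hgen g
    obtain ⟨u, v, rfl⟩ := D.hgen x
    rw [commutatorElement_def, D.comm_formula]
    have hdvd : ((D.r - 1 : ℕ) : ℤ) ∣
        ((u + i * D.r ^ v : ℕ) : ℤ) - ((i + u * D.r ^ j : ℕ) : ℤ) := by
      have e : ((u + i * D.r ^ v : ℕ) : ℤ) - ((i + u * D.r ^ j : ℕ) : ℤ)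
          = i * ((D.r : ℤ) ^ v - 1) - u * ((D.r : ℤ) ^ j - 1) := by
        push_cast; ring
      rw [e, D.r_cast]
      exact dvd_sub (Dvd.dvd.mul_left (sub_one_dvd_pow_sub_one _ _) _)
        (Dvd.dvd.mul_left (sub_one_dvd_pow_sub_one _ _) _)
    obtain ⟨q, hq⟩ := hdvd
    rw [hq, zpow_mul, zpow_natCast]
    exact Subgroup.zpow_mem _ (Subgroup.mem_zpowers _) _
  · rw [Subgroup.zpowers_le, commutator_def]
    have h : D.c = ⁅D.b, D.a⁆ := by
      rw [commutatorElement_def, D.hconj]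
      unfold c
      have := D.r_pos
      calc D.a ^ (D.r - 1) = D.a ^ (D.r - 1) * D.a * D.a⁻¹ := by group
        _ = D.a ^ D.r * D.a⁻¹ := by rw [← pow_succ, Nat.sub_add_cancel this]
    rw [h]
    exact Subgroup.commutator_mem_commutator (Subgroup.mem_top _) (Subgroup.mem_top _)

theorem card_commutator [Fact p.Prime] : Nat.card (commutator G) = orderOf D.c := by
  rw [D.commutator_eq, Nat.card_zpowers]

theorem card_eq_card_U_mul [Finite G] [Fact p.Prime] (hp2 : p ≠ 2) (hG : IsPGroup p G)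
    {n : ℕ} (hn : orderOf D.c = p ^ n) {s : ℕ} (hs : s ≤ n) :
    Nat.card G = Nat.card (D.U s) * p ^ (2 * s) := by
  have hp : p.Prime := Fact.out
  obtain ⟨m, hm⟩ := (IsPGroup.iff_orderOf.mp hG) D.a
  obtain ⟨β, hβ⟩ := (IsPGroup.iff_orderOf.mp hG) D.b
  have hnm : n ≤ m := by
    have : orderOf D.c ∣ orderOf D.a := orderOf_pow_dvd _
    rw [hn, hm] at this
    exact (Nat.pow_dvd_pow_iff_le_right hp.one_lt).mp this
  have hnβ : n ≤ β := by
    have h1 : Commute (D.b ^ p ^ β) (D.a ^ 1) := by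
      rw [← hβ, pow_orderOf_eq_one]; exact Commute.one_left _
    rw [D.commute_b_pow_a_pow hp2 hG, hn, one_mul] at h1
    exact (Nat.pow_dvd_pow_iff_le_right hp.one_lt).mp h1
  have hI : Subgroup.zpowers (D.b ^ p ^ s) ⊓ Subgroup.zpowers (D.a ^ p ^ s) =
      Subgroup.zpowers (D.b ^ p ^ 0) ⊓ Subgroup.zpowers (D.a ^ p ^ 0) := by
    apply le_antisymm
    · apply inf_le_inf
      · rw [Subgroup.zpowers_le, pow_zero, pow_one]
        exact Subgroup.pow_mem _ (Subgroup.mem_zpowers _) _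
      · rw [Subgroup.zpowers_le, pow_zero, pow_one]
        exact Subgroup.pow_mem _ (Subgroup.mem_zpowers _) _
    · rintro x ⟨hxb, hxa⟩
      obtain ⟨j, hj⟩ := (mem_zpowers_pow_iff _ _ _).mp hxb
      obtain ⟨i, hi⟩ := (mem_zpowers_pow_iff _ _ _).mp hxa
      rw [pow_zero, one_mul] at hj hi
      have h1 : Commute (D.b ^ 1) (D.a ^ i) := by
        rw [← hi, hj]; exact (Commute.refl D.b).pow_pow _ _
      rw [D.commute_b_pow_a_pow hp2 hG, hn, mul_one] at h1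
      have h2 : Commute (D.b ^ j) (D.a ^ 1) := by
        rw [← hj, hi]; exact (Commute.refl D.a).pow_pow _ _
      rw [D.commute_b_pow_a_pow hp2 hG, hn, one_mul] at h2
      obtain ⟨i', rfl⟩ := (pow_dvd_pow p hs).trans h1
      obtain ⟨j', rfl⟩ := (pow_dvd_pow p hs).trans h2
      exact ⟨(mem_zpowers_pow_iff _ _ _).mpr ⟨j', hj⟩, (mem_zpowers_pow_iff _ _ _).mpr ⟨i', hi⟩⟩
  have hA : Nat.card (Subgroup.zpowers (D.a ^ p ^ 0)) =
      Nat.card (Subgroup.zpowers (D.a ^ p ^ s)) * p ^ s := by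
    rw [Nat.card_zpowers, Nat.card_zpowers, pow_zero, pow_one, orderOf_pow, hm,
      Nat.gcd_eq_right (pow_dvd_pow p (hs.trans hnm)),
      Nat.div_mul_cancel (pow_dvd_pow p (hs.trans hnm))]
  have hB : Nat.card (Subgroup.zpowers (D.b ^ p ^ 0)) =
      Nat.card (Subgroup.zpowers (D.b ^ p ^ s)) * p ^ s := by
    rw [Nat.card_zpowers, Nat.card_zpowers, pow_zero, pow_one, orderOf_pow, hβ,
      Nat.gcd_eq_right (pow_dvd_pow p (hs.trans hnβ)),
      Nat.div_mul_cancel (pow_dvd_pow p (hs.trans hnβ))]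
  have k0 := card_sup_mul_card_inf (Subgroup.zpowers (D.b ^ p ^ 0)) (Subgroup.zpowers (D.a ^ p ^ 0))
  have ks := card_sup_mul_card_inf (Subgroup.zpowers (D.b ^ p ^ s)) (Subgroup.zpowers (D.a ^ p ^ s))
  have hU0 : Subgroup.zpowers (D.b ^ p ^ 0) ⊔ Subgroup.zpowers (D.a ^ p ^ 0) = ⊤ := by
    rw [sup_comm]; exact D.U_zero
  have hUs : Subgroup.zpowers (D.b ^ p ^ s) ⊔ Subgroup.zpowers (D.a ^ p ^ s) = D.U s := by
    rw [sup_comm]; rfl
  rw [hU0, Subgroup.card_top, hA, hB] at k0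
  rw [hUs, hI] at ks
  have hpos : 0 < Nat.card ↥(Subgroup.zpowers (D.b ^ p ^ 0) ⊓ Subgroup.zpowers (D.a ^ p ^ 0)) :=
    Nat.card_pos
  apply Nat.eq_of_mul_eq_mul_right hpos
  rw [k0, mul_right_comm (Nat.card ↥(D.U s)), ks]
  ring

theorem card_U [Finite G] [Fact p.Prime] (hp2 : p ≠ 2) (hG : IsPGroup p G)
    {n : ℕ} (hn : orderOf D.c = p ^ n) {s : ℕ} (hs : s ≤ n) :
    Nat.card (D.U s) = Nat.card (Subgroup.center G) * p ^ (2 * (n - s)) := by
  have hp : p.Prime := Fact.out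
  have h1 := D.card_eq_card_U_mul hp2 hG hn hs
  have h2 := D.card_eq_card_U_mul hp2 hG hn le_rfl
  rw [D.U_eq_center hp2 hG hn] at h2
  have h3 : p ^ (2 * n) = p ^ (2 * (n - s)) * p ^ (2 * s) := by
    rw [← pow_add, ← mul_add, Nat.sub_add_cancel hs]
  rw [h2, h3, ← mul_assoc] at h1
  exact (Nat.eq_of_mul_eq_mul_right (pow_pos hp.pos _) h1).symm

end MetaDatum

/-- A finite metacyclic `p`-group has metacyclic coordinates. -/
theorem exists_metaDatum {G : Type*} [Group G] [Finite G] {p : ℕ} [Fact p.Prime]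
    (hG : IsPGroup p G)
    (hmc : ∃ (N : Subgroup G) (_ : N.Normal), IsCyclic N ∧ IsCyclic (G ⧸ N)) :
    Nonempty (MetaDatum G p) := by
  have hp : p.Prime := Fact.out
  obtain ⟨N, hN, hNc, hQc⟩ := hmc
  obtain ⟨⟨a, haN⟩, ha⟩ := hNc.exists_generator
  obtain ⟨q, hq⟩ := hQc.exists_generator
  obtain ⟨b, rfl⟩ := QuotientGroup.mk_surjective q
  have hNa : ∀ x ∈ N, ∃ i : ℕ, x = a ^ i := by
    intro x hx
    have h1 := ha ⟨x, hx⟩
    rw [← (isOfFinOrder_of_finite _).mem_powers_iff_mem_zpowers, Submonoid.mem_powers_iff] at h1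
    obtain ⟨i, hi⟩ := h1
    exact ⟨i, by simpa using (congrArg Subtype.val hi).symm⟩
  have hgen : ∀ g : G, ∃ i j : ℕ, g = a ^ i * b ^ j := by
    intro g
    have h1 := hq (g : G ⧸ N)
    rw [← (isOfFinOrder_of_finite _).mem_powers_iff_mem_zpowers, Submonoid.mem_powers_iff] at h1
    obtain ⟨j, hj⟩ := h1
    have h2 : (b ^ j)⁻¹ * g ∈ N := by
      rw [← QuotientGroup.eq]; exact hj
    have h3 : g * (b ^ j)⁻¹ ∈ N := by
      have := hN.conj_mem _ h2 (b ^ j)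
      have e : b ^ j * ((b ^ j)⁻¹ * g) * (b ^ j)⁻¹ = g * (b ^ j)⁻¹ := by group
      rwa [e] at this
    obtain ⟨i, hi⟩ := hNa _ h3
    exact ⟨i, j, by rw [← hi]; group⟩
  obtain ⟨r₀, hr₀⟩ := hNa _ (hN.conj_mem a haN b)
  by_cases ha1 : a = 1
  · refine ⟨⟨a, b, 1, by simp, by rw [ha1]; simp, hgen⟩⟩
  · refine ⟨⟨a, b, r₀, ?_, hr₀, hgen⟩⟩
    obtain ⟨m, hm⟩ := (IsPGroup.iff_orderOf.mp hG) a
    obtain ⟨β, hβ⟩ := (IsPGroup.iff_orderOf.mp hG) b
    have hm0 : m ≠ 0 := by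
      intro h
      rw [h, pow_zero, orderOf_eq_one_iff] at hm
      exact ha1 hm
    have h1 := pow_mul_pow_of_conj hr₀ 1 (p ^ β)
    rw [← hβ, pow_orderOf_eq_one, one_mul, mul_one, one_mul, hβ, pow_eq_pow_iff_modEq, hm] at h1
    have h2 : (1 : ℕ) ≡ r₀ ^ p ^ β [MOD p] :=
      h1.of_dvd (dvd_pow_self p hm0)
    have h3 : ((r₀ : ZMod p)) = 1 := by
      have := (ZMod.natCast_eq_natCast_iff _ _ _).mpr h2
      push_cast at this
      rw [ZMod.pow_card_pow] at this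
      exact this.symm
    have h4 : (((r₀ : ℤ) - 1 : ℤ) : ZMod p) = 0 := by
      push_cast; rw [h3]; ring
    exact (ZMod.intCast_zmod_eq_zero_iff_dvd _ _).mp h4

end Cfsg.Agent.Lib.Helper64
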