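import Mathlib
import Cfsg.Prelude.Def_OddOrderLocal
import Cfsg.Agent.Lib.Helper32.BG142Defs
import Cfsg.Agent.Lib.Helper63.BG13b
import Cfsg.Agent.Lib.Helper23.BadTau2A0
import Cfsg.Agent.Lib.Helper96.BG127
import Cfsg.Agent.Lib.Helper33.SylowSub
import Cfsg.Agent.Lib.Helper24.SylowInv
import Cfsg.Agent.Lib.Helper24.BG121
import Cfsg.Agent.S1418
import Cfsg.Agent.S1428

/-!
# BG Theorem 14.2 (S1430), Case I leaves I1, I3, I3b of `tools/helper32/BG142Skel.lean.txt`

* `comm_of_kappa_tau1` (I1): a Hall `κ(M)`-subgroup is abelian when `κ(M) ⊆ τ₁(M)`.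
* `compl_inf_normalizer_eq` (I3): `N_E(X) = K` for `X ≤ K` of prime order.
* `compl_inf_normalizer_self` (I3b): `N_E(K) = K`.
-/

set_option autoImplicit false
set_option linter.style.haveILetI false
set_option linter.unusedSectionVars false
set_option linter.unusedVariables false

namespace Cfsg.Agent.Lib.Helper32.BG142

open Subgroup Cfsg Cfsg.Agent.Lib.Helper33

universe u

variable {G : Type u} [Group G] [Finite G]

/-! ### auxiliary lemmas -/

/-- A `p`-subgroup of `M`, `p ∈ κ(M)`, is cyclic. -/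
theorem compl_inf_normalizer_eq_isCyclic {M D : Subgroup G} {p : ℕ} (hp : p ∈ kappa M)
    (hD : IsPGroup p D) (hDM : D ≤ M) : IsCyclic ↥D := by
  haveI : Fact p.Prime := ⟨hp.1⟩
  have hD' : IsPGroup p ↥(D.subgroupOf M) := hD.comap_of_injective M.subtype M.subtype_injective
  obtain ⟨P, hP⟩ := IsPGroup.exists_le_sylow hD'
  haveI hPc : IsCyclic ↥(P : Subgroup ↥M) := (hp.2.2.2 P).1
  have h1 : IsCyclic ↥(D.subgroupOf M) :=
    isCyclic_of_injective (Subgroup.inclusion hP) (Subgroup.inclusion_injective hP)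
  haveI := h1
  exact isCyclic_of_surjective (Subgroup.subgroupOfEquivOfLe hDM) (MulEquiv.surjective _)

/-- A subgroup of order `p ∈ κ(M)` of `M` is nonregular on `M_σ` (leaf G2, local copy). -/
theorem compl_inf_normalizer_eq_cent_ne_bot {M X : Subgroup G} {p : ℕ} (hp : p ∈ kappa M)
    (hXM : X ≤ M) (hX : Nat.card X = p) : sigmaCore M ⊓ centralizer (X : Set G) ≠ ⊥ := by
  haveI hpF : Fact p.Prime := ⟨hp.1⟩
  have hXp : IsPGroup p X := IsPGroup.of_card (n := 1) (by rw [hX, pow_one])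
  have hX' : IsPGroup p ↥(X.subgroupOf M) := hXp.comap_of_injective M.subtype M.subtype_injective
  obtain ⟨P, hP⟩ := IsPGroup.exists_le_sylow hX'
  obtain ⟨-, x, hxP, hx1, y, hyW, hy1, hxy⟩ := hp.2.2.2 P
  set D : Subgroup G := (P : Subgroup ↥M).map M.subtype with hDdef
  have hDp : IsPGroup p D := (P.isPGroup').map _
  have hDM : D ≤ M := Subgroup.map_subtype_le _
  have hDc : IsCyclic ↥D := compl_inf_normalizer_eq_isCyclic hp hDp hDM
  have hXD : X ≤ D := by
    intro a ha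
    exact ⟨⟨a, hXM ha⟩, hP (by rw [Subgroup.mem_subgroupOf]; exact ha), rfl⟩
  have haD : (x : G) ∈ D := ⟨x, hxP, rfl⟩
  have ha1 : (x : G) ≠ 1 := fun h => hx1 (Subtype.ext h)
  -- an element of order `p` in `⟨x⟩`
  have hcardz : p ∣ Nat.card (zpowers (x : G)) := by
    have hzp : IsPGroup p (zpowers (x : G)) := hDp.to_le (by rw [zpowers_le]; exact haD)
    obtain ⟨k, hk⟩ := IsPGroup.iff_card.mp hzp
    rw [hk]
    rcases Nat.eq_zero_or_pos k with h0 | h0
    · exfalso
      rw [h0, pow_zero] at hk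
      have : zpowers (x : G) = ⊥ := Subgroup.card_eq_one.mp hk
      rw [Subgroup.zpowers_eq_bot] at this
      exact ha1 this
    · exact dvd_pow_self p h0.ne'
  obtain ⟨b, hb⟩ := exists_prime_orderOf_dvd_card' p hcardz
  have hbo : orderOf (b : G) = p := by rw [Subgroup.orderOf_coe]; exact hb
  have hBc : Nat.card (zpowers (b : G)) = p := by rw [Nat.card_zpowers, hbo]
  have hBD : zpowers (b : G) ≤ D := by
    rw [zpowers_le]
    exact (zpowers_le.mpr haD) b.2
  have hXB : X = zpowers (b : G) :=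
    Cfsg.Agent.Lib.Helper63.BG13.eq_of_card_prime_of_le_isCyclic hDc hX hBc hXD hBD
  -- `y` centralizes `⟨x⟩ ⊇ X`
  have hyc : y ∈ centralizer ((zpowers (x : G) : Subgroup G) : Set G) := by
    rw [mem_centralizer_iff]
    intro a ha
    obtain ⟨i, rfl⟩ := Subgroup.mem_zpowers_iff.mp ha
    exact (Commute.zpow_left (show Commute (x : G) y from hxy) i).eq
  have hyX : y ∈ centralizer (X : Set G) := by
    rw [hXB]
    exact Subgroup.centralizer_le (show ((zpowers (b : G) : Subgroup G) : Set G) ⊆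
      ((zpowers (x : G) : Subgroup G) : Set G) from (zpowers_le.mpr b.2)) hyc
  intro h
  have : y ∈ sigmaCore M ⊓ centralizer (X : Set G) := ⟨hyW, hyX⟩
  rw [h] at this
  exact hy1 (Subgroup.mem_bot.mp this)

/-- A rank-one prime `r ∉ σ(M)` with a nonregular subgroup of order `r` lies in `κ(M)`
(leaf G5, local copy). -/
theorem compl_inf_normalizer_eq_mem_kappa (hG : IsMinSimpleOddOrder G) {M R : Subgroup G}
    (hM : IsCoatom M) {r : ℕ} (hr : r ∈ tau1 M ∪ tau3 M) (hRM : R ≤ M) (hR : Nat.card R = r)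
    (hne : sigmaCore M ⊓ centralizer (R : Set G) ≠ ⊥) : r ∈ kappa M := by
  have hrp : r.Prime := by rcases hr with h | h <;> exact h.1
  have hrσ : r ∉ sigma M := by rcases hr with h | h <;> exact h.2.1
  have hr1 : PRankLE r 1 ↥M := by
    rcases hr with h | h
    · exact h.2.2.2.2
    · exact h.2.2.2
  haveI : Fact r.Prime := ⟨hrp⟩
  have hrM : r ∣ Nat.card M := by rw [← hR]; exact Subgroup.card_dvd_of_le hRM
  have hr2 : r ≠ 2 := Cfsg.Agent.Lib.Helper63.BG13.ne_two_of_dvd_card hG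
    (hrM.trans (Subgroup.card_subgroup_dvd_card M))
  have hRp : IsPGroup r R := IsPGroup.of_card (n := 1) (by rw [hR, pow_one])
  have hWn : M ≤ normalizer ((sigmaCore M : Subgroup G) : Set G) :=
    Cfsg.Agent.Lib.Helper24.BG.le_normalizer_sigmaCore M
  refine ⟨hrp, hrM, hrσ, fun P => ?_⟩
  obtain ⟨h1, h2, h3⟩ := Cfsg.Agent.Lib.Helper24.sylow_map_facts M P
  constructor
  · have hc0 : IsCyclic ↥((P : Subgroup ↥M).map M.subtype) :=
      Cfsg.Agent.Lib.Helper63.BG13.isCyclic_of_le_of_pRankLE_one hr2 h2 h1 hr1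
    haveI := hc0
    exact isCyclic_of_surjective
      ((Subgroup.equivMapOfInjective (P : Subgroup ↥M) M.subtype M.subtype_injective).symm)
      (MulEquiv.surjective _)
  · obtain ⟨c, hcM, hc⟩ := sylow_sub h1 h2 h3 hRM hRp
    obtain ⟨y, hy1⟩ := (Subgroup.ne_bot_iff_exists_ne_one).mp hne
    have hy1' : (y : G) ≠ 1 := fun h => hy1 (Subtype.ext h)
    have hyW : (y : G) ∈ sigmaCore M := y.2.1
    have hyC : (y : G) ∈ centralizer (R : Set G) := y.2.2
    have hRne : R ≠ ⊥ := by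
      intro h
      rw [h, Subgroup.card_bot] at hR
      exact hrp.one_lt.ne hR
    obtain ⟨g, hg1⟩ := (Subgroup.ne_bot_iff_exists_ne_one).mp hRne
    have hg1' : (g : G) ≠ 1 := fun h => hg1 (Subtype.ext h)
    have hxP : c * (g : G) * c⁻¹ ∈ (P : Subgroup ↥M).map M.subtype :=
      hc (conj_mem_cj g.2)
    obtain ⟨x', hx'P, hx'⟩ := hxP
    refine ⟨x', hx'P, ?_, c * (y : G) * c⁻¹, ?_, ?_, ?_⟩
    · intro h
      rw [h] at hx'
      have : c * (g : G) * c⁻¹ = 1 := by rw [← hx']; rfl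
      apply hg1'
      have h2 : (g : G) = c⁻¹ * (c * (g : G) * c⁻¹) * c := by group
      rw [h2, this]; group
    · exact (mem_normalizer_iff.mp (hWn hcM) (y : G)).mp hyW
    · intro h
      apply hy1'
      have h2 : (y : G) = c⁻¹ * (c * (y : G) * c⁻¹) * c := by group
      rw [h2, h]; group
    · have hcomm : (g : G) * (y : G) = (y : G) * (g : G) :=
        (mem_centralizer_iff.mp hyC (g : G) g.2)
      have hx'' : (x' : G) = c * (g : G) * c⁻¹ := hx'
      rw [hx'']
      calc c * (g : G) * c⁻¹ * (c * (y : G) * c⁻¹) = c * ((g : G) * (y : G)) * c⁻¹ := by group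
        _ = c * ((y : G) * (g : G)) * c⁻¹ := by rw [hcomm]
        _ = c * (y : G) * c⁻¹ * (c * (g : G) * c⁻¹) := by group

/-! ### the leaves -/

/-- LEAF I1: `K` is abelian. -/
theorem comm_of_kappa_tau1 {M K : Subgroup G} (hK : IsPiHallOf (kappa M) K M)
    (hκ : kappa M ⊆ tau1 M) : ∀ a ∈ K, ∀ b ∈ K, a * b = b * a := by
  intro a ha b hb
  by_contra hne
  have hzK : a * b * a⁻¹ * b⁻¹ ∈ K := K.mul_mem (K.mul_mem (K.mul_mem ha hb) (K.inv_mem ha)) (K.inv_mem hb)
  have hzD : a * b * a⁻¹ * b⁻¹ ∈ ⁅M, M⁆ := by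
    have := Subgroup.commutator_mem_commutator (hK.1 ha) (hK.1 hb)
    rwa [commutatorElement_def] at this
  have hz1 : a * b * a⁻¹ * b⁻¹ ≠ 1 := by
    intro h
    apply hne
    have h1 : a * b * a⁻¹ = b := mul_inv_eq_one.mp h
    exact mul_inv_eq_iff_eq_mul.mp h1
  have hord : orderOf (a * b * a⁻¹ * b⁻¹) ≠ 1 := fun h => hz1 (orderOf_eq_one_iff.mp h)
  obtain ⟨p, hp, hpz⟩ := Nat.exists_prime_and_dvd hord
  have hpK : p ∣ Nat.card K := by
    have h1 := orderOf_dvd_natCard (⟨a * b * a⁻¹ * b⁻¹, hzK⟩ : K)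
    rw [Subgroup.orderOf_mk] at h1
    exact hpz.trans h1
  have hpD : p ∣ Nat.card ↥⁅M, M⁆ := by
    have h1 := orderOf_dvd_natCard (⟨a * b * a⁻¹ * b⁻¹, hzD⟩ : ↥⁅M, M⁆)
    rw [Subgroup.orderOf_mk] at h1
    exact hpz.trans h1
  exact (hκ (hK.2.1 p hp hpK)).2.2.2.1 hpD

/-- LEAF I3 (= piece IV): `N_E(X) = K` for `X ≤ K` of prime order. -/
theorem compl_inf_normalizer_eq (hG : IsMinSimpleOddOrder G) (h1312 : Stmt1312 G)
    {M E K X : Subgroup G} (hM : IsCoatom M) (hE : IsComplIn E (sigmaCore M) M)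
    (hK : IsPiHallOf (kappa M) K M) (hKE : K ≤ E) (hκ : kappa M ⊆ tau1 M)
    (hXK : X ≤ K) (hX : (Nat.card X).Prime) : E ⊓ normalizer (X : Set G) = K := by
  have hpκ : Nat.card X ∈ kappa M := hK.2.1 _ hX (Subgroup.card_dvd_of_le hXK)
  have hp1 : Nat.card X ∈ tau1 M := hκ hpκ
  have hXE : X ≤ E := hXK.trans hKE
  have hEM : E ≤ M := hE.1
  have hXM : X ≤ M := hXE.trans hEM
  have hKc := comm_of_kappa_tau1 hK hκ
  have hXne : sigmaCore M ⊓ centralizer (X : Set G) ≠ ⊥ :=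
    compl_inf_normalizer_eq_cent_ne_bot hpκ hXM rfl
  -- (1) `N_E(X) ≤ C(X)`
  have hFC : E ⊓ normalizer (X : Set G) ≤ centralizer (X : Set G) := by
    intro n hn
    rw [mem_centralizer_iff]
    intro x hx
    by_contra hne
    have hnx : n * x * n⁻¹ ∈ X := (mem_normalizer_iff.mp hn.2 x).mp hx
    have hzX : n * x * n⁻¹ * x⁻¹ ∈ X := X.mul_mem hnx (X.inv_mem hx)
    have hzD : n * x * n⁻¹ * x⁻¹ ∈ ⁅M, M⁆ := by
      have := Subgroup.commutator_mem_commutator (hEM hn.1) (hXM hx)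
      rwa [commutatorElement_def] at this
    have hz1 : n * x * n⁻¹ * x⁻¹ ≠ 1 := by
      intro h
      apply hne
      have h1 : n * x * n⁻¹ = x := mul_inv_eq_one.mp h
      exact (mul_inv_eq_iff_eq_mul.mp h1).symm
    have ho : orderOf (n * x * n⁻¹ * x⁻¹) ∣ Nat.card X := by
      have h1 := orderOf_dvd_natCard (⟨n * x * n⁻¹ * x⁻¹, hzX⟩ : X)
      rwa [Subgroup.orderOf_mk] at h1
    have ho' : orderOf (n * x * n⁻¹ * x⁻¹) = Nat.card X := by
      rcases (Nat.dvd_prime hX).mp ho with h | h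
      · exact absurd (orderOf_eq_one_iff.mp h) hz1
      · exact h
    have hpD : Nat.card X ∣ Nat.card ↥⁅M, M⁆ := by
      have h1 := orderOf_dvd_natCard (⟨n * x * n⁻¹ * x⁻¹, hzD⟩ : ↥⁅M, M⁆)
      rw [Subgroup.orderOf_mk, ho'] at h1
      exact h1
    exact hp1.2.2.2.1 hpD
  -- (2) `K ≤ N_E(X)`
  have hKF : K ≤ E ⊓ normalizer (X : Set G) := by
    refine le_inf hKE ?_
    intro k hk
    apply Subgroup.centralizer_le_normalizer
    rw [mem_centralizer_iff]
    intro x hx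
    exact hKc x (hXK hx) k hk
  -- (3) `N_E(X)` is a `κ(M)`-group
  have hFκ : ∀ r : ℕ, r.Prime → r ∣ Nat.card ↥(E ⊓ normalizer (X : Set G)) → r ∈ kappa M := by
    intro r hr hrF
    haveI : Fact r.Prime := ⟨hr⟩
    obtain ⟨y, hy⟩ := exists_prime_orderOf_dvd_card' r hrF
    have hyo : orderOf (y : G) = r := by rw [Subgroup.orderOf_coe]; exact hy
    have hy1 : (y : G) ≠ 1 := by
      intro h
      rw [h, orderOf_one] at hyo
      exact hr.one_lt.ne hyo
    have hRc : Nat.card (zpowers (y : G)) = r := by rw [Nat.card_zpowers, hyo]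
    have hRF : zpowers (y : G) ≤ E ⊓ normalizer (X : Set G) := by
      rw [zpowers_le]; exact y.2
    have hRE : zpowers (y : G) ≤ E := hRF.trans inf_le_left
    have hRC : zpowers (y : G) ≤ centralizer (X : Set G) := hRF.trans hFC
    have hrE : r ∣ Nat.card E := by
      rw [← hRc]; exact Subgroup.card_dvd_of_le hRE
    rcases Cfsg.Agent.Lib.Helper23.Bad.mem_tau_of_dvd_card_compl hG hM hE hr hrE with h2 | h13
    · exfalso
      obtain ⟨A, hAE, hAe, hAc⟩ := Cfsg.Agent.Lib.Helper96.BG127.exists_elemAb_sq_le_compl hE h2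
      have hYA : zpowers (y : G) ≤ A :=
        (Cfsg.Agent.S1418.result hG M hM E hE r h2 A ⟨hAE, hAe, hAc⟩).1.2 (zpowers (y : G))
          hRE hRc
      have hne : A ⊓ centralizer (X : Set G) ≠ ⊥ := by
        intro h
        have : (y : G) ∈ A ⊓ centralizer (X : Set G) :=
          ⟨hYA (Subgroup.mem_zpowers _), hRC (Subgroup.mem_zpowers _)⟩
        rw [h] at this
        exact hy1 (Subgroup.mem_bot.mp this)
      exact hXne (h1312 M E hM hE _ hp1 X hXE rfl r h2 A hAE hAe hAc hne)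
    · have h28 := Cfsg.Agent.S1428.result hG M hM E hE _ hp1 X hXE rfl (zpowers (y : G))
        (le_inf hRE hRC) (by rw [hRc]; exact hr)
      have hne : sigmaCore M ⊓ centralizer ((zpowers (y : G) : Subgroup G) : Set G) ≠ ⊥ := by
        intro h
        apply hXne
        exact le_bot_iff.mp (h ▸ h28)
      exact compl_inf_normalizer_eq_mem_kappa hG hM h13 (hRE.trans hEM) hRc hne
  -- conclusion: Hall
  apply le_antisymm _ hKF
  rw [← Subgroup.relIndex_eq_one]
  by_contra hne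
  obtain ⟨r, hr, hrd⟩ := Nat.exists_prime_and_dvd hne
  have h1 : r ∣ Nat.card ↥(E ⊓ normalizer (X : Set G)) :=
    hrd.trans (Subgroup.relIndex_dvd_card _ _)
  have h2 : r ∣ K.relIndex M := by
    have := Subgroup.relIndex_mul_relIndex K (E ⊓ normalizer (X : Set G)) M hKF
      (inf_le_left.trans hEM)
    exact hrd.trans (Dvd.intro _ this)
  exact hK.2.2 r hr (hFκ r hr h1) h2

/-- LEAF I3b: `N_E(K) = K`. -/
theorem compl_inf_normalizer_self (hG : IsMinSimpleOddOrder G)
    {M E K : Subgroup G} (hM : IsCoatom M) (hE : IsComplIn E (sigmaCore M) M)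
    (hK : IsPiHallOf (kappa M) K M) (hKE : K ≤ E) (hK1 : K ≠ ⊥)
    (hKc : ∀ a ∈ K, ∀ b ∈ K, a * b = b * a)
    (hN : ∀ X : Subgroup G, X ≤ K → (Nat.card X).Prime → E ⊓ normalizer (X : Set G) = K) :
    E ⊓ normalizer (K : Set G) = K := by
  apply le_antisymm _ (le_inf hKE le_normalizer)
  -- a subgroup `X` of prime order of `K`
  have hcard : Nat.card K ≠ 1 := fun h => hK1 (Subgroup.card_eq_one.mp h)
  obtain ⟨p, hp, hpK⟩ := Nat.exists_prime_and_dvd hcard
  haveI : Fact p.Prime := ⟨hp⟩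
  have hpκ : p ∈ kappa M := hK.2.1 p hp hpK
  obtain ⟨x, hx⟩ := exists_prime_orderOf_dvd_card' p hpK
  have hxo : orderOf (x : G) = p := by rw [Subgroup.orderOf_coe]; exact hx
  set X : Subgroup G := zpowers (x : G) with hXdef
  have hXc : Nat.card X = p := by rw [hXdef, Nat.card_zpowers, hxo]
  have hXK : X ≤ K := by rw [hXdef, zpowers_le]; exact x.2
  have hXp : IsPGroup p X := IsPGroup.of_card (n := 1) (by rw [hXc, pow_one])
  intro n hn
  have hnK : ∀ k ∈ K, n * k * n⁻¹ ∈ K := fun k hk => (mem_normalizer_iff.mp hn.2 k).mp hk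
  -- `n X n⁻¹ = X`
  have hcjK : cj n X ≤ K := by
    intro a ha
    obtain ⟨h, hh, rfl⟩ := mem_cj'.mp ha
    exact hnK h (hXK hh)
  have hcjc : Nat.card (cj n X) = p := by rw [card_cj, hXc]
  have hcjp : IsPGroup p (cj n X) := isPGroup_cj hXp
  have hnorm : X ≤ normalizer ((cj n X : Subgroup G) : Set G) := by
    intro a ha
    apply Subgroup.centralizer_le_normalizer
    rw [mem_centralizer_iff]
    intro b hb
    exact hKc b (hcjK hb) a (hXK ha)
  have hsup : IsPGroup p ((X ⊔ cj n X : Subgroup G)) :=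
    IsPGroup.to_sup_of_normal_right' hXp hcjp hnorm
  have hsupM : X ⊔ cj n X ≤ M := sup_le (hXK.trans hK.1) (hcjK.trans hK.1)
  have hcyc : IsCyclic ↥(X ⊔ cj n X : Subgroup G) :=
    compl_inf_normalizer_eq_isCyclic hpκ hsup hsupM
  have heq : X = cj n X :=
    Cfsg.Agent.Lib.Helper63.BG13.eq_of_card_prime_of_le_isCyclic hcyc hXc hcjc le_sup_left
      le_sup_right
  have hnX : n ∈ normalizer (X : Set G) := cj_eq_self_iff.mp heq.symm
  have := hN X hXK (by rw [hXc]; exact hp)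
  rw [← this]
  exact ⟨hn.1, hnX⟩

end Cfsg.Agent.Lib.Helper32.BG142
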