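import Cfsg.Agent.Lib.Helper64.BG147Pair
import Cfsg.Agent.Lib.Helper90.BG147S
import Cfsg.Agent.S1430

/-!
# `StmtPartner G` (helper90's Part S hypothesis) from the single-partner analysis
-/

set_option autoImplicit false

universe u

namespace Cfsg.Agent.Lib.Helper64.BG147Pair

open Subgroup Cfsg Cfsg.Agent.Lib.Helper33
open Cfsg.Agent.Lib.Helper56.BG143 (Stmt1430)

variable {G : Type u} [Group G] [Finite G]

/-- helper90's `StmtPartner`, armed on the statement of S1430 -/
theorem stmtPartner_of (hG : IsMinSimpleOddOrder G) (h30 : Stmt1430 G) :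
    Cfsg.Agent.Lib.Helper90.BG147S.StmtPartner G := by
  intro M K hM hK hK1 X hXK hX L hL hNL
  obtain ⟨h1, h2, h3, h4, h5, -, K1, hK1H, hKsK1, -, hb', hle, -, hZ⟩ :=
    partner hG h30 hM hK hK1 hXK hX hL hNL
  exact ⟨h1, h2, h3, h4, h5, K1, hK1H, hKsK1, hb'.symm, hle, hZ⟩

/-- the statement of S1430 in helper56's form, from the real S1430 -/
theorem stmt1430 (hG : IsMinSimpleOddOrder G) : Stmt1430 G := by
  intro M hM K hK hK1
  exact Cfsg.Agent.S1430.result hG M hM K hK hK1

/-- helper90's `StmtPartner`, unconditional -/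
theorem stmtPartner (hG : IsMinSimpleOddOrder G) :
    Cfsg.Agent.Lib.Helper90.BG147S.StmtPartner G :=
  stmtPartner_of hG (stmt1430 hG)

end Cfsg.Agent.Lib.Helper64.BG147Pair
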