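import Mathlib

set_option autoImplicit false
set_option linter.unusedSectionVars false
set_option linter.style.haveILetI false

/-!
# Pure group theory for the nonabelian case of B&G 12.9-type statements (S1360 / S1421)
-/

namespace Cfsg.Agent.Lib.Helper64.BG129N

open Subgroup

variable {G : Type*} [Group G]

/-- In a finite abelian subgroup `P`, a subgroup `A₀` of prime order `p` meeting the `p`-th powers
of `P` trivially has a complement in `P`. -/
theorem exists_compl_of_not_pow [Finite G] {p : ℕ} [Fact p.Prime] {P A₀ : Subgroup G}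
    (hPc : ∀ a ∈ P, ∀ b ∈ P, a * b = b * a) (hA₀P : A₀ ≤ P)
    (hpow : ∀ w ∈ P, w ^ p ∈ A₀ → w ^ p = 1) :
    ∃ P₁ : Subgroup G, P₁ ≤ P ∧ A₀ ⊓ P₁ = ⊥ ∧ A₀ ⊔ P₁ = P := by
  have hpp : p.Prime := Fact.out
  -- the subgroup of `p`-th powers
  set S₀ : Subgroup G := closure {x : G | ∃ w ∈ P, x = w ^ p} with hS₀
  have hS₀pow : ∀ x ∈ S₀, ∃ w ∈ P, x = w ^ p := by
    intro x hx
    induction hx using closure_induction with
    | mem x hx => exact hx
    | one => exact ⟨1, P.one_mem, by simp⟩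
    | mul x y _ _ hx hy =>
      obtain ⟨w, hw, rfl⟩ := hx
      obtain ⟨v, hv, rfl⟩ := hy
      exact ⟨w * v, P.mul_mem hw hv, ((show Commute w v from hPc w hw v hv).mul_pow p).symm⟩
    | inv x _ hx =>
      obtain ⟨w, hw, rfl⟩ := hx
      exact ⟨w⁻¹, P.inv_mem hw, (inv_pow w p).symm⟩
  have hS₀P : S₀ ≤ P := by
    rw [hS₀, closure_le]
    rintro x ⟨w, hw, rfl⟩
    exact P.pow_mem hw p
  have hS₀A : A₀ ⊓ S₀ = ⊥ := by
    rw [eq_bot_iff]
    rintro x ⟨hxA, hxS⟩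
    obtain ⟨w, hw, rfl⟩ := hS₀pow x hxS
    rw [mem_bot]
    exact hpow w hw hxA
  obtain ⟨P₁, hS₀P₁, hmax⟩ := Finite.exists_le_maximal
    (p := fun S : Subgroup G => S ≤ P ∧ (∀ w ∈ P, w ^ p ∈ S) ∧ A₀ ⊓ S = ⊥)
    (a := S₀) ⟨hS₀P, fun w hw => subset_closure ⟨w, hw, rfl⟩, hS₀A⟩
  obtain ⟨⟨hP₁P, hP₁pow, hP₁A⟩, hP₁max⟩ := hmax
  refine ⟨P₁, hP₁P, hP₁A, le_antisymm (sup_le hA₀P hP₁P) ?_⟩
  intro x hxP
  by_contra hx
  have hxn : zpowers x ≤ normalizer (P₁ : Set G) := by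
    rw [zpowers_le]
    rw [mem_normalizer_iff]
    intro u
    constructor
    · intro hu
      have : x * u * x⁻¹ = u := by
        rw [hPc x hxP u (hP₁P hu), mul_inv_cancel_right]
      rw [this]; exact hu
    · intro hu
      have h1 : x * u * x⁻¹ ∈ P := hP₁P hu
      have hu' : u ∈ P := by
        have := P.mul_mem (P.mul_mem (P.inv_mem hxP) h1) hxP
        simpa [mul_assoc] using this
      have : x * u * x⁻¹ = u := by
        rw [hPc x hxP u hu', mul_inv_cancel_right]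
      rwa [this] at hu
  set S' : Subgroup G := P₁ ⊔ zpowers x with hS'
  have hS'P : S' ≤ P := sup_le hP₁P (zpowers_le.mpr hxP)
  have hnot : ¬ (A₀ ⊓ S' = ⊥) := by
    intro h
    have hle : S' ≤ P₁ := hP₁max
      ⟨hS'P, fun w hw => (le_sup_left : P₁ ≤ P₁ ⊔ zpowers x) (hP₁pow w hw), h⟩ le_sup_left
    apply hx
    exact (le_sup_right : P₁ ≤ A₀ ⊔ P₁)
      (hle ((le_sup_right : zpowers x ≤ P₁ ⊔ zpowers x) (mem_zpowers x)))
  obtain ⟨a, ha, ha1⟩ : ∃ a ∈ A₀ ⊓ S', a ≠ 1 := by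
    by_contra hcon
    push Not at hcon
    apply hnot
    rw [eq_bot_iff]
    intro y hy
    rw [mem_bot]; exact hcon y hy
  have haA : a ∈ A₀ := ha.1
  have haS : a ∈ P₁ ⊔ zpowers x := ha.2
  have haS' : a ∈ ((P₁ ⊔ zpowers x : Subgroup G) : Set G) := haS
  rw [Subgroup.coe_mul_of_right_le_normalizer_left P₁ (zpowers x) hxn] at haS'
  obtain ⟨u, hu, y, hy, rfl⟩ := Set.mem_mul.mp haS'
  obtain ⟨k, rfl⟩ := mem_zpowers_iff.mp hy
  have hxp : x ^ p ∈ P₁ := hP₁pow x hxP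
  by_cases hk : (p : ℤ) ∣ k
  · obtain ⟨j, rfl⟩ := hk
    have : x ^ ((p : ℤ) * j) ∈ P₁ := by
      rw [zpow_mul, zpow_natCast]
      exact P₁.zpow_mem hxp j
    have h1 : u * x ^ ((p : ℤ) * j) ∈ A₀ ⊓ P₁ := ⟨haA, P₁.mul_mem hu this⟩
    rw [hP₁A, mem_bot] at h1
    exact ha1 h1
  · have hcop : IsCoprime k (p : ℤ) := by
      rw [Int.isCoprime_iff_gcd_eq_one]
      have h2 : ¬ p ∣ k.natAbs := fun h => hk (Int.natCast_dvd.mpr h)
      have h3 : Nat.Coprime p k.natAbs := (Nat.Prime.coprime_iff_not_dvd hpp).2 h2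
      rw [Int.gcd_comm]
      simpa [Int.gcd] using h3
    obtain ⟨s, t, hst⟩ := hcop
    have hxk : x ^ k ∈ A₀ ⊔ P₁ := by
      have : x ^ k = u⁻¹ * (u * x ^ k) := by group
      rw [this]
      exact (A₀ ⊔ P₁).mul_mem ((le_sup_right : P₁ ≤ A₀ ⊔ P₁) (P₁.inv_mem hu))
        ((le_sup_left : A₀ ≤ A₀ ⊔ P₁) haA)
    have : x = (x ^ k) ^ s * (x ^ (p : ℤ)) ^ t := by
      rw [← zpow_mul, ← zpow_mul, ← zpow_add, mul_comm k s, mul_comm (p : ℤ) t, hst, zpow_one]
    apply hx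
    rw [this]
    refine (A₀ ⊔ P₁).mul_mem ((A₀ ⊔ P₁).zpow_mem hxk s) ((A₀ ⊔ P₁).zpow_mem ?_ t)
    rw [zpow_natCast]
    exact (le_sup_right : P₁ ≤ A₀ ⊔ P₁) hxp

/-- If `k` lies in a subgroup `A₀` of prime order `p` normalized by `h`, `h ^ n = 1` and `p ∣ n`,
then `(k * h) ^ n = 1`. -/
theorem mul_pow_eq_one_of_prime_card [Finite G] {p n : ℕ} [Fact p.Prime] {A₀ : Subgroup G}
    (hcard : Nat.card A₀ = p) {k h : G} (hk : k ∈ A₀) (hh : h ∈ normalizer (A₀ : Set G))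
    (hn : h ^ n = 1) (hpn : p ∣ n) : (k * h) ^ n = 1 := by
  have hpp : p.Prime := Fact.out
  have hconj : ∀ m : ℕ, ∀ a ∈ A₀, h ^ m * a * (h ^ m)⁻¹ ∈ A₀ := by
    intro m a ha
    exact (mem_normalizer_iff.mp ((normalizer (A₀ : Set G)).pow_mem hh m) a).mp ha
  have hS : ∀ m : ℕ, (k * h) ^ m * (h ^ m)⁻¹ ∈ A₀ := by
    intro m
    induction m with
    | zero => simp
    | succ m ih =>
      have : (k * h) ^ (m + 1) * (h ^ (m + 1))⁻¹
          = ((k * h) ^ m * (h ^ m)⁻¹) * (h ^ m * k * (h ^ m)⁻¹) := by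
        rw [pow_succ, pow_succ]; group
      rw [this]
      exact A₀.mul_mem ih (hconj m k hk)
  have hSn : (k * h) ^ n ∈ A₀ := by
    have := hS n
    rwa [hn, inv_one, mul_one] at this
  set S := (k * h) ^ n with hSdef
  -- `A₀` is commutative
  have hcomm : ∀ a ∈ A₀, ∀ b ∈ A₀, a * b = b * a := by
    intro a ha b hb
    have hcyc : IsCyclic ↥A₀ := isCyclic_of_prime_card hcard
    have := (IsCyclic.commGroup (α := ↥A₀)).mul_comm ⟨a, ha⟩ ⟨b, hb⟩
    exact congrArg Subtype.val this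
  -- `h` commutes with `S`
  have hhS : h * S * h⁻¹ = S := by
    have h1 : h * S * h⁻¹ = (h * k) ^ n := by
      rw [hSdef, ← conj_pow]
      congr 1
      group
    have h2 : (h * k) ^ n = k⁻¹ * S * k := by
      rw [hSdef]
      have : h * k = k⁻¹ * (k * h) * k⁻¹⁻¹ := by group
      rw [this, conj_pow]; group
    rw [h1, h2]
    have := hcomm k⁻¹ (A₀.inv_mem hk) S hSn
    rw [this, mul_assoc, inv_mul_cancel, mul_one]
  by_cases hS1 : S = 1
  · exact hS1
  · -- `S` generates `A₀`, so `h` centralizes `A₀`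
    have hgen : ∀ a ∈ A₀, a ∈ zpowers S := by
      intro a ha
      have hne : (⟨S, hSn⟩ : ↥A₀) ≠ 1 := fun hc => hS1 (congrArg Subtype.val hc)
      have hmem := mem_zpowers_of_prime_card (G := ↥A₀) hcard (g := ⟨S, hSn⟩)
        (g' := ⟨a, ha⟩) hne
      obtain ⟨j, hj⟩ := mem_zpowers_iff.mp hmem
      refine mem_zpowers_iff.mpr ⟨j, ?_⟩
      have := congrArg Subtype.val hj
      simpa using this
    have hSh : Commute h S := by
      have : h * S = S * h := by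
        calc h * S = h * S * h⁻¹ * h := by group
          _ = S * h := by rw [hhS]
      exact this
    have hkh : Commute k h := by
      obtain ⟨j, hj⟩ := mem_zpowers_iff.mp (hgen k hk)
      rw [← hj]
      exact (hSh.zpow_right j).symm
    rw [hSdef, hkh.mul_pow, hn, mul_one]
    obtain ⟨c, rfl⟩ := hpn
    rw [pow_mul]
    have hkp : k ^ p = 1 := by
      have := pow_card_eq_one' (G := ↥A₀) (x := ⟨k, hk⟩)
      rw [hcard] at this
      simpa using congrArg Subtype.val this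
    rw [hkp, one_pow]

/-- `|H| * |K : H| = |K|` for `H ≤ K`. -/
theorem card_mul_relIndex' {H K : Subgroup G} (h : H ≤ K) :
    Nat.card H * H.relIndex K = Nat.card K := by
  rw [← Nat.card_congr (Subgroup.subgroupOfEquivOfLe h).toEquiv]
  exact Subgroup.card_mul_index (H.subgroupOf K)

/-- A `p`-subgroup of `E` lies in every normal subgroup of `E` of index prime to `p`. -/
theorem le_of_normal_of_not_dvd_relIndex [Finite G] {p : ℕ} [Fact p.Prime] {A V E : Subgroup G}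
    (hA : IsPGroup p A) (hAE : A ≤ E) (hVn : E ≤ normalizer (V : Set G))
    (h : ¬ p ∣ V.relIndex E) : A ≤ V := by
  have hpp : p.Prime := Fact.out
  haveI : (V.subgroupOf E).Normal := Subgroup.normal_subgroupOf_of_le_normalizer hVn
  intro x hx
  obtain ⟨k, hk⟩ := hA ⟨x, hx⟩
  have hxk : x ^ p ^ k = 1 := by simpa using congrArg Subtype.val hk
  set y : ↥E := ⟨x, hAE hx⟩ with hy
  have hyk : y ^ p ^ k = 1 := Subtype.ext (by simpa using hxk)
  have h1 : ((y : ↥E ⧸ V.subgroupOf E)) ^ p ^ k = 1 := by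
    rw [← QuotientGroup.mk_pow, hyk, QuotientGroup.mk_one]
  have h2 : orderOf (y : ↥E ⧸ V.subgroupOf E) ∣ p ^ k := orderOf_dvd_of_pow_eq_one h1
  have h3 : orderOf (y : ↥E ⧸ V.subgroupOf E) ∣ V.relIndex E := by
    rw [Subgroup.relIndex, Subgroup.index_eq_card]
    exact orderOf_dvd_natCard _
  have hcop : Nat.Coprime (p ^ k) (V.relIndex E) :=
    Nat.Coprime.pow_left k ((Nat.Prime.coprime_iff_not_dvd hpp).mpr h)
  have h4 : orderOf (y : ↥E ⧸ V.subgroupOf E) = 1 := Nat.eq_one_of_dvd_coprimes hcop h2 h3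
  rw [orderOf_eq_one_iff, QuotientGroup.eq_one_iff] at h4
  exact Subgroup.mem_subgroupOf.mp h4

end Cfsg.Agent.Lib.Helper64.BG129N
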