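import Mathlib
import Cfsg.Agent.S0051
import Cfsg.Agent.Lib.Helper64.BG129Na

set_option autoImplicit false
set_option linter.unusedSectionVars false
set_option linter.style.haveILetI false

/-!
# A complement to a normal subgroup of prime order (Gaschütz), subgroup-level form
-/

namespace Cfsg.Agent.Lib.Helper64.BG129N

open Subgroup

variable {G : Type*} [Group G]

/-- Let `A₀` be a subgroup of prime order `p` normalized by `V`, `P` a Sylow `p`-subgroup of `V`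
containing `A₀` in which `A₀` has a complement `P₁`. Then `A₀` has a complement `V₀` in `V`. -/
theorem exists_compl_in [Finite G] {p : ℕ} [Fact p.Prime] {A₀ P P₁ V : Subgroup G}
    (hcard : Nat.card A₀ = p) (hA₀P : A₀ ≤ P) (hPV : P ≤ V) (hVn : V ≤ normalizer (A₀ : Set G))
    (hPi : ¬ p ∣ P.relIndex V) (hP₁P : P₁ ≤ P) (hdisj : A₀ ⊓ P₁ = ⊥) (hsup : A₀ ⊔ P₁ = P) :
    ∃ V₀ : Subgroup G, V₀ ≤ V ∧ A₀ ⊓ V₀ = ⊥ ∧ p * Nat.card V₀ = Nat.card V ∧
      ∀ v ∈ V, ∃ k ∈ A₀, ∃ h ∈ V₀, v = k * h := by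
  have hpp : p.Prime := Fact.out
  have hA₀V : A₀ ≤ V := hA₀P.trans hPV
  haveI hKn : (A₀.subgroupOf V).Normal := Subgroup.normal_subgroupOf_of_le_normalizer hVn
  have hKcard : Nat.card ↥(A₀.subgroupOf V) = p := by
    rw [Nat.card_congr (Subgroup.subgroupOfEquivOfLe hA₀V).toEquiv, hcard]
  haveI hKc : IsMulCommutative ↥(A₀.subgroupOf V) := by
    have hcyc : IsCyclic ↥(A₀.subgroupOf V) := isCyclic_of_prime_card hKcard
    exact ⟨⟨fun a b => (IsCyclic.commGroup (α := ↥(A₀.subgroupOf V))).mul_comm a b⟩⟩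
  have hcop : (Nat.card ↥(A₀.subgroupOf V)).Coprime (P.subgroupOf V).index := by
    rw [hKcard]
    exact (Nat.Prime.coprime_iff_not_dvd hpp).mpr hPi
  obtain ⟨Hc, hHc⟩ := Cfsg.Agent.S0051.result (A₀.subgroupOf V) (P.subgroupOf V)
    (Subgroup.subgroupOf_mono V hA₀P) hcop (P₁.subgroupOf V) (Subgroup.subgroupOf_mono V hP₁P)
    (by
      rw [eq_bot_iff]
      rintro x ⟨h1, h2⟩
      have : (x : G) ∈ A₀ ⊓ P₁ := ⟨Subgroup.mem_subgroupOf.mp h2, Subgroup.mem_subgroupOf.mp h1⟩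
      rw [hdisj, Subgroup.mem_bot] at this
      exact Subgroup.mem_bot.mpr (Subtype.ext this))
    (by rw [← Subgroup.subgroupOf_sup hA₀V (hP₁P.trans hPV), hsup])
  refine ⟨Hc.map V.subtype, Subgroup.map_subtype_le Hc, ?_, ?_, ?_⟩
  · rw [eq_bot_iff]
    rintro x ⟨hxA, hxH⟩
    obtain ⟨y, hy, rfl⟩ := hxH
    have hyK : y ∈ A₀.subgroupOf V := Subgroup.mem_subgroupOf.mpr hxA
    have : y ∈ A₀.subgroupOf V ⊓ Hc := ⟨hyK, hy⟩
    rw [hHc.disjoint.eq_bot, Subgroup.mem_bot] at this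
    rw [this]; simp
  · have h1 := hHc.card_mul_card
    rw [hKcard] at h1
    rw [← h1]
    congr 1
    exact Nat.card_congr (Hc.equivMapOfInjective V.subtype V.subtype_injective).symm.toEquiv
  · intro v hv
    obtain ⟨⟨k, h⟩, hkh, -⟩ := (Subgroup.isComplement'_def.mp hHc).existsUnique ⟨v, hv⟩
    refine ⟨k.1.1, Subgroup.mem_subgroupOf.mp k.2, h.1.1, ⟨h.1, h.2, rfl⟩, ?_⟩
    have := congrArg Subtype.val hkh
    simpa using this.symm

end Cfsg.Agent.Lib.Helper64.BG129N
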