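import Cfsg.Agent.Lib.Helper64.BG127h
import Cfsg.Agent.Lib.Helper64.BG129Nb

set_option autoImplicit false
set_option linter.style.haveILetI false
set_option linter.unusedSectionVars false
set_option maxHeartbeats 1000000

/-!
# The nonabelian case of the "regular subgroup of full exponent" step for S1360 / S1421

In the situation of B&G 12.7 (`p ∈ τ₂(M)`, nonabelian Sylow `p`-subgroups of `G`), a normal Hall
subgroup `V` of `E` with `p ∣ |V|` all of whose `τ₁ ∪ τ₃`-elements act regularly on `M_σ` contains a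
complement `V₀` of `A₀ = C_A(M_σ)` of the same exponent, acting regularly on `M_σ`.
-/

namespace Cfsg.Agent.Lib.Helper64.BG129N

open Subgroup Cfsg Cfsg.Agent.Lib.Helper33 Cfsg.Agent.Lib.Helper23 Cfsg.Agent.Lib.Helper24
open Cfsg.Agent.Lib.Helper47.BG11 Cfsg.Agent.Lib.Helper63 Cfsg.Agent.Lib.Helper48
open Cfsg.Agent.Lib.Helper64.BG127

universe u

variable {G : Type u} [Group G] [Finite G]

/-- In the situation of B&G 12.7, no element of order `p²` of a Sylow `p`-subgroup `P ≥ A` of `M`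
has its `p`-th power in `A₀ = C_A(M_σ)`. -/
theorem pow_eq_one_of_pow_mem_A₀ (hG : IsMinSimpleOddOrder G) (H : Hyp G) {M E : Subgroup G}
    (hM : IsCoatom M) (hE : IsComplIn E (sigmaCore M) M) {p : ℕ} [Fact p.Prime]
    (hp : p ∈ tau2 M) (hS : ∀ S : Sylow p G, ¬ IsMulCommutative (S : Subgroup G))
    {A : Subgroup G} (hA : A ≤ E ∧ IsElementaryAbelian p A ∧ Nat.card A = p ^ 2)
    {P : Subgroup G} (hAP : A ≤ P) (hPM : P ≤ M) (hPp : IsPGroup p P)
    (hPi : ¬ p ∣ P.relIndex M) {w : G} (hwP : w ∈ P)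
    (hwA₀ : w ^ p ∈ A ⊓ centralizer (sigmaCore M : Set G)) : w ^ p = 1 := by
  have hpp : p.Prime := Fact.out
  have D := data hG H hM hE hp hS hA
  have hEM := hE.1
  have hAM : A ≤ M := hA.1.trans hEM
  have hA' : A ≤ M ∧ IsElementaryAbelian p A ∧ Nat.card A = p ^ 2 := ⟨hAM, hA.2⟩
  have hp2 : p ≠ 2 := by
    rintro rfl
    have h1 : 2 ∣ Nat.card A := by rw [hA.2.2]; norm_num
    have h2 : 2 ∣ Nat.card G := h1.trans (Subgroup.card_subgroup_dvd_card A)
    exact (Nat.not_even_iff_odd.mpr hG.1) (even_iff_two_dvd.mpr h2)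
  obtain ⟨-, hmax⟩ := H.h08 M hM p hp.2.1 hp.2.2.1 hp.2.2.2
  have hmaxA := hmax A hAM hA.2.1 hA.2.2
  set A₀ := A ⊓ centralizer (sigmaCore M : Set G) with hA₀
  by_contra hwp1
  obtain ⟨hPc, -⟩ := sylow_facts H hM hp hA' hPM hPp hPi
  obtain ⟨S, hPS⟩ := hPp.exists_le_sylow
  have hSna : ¬ ∀ a ∈ (S : Subgroup G), ∀ b ∈ (S : Subgroup G), a * b = b * a := by
    intro h
    apply hS S
    refine ⟨⟨fun a b => ?_⟩⟩
    exact Subtype.ext (h a.1 a.2 b.1 b.2)
  have hwpp : (w ^ p) ^ p = 1 := by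
    have := pow_card_eq_one' (G := ↥A₀) (x := ⟨w ^ p, hwA₀⟩)
    rw [D.card₀] at this
    simpa using congrArg Subtype.val this
  have hwS : w ∈ (S : Subgroup G) := hPS hwP
  have hwA : ∀ a ∈ A, w * a = a * w := fun a ha => hPc w hwP a (hAP ha)
  have hcomm : ∀ s ∈ (S : Subgroup G), s * w ^ p = w ^ p * s := by
    by_cases hr2 : PRankLE p 2 ↥(S : Subgroup G)
    · rcases H.h12 p S hr2 with hab | ⟨P₁, P₂, hsup, hcm, -, -, hexp1, hcyc, hcl⟩
      · exact absurd hab (hS S)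
      · exact pow_comm_of_struct hsup hcm hexp1 hcyc hcl hwS hwpp
    · exact pow_comm_of_narrow hp2 S.isPGroup' hr2 (hAP.trans hPS) hA.2.1 hA.2.2 hmaxA hwS hwA
        hwpp
  have hgen : ∀ a ∈ A₀, ∃ k : ℤ, a = (w ^ p) ^ k := by
    intro a ha
    have hcardA₀ : Nat.card ↥A₀ = p := D.card₀
    have hne : (⟨w ^ p, hwA₀⟩ : ↥A₀) ≠ 1 := by
      intro h
      exact hwp1 (congrArg Subtype.val h)
    have hmem := mem_zpowers_of_prime_card (G := ↥A₀) hcardA₀ (g := ⟨w ^ p, hwA₀⟩)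
      (g' := ⟨a, ha⟩) hne
    obtain ⟨k, hk⟩ := mem_zpowers_iff.mp hmem
    refine ⟨k, ?_⟩
    have := congrArg Subtype.val hk
    simpa using this.symm
  have hSC : (S : Subgroup G) ≤ centralizer (A₀ : Set G) := by
    intro s hs
    rw [mem_centralizer_iff]
    intro a ha
    obtain ⟨k, rfl⟩ := hgen a ha
    exact ((show Commute s (w ^ p) from hcomm s hs).zpow_right k).eq.symm
  have hSM : (S : Subgroup G) ≤ M := hSC.trans D.good₀.1
  exact hSna (comm_of_tau2 H hM hp hA' hSM S.isPGroup')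

/-- **The nonabelian case.** -/
theorem exists_regular_full_exponent_nonabelian_of_hyp (hG : IsMinSimpleOddOrder G) (H : Hyp G)
    {M E : Subgroup G} (hM : IsCoatom M) (hE : IsComplIn E (sigmaCore M) M) {p : ℕ}
    [Fact p.Prime] (hp : p ∈ tau2 M)
    (hS : ∀ S : Sylow p G, ¬ IsMulCommutative (S : Subgroup G))
    {V : Subgroup G} (hVE : V ≤ E) (hVn : E ≤ normalizer (V : Set G))
    (hVhall : (Nat.card V).Coprime (V.relIndex E)) (hpV : p ∣ Nat.card V)
    (hH : ∀ e ∈ V, e ≠ 1 → (∀ q : ℕ, q.Prime → q ∣ orderOf e → q ∈ tau1 M ∪ tau3 M) →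
      sigmaCore M ⊓ centralizer ({e} : Set G) = ⊥) :
    ∃ V₀ : Subgroup G, V₀ ≤ V ∧ Monoid.exponent V₀ = Monoid.exponent V ∧
      ∀ e ∈ V₀, e ≠ 1 → sigmaCore M ⊓ centralizer ({e} : Set G) = ⊥ := by
  have hpp : p.Prime := Fact.out
  obtain ⟨A, hA⟩ : ∃ A : Subgroup G, A ≤ E ∧ IsElementaryAbelian p A ∧ Nat.card A = p ^ 2 :=
    Cfsg.Agent.Lib.Helper96.BG127.exists_elemAb_sq_le_compl hE hp
  have D := data hG H hM hE hp hS hA
  have hτ := tau2_eq hG H hM hE hp hA D
  have hEM := hE.1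
  have hAM : A ≤ M := hA.1.trans hEM
  have hA' : A ≤ M ∧ IsElementaryAbelian p A ∧ Nat.card A = p ^ 2 := ⟨hAM, hA.2⟩
  have hAp : IsPGroup p A := IsPGroup.of_card hA.2.2
  set A₀ := A ⊓ centralizer (sigmaCore M : Set G) with hA₀def
  have hA₀card : Nat.card A₀ = p := D.card₀
  -- (1) `A ≤ V`
  have hpVE : ¬ p ∣ V.relIndex E := fun h =>
    hpp.one_lt.ne' (Nat.eq_one_of_dvd_coprimes hVhall hpV h)
  have hAV : A ≤ V := le_of_normal_of_not_dvd_relIndex hAp hA.1 hVn hpVE
  -- (2) a Sylow `p`-subgroup `P` of `V` containing `A` is a Sylow `p`-subgroup of `M`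
  obtain ⟨P, hAP, hPV, hPp, hPiV⟩ := Cfsg.Agent.Lib.Helper32.exists_relSylow_ge hAV hAp
  have hVM : V ≤ M := hVE.trans hEM
  have hPM : P ≤ M := hPV.trans hVM
  have hσhall := (Cfsg.Agent.Lib.Helper62.sigmaCore_hall hG H.uniq hM (H.fus M hM)).1
  have hEσ : ¬ p ∣ E.relIndex M := by
    intro h
    have h1 : Nat.card E * E.relIndex M = Nat.card M := card_mul_relIndex' hEM
    have h2 : Nat.card E * Nat.card (sigmaCore M) = Nat.card M := card_isComplIn hE
    have h3 : E.relIndex M = Nat.card (sigmaCore M) :=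
      Nat.eq_of_mul_eq_mul_left Nat.card_pos (h1.trans h2.symm)
    rw [h3] at h
    exact hp.2.1 (hσhall.2.1 p hpp h)
  have hPi : ¬ p ∣ P.relIndex M := by
    rw [← Subgroup.relIndex_mul_relIndex P V M hPV hVM,
      ← Subgroup.relIndex_mul_relIndex V E M hVE hEM]
    intro h
    rcases (Nat.Prime.dvd_mul hpp).mp h with h | h
    · exact hPiV h
    · rcases (Nat.Prime.dvd_mul hpp).mp h with h | h
      · exact hpVE h
      · exact hEσ h
  obtain ⟨hPc, -⟩ := sylow_facts H hM hp hA' hPM hPp hPi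
  -- (3) no `p`-th power of order `p` in `A₀`
  have hpow : ∀ w ∈ P, w ^ p ∈ A₀ → w ^ p = 1 := fun w hw h =>
    pow_eq_one_of_pow_mem_A₀ hG H hM hE hp hS hA hAP hPM hPp hPi hw h
  -- (4) a complement of `A₀` in `P`
  have hA₀P : A₀ ≤ P := inf_le_left.trans hAP
  obtain ⟨P₁, hP₁P, hdisj, hsup⟩ := exists_compl_of_not_pow hPc hA₀P hpow
  -- (5) a complement of `A₀` in `V`
  have hVN : V ≤ normalizer (A₀ : Set G) := hVM.trans D.norm₀
  obtain ⟨V₀, hV₀V, hV₀A, hV₀card, hV₀dec⟩ :=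
    exists_compl_in hA₀card hA₀P hPV hVN hPiV hP₁P hdisj hsup
  refine ⟨V₀, hV₀V, ?_, ?_⟩
  · -- the exponent
    apply Nat.dvd_antisymm
    · apply Monoid.exponent_dvd_of_forall_pow_eq_one
      rintro ⟨h, hh⟩
      have := Monoid.pow_exponent_eq_one (⟨h, hV₀V hh⟩ : ↥V)
      apply Subtype.ext
      simpa using congrArg Subtype.val this
    · apply Monoid.exponent_dvd_of_forall_pow_eq_one
      rintro ⟨v, hv⟩
      obtain ⟨k, hk, h, hh, rfl⟩ := hV₀dec v hv
      have hhn : h ^ Monoid.exponent ↥V₀ = 1 := by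
        have := Monoid.pow_exponent_eq_one (⟨h, hh⟩ : ↥V₀)
        simpa using congrArg Subtype.val this
      have hpn : p ∣ Monoid.exponent ↥V₀ := by
        have hp2V : p ^ 2 ∣ Nat.card V := hA.2.2 ▸ Subgroup.card_dvd_of_le hAV
        have hpV₀ : p ∣ Nat.card V₀ := by
          rw [← hV₀card, pow_two] at hp2V
          exact (Nat.mul_dvd_mul_iff_left hpp.pos).mp hp2V
        obtain ⟨y, hy⟩ := exists_prime_orderOf_dvd_card' p hpV₀
        rw [← hy]
        exact Monoid.order_dvd_exponent y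
      have := mul_pow_eq_one_of_prime_card hA₀card hk (hVN (hV₀V hh)) hhn hpn
      exact Subtype.ext (by simpa using this)
  · -- regularity
    intro e heV₀ he1
    by_contra hne
    obtain ⟨x, hx, hx1⟩ : ∃ x ∈ sigmaCore M ⊓ centralizer ({e} : Set G), x ≠ 1 := by
      by_contra hcon
      push Not at hcon
      exact hne (eq_bot_iff.mpr fun y hy => mem_bot.mpr (hcon y hy))
    have hxσ : x ∈ sigmaCore M := hx.1
    have hxc : x ∈ centralizer ({e} : Set G) := hx.2
    have hex : e * x = x * e := by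
      rw [mem_centralizer_iff] at hxc
      exact hxc e (Set.mem_singleton e)
    have hord : orderOf e ≠ 1 := fun h => he1 (orderOf_eq_one_iff.mp h)
    obtain ⟨ℓ, hℓ, hℓe⟩ := Nat.exists_prime_and_dvd hord
    set e' := e ^ (orderOf e / ℓ) with he'
    have he'ord : orderOf e' = ℓ := orderOf_pow_orderOf_div (orderOf_pos e).ne' hℓe
    have he'1 : e' ≠ 1 := by
      intro h
      rw [h, orderOf_one] at he'ord
      exact hℓ.one_lt.ne he'ord
    have he'V₀ : e' ∈ V₀ := V₀.pow_mem heV₀ _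
    have he'V : e' ∈ V := hV₀V he'V₀
    have he'E : e' ∈ E := hVE he'V
    have hcomm' : e' * x = x * e' := ((show Commute e x from hex).pow_left _).eq
    have hxin : x ∈ sigmaCore M ⊓ centralizer ({e'} : Set G) := by
      refine ⟨hxσ, ?_⟩
      show x ∈ centralizer ({e'} : Set G)
      rw [mem_centralizer_iff]
      intro y hy
      rw [Set.mem_singleton_iff] at hy
      rw [hy]
      exact hcomm'
    by_cases hℓ13 : ℓ ∈ tau1 M ∪ tau3 M
    · have h0 := hH e' he'V he'1 (fun q hq hqd => by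
        rw [he'ord] at hqd
        rw [(Nat.prime_dvd_prime_iff_eq hq hℓ).mp hqd]
        exact hℓ13)
      rw [h0, mem_bot] at hxin
      exact hx1 hxin
    · have hℓE : ℓ ∣ Nat.card E := by
        rw [← he'ord, ← Subgroup.orderOf_mk e' he'E]
        exact orderOf_dvd_natCard _
      have hℓM : ℓ ∣ Nat.card M := hℓE.trans (Subgroup.card_dvd_of_le hEM)
      have hℓσ : ℓ ∉ sigma M :=
        Cfsg.Agent.Lib.Helper96.BG127.not_mem_sigma_of_dvd_card_compl hσhall hE hℓ hℓE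
      have hℓα : ℓ ∉ alpha M := fun h => hℓσ (alpha_subset_sigma hG H.uniq hM h)
      have hr2 : PRankLE ℓ 2 ↥M := by
        by_contra h
        exact hℓα ⟨hℓ, h⟩
      have hℓ2 : ℓ ∈ tau2 M := by
        refine ⟨hℓ, hℓσ, hr2, fun hr1 => hℓ13 ?_⟩
        by_cases hd : ℓ ∣ Nat.card ↥⁅M, M⁆
        · exact Or.inr ⟨hℓ, hℓσ, hd, hr1⟩
        · exact Or.inl ⟨hℓ, hℓσ, hℓM, hd, hr1⟩
      have hℓp : ℓ = p := hτ ℓ hℓ2
      have hXcard : Nat.card (zpowers e') = p := by rw [Nat.card_zpowers, he'ord, hℓp]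
      have hXE : zpowers e' ≤ E := zpowers_le.mpr he'E
      have hXne : zpowers e' ≠ A₀ := by
        intro h
        apply he'1
        have h1 : e' ∈ A₀ ⊓ V₀ := ⟨h ▸ mem_zpowers e', he'V₀⟩
        rwa [hV₀A, mem_bot] at h1
      have h0 := (D.partc (zpowers e') hXE hXcard hXne).1
      have h1 : x ∈ sigmaCore M ⊓ centralizer ((zpowers e' : Subgroup G) : Set G) := by
        refine ⟨hxσ, ?_⟩
        show x ∈ centralizer ((zpowers e' : Subgroup G) : Set G)
        rw [mem_centralizer_iff]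
        intro u hu
        obtain ⟨k, rfl⟩ := mem_zpowers_iff.mp hu
        exact ((show Commute e' x from hcomm').zpow_left k).eq
      rw [h0, mem_bot] at h1
      exact hx1 h1

end Cfsg.Agent.Lib.Helper64.BG129N
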