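import Cfsg.Agent.S1403
import Cfsg.Agent.S1404
import Cfsg.Agent.S1408
import Cfsg.Agent.S1412
import Cfsg.Agent.S1414
import Cfsg.Agent.S1416
import Cfsg.Agent.S1417
import Cfsg.Agent.S1418
import Cfsg.Agent.Lib.Helper77.LemT
import Cfsg.Agent.Lib.Helper64.BG129N

set_option autoImplicit false
set_option linter.unusedSectionVars false

/-!
# The nonabelian case for S1360 / S1421, from `IsMinSimpleOddOrder` alone

`hyp_of_minSimple` packages the earlier B&G statements (all proved) into `BG127.Hyp G`.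
-/

namespace Cfsg.Agent.Lib.Helper64.BG129N

open Subgroup Cfsg

universe u

variable {G : Type u} [Group G] [Finite G]

/-- The hypotheses structure of the B&G 12.7 library holds in every minimal simple group of odd
order. -/
theorem hyp_of_minSimple (hG : IsMinSimpleOddOrder G) : Cfsg.Agent.Lib.Helper64.BG127.Hyp G :=
  { uniq := fun K h1 h2 h3 => Cfsg.Agent.S1403.result hG K h1 h2 h3
    fus := fun M hM q _ hq X hXp hX1 hXM => (Cfsg.Agent.S1404.result hG M hM q hq X hXp hX1 hXM).1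
    h08 := fun M hM q _ hq h2 h1 => Cfsg.Agent.S1408.result hG M hM q hq h2 h1
    h12 := fun q _ P hr => Cfsg.Agent.S1412.result hG q P hr
    h14 := fun M hM => (Cfsg.Agent.S1414.result hG M hM).2.2.2.1
    h16 := fun M hM q _ A hA => (Cfsg.Agent.S1416.result hG M hM q A hA).1
    h17 := fun M hM q _ hq A hA => Cfsg.Agent.S1417.result hG M hM q hq A hA
    h18 := fun M hM E hE q _ hq A hA => Cfsg.Agent.S1418.result hG M hM E hE q hq A hA
    hT := fun hAc hAe hcard hyA hy hzA hz1 hzy hX₁ hX₂ h1 h2 hn1 hn2 =>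
      Cfsg.Agent.Lib.Helper77.LemT.exists_pow_conj_eq hAc hAe hcard hyA hy hzA hz1 hzy
        hX₁ hX₂ h1 h2 hn1 hn2 }

/-- **(NONAB)** `p ∈ τ₂(M)` with nonabelian Sylow `p`-subgroups of `G`, `V` a normal Hall subgroup of
the complement `E` with `p ∣ |V|` whose `τ₁ ∪ τ₃`-elements act regularly on `M_σ`: then `V` has a
subgroup `V₀` of the same exponent all of whose nonidentity elements act regularly on `M_σ`. -/
theorem exists_regular_full_exponent_nonabelian (hG : IsMinSimpleOddOrder G)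
    {M : Subgroup G} (hM : IsCoatom M) {E : Subgroup G} (hE : IsComplIn E (sigmaCore M) M)
    {p : ℕ} [Fact p.Prime] (hp : p ∈ tau2 M)
    (hS : ∀ S : Sylow p G, ¬ IsMulCommutative (S : Subgroup G))
    {V : Subgroup G} (hVE : V ≤ E) (hVn : E ≤ normalizer (V : Set G))
    (hVhall : (Nat.card V).Coprime (V.relIndex E)) (hpV : p ∣ Nat.card V)
    (hH : ∀ e ∈ V, e ≠ 1 → (∀ q : ℕ, q.Prime → q ∣ orderOf e → q ∈ tau1 M ∪ tau3 M) →
      sigmaCore M ⊓ centralizer ({e} : Set G) = ⊥) :
    ∃ V₀ : Subgroup G, V₀ ≤ V ∧ Monoid.exponent V₀ = Monoid.exponent V ∧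
      ∀ e ∈ V₀, e ≠ 1 → sigmaCore M ⊓ centralizer ({e} : Set G) = ⊥ :=
  exists_regular_full_exponent_nonabelian_of_hyp hG (hyp_of_minSimple hG) hM hE hp hS hVE hVn
    hVhall hpV hH

end Cfsg.Agent.Lib.Helper64.BG129N
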