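import Mathlib

/-!
# Minimal covers by nilpotent subgroups

Let `𝓐` be a cover of the finite group `G` (trivial centre) by proper subgroups, of least possible cardinality,
all of whose members are nilpotent.  For a non-normal abelian Sylow `p`-subgroup `P` that is cyclic or contains
an element `x₀` with `x₀ ^ p ≠ 1` we show: `C_G(P) ∈ 𝓐`, every maximal subgroup containing `C_G(P)` is
`N_G(P)`, `N_G(P)` is maximal, and `P ∩ P^g = 1` for `g ∉ N_G(P)`.
-/

set_option autoImplicit false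

namespace Cfsg.Agent.Lib.Helper64.NilCover

open Subgroup

variable {G : Type*} [Group G]

/-- in a finite nilpotent group, elements of coprime orders commute -/
theorem commute_of_coprime [Finite G] (hn : Group.IsNilpotent G) {x y : G}
    (hxy : (orderOf x).Coprime (orderOf y)) : Commute x y := by
  obtain ⟨e⟩ := ((Group.isNilpotent_of_finite_tfae (G := G)).out 0 4).mp hn
  change x * y = y * x
  apply e.symm.injective
  rw [map_mul, map_mul]
  funext q Q
  simp only [Pi.mul_apply]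
  have hq : (q : ℕ).Prime := Nat.prime_of_mem_primeFactors q.2
  have : Fact (q : ℕ).Prime := ⟨hq⟩
  let φ : G →* (Q : Subgroup G) :=
    (Pi.evalMonoidHom _ Q).comp ((Pi.evalMonoidHom _ q).comp e.symm.toMonoidHom)
  have hφ : ∀ g, φ g = e.symm g q Q := fun g => rfl
  have key : ∀ g : G, ¬ (q : ℕ) ∣ orderOf g → e.symm g q Q = 1 := by
    intro g hg
    rw [← hφ]
    have h1 : orderOf (φ g) ∣ orderOf g := orderOf_map_dvd φ g
    obtain ⟨k, hk⟩ := Q.2 (φ g)
    have h2 : orderOf (φ g) ∣ (q : ℕ) ^ k := orderOf_dvd_of_pow_eq_one hk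
    have hcop : Nat.Coprime ((q : ℕ) ^ k) (orderOf g) :=
      Nat.Coprime.pow_left k ((Nat.Prime.coprime_iff_not_dvd hq).mpr hg)
    rw [← orderOf_eq_one_iff]
    exact Nat.eq_one_of_dvd_coprimes hcop h2 h1
  by_cases hx : (q : ℕ) ∣ orderOf x
  · have hy : ¬ (q : ℕ) ∣ orderOf y := by
      intro hy
      have := Nat.dvd_gcd hx hy
      rw [hxy.gcd_eq_one] at this
      exact hq.one_lt.ne' (Nat.dvd_one.mp this)
    rw [key y hy, mul_one, one_mul]
  · rw [key x hx, mul_one, one_mul]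

/-- decomposition of an element of finite order into its `p`-part and `p'`-part -/
theorem exists_p_decomp [Finite G] (p : ℕ) [hp : Fact p.Prime] (a : G) :
    ∃ u v : G, u * v = a ∧ Commute u v ∧ (∃ k : ℕ, u ^ p ^ k = 1) ∧ (orderOf v).Coprime p ∧
      u ∈ zpowers a ∧ v ∈ zpowers a := by
  have hn : orderOf a ≠ 0 := (orderOf_pos a).ne'
  obtain ⟨k, m, hm, hnm⟩ := Nat.exists_eq_pow_mul_and_not_dvd hn p hp.out.ne_one
  have hcop : Nat.Coprime (p ^ k) m :=
    Nat.Coprime.pow_left k ((Nat.Prime.coprime_iff_not_dvd hp.out).mpr hm)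
  have hbez := Nat.gcd_eq_gcd_ab (p ^ k) m
  rw [hcop.gcd_eq_one] at hbez
  set s := Nat.gcdA (p ^ k) m
  set t := Nat.gcdB (p ^ k) m
  refine ⟨a ^ ((m : ℤ) * t), a ^ (((p ^ k : ℕ) : ℤ) * s), ?_, ?_, ⟨k, ?_⟩, ?_, ?_, ?_⟩
  · rw [← zpow_add]
    have : (m : ℤ) * t + ((p ^ k : ℕ) : ℤ) * s = 1 := by
      rw [Nat.cast_one] at hbez; linarith
    rw [this, zpow_one]
  · exact (Commute.refl a).zpow_zpow _ _
  · rw [← zpow_natCast, ← zpow_mul]
    have : (m : ℤ) * t * ((p ^ k : ℕ) : ℤ) = ((orderOf a : ℕ) : ℤ) * t := by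
      rw [hnm]; push_cast; ring
    rw [this, zpow_mul, zpow_natCast, pow_orderOf_eq_one, one_zpow]
  · have h1 : (a ^ (((p ^ k : ℕ) : ℤ) * s)) ^ m = 1 := by
      rw [← zpow_natCast, ← zpow_mul]
      have : ((p ^ k : ℕ) : ℤ) * s * (m : ℤ) = ((orderOf a : ℕ) : ℤ) * s := by
        rw [hnm]; push_cast; ring
      rw [this, zpow_mul, zpow_natCast, pow_orderOf_eq_one, one_zpow]
    have h2 : orderOf (a ^ (((p ^ k : ℕ) : ℤ) * s)) ∣ m := orderOf_dvd_of_pow_eq_one h1
    exact Nat.Coprime.coprime_dvd_left h2 ((Nat.Prime.coprime_iff_not_dvd hp.out).mpr hm).symm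
  · exact zpow_mem (mem_zpowers a) _
  · exact zpow_mem (mem_zpowers a) _

/-- a `p`-element normalizing a Sylow `p`-subgroup lies in it -/
theorem mem_sylow_of_mem_normalizer {p : ℕ} [Fact p.Prime] (P : Sylow p G) {u : G}
    (hu : u ∈ normalizer ((P : Subgroup G) : Set G)) (hup : ∃ k : ℕ, u ^ p ^ k = 1) : u ∈ (P : Subgroup G) := by
  obtain ⟨k, hk⟩ := hup
  have hQ : IsPGroup p (zpowers u) := by
    rintro ⟨w, hw⟩
    obtain ⟨j, rfl⟩ := mem_zpowers_iff.mp hw
    refine ⟨k, ?_⟩
    ext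
    simp only [SubmonoidClass.coe_pow, OneMemClass.coe_one]
    rw [← zpow_natCast, ← zpow_mul, mul_comm, zpow_mul, zpow_natCast, hk, one_zpow]
  have hle : zpowers u ≤ normalizer ((P : Subgroup G) : Set G) := (zpowers_le).mpr hu
  have h1 : IsPGroup p ((P : Subgroup G) ⊔ zpowers u : Subgroup G) :=
    IsPGroup.to_sup_of_normal_left' P.2 hQ hle
  have h2 := P.is_maximal' h1 le_sup_left
  have h3 : zpowers u ≤ (P : Subgroup G) := by
    rw [← h2]; exact le_sup_right
  exact h3 (mem_zpowers u)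

/-- a minimal cover of `G` by proper subgroups, all nilpotent -/
structure NilMinCover (G : Type*) [Group G] (𝓐 : Finset (Subgroup G)) : Prop where
  proper : ∀ A ∈ 𝓐, A ≠ ⊤
  cover : ∀ g : G, ∃ A ∈ 𝓐, g ∈ A
  min : ∀ 𝓑 : Finset (Subgroup G), (∀ A ∈ 𝓑, A ≠ ⊤) ∧ (∀ g : G, ∃ A ∈ 𝓑, g ∈ A) → 𝓐.card ≤ 𝓑.card
  nil : ∀ A ∈ 𝓐, Group.IsNilpotent A

variable {𝓐 : Finset (Subgroup G)}

/-- no proper subgroup contains two distinct members of a minimal cover -/
theorem NilMinCover.eq_of_le (h : NilMinCover G 𝓐) {H : Subgroup G} (hH : H ≠ ⊤) {A B : Subgroup G}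
    (hA : A ∈ 𝓐) (hB : B ∈ 𝓐) (hAH : A ≤ H) (hBH : B ≤ H) : A = B := by
  classical
  by_contra hne
  set 𝓑 : Finset (Subgroup G) := insert H ((𝓐.erase A).erase B) with h𝓑
  have hcov : (∀ C ∈ 𝓑, C ≠ ⊤) ∧ (∀ g : G, ∃ C ∈ 𝓑, g ∈ C) := by
    constructor
    · intro C hC
      rw [h𝓑, Finset.mem_insert] at hC
      rcases hC with rfl | hC
      · exact hH
      · exact h.proper C (Finset.mem_of_mem_erase (Finset.mem_of_mem_erase hC))
    · intro g
      obtain ⟨C, hC, hgC⟩ := h.cover g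
      by_cases hCA : C = A
      · exact ⟨H, Finset.mem_insert_self _ _, hAH (hCA ▸ hgC)⟩
      by_cases hCB : C = B
      · exact ⟨H, Finset.mem_insert_self _ _, hBH (hCB ▸ hgC)⟩
      · refine ⟨C, ?_, hgC⟩
        rw [h𝓑]
        exact Finset.mem_insert_of_mem (Finset.mem_erase.mpr ⟨hCB, Finset.mem_erase.mpr ⟨hCA, hC⟩⟩)
  have hcard := h.min 𝓑 hcov
  have hB' : B ∈ 𝓐.erase A := Finset.mem_erase.mpr ⟨fun e => hne e.symm, hB⟩
  have h1 : ((𝓐.erase A).erase B).card = 𝓐.card - 1 - 1 := by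
    rw [Finset.card_erase_of_mem hB', Finset.card_erase_of_mem hA]
  have h2 : 𝓑.card ≤ ((𝓐.erase A).erase B).card + 1 := Finset.card_insert_le _ _
  have h3 : 2 ≤ 𝓐.card := by
    have : ({A, B} : Finset (Subgroup G)) ⊆ 𝓐 := by
      intro C hC
      rw [Finset.mem_insert, Finset.mem_singleton] at hC
      rcases hC with rfl | rfl
      · exact hA
      · exact hB
    have h4 := Finset.card_le_card this
    rwa [Finset.card_pair hne] at h4
  omega

section Main

variable [Finite G] {p : ℕ} [hp : Fact p.Prime]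

/-- a nilpotent member containing a `p`-element `x` centralizes `x`, when Sylow `p`-subgroups are abelian -/
theorem NilMinCover.le_centralizer (h : NilMinCover G 𝓐) (P : Sylow p G)
    (hab : ∀ a ∈ (P : Subgroup G), ∀ b ∈ (P : Subgroup G), a * b = b * a)
    {A : Subgroup G} (hA : A ∈ 𝓐) {x : G} (hxA : x ∈ A) (hx : ∃ k : ℕ, x ^ p ^ k = 1) :
    A ≤ centralizer ({x} : Set G) := by
  intro a haA
  rw [mem_centralizer_iff]
  intro y hy
  rw [Set.mem_singleton_iff] at hy
  rw [hy]
  clear hy y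
  -- everything happens inside `A`
  have hnA : Group.IsNilpotent A := h.nil A hA
  obtain ⟨u, v, huv, -, hu, hv, -, -⟩ := exists_p_decomp p (⟨a, haA⟩ : A)
  set x' : A := ⟨x, hxA⟩ with hx'
  -- `v` commutes with `x'`
  have hxo : ∃ k : ℕ, orderOf x' = p ^ k := by
    obtain ⟨k, hk⟩ := hx
    have : x' ^ p ^ k = 1 := by
      apply Subtype.ext
      rw [SubmonoidClass.coe_pow, hx']
      exact hk
    obtain ⟨j, -, hj⟩ := (Nat.dvd_prime_pow hp.out).mp (orderOf_dvd_of_pow_eq_one this)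
    exact ⟨j, hj⟩
  have hcv : Commute x' v := by
    apply commute_of_coprime hnA
    obtain ⟨k, hk⟩ := hxo
    rw [hk]
    exact Nat.Coprime.pow_left k hv.symm
  -- `u` and `x'` lie in the normal Sylow `p`-subgroup of `A`
  obtain ⟨S⟩ : Nonempty (Sylow p A) := inferInstance
  have hSn : (S : Subgroup A).Normal :=
    (((Group.isNilpotent_of_finite_tfae (G := A)).out 0 3 rfl rfl).mp hnA) p hp S
  have hmemS : ∀ w : A, (∃ k : ℕ, w ^ p ^ k = 1) → w ∈ (S : Subgroup A) := by
    intro w hw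
    exact mem_sylow_of_mem_normalizer S (by rw [normalizer_eq_top_iff.mpr hSn]; exact mem_top w) hw
  have hxS : x' ∈ (S : Subgroup A) := by
    apply hmemS
    obtain ⟨k, hk⟩ := hx
    refine ⟨k, ?_⟩
    apply Subtype.ext
    rw [SubmonoidClass.coe_pow, hx']
    exact hk
  have huS : u ∈ (S : Subgroup A) := hmemS u hu
  -- the image of `S` in `G` is a `p`-subgroup, hence inside a conjugate of `P`
  have hSp : IsPGroup p ((S : Subgroup A).map A.subtype) := S.2.map A.subtype
  obtain ⟨Q, hQ⟩ := hSp.exists_le_sylow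
  obtain ⟨g, hg⟩ := MulAction.exists_smul_eq G P Q
  have habQ : ∀ c ∈ (Q : Subgroup G), ∀ d ∈ (Q : Subgroup G), c * d = d * c := by
    intro c hc d hd
    rw [← hg, Sylow.coe_subgroup_smul] at hc hd
    obtain ⟨c', hc', rfl⟩ := Subgroup.mem_map.mp hc
    obtain ⟨d', hd', rfl⟩ := Subgroup.mem_map.mp hd
    simp only [MulDistribMulAction.toMonoidEnd_apply, MulDistribMulAction.toMonoidHom_apply,
      MulAut.smul_def, MulAut.conj_apply]
    have := hab c' hc' d' hd'
    calc g * c' * g⁻¹ * (g * d' * g⁻¹) = g * (c' * d') * g⁻¹ := by group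
      _ = g * (d' * c') * g⁻¹ := by rw [this]
      _ = g * d' * g⁻¹ * (g * c' * g⁻¹) := by group
  have hcu : (u : G) * x = x * (u : G) :=
    habQ _ (hQ ⟨u, huS, rfl⟩) _ (hQ ⟨x', hxS, rfl⟩)
  have hcv' : (v : G) * x = x * (v : G) := by
    have := congrArg Subtype.val hcv.eq
    simpa using this.symm
  have ha : a = (u : G) * (v : G) := by
    have := congrArg Subtype.val huv
    simpa using this.symm
  rw [ha]
  calc x * ((u : G) * (v : G)) = (x * u) * v := by group
    _ = (u * x) * v := by rw [hcu]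
    _ = u * (x * v) := by group
    _ = u * (v * x) := by rw [hcv']
    _ = (u : G) * (v : G) * x := by group

variable (hZ : center G = ⊥)
include hZ

omit [Finite G] hp in
theorem centralizer_ne_top {x : G} (hx1 : x ≠ 1) : centralizer ({x} : Set G) ≠ ⊤ := by
  intro htop
  apply hx1
  have : x ∈ center G := by
    rw [mem_center_iff]
    intro g
    have hg : g ∈ centralizer ({x} : Set G) := by rw [htop]; exact mem_top g
    exact (mem_centralizer_iff.mp hg x rfl).symm
  rw [hZ, mem_bot] at this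
  exact this

/-- a nonidentity `p`-element lies in a unique member -/
theorem NilMinCover.member_unique (h : NilMinCover G 𝓐) (P : Sylow p G)
    (hab : ∀ a ∈ (P : Subgroup G), ∀ b ∈ (P : Subgroup G), a * b = b * a)
    {A B : Subgroup G} (hA : A ∈ 𝓐) (hB : B ∈ 𝓐) {x : G} (hx1 : x ≠ 1) (hx : ∃ k : ℕ, x ^ p ^ k = 1)
    (hxA : x ∈ A) (hxB : x ∈ B) : A = B :=
  h.eq_of_le (centralizer_ne_top hZ hx1) hA hB (h.le_centralizer P hab hA hxA hx)
    (h.le_centralizer P hab hB hxB hx)

/-- `p'`-elements of `C_G(x)` lie in the member containing the `p`-element `x` -/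
theorem NilMinCover.mem_of_commute (h : NilMinCover G 𝓐) (P : Sylow p G)
    (hab : ∀ a ∈ (P : Subgroup G), ∀ b ∈ (P : Subgroup G), a * b = b * a)
    {A : Subgroup G} (hA : A ∈ 𝓐) {x : G} (hx1 : x ≠ 1) (hx : ∃ k : ℕ, x ^ p ^ k = 1) (hxA : x ∈ A)
    {c : G} (hc : Commute x c) (hcp : (orderOf c).Coprime p) : c ∈ A := by
  obtain ⟨B, hB, hxcB⟩ := h.cover (x * c)
  -- `x` and `c` are powers of `x * c`
  obtain ⟨k, hk⟩ := hx
  have hox : orderOf x ∣ p ^ k := orderOf_dvd_of_pow_eq_one hk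
  have hcop : Nat.Coprime (orderOf x) (orderOf c) :=
    Nat.Coprime.coprime_dvd_left hox (Nat.Coprime.pow_left k hcp.symm)
  -- Bezout
  have hbez := Nat.gcd_eq_gcd_ab (orderOf x) (orderOf c)
  rw [hcop.gcd_eq_one] at hbez
  set s := Nat.gcdA (orderOf x) (orderOf c)
  set t := Nat.gcdB (orderOf x) (orderOf c)
  have hpowx : (x * c) ^ ((orderOf c : ℤ) * t) = x := by
    rw [hc.mul_zpow, zpow_mul c, zpow_natCast, pow_orderOf_eq_one, one_zpow, mul_one]
    have : (orderOf c : ℤ) * t = 1 - (orderOf x : ℤ) * s := by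
      rw [Nat.cast_one] at hbez; linarith
    rw [this, zpow_sub, zpow_one, zpow_mul, zpow_natCast, pow_orderOf_eq_one, one_zpow, inv_one, mul_one]
  have hxB : x ∈ B := by
    rw [← hpowx]; exact B.zpow_mem hxcB _
  have hcB : c ∈ B := by
    have : c = x⁻¹ * (x * c) := by group
    rw [this]; exact B.mul_mem (B.inv_mem hxB) hxcB
  have hAB := h.member_unique hZ P hab hA hB hx1 ⟨k, hk⟩ hxA hxB
  rw [hAB]; exact hcB

/-- the Sylow subgroup lies in a member -/
theorem NilMinCover.exists_sylow_le (h : NilMinCover G 𝓐) (P : Sylow p G)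
    (hab : ∀ a ∈ (P : Subgroup G), ∀ b ∈ (P : Subgroup G), a * b = b * a)
    (hP : IsCyclic (P : Subgroup G) ∨ ∃ x₀ ∈ (P : Subgroup G), x₀ ^ p ≠ 1) :
    ∃ A ∈ 𝓐, (P : Subgroup G) ≤ A := by
  rcases hP with hcyc | ⟨x₀, hx₀P, hx₀⟩
  · obtain ⟨g, hg⟩ := hcyc.exists_generator
    obtain ⟨A, hA, hgA⟩ := h.cover (g : G)
    refine ⟨A, hA, ?_⟩
    intro y hy
    obtain ⟨j, hj⟩ := mem_zpowers_iff.mp (hg ⟨y, hy⟩)
    have : y = (g : G) ^ j := by
      have := congrArg Subtype.val hj
      simpa using this.symm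
    rw [this]; exact A.zpow_mem hgA j
  · obtain ⟨A, hA, hx₀A⟩ := h.cover x₀
    refine ⟨A, hA, ?_⟩
    have hpel : ∀ y ∈ (P : Subgroup G), ∃ k : ℕ, y ^ p ^ k = 1 := by
      intro y hy
      obtain ⟨k, hk⟩ := P.2 ⟨y, hy⟩
      exact ⟨k, by simpa using congrArg Subtype.val hk⟩
    have hz1 : x₀ ^ p ≠ 1 := hx₀
    have hzA : x₀ ^ p ∈ A := A.pow_mem hx₀A p
    have hzp : ∃ k : ℕ, (x₀ ^ p) ^ p ^ k = 1 := hpel _ ((P : Subgroup G).pow_mem hx₀P p)
    -- elements of order dividing `p` lie in `A`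
    have hΩ : ∀ v ∈ (P : Subgroup G), v ^ p = 1 → v ∈ A := by
      intro v hvP hv
      obtain ⟨B, hB, hB'⟩ := h.cover (x₀ * v)
      have hpow : (x₀ * v) ^ p = x₀ ^ p := by
        have hc : Commute x₀ v := hab x₀ hx₀P v hvP
        rw [hc.mul_pow, hv, mul_one]
      have hzB : x₀ ^ p ∈ B := by rw [← hpow]; exact B.pow_mem hB' p
      have hAB := h.member_unique hZ P hab hA hB hz1 hzp hzA hzB
      have : v = x₀⁻¹ * (x₀ * v) := by group
      rw [this, hAB]
      exact B.mul_mem (B.inv_mem (hAB ▸ hx₀A)) hB'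
    intro v hvP
    by_cases hv1 : v = 1
    · rw [hv1]; exact A.one_mem
    obtain ⟨j, hj⟩ := (IsPGroup.iff_orderOf.mp P.2) ⟨v, hvP⟩
    have hj' : orderOf v = p ^ j := by rw [← hj, Subgroup.orderOf_mk]
    have hj0 : j ≠ 0 := by
      rintro rfl
      rw [pow_zero, orderOf_eq_one_iff] at hj'
      exact hv1 hj'
    set w := v ^ p ^ (j - 1) with hw
    have hwp : w ^ p = 1 := by
      rw [hw, ← pow_mul, ← pow_succ, show j - 1 + 1 = j by omega, ← hj', pow_orderOf_eq_one]
    have hw1 : w ≠ 1 := by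
      intro h1
      have := orderOf_dvd_of_pow_eq_one h1
      rw [hj'] at this
      have := (Nat.pow_dvd_pow_iff_le_right hp.out.one_lt).mp this
      omega
    have hwP : w ∈ (P : Subgroup G) := (P : Subgroup G).pow_mem hvP _
    have hwA : w ∈ A := hΩ w hwP hwp
    obtain ⟨B, hB, hvB⟩ := h.cover v
    have hwB : w ∈ B := B.pow_mem hvB _
    have hAB := h.member_unique hZ P hab hA hB hw1 ⟨1, by rw [pow_one]; exact hwp⟩ hwA hwB
    rw [hAB]; exact hvB

/-- the member containing `P` is `C_G(P)` -/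
theorem NilMinCover.eq_centralizer (h : NilMinCover G 𝓐) (P : Sylow p G)
    (hab : ∀ a ∈ (P : Subgroup G), ∀ b ∈ (P : Subgroup G), a * b = b * a)
    (hne : (P : Subgroup G) ≠ ⊥) {A : Subgroup G} (hA : A ∈ 𝓐) (hPA : (P : Subgroup G) ≤ A) :
    A = centralizer ((P : Subgroup G) : Set G) := by
  have hpel : ∀ y ∈ (P : Subgroup G), ∃ k : ℕ, y ^ p ^ k = 1 := by
    intro y hy
    obtain ⟨k, hk⟩ := P.2 ⟨y, hy⟩
    exact ⟨k, by simpa using congrArg Subtype.val hk⟩
  apply le_antisymm
  · intro a haA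
    rw [mem_centralizer_iff]
    intro y hy
    have := h.le_centralizer P hab hA (hPA hy) (hpel y hy) haA
    exact mem_centralizer_iff.mp this y rfl
  · intro c hc
    obtain ⟨x, hx1⟩ := (Subgroup.ne_bot_iff_exists_ne_one.mp hne)
    have hx1' : (x : G) ≠ 1 := fun e => hx1 (Subtype.ext e)
    obtain ⟨u, v, huv, -, hu, hv, huz, hvz⟩ := exists_p_decomp p c
    have hcz : zpowers c ≤ centralizer ((P : Subgroup G) : Set G) := zpowers_le.mpr hc
    have huC := hcz huz
    have hvC := hcz hvz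
    have huP : u ∈ (P : Subgroup G) := by
      apply mem_sylow_of_mem_normalizer P _ hu
      exact (centralizer_le_normalizer _) huC
    have hvA : v ∈ A := by
      apply h.mem_of_commute hZ P hab hA hx1' (hpel _ x.2) (hPA x.2) _ hv
      exact (mem_centralizer_iff.mp hvC x x.2)
    rw [← huv]
    exact A.mul_mem (hPA huP) hvA


omit [Finite G] hZ hp in
theorem mem_smul_sylow_iff (P : Sylow p G) (g y : G) :
    y ∈ ((g • P : Sylow p G) : Subgroup G) ↔ g⁻¹ * y * g ∈ (P : Subgroup G) := by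
  rw [Sylow.coe_subgroup_smul, Subgroup.mem_pointwise_smul_iff_inv_smul_mem, MulAut.smul_def,
    MulAut.conj_inv_apply]

/-- the hypotheses on the Sylow subgroup used throughout -/
def GoodSylow (P : Sylow p G) : Prop :=
  (∀ a ∈ (P : Subgroup G), ∀ b ∈ (P : Subgroup G), a * b = b * a) ∧
    (IsCyclic (P : Subgroup G) ∨ ∃ x₀ ∈ (P : Subgroup G), x₀ ^ p ≠ 1)

omit [Finite G] hZ hp in
theorem GoodSylow.smul {P : Sylow p G} (hP : GoodSylow P) (g : G) : GoodSylow (g • P) := by
  obtain ⟨hab, hP⟩ := hP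
  refine ⟨?_, ?_⟩
  · intro c hc d hd
    rw [mem_smul_sylow_iff] at hc hd
    have := hab _ hc _ hd
    calc c * d = g * ((g⁻¹ * c * g) * (g⁻¹ * d * g)) * g⁻¹ := by group
      _ = g * ((g⁻¹ * d * g) * (g⁻¹ * c * g)) * g⁻¹ := by rw [this]
      _ = d * c := by group
  · rcases hP with hc | ⟨x₀, hx₀, hx₀p⟩
    · left
      exact (P.equivSMul g).isCyclic.mp hc
    · right
      refine ⟨g * x₀ * g⁻¹, ?_, ?_⟩
      · rw [mem_smul_sylow_iff]
        have : g⁻¹ * (g * x₀ * g⁻¹) * g = x₀ := by group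
        rw [this]; exact hx₀
      · rw [conj_pow]
        intro h1
        apply hx₀p
        have : x₀ ^ p = g⁻¹ * (g * x₀ ^ p * g⁻¹) * g := by group
        rw [this, h1]; group

omit [Finite G] hZ hp in
theorem sylow_pel (P : Sylow p G) : ∀ y ∈ (P : Subgroup G), ∃ k : ℕ, y ^ p ^ k = 1 := by
  intro y hy
  obtain ⟨k, hk⟩ := P.2 ⟨y, hy⟩
  exact ⟨k, by simpa using congrArg Subtype.val hk⟩

omit [Finite G] hZ hp in
theorem sylow_ne_bot_of_not_normal (P : Sylow p G) (hnn : ¬ (P : Subgroup G).Normal) :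
    (P : Subgroup G) ≠ ⊥ := by
  intro h
  apply hnn
  rw [h]
  infer_instance

/-- the centralizer of a good Sylow subgroup is a member -/
theorem NilMinCover.centralizer_mem (h : NilMinCover G 𝓐) {P : Sylow p G} (hP : GoodSylow P)
    (hnn : ¬ (P : Subgroup G).Normal) : centralizer ((P : Subgroup G) : Set G) ∈ 𝓐 := by
  obtain ⟨A, hA, hPA⟩ := h.exists_sylow_le hZ P hP.1 hP.2
  have := h.eq_centralizer hZ P hP.1 (sylow_ne_bot_of_not_normal P hnn) hA hPA
  rw [← this]; exact hA

omit [Finite G] hZ hp in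
theorem smul_not_normal {P : Sylow p G} (hnn : ¬ (P : Subgroup G).Normal) (g : G) :
    ¬ ((g • P : Sylow p G) : Subgroup G).Normal := by
  intro hn
  apply hnn
  have h1 : (g • P : Sylow p G) = P := by
    have : g⁻¹ • (g • P : Sylow p G) = g • P := Sylow.smul_eq_of_normal
    rw [← this, inv_smul_smul]
  rw [← h1]; exact hn

omit [Finite G] hZ hp in
/-- `P ≤ C_G(P)` for abelian `P` -/
theorem le_centralizer_self {P : Sylow p G} (hP : GoodSylow P) :
    (P : Subgroup G) ≤ centralizer ((P : Subgroup G) : Set G) := by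
  intro a ha
  rw [mem_centralizer_iff]
  intro b hb
  exact hP.1 b hb a ha

omit hZ [Finite G] in
/-- if `C_G(P) = C_G(gP)` then `g` normalizes `P` -/
theorem mem_normalizer_of_centralizer_eq {P : Sylow p G} (hP : GoodSylow P) (g : G)
    (he : centralizer ((P : Subgroup G) : Set G) = centralizer (((g • P : Sylow p G) : Subgroup G) : Set G)) :
    g ∈ normalizer ((P : Subgroup G) : Set G) := by
  refine (Sylow.smul_eq_iff_mem_normalizer (P := P)).mp ?_
  have hle : ((g • P : Sylow p G) : Subgroup G) ≤ (P : Subgroup G) := by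
    intro y hy
    have h1 : y ∈ centralizer ((P : Subgroup G) : Set G) := by
      rw [he]; exact le_centralizer_self (hP.smul g) hy
    exact mem_sylow_of_mem_normalizer P (centralizer_le_normalizer _ h1) (sylow_pel _ y hy)
  have := (g • P).is_maximal' P.2 hle
  exact Sylow.ext this.symm

/-- main structure theorem -/
theorem NilMinCover.main (h : NilMinCover G 𝓐) {P : Sylow p G} (hP : GoodSylow P)
    (hnn : ¬ (P : Subgroup G).Normal) :
    centralizer ((P : Subgroup G) : Set G) ∈ 𝓐 ∧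
    IsCoatom (normalizer ((P : Subgroup G) : Set G)) ∧
    (∀ M : Subgroup G, IsCoatom M → centralizer ((P : Subgroup G) : Set G) ≤ M →
        M = normalizer ((P : Subgroup G) : Set G)) ∧
    (∀ g : G, g ∉ normalizer ((P : Subgroup G) : Set G) →
        ¬ p ∣ Nat.card ↥(normalizer ((P : Subgroup G) : Set G) ⊓
          (normalizer ((P : Subgroup G) : Set G)).map (MulAut.conj g).toMonoidHom)) := by
  have hCmem := h.centralizer_mem hZ hP hnn
  have hNtop : normalizer ((P : Subgroup G) : Set G) ≠ ⊤ := by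
    intro htop
    exact hnn (normalizer_eq_top_iff.mp htop)
  have hCN : centralizer ((P : Subgroup G) : Set G) ≤ normalizer ((P : Subgroup G) : Set G) :=
    centralizer_le_normalizer _
  have huniq : ∀ M : Subgroup G, IsCoatom M → centralizer ((P : Subgroup G) : Set G) ≤ M →
        M = normalizer ((P : Subgroup G) : Set G) := by
    intro M hM hCM
    have hMN : M ≤ normalizer ((P : Subgroup G) : Set G) := by
      intro m hm
      apply mem_normalizer_of_centralizer_eq hP m
      have hC' := h.centralizer_mem hZ (hP.smul m) (smul_not_normal hnn m)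
      have hC'M : centralizer (((m • P : Sylow p G) : Subgroup G) : Set G) ≤ M := by
        intro c hc
        have h1 : m⁻¹ * c * m ∈ centralizer ((P : Subgroup G) : Set G) := by
          rw [mem_centralizer_iff]
          intro y hy
          have hy' : m * y * m⁻¹ ∈ ((m • P : Sylow p G) : Subgroup G) := by
            rw [mem_smul_sylow_iff]
            have : m⁻¹ * (m * y * m⁻¹) * m = y := by group
            rw [this]; exact hy
          have h2 := mem_centralizer_iff.mp hc _ hy'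
          calc y * (m⁻¹ * c * m) = m⁻¹ * ((m * y * m⁻¹) * c) * m := by group
            _ = m⁻¹ * (c * (m * y * m⁻¹)) * m := by rw [h2]
            _ = m⁻¹ * c * m * y := by group
        have h3 : c = m * (m⁻¹ * c * m) * m⁻¹ := by group
        rw [h3]
        exact M.mul_mem (M.mul_mem hm (hCM h1)) (M.inv_mem hm)
      exact h.eq_of_le hM.1 hCmem hC' hCM hC'M
    exact ((hM.le_iff_eq hNtop).mp hMN).symm
  have hcoatom : IsCoatom (normalizer ((P : Subgroup G) : Set G)) := by
    obtain ⟨M, hM, hNM⟩ := (eq_top_or_exists_le_coatom (normalizer ((P : Subgroup G) : Set G))).resolve_left hNtop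
    have := huniq M hM (hCN.trans hNM)
    rw [← this]; exact hM
  refine ⟨hCmem, hcoatom, huniq, ?_⟩
  intro g hg hdvd
  apply hg
  obtain ⟨x, hx⟩ := exists_prime_orderOf_dvd_card' (G := ↥(normalizer ((P : Subgroup G) : Set G) ⊓
          (normalizer ((P : Subgroup G) : Set G)).map (MulAut.conj g).toMonoidHom)) p hdvd
  have hxo : orderOf (x : G) = p := by rw [Subgroup.orderOf_coe]; exact hx
  have hx1 : (x : G) ≠ 1 := by
    intro h1
    rw [h1, orderOf_one] at hxo
    exact hp.out.one_lt.ne hxo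
  have hxp : ∃ k : ℕ, (x : G) ^ p ^ k = 1 := by
    refine ⟨1, ?_⟩
    have h1 := pow_orderOf_eq_one (x : G)
    rw [hxo] at h1
    rw [pow_one]; exact h1
  have hxN : (x : G) ∈ normalizer ((P : Subgroup G) : Set G) := (mem_inf.mp x.2).1
  have hxNg : (x : G) ∈ (normalizer ((P : Subgroup G) : Set G)).map (MulAut.conj g).toMonoidHom :=
    (mem_inf.mp x.2).2
  have hxP : (x : G) ∈ (P : Subgroup G) := mem_sylow_of_mem_normalizer P hxN hxp
  have hxgP : (x : G) ∈ ((g • P : Sylow p G) : Subgroup G) := by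
    rw [mem_smul_sylow_iff]
    obtain ⟨n, hn, hnx⟩ := Subgroup.mem_map.mp hxNg
    have hnx' : g * n * g⁻¹ = (x : G) := hnx
    have : g⁻¹ * (x : G) * g = n := by rw [← hnx']; group
    rw [this]
    apply mem_sylow_of_mem_normalizer P hn
    obtain ⟨k, hk⟩ := hxp
    refine ⟨k, ?_⟩
    have h2 : n ^ p ^ k = g⁻¹ * (x : G) ^ p ^ k * g := by
      rw [← this]
      have := conj_pow (a := g⁻¹) (b := (x : G)) (i := p ^ k)
      rw [inv_inv] at this
      exact this
    rw [h2, hk]; group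
  apply mem_normalizer_of_centralizer_eq hP g
  have hC' := h.centralizer_mem hZ (hP.smul g) (smul_not_normal hnn g)
  exact h.member_unique hZ P hP.1 hCmem hC' hx1 hxp (le_centralizer_self hP hxP)
    (le_centralizer_self (hP.smul g) hxgP)

end Main

end Cfsg.Agent.Lib.Helper64.NilCover
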