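import Mathlib
import Cfsg.Agent.Lib.Helper64.NilCover

/-!
# Counting conjugacy classes of `π`-elements

* `card_commPairs` : for a conjugation invariant predicate `Q` on a finite group `H`,
  `#{(x, h) | Q x ∧ x h = h x} = #{classes inside Q} * |H|`.
-/

set_option autoImplicit false

namespace Cfsg.Agent.Lib.Helper64.PiClasses

open Subgroup MulAction

section Count

variable {H : Type*} [Group H]

/-- the number of conjugacy classes all of whose elements satisfy `Q` -/
noncomputable def kQ (Q : H → Prop) : ℕ := Nat.card {c : ConjClasses H // ∀ x ∈ c.carrier, Q x}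

/-- conjugation action on the elements satisfying a conjugation invariant predicate -/
@[reducible] def conjSubAction (Q : H → Prop) (hQ : ∀ x g : H, Q x → Q (g * x * g⁻¹)) :
    MulAction (ConjAct H) {x : H // Q x} where
  smul g x := ⟨ConjAct.ofConjAct g * x.1 * (ConjAct.ofConjAct g)⁻¹, hQ x.1 _ x.2⟩
  one_smul x := by
    apply Subtype.ext
    show ConjAct.ofConjAct (1 : ConjAct H) * x.1 * (ConjAct.ofConjAct (1 : ConjAct H))⁻¹ = x.1
    simp
  mul_smul g h x := by
    apply Subtype.ext
    show ConjAct.ofConjAct (g * h) * x.1 * (ConjAct.ofConjAct (g * h))⁻¹ =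
      ConjAct.ofConjAct g * (ConjAct.ofConjAct h * x.1 * (ConjAct.ofConjAct h)⁻¹) * (ConjAct.ofConjAct g)⁻¹
    simp [mul_assoc]

theorem card_commPairs [Finite H] (Q : H → Prop) (hQ : ∀ x g : H, Q x → Q (g * x * g⁻¹)) :
    Nat.card {p : H × H // Q p.1 ∧ Commute p.1 p.2} = kQ Q * Nat.card H := by
  classical
  let _ : MulAction (ConjAct H) {x : H // Q x} := conjSubAction Q hQ
  have hsmul : ∀ (g : ConjAct H) (x : {x : H // Q x}),
      ((g • x : {x : H // Q x}) : H) = ConjAct.ofConjAct g * x.1 * (ConjAct.ofConjAct g)⁻¹ := fun g x => rfl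
  have : Fintype H := Fintype.ofFinite H
  have : Fintype (ConjAct H) := inferInstanceAs (Fintype H)
  have : Fintype (Quotient (orbitRel (ConjAct H) {x : H // Q x})) := Fintype.ofFinite _
  have hB := MulAction.sum_card_fixedBy_eq_card_orbits_mul_card_group (ConjAct H) {x : H // Q x}
  -- left side
  have hL : Nat.card {p : H × H // Q p.1 ∧ Commute p.1 p.2} =
      ∑ g : ConjAct H, Fintype.card (fixedBy {x : H // Q x} g) := by
    rw [← Fintype.card_sigma, Nat.card_eq_fintype_card]
    apply Fintype.card_congr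
    refine
      { toFun := fun p => ⟨ConjAct.toConjAct p.1.2, ⟨⟨p.1.1, p.2.1⟩, ?_⟩⟩
        invFun := fun s => ⟨(s.2.1.1, ConjAct.ofConjAct s.1), ⟨s.2.1.2, ?_⟩⟩
        left_inv := ?_
        right_inv := ?_ }
    · rw [mem_fixedBy]
      apply Subtype.ext
      rw [hsmul]
      simp only [ConjAct.ofConjAct_toConjAct]
      have := p.2.2.eq
      rw [mul_inv_eq_iff_eq_mul]
      exact this.symm
    · have h1 := s.2.2
      rw [mem_fixedBy] at h1
      have h2 := congrArg Subtype.val h1
      rw [hsmul] at h2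
      rw [mul_inv_eq_iff_eq_mul] at h2
      exact h2.symm
    · rintro ⟨⟨x, h⟩, hx⟩
      rfl
    · rintro ⟨g, ⟨x, hx⟩⟩
      rfl
  -- orbits
  have hR : Fintype.card (Quotient (orbitRel (ConjAct H) {x : H // Q x})) = kQ Q := by
    rw [kQ, ← Nat.card_eq_fintype_card]
    have hmem : ∀ x : {x : H // Q x}, ∀ y ∈ (ConjClasses.mk x.1).carrier, Q y := by
      intro x y hy
      rw [ConjClasses.mem_carrier_iff_mk_eq, ConjClasses.mk_eq_mk_iff_isConj, isConj_comm, isConj_iff] at hy
      obtain ⟨c, rfl⟩ := hy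
      exact hQ _ _ x.2
    let f : Quotient (orbitRel (ConjAct H) {x : H // Q x}) → {c : ConjClasses H // ∀ x ∈ c.carrier, Q x} :=
      Quotient.lift (fun x => ⟨ConjClasses.mk x.1, hmem x⟩) (by
        intro a b hab
        apply Subtype.ext
        show ConjClasses.mk a.1 = ConjClasses.mk b.1
        have hab' : (orbitRel (ConjAct H) {x : H // Q x}) a b := hab
        rw [orbitRel_apply, mem_orbit_iff] at hab'
        obtain ⟨g, hg⟩ := hab'
        rw [ConjClasses.mk_eq_mk_iff_isConj, isConj_comm, isConj_iff]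
        refine ⟨ConjAct.ofConjAct g, ?_⟩
        rw [← hsmul, hg])
    apply Nat.card_eq_of_bijective f
    constructor
    · intro a b
      refine Quotient.inductionOn₂ a b ?_
      intro a b hab
      have h1 : ConjClasses.mk a.1 = ConjClasses.mk b.1 := congrArg Subtype.val hab
      rw [ConjClasses.mk_eq_mk_iff_isConj, isConj_comm, isConj_iff] at h1
      obtain ⟨c, hc⟩ := h1
      apply Quotient.sound
      show (orbitRel (ConjAct H) {x : H // Q x}) a b
      rw [orbitRel_apply, mem_orbit_iff]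
      refine ⟨ConjAct.toConjAct c, ?_⟩
      apply Subtype.ext
      rw [hsmul, ConjAct.ofConjAct_toConjAct, hc]
    · rintro ⟨c, hc⟩
      obtain ⟨x, rfl⟩ := ConjClasses.mk_surjective c
      have hx : Q x := hc x ConjClasses.mem_carrier_mk
      exact ⟨Quotient.mk _ ⟨x, hx⟩, rfl⟩
  rw [hL, hB, hR]
  congr 1
  rw [← Nat.card_eq_fintype_card]
  exact Nat.card_congr ConjAct.ofConjAct.toEquiv

end Count


section PiElt

variable {G : Type*} [Group G]

/-- `x` is a `π`-element -/
def IsPiElt (π : Finset ℕ) (x : G) : Prop := ∀ r : ℕ, r.Prime → r ∣ orderOf x → r ∈ π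

theorem orderOf_conj' (g x : G) : orderOf (g * x * g⁻¹) = orderOf x := by
  have := MulEquiv.orderOf_eq (MulAut.conj g) x
  rwa [MulAut.conj_apply] at this

theorem IsPiElt.conj {π : Finset ℕ} {x : G} (hx : IsPiElt π x) (g : G) : IsPiElt π (g * x * g⁻¹) := by
  intro r hr hd
  rw [orderOf_conj'] at hd
  exact hx r hr hd

theorem isPiElt_singleton_iff [Finite G] {p : ℕ} (hp : p.Prime) (x : G) :
    IsPiElt {p} x ↔ ∃ k : ℕ, orderOf x = p ^ k := by
  constructor
  · intro h
    refine ⟨_, Nat.eq_prime_pow_of_unique_prime_dvd (orderOf_pos x).ne' ?_⟩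
    intro d hd hdx
    exact Finset.mem_singleton.mp (h d hd hdx)
  · rintro ⟨k, hk⟩ r hr hd
    rw [hk] at hd
    rw [Finset.mem_singleton]
    exact (Nat.prime_dvd_prime_iff_eq hr hp).mp (hr.dvd_of_dvd_pow hd)

/-- the number of classes of `π`-elements -/
noncomputable def kpi (π : Finset ℕ) (G : Type*) [Group G] : ℕ := kQ (IsPiElt (G := G) π)

end PiElt

section SylowPart

open Cfsg.Agent.Lib.Helper64.NilCover

variable {G : Type*} [Group G] [Finite G] {p : ℕ} [hp : Fact p.Prime]

theorem exists_conj_mem_sylow (P : Sylow p G) {x : G} (hx : IsPiElt {p} x) :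
    ∃ g : G, g * x * g⁻¹ ∈ (P : Subgroup G) := by
  obtain ⟨k, hk⟩ := (isPiElt_singleton_iff hp.out x).mp hx
  have hz : IsPGroup p (zpowers x) := by
    apply IsPGroup.of_card (n := k)
    rw [Nat.card_zpowers, hk]
  obtain ⟨Q, hQ⟩ := hz.exists_le_sylow
  obtain ⟨g, hg⟩ := MulAction.exists_smul_eq G Q P
  refine ⟨g, ?_⟩
  rw [← hg, mem_smul_sylow_iff]
  have : g⁻¹ * (g * x * g⁻¹) * g = x := by group
  rw [this]
  exact hQ (mem_zpowers x)

/-- the predicate "lies in `P`" on the normalizer of `P` -/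
def InP (P : Sylow p G) : ↥(normalizer ((P : Subgroup G) : Set G)) → Prop := fun n => (n : G) ∈ (P : Subgroup G)

omit [Finite G] hp in
theorem inP_conj (P : Sylow p G) (x g : ↥(normalizer ((P : Subgroup G) : Set G))) (hx : InP P x) :
    InP P (g * x * g⁻¹) := by
  unfold InP at *
  have := (mem_normalizer_iff.mp g.2 (x : G)).mp hx
  simpa using this

/-- classes of `p`-elements of `G` are dominated by the `N_G(P)`-classes inside `P` -/
theorem kpi_le_kQ_inP (P : Sylow p G) : kpi {p} G ≤ kQ (InP P) := by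
  unfold kpi kQ
  have hsurj : ∀ c : {c : ConjClasses G // ∀ x ∈ c.carrier, IsPiElt {p} x},
      ∃ d : {d : ConjClasses ↥(normalizer ((P : Subgroup G) : Set G)) // ∀ x ∈ d.carrier, InP P x},
        ConjClasses.map (normalizer ((P : Subgroup G) : Set G)).subtype d.1 = c.1 := by
    rintro ⟨c, hc⟩
    obtain ⟨x, rfl⟩ := ConjClasses.mk_surjective c
    have hx : IsPiElt {p} x := hc x ConjClasses.mem_carrier_mk
    obtain ⟨g, hg⟩ := exists_conj_mem_sylow P hx
    have hgN : g * x * g⁻¹ ∈ normalizer ((P : Subgroup G) : Set G) := le_normalizer hg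
    refine ⟨⟨ConjClasses.mk ⟨g * x * g⁻¹, hgN⟩, ?_⟩, ?_⟩
    · intro y hy
      rw [ConjClasses.mem_carrier_iff_mk_eq, ConjClasses.mk_eq_mk_iff_isConj, isConj_comm, isConj_iff] at hy
      obtain ⟨c, rfl⟩ := hy
      exact inP_conj P _ c hg
    · show ConjClasses.mk (g * x * g⁻¹) = ConjClasses.mk x
      rw [ConjClasses.mk_eq_mk_iff_isConj, isConj_comm, isConj_iff]
      exact ⟨g, rfl⟩
  choose f hf using hsurj
  apply Nat.card_le_card_of_injective f
  intro a b hab
  apply Subtype.ext
  rw [← hf a, ← hf b, hab]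


omit [Finite G] hp in
theorem aux_mul (q a : ℕ) (hq : 1 ≤ q) : q * a = a + (q - 1) * a := by
  cases q with
  | zero => omega
  | succ r => simp [Nat.succ_mul]; ring

/-- Burnside count for `N_G(P)` acting on `P`: every element outside `C_G(P)` fixes at most `|P|/p` points -/
theorem orbit_bound (P : Sylow p G) :
    p * (kQ (InP P) * Nat.card ↥(normalizer ((P : Subgroup G) : Set G))) ≤
      Nat.card ↥(normalizer ((P : Subgroup G) : Set G)) * Nat.card ↥(P : Subgroup G) +
      Nat.card ↥((centralizer ((P : Subgroup G) : Set G)).subgroupOf (normalizer ((P : Subgroup G) : Set G))) *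
        ((p - 1) * Nat.card ↥(P : Subgroup G)) := by
  classical
  set N := normalizer ((P : Subgroup G) : Set G) with hN
  set C' := (centralizer ((P : Subgroup G) : Set G)).subgroupOf N with hC'
  set P' := (P : Subgroup G).subgroupOf N with hP'
  have hPN : (P : Subgroup G) ≤ N := le_normalizer
  have hcardP' : Nat.card ↥P' = Nat.card ↥(P : Subgroup G) :=
    Nat.card_congr (Subgroup.subgroupOfEquivOfLe hPN).toEquiv
  rw [← card_commPairs (InP P) (fun x g hx => inP_conj P x g hx)]
  have : Fintype ↥N := Fintype.ofFinite _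
  -- fibre over the second component
  have e1 : {q : ↥N × ↥N // InP P q.1 ∧ Commute q.1 q.2} ≃
      Σ n : ↥N, {x : ↥N // InP P x ∧ Commute x n} :=
    calc {q : ↥N × ↥N // InP P q.1 ∧ Commute q.1 q.2}
        ≃ {q : ↥N × ↥N // InP P q.2 ∧ Commute q.2 q.1} :=
          (Equiv.prodComm ↥N ↥N).subtypeEquiv fun _ => Iff.rfl
      _ ≃ Σ n : ↥N, {x : ↥N // InP P x ∧ Commute x n} :=
          Equiv.subtypeProdEquivSigmaSubtype (fun (n x : ↥N) => InP P x ∧ Commute x n)
  rw [Nat.card_congr e1, Nat.card_sigma, Finset.mul_sum]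
  -- the fixed point subgroup of `n`
  let D : ↥N → Subgroup ↥N := fun n => P' ⊓ centralizer ({n} : Set ↥N)
  have hfib : ∀ n : ↥N, Nat.card {x : ↥N // InP P x ∧ Commute x n} = Nat.card ↥(D n) := by
    intro n
    apply Nat.card_congr
    apply Equiv.subtypeEquivRight
    intro x
    show _ ↔ x ∈ P' ⊓ centralizer ({n} : Set ↥N)
    rw [mem_inf, mem_centralizer_iff]
    constructor
    · rintro ⟨h1, h2⟩
      refine ⟨h1, ?_⟩
      intro y hy
      rw [Set.mem_singleton_iff] at hy
      rw [hy]; exact h2.eq.symm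
    · rintro ⟨h1, h2⟩
      exact ⟨h1, (h2 n rfl).symm⟩
  have hDle : ∀ n, D n ≤ P' := fun n => inf_le_left
  have hterm : ∀ n : ↥N, p * Nat.card {x : ↥N // InP P x ∧ Commute x n} ≤
      Nat.card ↥(P : Subgroup G) + (if n ∈ C' then (p - 1) * Nat.card ↥(P : Subgroup G) else 0) := by
    intro n
    rw [hfib n]
    have hle : Nat.card ↥(D n) ≤ Nat.card ↥(P : Subgroup G) := by
      rw [← hcardP']; exact Subgroup.card_le_of_le (hDle n)
    have hp1 : 1 ≤ p := hp.out.one_lt.le
    by_cases hn : n ∈ C'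
    · rw [if_pos hn]
      calc p * Nat.card ↥(D n) ≤ p * Nat.card ↥(P : Subgroup G) := Nat.mul_le_mul_left p hle
        _ = Nat.card ↥(P : Subgroup G) + (p - 1) * Nat.card ↥(P : Subgroup G) := aux_mul p _ hp1
    · rw [if_neg hn, add_zero]
      have hne : D n ≠ P' := by
        intro he
        apply hn
        rw [hC', mem_subgroupOf, mem_centralizer_iff]
        intro y hy
        have hyN : y ∈ N := hPN hy
        have h1 : (⟨y, hyN⟩ : ↥N) ∈ D n := by
          rw [he, hP', mem_subgroupOf]; exact hy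
        have h2 := (mem_inf.mp h1).2
        rw [mem_centralizer_iff] at h2
        have h3 := h2 n rfl
        have h4 := congrArg Subtype.val h3
        simpa using h4.symm
      have hPp : IsPGroup p ↥P' := P.2.comap_subtype
      obtain ⟨k, hk⟩ := IsPGroup.iff_card.mp hPp
      have hdvd : Nat.card ↥(D n) ∣ Nat.card ↥P' := Subgroup.card_dvd_of_le (hDle n)
      rw [hk] at hdvd
      obtain ⟨j, hjk, hj⟩ := (Nat.dvd_prime_pow hp.out).mp hdvd
      have hjlt : j < k := by
        rcases Nat.lt_or_ge j k with h | h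
        · exact h
        · exfalso
          apply hne
          apply Subgroup.eq_of_le_of_card_ge (hDle n)
          rw [hk, hj]
          exact Nat.pow_le_pow_right hp.out.pos h
      rw [hj, ← hcardP', hk, ← pow_succ']
      exact Nat.pow_le_pow_right hp.out.pos hjlt
  calc ∑ n : ↥N, p * Nat.card {x : ↥N // InP P x ∧ Commute x n}
      ≤ ∑ n : ↥N, (Nat.card ↥(P : Subgroup G) + (if n ∈ C' then (p - 1) * Nat.card ↥(P : Subgroup G) else 0)) :=
        Finset.sum_le_sum fun n _ => hterm n
    _ = Nat.card ↥N * Nat.card ↥(P : Subgroup G) + Nat.card ↥C' * ((p - 1) * Nat.card ↥(P : Subgroup G)) := by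
        have hs1 : ∑ _n : ↥N, Nat.card ↥(P : Subgroup G) = Nat.card ↥N * Nat.card ↥(P : Subgroup G) := by
          rw [Finset.sum_const, Finset.card_univ, smul_eq_mul, Nat.card_eq_fintype_card (α := ↥N)]
        have hs2 : ∑ n : ↥N, (if n ∈ C' then (p - 1) * Nat.card ↥(P : Subgroup G) else 0) =
            Nat.card ↥C' * ((p - 1) * Nat.card ↥(P : Subgroup G)) := by
          rw [Finset.sum_ite, Finset.sum_const, Finset.sum_const_zero, add_zero, smul_eq_mul]
          congr 1
          rw [Nat.card_eq_fintype_card (α := ↥C'), Fintype.card_subtype]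
        rw [Finset.sum_add_distrib, hs1, hs2]

/-- many classes of `p`-elements force `N_G(P) = C_G(P)` -/
theorem normalizer_le_centralizer_of_many (P : Sylow p G)
    (h : (p + 1) * Nat.card ↥(P : Subgroup G) < 2 * p * kpi {p} G) :
    normalizer ((P : Subgroup G) : Set G) ≤ centralizer ((P : Subgroup G) : Set G) := by
  by_contra hle
  set N := normalizer ((P : Subgroup G) : Set G) with hN
  set C' := (centralizer ((P : Subgroup G) : Set G)).subgroupOf N with hC'
  have hCtop : C' ≠ ⊤ := by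
    intro htop
    apply hle
    intro n hn
    have : (⟨n, hn⟩ : ↥N) ∈ C' := by rw [htop]; exact mem_top _
    rw [hC', mem_subgroupOf] at this
    exact this
  have h2 : 2 * Nat.card ↥C' ≤ Nat.card ↥N := by
    have h3 := C'.card_mul_index
    have h4 : C'.index ≠ 1 := fun h1 => hCtop (index_eq_one.mp h1)
    have h5 : C'.index ≠ 0 := index_ne_zero_of_finite
    have h6 : 2 ≤ C'.index := by omega
    calc 2 * Nat.card ↥C' = Nat.card ↥C' * 2 := by ring
      _ ≤ Nat.card ↥C' * C'.index := Nat.mul_le_mul_left _ h6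
      _ = Nat.card ↥N := h3
  have hob := orbit_bound P
  have hk := kpi_le_kQ_inP P
  have hNpos : 0 < Nat.card ↥N := Nat.card_pos
  have hp1 : 1 ≤ p := hp.out.one_lt.le
  -- arithmetic
  set ω := kQ (InP P)
  set a := Nat.card ↥(P : Subgroup G)
  set n := Nat.card ↥N
  set c := Nat.card ↥C'
  have h7 : 2 * p * ω * n ≤ (p + 1) * a * n := by
    have : 2 * (p * (ω * n)) ≤ 2 * (n * a + c * ((p - 1) * a)) := Nat.mul_le_mul_left 2 hob
    have h8 : 2 * (c * ((p - 1) * a)) ≤ n * ((p - 1) * a) := by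
      calc 2 * (c * ((p - 1) * a)) = (2 * c) * ((p - 1) * a) := by ring
        _ ≤ n * ((p - 1) * a) := Nat.mul_le_mul_right _ h2
    have h9 : (p + 1) * a * n = 2 * (n * a) + n * ((p - 1) * a) := by
      have := aux_mul p (a * n) hp1
      calc (p + 1) * a * n = p * (a * n) + a * n := by ring
        _ = (a * n + (p - 1) * (a * n)) + a * n := by rw [this]
        _ = 2 * (n * a) + n * ((p - 1) * a) := by ring
    rw [h9]
    calc 2 * p * ω * n = 2 * (p * (ω * n)) := by ring
      _ ≤ 2 * (n * a + c * ((p - 1) * a)) := this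
      _ = 2 * (n * a) + 2 * (c * ((p - 1) * a)) := by ring
      _ ≤ 2 * (n * a) + n * ((p - 1) * a) := Nat.add_le_add_left h8 _
  have h10 : 2 * p * ω ≤ (p + 1) * a := Nat.le_of_mul_le_mul_right h7 hNpos
  have h11 : 2 * p * kpi {p} G ≤ 2 * p * ω := Nat.mul_le_mul_left _ hk
  omega

/-- crude bound: at most `|P|` classes of `p`-elements -/
theorem kpi_singleton_le (P : Sylow p G) : kpi {p} G ≤ Nat.card ↥(P : Subgroup G) := by
  set N := normalizer ((P : Subgroup G) : Set G) with hN
  set C' := (centralizer ((P : Subgroup G) : Set G)).subgroupOf N with hC'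
  have hob := orbit_bound P
  have hk := kpi_le_kQ_inP P
  have hNpos : 0 < Nat.card ↥N := Nat.card_pos
  have hp1 : 1 ≤ p := hp.out.one_lt.le
  have hc : Nat.card ↥C' ≤ Nat.card ↥N := by
    have h3 := C'.card_mul_index
    have h5 : C'.index ≠ 0 := index_ne_zero_of_finite
    calc Nat.card ↥C' = Nat.card ↥C' * 1 := (mul_one _).symm
      _ ≤ Nat.card ↥C' * C'.index := Nat.mul_le_mul_left _ (by omega)
      _ = Nat.card ↥N := h3
  set ω := kQ (InP P)
  set a := Nat.card ↥(P : Subgroup G)
  set n := Nat.card ↥N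
  set c := Nat.card ↥C'
  have h1 : p * (ω * n) ≤ p * (a * n) := by
    calc p * (ω * n) ≤ n * a + c * ((p - 1) * a) := hob
      _ ≤ n * a + n * ((p - 1) * a) := Nat.add_le_add_left (Nat.mul_le_mul_right _ hc) _
      _ = p * (a * n) := by
          rw [aux_mul p (a * n) hp1]; ring
  have h2 : ω * n ≤ a * n := Nat.le_of_mul_le_mul_left h1 hp.out.pos
  have h3 : ω ≤ a := Nat.le_of_mul_le_mul_right h2 hNpos
  exact hk.trans h3


/-- with a normal complement and abelian `P`, distinct elements of `P` are not conjugate -/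
theorem card_le_kpi_of_complement (P : Sylow p G) (K : Subgroup G) [hKn : K.Normal]
    (hK : K.IsComplement' (P : Subgroup G))
    (hab : ∀ a ∈ (P : Subgroup G), ∀ b ∈ (P : Subgroup G), a * b = b * a) :
    Nat.card ↥(P : Subgroup G) ≤ kpi {p} G := by
  unfold kpi kQ
  have hmem : ∀ x : ↥(P : Subgroup G), ∀ y ∈ (ConjClasses.mk (x : G)).carrier, IsPiElt {p} y := by
    intro x y hy
    rw [ConjClasses.mem_carrier_iff_mk_eq, ConjClasses.mk_eq_mk_iff_isConj, isConj_comm, isConj_iff] at hy
    obtain ⟨c, rfl⟩ := hy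
    apply IsPiElt.conj
    rw [isPiElt_singleton_iff hp.out]
    obtain ⟨k, hk⟩ := (IsPGroup.iff_orderOf.mp P.2) x
    exact ⟨k, by rw [← hk, Subgroup.orderOf_coe]⟩
  apply Nat.card_le_card_of_injective (fun x : ↥(P : Subgroup G) =>
    (⟨ConjClasses.mk (x : G), hmem x⟩ : {c : ConjClasses G // ∀ x ∈ c.carrier, IsPiElt {p} x}))
  intro x y hxy
  have h1 : ConjClasses.mk (x : G) = ConjClasses.mk (y : G) := congrArg Subtype.val hxy
  rw [ConjClasses.mk_eq_mk_iff_isConj, isConj_iff] at h1
  obtain ⟨g, hg⟩ := h1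
  have hgKP : g ∈ ((K ⊔ (P : Subgroup G) : Subgroup G) : Set G) := by
    rw [hK.sup_eq_top]; exact mem_top g
  rw [normal_mul, Set.mem_mul] at hgKP
  obtain ⟨k, hk, u, hu, rfl⟩ := hgKP
  have hux : u * (x : G) * u⁻¹ = x := by
    rw [hab u hu x x.2, mul_inv_cancel_right]
  have hy : (y : G) = k * x * k⁻¹ := by
    rw [← hg]
    calc k * u * ↑x * (k * u)⁻¹ = k * (u * ↑x * u⁻¹) * k⁻¹ := by group
      _ = k * x * k⁻¹ := by rw [hux]
  have h2 : (y : G) * (x : G)⁻¹ ∈ K := by
    rw [hy]
    have : k * ↑x * k⁻¹ * (x : G)⁻¹ = k * (↑x * k⁻¹ * (x : G)⁻¹) := by group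
    rw [this]
    exact K.mul_mem hk (hKn.conj_mem _ (K.inv_mem hk) _)
  have h3 : (y : G) * (x : G)⁻¹ ∈ (P : Subgroup G) := (P : Subgroup G).mul_mem y.2 ((P : Subgroup G).inv_mem x.2)
  have h4 : (y : G) * (x : G)⁻¹ ∈ K ⊓ (P : Subgroup G) := mem_inf.mpr ⟨h2, h3⟩
  rw [hK.disjoint.eq_bot, mem_bot] at h4
  apply Subtype.ext
  exact (mul_inv_eq_one.mp h4).symm

/-- The theorem on many classes of `p`-elements, for a single prime -/
theorem many_iff (P : Sylow p G) :
    (p + 1) * Nat.card ↥(P : Subgroup G) < 2 * p * kpi {p} G ↔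
      (∃ K : Subgroup G, K.Normal ∧ K.IsComplement' (P : Subgroup G)) ∧
        ∀ a ∈ (P : Subgroup G), ∀ b ∈ (P : Subgroup G), a * b = b * a := by
  constructor
  · intro h
    have hle := normalizer_le_centralizer_of_many P h
    refine ⟨⟨(MonoidHom.transferSylow P hle).ker, MonoidHom.normal_ker _,
      MonoidHom.ker_transferSylow_isComplement' P hle⟩, ?_⟩
    intro a ha b hb
    exact (hle (le_normalizer ha) b hb).symm
  · rintro ⟨⟨K, hKn, hK⟩, hab⟩
    have h1 := card_le_kpi_of_complement P K hK hab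
    have hpos : 0 < Nat.card ↥(P : Subgroup G) := Nat.card_pos
    have h2 : 2 ≤ p := hp.out.two_le
    calc (p + 1) * Nat.card ↥(P : Subgroup G) < 2 * p * Nat.card ↥(P : Subgroup G) := by
          apply Nat.mul_lt_mul_of_pos_right _ hpos
          omega
      _ ≤ 2 * p * kpi {p} G := Nat.mul_le_mul_left _ h1

end SylowPart


section Decomp

open Cfsg.Agent.Lib.Helper64.NilCover

variable {G : Type*} [Group G] [Finite G]

/-- the commuting pairs count for `π`-elements -/
theorem card_commPairs_pi (π : Finset ℕ) :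
    Nat.card {q : G × G // IsPiElt π q.1 ∧ Commute q.1 q.2} = kpi π G * Nat.card G :=
  card_commPairs (IsPiElt π) (fun _ g hx => hx.conj g)

/-- splitting off one prime: `k_{π ∪ {r}}(G) ≤ k_r(G) * B` if all centralizers have at most `B` classes of
`π`-elements -/
theorem kpi_insert_le {r : ℕ} (hr : r.Prime) (σ : Finset ℕ) (B : ℕ)
    (hB : ∀ u : G, kpi σ ↥(centralizer ({u} : Set G)) ≤ B) :
    kpi (insert r σ) G ≤ kpi {r} G * B := by
  classical
  have : Fact r.Prime := ⟨hr⟩
  have : Fintype G := Fintype.ofFinite G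
  have hdec : ∀ x : G, ∃ u v : G, u * v = x ∧ Commute u v ∧ (∃ k : ℕ, u ^ r ^ k = 1) ∧
      (orderOf v).Coprime r ∧ u ∈ zpowers x ∧ v ∈ zpowers x := fun x => exists_p_decomp r x
  choose U V hUV hcomm hUr hVr hUz hVz using hdec
  have hU : ∀ x, IsPiElt {r} (U x) := by
    intro x q hq hd
    obtain ⟨k, hk⟩ := hUr x
    have h1 : orderOf (U x) ∣ r ^ k := orderOf_dvd_of_pow_eq_one hk
    rw [Finset.mem_singleton]
    exact (Nat.prime_dvd_prime_iff_eq hq hr).mp (hq.dvd_of_dvd_pow (hd.trans h1))
  have hV : ∀ x, IsPiElt (insert r σ) x → IsPiElt σ (V x) := by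
    intro x hx q hq hd
    have h1 : orderOf (V x) ∣ orderOf x := orderOf_dvd_of_mem_zpowers (hVz x)
    have h2 := hx q hq (hd.trans h1)
    rcases Finset.mem_insert.mp h2 with rfl | h3
    · exfalso
      have := Nat.dvd_gcd hd (dvd_refl q)
      rw [(hVr x).gcd_eq_one] at this
      exact hq.one_lt.ne' (Nat.dvd_one.mp this)
    · exact h3
  have hcz : ∀ x g y : G, Commute x g → y ∈ zpowers x → Commute y g := by
    intro x g y hxg hy
    obtain ⟨j, rfl⟩ := mem_zpowers_iff.mp hy
    exact hxg.zpow_left j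
  -- the big set
  let R : G → G × G → Prop := fun u q =>
    IsPiElt {r} u ∧ (q.1 ∈ centralizer ({u} : Set G) ∧ q.2 ∈ centralizer ({u} : Set G) ∧
      IsPiElt σ q.1 ∧ Commute q.1 q.2)
  have hinj : Nat.card {q : G × G // IsPiElt (insert r σ) q.1 ∧ Commute q.1 q.2} ≤
      Nat.card {t : G × (G × G) // R t.1 t.2} := by
    apply Nat.card_le_card_of_injective
      (fun q : {q : G × G // IsPiElt (insert r σ) q.1 ∧ Commute q.1 q.2} =>
        (⟨(U q.1.1, (V q.1.1, q.1.2)), by
          refine ⟨hU _, ?_, ?_, hV _ q.2.1, hcz _ _ _ q.2.2 (hVz _)⟩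
          · rw [mem_centralizer_iff]
            intro h hh
            rw [Set.mem_singleton_iff] at hh
            rw [hh]; exact (hcomm _).eq
          · rw [mem_centralizer_iff]
            intro h hh
            rw [Set.mem_singleton_iff] at hh
            rw [hh]; exact (hcz _ _ _ q.2.2 (hUz _)).eq⟩ : {t : G × (G × G) // R t.1 t.2}))
    rintro ⟨⟨x, g⟩, hx⟩ ⟨⟨x', g'⟩, hx'⟩ h
    have h1 := congrArg Subtype.val h
    simp only [Prod.mk.injEq] at h1
    obtain ⟨h2, h3, h4⟩ := h1
    apply Subtype.ext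
    simp only [Prod.mk.injEq]
    refine ⟨?_, h4⟩
    rw [← hUV x, ← hUV x', h2, h3]
  have hsig : Nat.card {t : G × (G × G) // R t.1 t.2} = ∑ u : G, Nat.card {q : G × G // R u q} := by
    rw [Nat.card_congr (Equiv.subtypeProdEquivSigmaSubtype R), Nat.card_sigma]
  have hsig2 : Nat.card {q : G × G // IsPiElt {r} q.1 ∧ Commute q.1 q.2} =
      ∑ u : G, Nat.card {g : G // IsPiElt {r} u ∧ Commute u g} := by
    rw [Nat.card_congr (Equiv.subtypeProdEquivSigmaSubtype (fun u g : G => IsPiElt {r} u ∧ Commute u g)),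
      Nat.card_sigma]
  have hfib : ∀ u : G, Nat.card {q : G × G // R u q} ≤ B * Nat.card {g : G // IsPiElt {r} u ∧ Commute u g} := by
    intro u
    by_cases hu : IsPiElt {r} u
    · have e1 : {q : G × G // R u q} ≃
          {q : ↥(centralizer ({u} : Set G)) × ↥(centralizer ({u} : Set G)) // IsPiElt σ q.1 ∧ Commute q.1 q.2} :=
        { toFun := fun q => ⟨(⟨q.1.1, q.2.2.1⟩, ⟨q.1.2, q.2.2.2.1⟩), by
            refine ⟨?_, ?_⟩
            · intro s hs hd
              apply q.2.2.2.2.1 s hs
              rw [← Subgroup.orderOf_coe] at hd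
              exact hd
            · apply Subtype.ext
              exact q.2.2.2.2.2.eq⟩
          invFun := fun q => ⟨((q.1.1 : G), (q.1.2 : G)), by
            refine ⟨hu, q.1.1.2, q.1.2.2, ?_, ?_⟩
            · intro s hs hd
              apply q.2.1 s hs
              rw [← Subgroup.orderOf_coe]
              exact hd
            · exact congrArg Subtype.val q.2.2.eq⟩
          left_inv := by
            rintro ⟨⟨v, g⟩, h⟩
            rfl
          right_inv := by
            rintro ⟨⟨⟨v, hv⟩, ⟨g, hg⟩⟩, h⟩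
            rfl }
      have e2 : {g : G // IsPiElt {r} u ∧ Commute u g} ≃ ↥(centralizer ({u} : Set G)) := by
        apply Equiv.subtypeEquivRight
        intro g
        rw [mem_centralizer_iff]
        constructor
        · rintro ⟨-, h⟩ y hy
          rw [Set.mem_singleton_iff] at hy
          rw [hy]; exact h.eq
        · intro h
          exact ⟨hu, h u rfl⟩
      rw [Nat.card_congr e1, Nat.card_congr e2, card_commPairs_pi]
      exact Nat.mul_le_mul_right _ (hB u)
    · have : IsEmpty {q : G × G // R u q} := ⟨fun q => hu q.2.1⟩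
      rw [Nat.card_of_isEmpty]
      exact Nat.zero_le _
  have hmain : kpi (insert r σ) G * Nat.card G ≤ kpi {r} G * B * Nat.card G := by
    rw [← card_commPairs_pi]
    calc Nat.card {q : G × G // IsPiElt (insert r σ) q.1 ∧ Commute q.1 q.2}
        ≤ Nat.card {t : G × (G × G) // R t.1 t.2} := hinj
      _ = ∑ u : G, Nat.card {q : G × G // R u q} := hsig
      _ ≤ ∑ u : G, B * Nat.card {g : G // IsPiElt {r} u ∧ Commute u g} := Finset.sum_le_sum fun u _ => hfib u
      _ = B * Nat.card {q : G × G // IsPiElt {r} q.1 ∧ Commute q.1 q.2} := by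
          rw [hsig2, Finset.mul_sum]
      _ = kpi {r} G * B * Nat.card G := by
          rw [card_commPairs_pi]; ring
  exact Nat.le_of_mul_le_mul_right hmain Nat.card_pos


/-- the `π`-part of a natural number -/
def piPart (π : Finset ℕ) (n : ℕ) : ℕ := π.prod (fun r => r ^ n.factorization r)

omit [Finite G] in
theorem piPart_le_of_dvd (π : Finset ℕ) {m n : ℕ} (hn : n ≠ 0) (h : m ∣ n) : piPart π m ≤ piPart π n := by
  unfold piPart
  apply Finset.prod_le_prod'
  intro r _
  by_cases hr : r = 0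
  · subst hr
    simp
  · apply Nat.pow_le_pow_right (Nat.pos_of_ne_zero hr)
    have hm : m ≠ 0 := fun h0 => hn (by rw [h0] at h; exact zero_dvd_iff.mp h)
    exact (Nat.factorization_le_iff_dvd hm hn).mpr h r

theorem kpi_empty_le : kpi ∅ G ≤ 1 := by
  unfold kpi kQ
  have : Subsingleton {c : ConjClasses G // ∀ x ∈ c.carrier, IsPiElt ∅ x} := by
    constructor
    rintro ⟨a, ha⟩ ⟨b, hb⟩
    apply Subtype.ext
    obtain ⟨x, rfl⟩ := ConjClasses.mk_surjective a
    obtain ⟨y, rfl⟩ := ConjClasses.mk_surjective b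
    have hx1 : ∀ z : G, IsPiElt ∅ z → z = 1 := by
      intro z hz
      rw [← orderOf_eq_one_iff]
      by_contra hne
      obtain ⟨q, hq, hqd⟩ := Nat.exists_prime_and_dvd hne
      exact absurd (hz q hq hqd) (Finset.notMem_empty q)
    show ConjClasses.mk x = ConjClasses.mk y
    have e1 := hx1 x (ha x ConjClasses.mem_carrier_mk)
    have e2 := hx1 y (hb y ConjClasses.mem_carrier_mk)
    rw [e1, e2]
  exact Finite.card_le_one_iff_subsingleton.mpr this

end Decomp

section Bound

universe u

/-- `k_π(H) ≤ |H|_π` -/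
theorem kpi_le_piPart (σ : Finset ℕ) (hσ : ∀ r ∈ σ, r.Prime) :
    ∀ (H : Type u) [Group H] [Finite H], kpi σ H ≤ piPart σ (Nat.card H) := by
  classical
  induction σ using Finset.induction_on with
  | empty =>
    intro H _ _
    unfold piPart
    rw [Finset.prod_empty]
    exact kpi_empty_le
  | insert r σ hr ih =>
    intro H _ _
    have hrp : r.Prime := hσ r (Finset.mem_insert_self r σ)
    have hσ' : ∀ q ∈ σ, q.Prime := fun q hq => hσ q (Finset.mem_insert_of_mem hq)
    have : Fact r.Prime := ⟨hrp⟩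
    have hB : ∀ u : H, kpi σ ↥(Subgroup.centralizer ({u} : Set H)) ≤ piPart σ (Nat.card H) := by
      intro u
      refine (ih hσ' ↥(Subgroup.centralizer ({u} : Set H))).trans ?_
      exact piPart_le_of_dvd σ Nat.card_pos.ne' (Subgroup.card_subgroup_dvd_card _)
    have h1 := kpi_insert_le hrp σ _ hB
    obtain ⟨R⟩ : Nonempty (Sylow r H) := inferInstance
    have h2 := kpi_singleton_le R
    rw [Sylow.card_eq_multiplicity] at h2
    unfold piPart at *
    rw [Finset.prod_insert hr]
    exact h1.trans (Nat.mul_le_mul_right _ h2)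

end Bound



section Main

open scoped commutatorElement

universe u

variable {G : Type u} [Group G] [Finite G]

/-- comparing `k_π` with `k_r` for `r ∈ π` -/
theorem kpi_mul_le (π : Finset ℕ) (hπ : ∀ r ∈ π, r.Prime) {r : ℕ} (hr : r ∈ π) :
    kpi π G * r ^ (Nat.card G).factorization r ≤ kpi {r} G * piPart π (Nat.card G) := by
  classical
  have hrp := hπ r hr
  have hσ : ∀ q ∈ π.erase r, q.Prime := fun q hq => hπ q (Finset.mem_of_mem_erase hq)
  have hB : ∀ u : G, kpi (π.erase r) ↥(Subgroup.centralizer ({u} : Set G)) ≤ piPart (π.erase r) (Nat.card G) := by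
    intro u
    refine (kpi_le_piPart (π.erase r) hσ ↥(Subgroup.centralizer ({u} : Set G))).trans ?_
    exact piPart_le_of_dvd _ Nat.card_pos.ne' (Subgroup.card_subgroup_dvd_card _)
  have h1 := kpi_insert_le (G := G) hrp (π.erase r) _ hB
  rw [Finset.insert_erase hr] at h1
  have h2 : piPart π (Nat.card G) = r ^ (Nat.card G).factorization r * piPart (π.erase r) (Nat.card G) := by
    unfold piPart
    rw [Finset.mul_prod_erase π (fun q => q ^ (Nat.card G).factorization q) hr]
  rw [h2]
  calc kpi π G * r ^ (Nat.card G).factorization r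
      ≤ kpi {r} G * piPart (π.erase r) (Nat.card G) * r ^ (Nat.card G).factorization r :=
        Nat.mul_le_mul_right _ h1
    _ = kpi {r} G * (r ^ (Nat.card G).factorization r * piPart (π.erase r) (Nat.card G)) := by ring

omit [Finite G] in
theorem piPart_pos (π : Finset ℕ) (hπ : ∀ r ∈ π, r.Prime) (n : ℕ) : 0 < piPart π n := by
  unfold piPart
  apply Finset.prod_pos
  intro r hr
  exact pow_pos (hπ r hr).pos _

/-- many classes of `π`-elements give many classes of `r`-elements for each `r ∈ π` -/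
theorem many_singleton_of_many (π : Finset ℕ) (hπ : ∀ r ∈ π, r.Prime) (c : ℕ)
    (hk : (c + 1) * piPart π (Nat.card G) < 2 * c * kpi π G) {r : ℕ} (hr : r ∈ π) (hcr : c ≤ r)
    [Fact r.Prime] (R : Sylow r G) :
    (r + 1) * Nat.card ↥(R : Subgroup G) < 2 * r * kpi {r} G := by
  rw [Sylow.card_eq_multiplicity]
  have h1 := kpi_mul_le (G := G) π hπ hr
  have hA := piPart_pos π hπ (Nat.card G)
  set A := piPart π (Nat.card G)
  set a := r ^ (Nat.card G).factorization r
  set k := kpi π G
  set kr := kpi {r} G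
  -- (c+1) a < 2 c kr
  have h2 : (c + 1) * a * A < 2 * c * kr * A := by
    have ha : 0 < a := pow_pos (hπ r hr).pos _
    calc (c + 1) * a * A = ((c + 1) * A) * a := by ring
      _ < (2 * c * k) * a := Nat.mul_lt_mul_of_pos_right hk ha
      _ = 2 * c * (k * a) := by ring
      _ ≤ 2 * c * (kr * A) := Nat.mul_le_mul_left _ h1
      _ = 2 * c * kr * A := by ring
  have h3 : (c + 1) * a < 2 * c * kr := Nat.lt_of_mul_lt_mul_right h2
  have h4 : (r + 1) * a * c ≤ (c + 1) * a * r := by
    have : (r + 1) * c ≤ (c + 1) * r := by nlinarith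
    calc (r + 1) * a * c = ((r + 1) * c) * a := by ring
      _ ≤ ((c + 1) * r) * a := Nat.mul_le_mul_right _ this
      _ = (c + 1) * a * r := by ring
  have h5 : (c + 1) * a * r < 2 * c * kr * r := Nat.mul_lt_mul_of_pos_right h3 (hπ r hr).pos
  have h6 : (r + 1) * a * c < 2 * r * kr * c := by
    calc (r + 1) * a * c ≤ (c + 1) * a * r := h4
      _ < 2 * c * kr * r := h5
      _ = 2 * r * kr * c := by ring
  exact Nat.lt_of_mul_lt_mul_right h6

/-- assembling normal `r`-complements for all `r ∈ π` into a normal `π`-complement with abelian complement -/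
theorem exists_pi_complement (π : Finset ℕ) (hπ : ∀ r ∈ π, r.Prime)
    (hK : ∀ r ∈ π, ∃ (R : Sylow r G) (K : Subgroup G), K.Normal ∧ K.IsComplement' (R : Subgroup G) ∧
      ∀ a ∈ (R : Subgroup G), ∀ b ∈ (R : Subgroup G), a * b = b * a) :
    ∃ N : Subgroup G, N.Normal ∧ (∀ r : ℕ, r.Prime → r ∣ Nat.card ↥N → r ∉ π) ∧
      (∀ r : ℕ, r.Prime → r ∣ N.index → r ∈ π) ∧
      ∃ H : Subgroup G, N.IsComplement' H ∧ ∀ a ∈ H, ∀ b ∈ H, a * b = b * a := by
  classical
  choose R K hKn hKc hab using hK
  let K' : ℕ → Subgroup G := fun r => if h : r ∈ π then K r h else ⊤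
  have hK' : ∀ r (h : r ∈ π), K' r = K r h := fun r h => dif_pos h
  have hK'n : ∀ r, (K' r).Normal := by
    intro r
    by_cases h : r ∈ π
    · rw [hK' r h]; exact hKn r h
    · have : K' r = ⊤ := dif_neg h
      rw [this]; infer_instance
  -- facts for each `r ∈ π`
  have hnd : ∀ r (h : r ∈ π), ¬ r ∣ Nat.card ↥(K' r) := by
    intro r h
    have : Fact r.Prime := ⟨hπ r h⟩
    rw [hK' r h, ← (hKc r h).index_eq_card]
    exact (R r h).not_dvd_index
  have hidx : ∀ r (h : r ∈ π), ∃ k : ℕ, (K' r).index = r ^ k := by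
    intro r h
    have : Fact r.Prime := ⟨hπ r h⟩
    rw [hK' r h, (hKc r h).symm.index_eq_card]
    exact IsPGroup.iff_card.mp (R r h).2
  have hcomm : ∀ r (h : r ∈ π), commutator G ≤ K' r := by
    intro r h
    rw [hK' r h]
    have := hKn r h
    exact Subgroup.Normal.commutator_le_of_self_sup_commutative_eq_top (hKc r h).sup_eq_top
      ⟨⟨fun a b => Subtype.ext (hab r h a a.2 b b.2)⟩⟩
  -- the intersection
  have hind : ∀ s : Finset ℕ, (s.inf K').Normal ∧ (s.inf K').index ∣ ∏ r ∈ s, (K' r).index := by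
    intro s
    induction s using Finset.induction_on with
    | empty =>
      rw [Finset.inf_empty, Finset.prod_empty, Subgroup.index_top]
      exact ⟨inferInstance, dvd_refl 1⟩
    | insert a s ha ih =>
      obtain ⟨ihn, ihd⟩ := ih
      rw [Finset.inf_insert, Finset.prod_insert ha]
      have := hK'n a
      refine ⟨inferInstance, ?_⟩
      have h1 : (K' a ⊓ s.inf K').index = (K' a ⊓ s.inf K').relIndex (s.inf K') * (s.inf K').index :=
        (Subgroup.relIndex_mul_index inf_le_right).symm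
      rw [h1, Subgroup.inf_relIndex_right]
      exact Nat.mul_dvd_mul (Subgroup.relIndex_dvd_index_of_normal _ _) ihd
  set N := π.inf K' with hN
  have hNn : N.Normal := (hind π).1
  have hNle : ∀ r ∈ π, N ≤ K' r := fun r h => Finset.inf_le h
  have h1 : ∀ r : ℕ, r.Prime → r ∣ Nat.card ↥N → r ∉ π := by
    intro r _ hd hr
    exact hnd r hr (hd.trans (Subgroup.card_dvd_of_le (hNle r hr)))
  have h2 : ∀ r : ℕ, r.Prime → r ∣ N.index → r ∈ π := by
    intro r hr hd
    have h3 := hd.trans (hind π).2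
    obtain ⟨q, hq, hqd⟩ := (Prime.dvd_finsetProd_iff hr.prime _).mp h3
    obtain ⟨k, hk⟩ := hidx q hq
    rw [hk] at hqd
    have := (Nat.prime_dvd_prime_iff_eq hr (hπ q hq)).mp (hr.dvd_of_dvd_pow hqd)
    rw [this]; exact hq
  refine ⟨N, hNn, h1, h2, ?_⟩
  have hcop : Nat.Coprime (Nat.card ↥N) N.index := by
    apply Nat.coprime_of_dvd
    intro q hq hd1 hd2
    exact h1 q hq hd1 (h2 q hq hd2)
  obtain ⟨H, hH⟩ := Subgroup.exists_right_complement'_of_coprime hcop
  refine ⟨H, hH, ?_⟩
  intro a ha b hb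
  have h3 : ⁅a, b⁆ ∈ commutator G := by
    rw [_root_.commutator_def]
    exact Subgroup.commutator_mem_commutator (Subgroup.mem_top a) (Subgroup.mem_top b)
  have h4 : ⁅a, b⁆ ∈ N := by
    have hle : commutator G ≤ N := Finset.le_inf hcomm
    exact hle h3
  have h5 : ⁅a, b⁆ ∈ H := by
    rw [commutatorElement_def]
    exact H.mul_mem (H.mul_mem (H.mul_mem ha hb) (H.inv_mem ha)) (H.inv_mem hb)
  have h6 : ⁅a, b⁆ ∈ N ⊓ H := Subgroup.mem_inf.mpr ⟨h4, h5⟩
  rw [hH.disjoint.eq_bot, Subgroup.mem_bot] at h6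
  exact commutatorElement_eq_one_iff_mul_comm.mp h6

end Main

end Cfsg.Agent.Lib.Helper64.PiClasses
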