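import Mathlib
import Cfsg.Agent.Lib.Helper64.PiClasses

/-!
# Counting lemmas for classes of `2`-elements

General tools (domination of class numbers, splitting) and three counting estimates.
-/

set_option autoImplicit false

namespace Cfsg.Agent.Lib.Helper64.TwoClasses

open Subgroup Cfsg.Agent.Lib.Helper64.PiClasses

section General

variable {G : Type*} [Group G]

/-- Bezout for membership of powers -/
theorem mem_of_pow_mem_of_coprime (H : Subgroup G) {x : G} {a b : ℕ} (hab : Nat.Coprime a b)
    (ha : x ^ a ∈ H) (hb : x ^ b ∈ H) : x ∈ H := by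
  have hbez := Nat.gcd_eq_gcd_ab a b
  rw [hab.gcd_eq_one] at hbez
  have : x = (x ^ a) ^ (Nat.gcdA a b) * (x ^ b) ^ (Nat.gcdB a b) := by
    rw [← zpow_natCast x a, ← zpow_natCast x b, ← zpow_mul, ← zpow_mul, ← zpow_add, ← hbez]
    simp
  rw [this]
  exact H.mul_mem (H.zpow_mem ha _) (H.zpow_mem hb _)

/-- class numbers are monotone in the predicate -/
theorem kQ_mono [Finite G] {Q Q' : G → Prop} (h : ∀ x, Q x → Q' x) : kQ Q ≤ kQ Q' := by
  unfold kQ
  apply Nat.card_le_card_of_injective
    (fun c : {c : ConjClasses G // ∀ x ∈ c.carrier, Q x} =>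
      (⟨c.1, fun x hx => h x (c.2 x hx)⟩ : {c : ConjClasses G // ∀ x ∈ c.carrier, Q' x}))
  intro a b hab
  apply Subtype.ext
  have := congrArg Subtype.val hab
  exact this

/-- domination: if every element satisfying `Q` is conjugate to an element of `H` satisfying `R`,
then there are at most as many `Q`-classes in `G` as `R`-classes in `H` -/
theorem kQ_le_of_dom [Finite G] (H : Subgroup G) (Q : G → Prop) (R : ↥H → Prop)
    (hR : ∀ x g : ↥H, R x → R (g * x * g⁻¹))
    (hdom : ∀ x : G, Q x → ∃ g : G, ∃ h : g * x * g⁻¹ ∈ H, R ⟨g * x * g⁻¹, h⟩) :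
    kQ Q ≤ kQ R := by
  unfold kQ
  have hsurj : ∀ c : {c : ConjClasses G // ∀ x ∈ c.carrier, Q x},
      ∃ d : {d : ConjClasses ↥H // ∀ x ∈ d.carrier, R x},
        ConjClasses.map H.subtype d.1 = c.1 := by
    rintro ⟨c, hc⟩
    obtain ⟨x, rfl⟩ := ConjClasses.mk_surjective c
    have hx : Q x := hc x ConjClasses.mem_carrier_mk
    obtain ⟨g, hgH, hgR⟩ := hdom x hx
    refine ⟨⟨ConjClasses.mk ⟨g * x * g⁻¹, hgH⟩, ?_⟩, ?_⟩
    · intro y hy
      rw [ConjClasses.mem_carrier_iff_mk_eq, ConjClasses.mk_eq_mk_iff_isConj, isConj_comm, isConj_iff] at hy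
      obtain ⟨c, rfl⟩ := hy
      exact hR _ c hgR
    · show ConjClasses.mk (g * x * g⁻¹) = ConjClasses.mk x
      rw [ConjClasses.mk_eq_mk_iff_isConj, isConj_comm, isConj_iff]
      exact ⟨g, rfl⟩
  choose f hf using hsurj
  apply Nat.card_le_card_of_injective f
  intro a b hab
  apply Subtype.ext
  rw [← hf a, ← hf b, hab]

/-- splitting the classes according to a second invariant predicate -/
theorem kQ_split [Finite G] (Q R : G → Prop) (hQ : ∀ x g : G, Q x → Q (g * x * g⁻¹))
    (hR : ∀ x g : G, R x ↔ R (g * x * g⁻¹)) :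
    kQ Q = kQ (fun x => Q x ∧ R x) + kQ (fun x => Q x ∧ ¬ R x) := by
  classical
  have h0 := card_commPairs Q hQ
  have h1 := card_commPairs (fun x => Q x ∧ R x)
    (fun x g hx => ⟨hQ x g hx.1, (hR x g).mp hx.2⟩)
  have h2 := card_commPairs (fun x => Q x ∧ ¬ R x)
    (fun x g hx => ⟨hQ x g hx.1, fun h => hx.2 ((hR x g).mpr h)⟩)
  have : Fintype G := Fintype.ofFinite G
  have hsum : Nat.card {p : G × G // Q p.1 ∧ Commute p.1 p.2} =
      Nat.card {p : G × G // (Q p.1 ∧ R p.1) ∧ Commute p.1 p.2} +
      Nat.card {p : G × G // (Q p.1 ∧ ¬ R p.1) ∧ Commute p.1 p.2} := by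
    rw [Nat.card_eq_fintype_card, Nat.card_eq_fintype_card, Nat.card_eq_fintype_card,
      Fintype.card_subtype, Fintype.card_subtype, Fintype.card_subtype]
    rw [← Finset.card_filter_add_card_filter_not (s := Finset.univ.filter
      (fun p : G × G => Q p.1 ∧ Commute p.1 p.2)) (fun p : G × G => R p.1)]
    rw [Finset.filter_filter, Finset.filter_filter]
    congr 2
    · ext p
      simp only [Finset.mem_filter, Finset.mem_univ, true_and]
      tauto
    · ext p
      simp only [Finset.mem_filter, Finset.mem_univ, true_and]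
      tauto
  rw [h0, h1, h2, ← add_mul] at hsum
  exact Nat.eq_of_mul_eq_mul_right Nat.card_pos hsum

/-- a proper subgroup has at most half the elements -/
theorem two_mul_card_le_of_ne_top [Finite G] (K : Subgroup G) (h : K ≠ ⊤) :
    2 * Nat.card K ≤ Nat.card G := by
  have h3 := K.card_mul_index
  have h4 : K.index ≠ 1 := fun h1 => h (index_eq_one.mp h1)
  have h5 : K.index ≠ 0 := index_ne_zero_of_finite
  have h6 : 2 ≤ K.index := by omega
  calc 2 * Nat.card K = Nat.card K * 2 := by ring
    _ ≤ Nat.card K * K.index := Nat.mul_le_mul_left _ h6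
    _ = Nat.card G := h3

/-- in a `2`-group a subgroup of index neither `1` nor `2` has at most a quarter of the elements -/
theorem four_mul_card_le [Finite G] (hG : IsPGroup 2 G) (K : Subgroup G) (h1 : K.index ≠ 1)
    (h2 : K.index ≠ 2) : 4 * Nat.card K ≤ Nat.card G := by
  have h3 := K.card_mul_index
  obtain ⟨n, hn⟩ := IsPGroup.iff_card.mp hG
  have hdvd : K.index ∣ 2 ^ n := by
    rw [← hn]; exact K.index_dvd_card
  obtain ⟨j, _, hj⟩ := (Nat.dvd_prime_pow Nat.prime_two).mp hdvd
  have hj2 : 2 ≤ j := by
    rcases j with _ | _ | j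
    · exact absurd (by simpa using hj) h1
    · exact absurd (by simpa using hj) h2
    · omega
  have h6 : 4 ≤ K.index := by
    rw [hj]
    calc 4 = 2 ^ 2 := by norm_num
      _ ≤ 2 ^ j := Nat.pow_le_pow_right (by norm_num) hj2
  calc 4 * Nat.card K = Nat.card K * 4 := by ring
    _ ≤ Nat.card K * K.index := Nat.mul_le_mul_left _ h6
    _ = Nat.card G := h3

/-- the fibre of the commuting pairs over an element is its centralizer -/
theorem card_commute_eq (x : G) : Nat.card {h : G // Commute x h} = Nat.card (centralizer ({x} : Set G)) := by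
  apply Nat.card_congr
  apply Equiv.subtypeEquivRight
  intro h
  rw [mem_centralizer_iff]
  constructor
  · intro hc y hy
    rw [Set.mem_singleton_iff] at hy
    rw [hy]; exact hc.eq
  · intro hc
    exact hc x rfl

/-- (E2) classes outside a normal subgroup containing the centre -/
theorem two_mul_kQ_not_mem_add_le [Finite G] (S : Subgroup G) [hS : S.Normal] (hZ : center G ≤ S) :
    2 * kQ (fun x : G => x ∉ S) + Nat.card S ≤ Nat.card G := by
  classical
  have h0 := card_commPairs (fun x : G => x ∉ S)
    (fun x g hx h => hx (by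
      have := hS.conj_mem _ h g⁻¹
      simpa [mul_assoc] using this))
  have : Fintype G := Fintype.ofFinite G
  have e1 : {q : G × G // q.1 ∉ S ∧ Commute q.1 q.2} ≃ Σ x : G, {h : G // x ∉ S ∧ Commute x h} :=
    Equiv.subtypeProdEquivSigmaSubtype (fun (x h : G) => x ∉ S ∧ Commute x h)
  rw [Nat.card_congr e1, Nat.card_sigma] at h0
  have hterm : ∀ x : G, 2 * Nat.card {h : G // x ∉ S ∧ Commute x h} + (if x ∈ S then Nat.card G else 0)
      ≤ Nat.card G := by
    intro x
    by_cases hx : x ∈ S
    · rw [if_pos hx]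
      have : IsEmpty {h : G // x ∉ S ∧ Commute x h} := ⟨fun h => h.2.1 hx⟩
      rw [Nat.card_of_isEmpty]
      omega
    · rw [if_neg hx, add_zero]
      have h1 : Nat.card {h : G // x ∉ S ∧ Commute x h} = Nat.card (centralizer ({x} : Set G)) := by
        rw [← card_commute_eq]
        apply Nat.card_congr
        apply Equiv.subtypeEquivRight
        intro h
        exact ⟨fun h => h.2, fun h => ⟨hx, h⟩⟩
      rw [h1]
      apply two_mul_card_le_of_ne_top
      intro htop
      apply hx
      apply hZ
      rw [mem_center_iff]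
      intro g
      have : g ∈ centralizer ({x} : Set G) := by rw [htop]; exact mem_top g
      rw [mem_centralizer_iff] at this
      exact (this x rfl).symm
  have hsum : ∑ x : G, (2 * Nat.card {h : G // x ∉ S ∧ Commute x h} + (if x ∈ S then Nat.card G else 0))
      ≤ ∑ _x : G, Nat.card G := Finset.sum_le_sum fun x _ => hterm x
  rw [Finset.sum_add_distrib, ← Finset.mul_sum, h0, Finset.sum_const, Finset.card_univ, smul_eq_mul,
    Finset.sum_ite, Finset.sum_const, Finset.sum_const_zero, add_zero, smul_eq_mul,
    ← Nat.card_eq_fintype_card (α := G)] at hsum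
  have hcS : (Finset.univ.filter (fun x : G => x ∈ S)).card = Nat.card S := by
    rw [Nat.card_eq_fintype_card (α := ↥S), Fintype.card_subtype]
  rw [hcS] at hsum
  have hpos : 0 < Nat.card G := Nat.card_pos
  have : (2 * kQ (fun x : G => x ∉ S) + Nat.card S) * Nat.card G ≤ Nat.card G * Nat.card G := by
    calc (2 * kQ (fun x : G => x ∉ S) + Nat.card S) * Nat.card G
        = 2 * (kQ (fun x : G => x ∉ S) * Nat.card G) + Nat.card S * Nat.card G := by ring
      _ ≤ Nat.card G * Nat.card G := hsum
  exact Nat.le_of_mul_le_mul_right this hpos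

/-- if `h` centralizes a subgroup of index at most two of the normal subgroup `S`,
then `h ^ |S|` centralizes `S` -/
theorem pow_card_mem_centralizer [Finite G] (S : Subgroup G) [hS : S.Normal] (h : G)
    (hidx : ((S ⊓ centralizer ({h} : Set G)).subgroupOf S).index = 1 ∨
            ((S ⊓ centralizer ({h} : Set G)).subgroupOf S).index = 2) :
    h ^ Nat.card S ∈ centralizer (S : Set G) := by
  set D := S ⊓ centralizer ({h} : Set G) with hD
  have hmemD : ∀ y : G, y ∈ D ↔ y ∈ S ∧ h * y = y * h := by
    intro y
    rw [hD, mem_inf, mem_centralizer_iff]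
    constructor
    · rintro ⟨h1, h2⟩
      exact ⟨h1, h2 h rfl⟩
    · rintro ⟨h1, h2⟩
      refine ⟨h1, ?_⟩
      intro z hz
      rw [Set.mem_singleton_iff] at hz
      rw [hz]; exact h2
  have hkey : ∀ x ∈ S, x⁻¹ * (h * x * h⁻¹) ∈ D := by
    intro x hx
    have hy : h * x * h⁻¹ ∈ S := hS.conj_mem x hx h
    rcases hidx with h1 | h2
    · have htop : D.subgroupOf S = ⊤ := index_eq_one.mp h1
      have hall : ∀ z ∈ S, z ∈ D := by
        intro z hz
        have : (⟨z, hz⟩ : ↥S) ∈ D.subgroupOf S := by rw [htop]; exact mem_top _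
        exact mem_subgroupOf.mp this
      exact D.mul_mem (D.inv_mem (hall x hx)) (hall _ hy)
    · have h3 := Subgroup.mul_mem_iff_of_index_two h2 (a := (⟨x, hx⟩ : ↥S)⁻¹) (b := ⟨h * x * h⁻¹, hy⟩)
      have h4 : ((⟨x, hx⟩ : ↥S)⁻¹ ∈ D.subgroupOf S ↔ (⟨h * x * h⁻¹, hy⟩ : ↥S) ∈ D.subgroupOf S) := by
        rw [inv_mem_iff, mem_subgroupOf, mem_subgroupOf, hmemD, hmemD]
        constructor
        · rintro ⟨_, h5⟩
          have h5' : h * x = x * h := h5
          refine ⟨hy, ?_⟩
          show h * (h * x * h⁻¹) = h * x * h⁻¹ * h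
          calc h * (h * x * h⁻¹) = h * (x * h * h⁻¹) := by rw [h5']
            _ = h * x := by group
            _ = h * x * h⁻¹ * h := by group
        · rintro ⟨_, h5⟩
          refine ⟨hx, ?_⟩
          have h6 : h * (h * x * h⁻¹) = h * x * h⁻¹ * h := h5
          have h7 : h * x * h⁻¹ = x := by
            have : h * (h * x * h⁻¹) = h * x := by rw [h6]; group
            exact mul_left_cancel this
          calc h * x = (h * x * h⁻¹) * h := by group
            _ = x * h := by rw [h7]
      have h5 := h3.mpr h4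
      exact mem_subgroupOf.mp h5
  rw [mem_centralizer_iff]
  intro x hx
  have hxS : x ∈ S := hx
  set c := x⁻¹ * (h * x * h⁻¹) with hc
  have hcD := (hmemD c).mp (hkey x hxS)
  have hconj : h * x * h⁻¹ = x * c := by rw [hc]; group
  have hcomm : ∀ k : ℕ, h * c ^ k * h⁻¹ = c ^ k := by
    intro k
    have : Commute h (c ^ k) := (show Commute h c from hcD.2).pow_right k
    rw [this.eq, mul_inv_cancel_right]
  have hind : ∀ k : ℕ, h ^ k * x * (h ^ k)⁻¹ = x * c ^ k := by
    intro k
    induction k with
    | zero => simp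
    | succ k ih =>
      calc h ^ (k + 1) * x * (h ^ (k + 1))⁻¹ = h * (h ^ k * x * (h ^ k)⁻¹) * h⁻¹ := by
            rw [pow_succ']; group
        _ = h * (x * c ^ k) * h⁻¹ := by rw [ih]
        _ = (h * x * h⁻¹) * (h * c ^ k * h⁻¹) := by group
        _ = x * c * c ^ k := by rw [hconj, hcomm]
        _ = x * c ^ (k + 1) := by rw [pow_succ', mul_assoc]
  have hc1 : c ^ Nat.card S = 1 := by
    have h1 : (⟨c, hcD.1⟩ : ↥S) ^ Nat.card ↥S = 1 := pow_card_eq_one'
    have h2 : (((⟨c, hcD.1⟩ : ↥S) ^ Nat.card ↥S : ↥S) : G) = 1 := by rw [h1]; rfl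
    rwa [Subgroup.coe_pow] at h2
  have h8 := hind (Nat.card S)
  rw [hc1, mul_one] at h8
  calc x * h ^ Nat.card S = (h ^ Nat.card S * x * (h ^ Nat.card S)⁻¹) * h ^ Nat.card S := by rw [h8]
    _ = h ^ Nat.card S * x := by group

/-- (E3) classes inside a normal `2`-subgroup `S`, when some normal subgroup `M ≥ C_G(S)` has odd index `≠ 1` -/
theorem two_mul_kQ_mem_le [Finite G] (S M : Subgroup G) [hS : S.Normal] [hM : M.Normal]
    (hS2 : IsPGroup 2 S) (hCM : centralizer (S : Set G) ≤ M) (hodd : Odd M.index) (hMtop : M ≠ ⊤) :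
    2 * kQ (fun x : G => x ∈ S) ≤ Nat.card S := by
  classical
  have h0 := card_commPairs (fun x : G => x ∈ S) (fun x g hx => hS.conj_mem x hx g)
  have : Fintype G := Fintype.ofFinite G
  have e1 : {q : G × G // q.1 ∈ S ∧ Commute q.1 q.2} ≃ Σ h : G, {x : G // x ∈ S ∧ Commute x h} :=
    calc {q : G × G // q.1 ∈ S ∧ Commute q.1 q.2}
        ≃ {q : G × G // q.2 ∈ S ∧ Commute q.2 q.1} :=
          (Equiv.prodComm G G).subtypeEquiv fun _ => Iff.rfl
      _ ≃ Σ h : G, {x : G // x ∈ S ∧ Commute x h} :=
          Equiv.subtypeProdEquivSigmaSubtype (fun (h x : G) => x ∈ S ∧ Commute x h)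
  rw [Nat.card_congr e1, Nat.card_sigma] at h0
  have hfib : ∀ h : G, Nat.card {x : G // x ∈ S ∧ Commute x h} =
      Nat.card ↥(S ⊓ centralizer ({h} : Set G)) := by
    intro h
    apply Nat.card_congr
    apply Equiv.subtypeEquivRight
    intro x
    rw [mem_inf, mem_centralizer_iff]
    constructor
    · rintro ⟨h1, h2⟩
      refine ⟨h1, ?_⟩
      intro y hy
      rw [Set.mem_singleton_iff] at hy
      rw [hy]; exact h2.eq.symm
    · rintro ⟨h1, h2⟩
      exact ⟨h1, (h2 h rfl).symm⟩
  have h3M : 3 * Nat.card M ≤ Nat.card G := by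
    have h3 := M.card_mul_index
    have h4 : M.index ≠ 1 := fun h1 => hMtop (index_eq_one.mp h1)
    have h5 : M.index ≠ 0 := index_ne_zero_of_finite
    have h6 : 3 ≤ M.index := by
      obtain ⟨t, ht⟩ := hodd
      omega
    calc 3 * Nat.card M = Nat.card M * 3 := by ring
      _ ≤ Nat.card M * M.index := Nat.mul_le_mul_left _ h6
      _ = Nat.card G := h3
  have hcop : Nat.Coprime (Nat.card S) M.index := by
    obtain ⟨n, hn⟩ := IsPGroup.iff_card.mp hS2
    rw [hn]
    exact Nat.Coprime.pow_left n (Nat.coprime_two_left.mpr hodd)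
  have hterm : ∀ h : G, 4 * Nat.card {x : G // x ∈ S ∧ Commute x h} ≤
      Nat.card S + (if h ∈ M then 3 * Nat.card S else 0) := by
    intro h
    rw [hfib]
    have hDS : S ⊓ centralizer ({h} : Set G) ≤ S := inf_le_left
    have hcardD : Nat.card ((S ⊓ centralizer ({h} : Set G)).subgroupOf S) =
        Nat.card ↥(S ⊓ centralizer ({h} : Set G)) :=
      Nat.card_congr (subgroupOfEquivOfLe hDS).toEquiv
    by_cases hh : h ∈ M
    · rw [if_pos hh]
      have : Nat.card ↥(S ⊓ centralizer ({h} : Set G)) ≤ Nat.card S := card_le_of_le hDS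
      omega
    · rw [if_neg hh, add_zero, ← hcardD]
      apply four_mul_card_le hS2
      · intro h1
        apply hh
        exact mem_of_pow_mem_of_coprime M hcop (hCM (pow_card_mem_centralizer S h (Or.inl h1)))
          (pow_index_mem M h)
      · intro h1
        apply hh
        exact mem_of_pow_mem_of_coprime M hcop (hCM (pow_card_mem_centralizer S h (Or.inr h1)))
          (pow_index_mem M h)
  have hsum : ∑ h : G, 4 * Nat.card {x : G // x ∈ S ∧ Commute x h} ≤
      ∑ h : G, (Nat.card S + (if h ∈ M then 3 * Nat.card S else 0)) :=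
    Finset.sum_le_sum fun h _ => hterm h
  rw [← Finset.mul_sum, h0, Finset.sum_add_distrib, Finset.sum_const, Finset.card_univ, smul_eq_mul,
    Finset.sum_ite, Finset.sum_const, Finset.sum_const_zero, add_zero, smul_eq_mul,
    ← Nat.card_eq_fintype_card (α := G)] at hsum
  have hcM : (Finset.univ.filter (fun x : G => x ∈ M)).card = Nat.card M := by
    rw [Nat.card_eq_fintype_card (α := ↥M), Fintype.card_subtype]
  rw [hcM] at hsum
  have hpos : 0 < Nat.card G := Nat.card_pos
  have : (2 * kQ (fun x : G => x ∈ S)) * (2 * Nat.card G) ≤ Nat.card S * (2 * Nat.card G) := by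
    calc (2 * kQ (fun x : G => x ∈ S)) * (2 * Nat.card G)
        = 4 * (kQ (fun x : G => x ∈ S) * Nat.card G) := by ring
      _ ≤ Nat.card G * Nat.card S + Nat.card M * (3 * Nat.card S) := hsum
      _ = Nat.card S * (Nat.card G + 3 * Nat.card M) := by ring
      _ ≤ Nat.card S * (Nat.card G + Nat.card G) := Nat.mul_le_mul_left _ (Nat.add_le_add_left h3M _)
      _ = Nat.card S * (2 * Nat.card G) := by ring
  exact Nat.le_of_mul_le_mul_right this (by omega)

/-- the class number as a `kQ` -/
theorem kQ_true : kQ (fun _ : G => True) = Nat.card (ConjClasses G) := by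
  unfold kQ
  exact Nat.card_congr (Equiv.subtypeUnivEquiv (fun c => fun _ _ => trivial))

/-- a subgroup of index at most two contains the commutator subgroup -/
theorem commutator_le_of_index_le_two [Finite G] (K : Subgroup G)
    (h : K.index = 1 ∨ K.index = 2) : commutator G ≤ K := by
  rcases h with h1 | h2
  · rw [index_eq_one.mp h1]; exact le_top
  · have hKn : K.Normal := normal_of_index_eq_two h2
    have hcard : Nat.card (G ⧸ K) = 2 := h2
    have : Fact (Nat.Prime 2) := ⟨Nat.prime_two⟩
    have hcyc : IsCyclic (G ⧸ K) := isCyclic_of_prime_card hcard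
    let _ : CommGroup (G ⧸ K) := IsCyclic.commGroup
    have := Abelianization.commutator_subset_ker (QuotientGroup.mk' K)
    rwa [QuotientGroup.ker_mk'] at this

/-- (E1) a `2`-group with more than `|P|/2` classes has class at most two -/
theorem commutator_le_center_of_many [Finite G] (hG : IsPGroup 2 G)
    (h : Nat.card G < 2 * Nat.card (ConjClasses G)) : commutator G ≤ center G := by
  classical
  set B := centralizer ((commutator G : Subgroup G) : Set G) with hB
  by_cases hBtop : B = ⊤
  · intro c hc
    rw [mem_center_iff]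
    intro g
    have hg : g ∈ B := by rw [hBtop]; exact mem_top g
    rw [hB, mem_centralizer_iff] at hg
    exact (hg c hc).symm
  exfalso
  have h0 := card_commPairs (fun _ : G => True) (fun _ _ _ => trivial)
  rw [kQ_true] at h0
  have : Fintype G := Fintype.ofFinite G
  have e1 : {q : G × G // True ∧ Commute q.1 q.2} ≃ Σ x : G, {h : G // True ∧ Commute x h} :=
    Equiv.subtypeProdEquivSigmaSubtype (fun (x h : G) => True ∧ Commute x h)
  rw [Nat.card_congr e1, Nat.card_sigma] at h0
  have hfib : ∀ x : G, Nat.card {h : G // True ∧ Commute x h} = Nat.card (centralizer ({x} : Set G)) := by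
    intro x
    rw [← card_commute_eq]
    apply Nat.card_congr
    apply Equiv.subtypeEquivRight
    intro h
    exact ⟨fun h => h.2, fun h => ⟨trivial, h⟩⟩
  have h2B : 2 * Nat.card B ≤ Nat.card G := two_mul_card_le_of_ne_top B hBtop
  -- the group is not abelian, so the centre has index at least four
  have hZ1 : (center G).index ≠ 1 ∧ (center G).index ≠ 2 := by
    have hcycl : ¬ IsCyclic (G ⧸ center G) := by
      intro hcyc
      have hcomm := (QuotientGroup.mk' (center G)).isMulCommutative_of_isCyclic_of_ker_le_center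
        (by rw [QuotientGroup.ker_mk'])
      apply hBtop
      rw [eq_top_iff]
      intro g _
      rw [hB, mem_centralizer_iff]
      intro c _
      exact hcomm.is_comm.comm c g
    constructor
    · intro h1
      apply hcycl
      have : Nat.card (G ⧸ center G) = 1 := h1
      have : Subsingleton (G ⧸ center G) := (Nat.card_eq_one_iff_unique.mp this).1
      exact isCyclic_of_subsingleton
    · intro h2
      apply hcycl
      have hcard : Nat.card (G ⧸ center G) = 2 := h2
      have : Fact (Nat.Prime 2) := ⟨Nat.prime_two⟩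
      exact isCyclic_of_prime_card hcard
  have h4Z : 4 * Nat.card (center G) ≤ Nat.card G := four_mul_card_le hG _ hZ1.1 hZ1.2
  have hZB : center G ≤ B := by
    intro z hz
    rw [hB, mem_centralizer_iff]
    intro c _
    exact (mem_center_iff.mp hz c)
  have hterm : ∀ x : G, 4 * Nat.card {h : G // True ∧ Commute x h} ≤
      Nat.card G + ((if x ∈ B then Nat.card G else 0) + (if x ∈ center G then 2 * Nat.card G else 0)) := by
    intro x
    rw [hfib]
    have hle : Nat.card (centralizer ({x} : Set G)) ≤ Nat.card G := Subgroup.card_le_card_group _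
    by_cases hxZ : x ∈ center G
    · rw [if_pos hxZ, if_pos (hZB hxZ)]
      omega
    · rw [if_neg hxZ, add_zero]
      by_cases hxB : x ∈ B
      · rw [if_pos hxB]
        have : 2 * Nat.card (centralizer ({x} : Set G)) ≤ Nat.card G := by
          apply two_mul_card_le_of_ne_top
          intro htop
          apply hxZ
          rw [mem_center_iff]
          intro g
          have : g ∈ centralizer ({x} : Set G) := by rw [htop]; exact mem_top g
          rw [mem_centralizer_iff] at this
          exact (this x rfl).symm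
        omega
      · rw [if_neg hxB, add_zero]
        have hmem : ∀ K : Subgroup G, commutator G ≤ centralizer ({x} : Set G) → x ∈ B := by
          intro _ hle
          rw [hB, mem_centralizer_iff]
          intro c hc
          have := hle hc
          rw [mem_centralizer_iff] at this
          exact (this x rfl).symm
        apply four_mul_card_le hG
        · intro h1
          exact hxB (hmem ⊤ (commutator_le_of_index_le_two _ (Or.inl h1)))
        · intro h1
          exact hxB (hmem ⊤ (commutator_le_of_index_le_two _ (Or.inr h1)))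
  have hsum : ∑ x : G, 4 * Nat.card {h : G // True ∧ Commute x h} ≤
      ∑ x : G, (Nat.card G + ((if x ∈ B then Nat.card G else 0) +
        (if x ∈ center G then 2 * Nat.card G else 0))) :=
    Finset.sum_le_sum fun x _ => hterm x
  rw [← Finset.mul_sum, h0, Finset.sum_add_distrib, Finset.sum_add_distrib, Finset.sum_const,
    Finset.card_univ, smul_eq_mul,
    Finset.sum_ite, Finset.sum_const, Finset.sum_const_zero, add_zero, smul_eq_mul,
    Finset.sum_ite, Finset.sum_const, Finset.sum_const_zero, add_zero, smul_eq_mul,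
    ← Nat.card_eq_fintype_card (α := G)] at hsum
  have hcB : (Finset.univ.filter (fun x : G => x ∈ B)).card = Nat.card B := by
    rw [Nat.card_eq_fintype_card (α := ↥B), Fintype.card_subtype]
  have hcZ : (Finset.univ.filter (fun x : G => x ∈ center G)).card = Nat.card (center G) := by
    rw [Nat.card_eq_fintype_card (α := ↥(center G)), Fintype.card_subtype]
  rw [hcB, hcZ] at hsum
  have hpos : 0 < Nat.card G := Nat.card_pos
  set n := Nat.card G
  set k := Nat.card (ConjClasses G)
  set b := Nat.card B
  set z := Nat.card (center G)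
  have h5 : (2 * k) * (4 * n) ≤ n * (4 * n) := by
    calc (2 * k) * (4 * n) = 2 * (4 * (k * n)) := by ring
      _ ≤ 2 * (n * n + (b * n + z * (2 * n))) := Nat.mul_le_mul_left 2 hsum
      _ = 2 * n * n + (2 * b) * n + (4 * z) * n := by ring
      _ ≤ 2 * n * n + n * n + n * n := by
          have h6 : (2 * b) * n ≤ n * n := Nat.mul_le_mul_right n h2B
          have h7 : (4 * z) * n ≤ n * n := Nat.mul_le_mul_right n h4Z
          omega
      _ = n * (4 * n) := by ring
  have h6 : 2 * k ≤ n := Nat.le_of_mul_le_mul_right h5 (by omega)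
  omega

end General

end Cfsg.Agent.Lib.Helper64.TwoClasses
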