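import Cfsg.Agent.Lib.Helper64.BG127f
import Cfsg.Agent.Lib.Helper70.BG158

set_option autoImplicit false
set_option linter.style.haveILetI false
set_option linter.unusedSectionVars false
set_option maxHeartbeats 1000000

/-!
# B&G Theorem 12.7, part G: `F(M) = M_σ × A₀`
-/

namespace Cfsg.Agent.Lib.Helper64.BG127

open Subgroup Cfsg Cfsg.Agent.Lib.Helper33 Cfsg.Agent.Lib.Helper23 Cfsg.Agent.Lib.Helper24
open Cfsg.Agent.Lib.Helper47.BG11 Cfsg.Agent.Lib.Helper63 Cfsg.Agent.Lib.Helper48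

universe u

variable {G : Type u} [Group G] [Finite G]

/-- A nilpotent normal subgroup of `M` lies in `F(M)`. -/
theorem le_fittingOf_of_normal_nilpotent {M N : Subgroup G} (hNM : N ≤ M)
    (hMN : M ≤ normalizer (N : Set G)) (hn : Group.IsNilpotent ↥N) : N ≤ fittingOf M := by
  have hnorm : (N.subgroupOf M).Normal :=
    (Subgroup.normal_subgroupOf_iff_le_normalizer hNM).mpr hMN
  have hnil : Group.IsNilpotent ↥(N.subgroupOf M) :=
    Group.nilpotent_of_mulEquiv (Subgroup.subgroupOfEquivOfLe hNM).symm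
  have h1 := Cfsg.Agent.Lib.Helper22.le_fittingSubgroup hnorm hnil
  have h2 := Subgroup.map_mono (f := M.subtype) h1
  rwa [Subgroup.subgroupOf_map_subtype, inf_of_le_left hNM] at h2

/-- An element of a `p`-group which is not of order dividing `p` has a power of order `p²`. -/
theorem exists_pow_order_sq {p : ℕ} [Fact p.Prime] {R : Subgroup G} (hR : IsPGroup p R) {r : G}
    (hr : r ∈ R) (hrp : r ^ p ≠ 1) : ∃ w ∈ R, w ^ p ≠ 1 ∧ (w ^ p) ^ p = 1 := by
  have hpp : p.Prime := Fact.out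
  obtain ⟨k, hk⟩ := (IsPGroup.iff_orderOf.mp hR) ⟨r, hr⟩
  rw [Subgroup.orderOf_mk] at hk
  have hk2 : 2 ≤ k := by
    by_contra h
    have hk1 : k ≤ 1 := by omega
    apply hrp
    have : orderOf r ∣ p := by
      rw [hk]
      calc p ^ k ∣ p ^ 1 := pow_dvd_pow p hk1
        _ = p := pow_one p
    exact orderOf_dvd_iff_pow_eq_one.mp this
  obtain ⟨j, rfl⟩ : ∃ j, k = j + 2 := ⟨k - 2, by omega⟩
  refine ⟨r ^ (p ^ j), R.pow_mem hr _, ?_, ?_⟩
  · rw [← pow_mul, ← pow_succ]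
    intro h
    have h1 := orderOf_dvd_of_pow_eq_one h
    rw [hk] at h1
    have h2 := (Nat.pow_dvd_pow_iff_le_right hpp.one_lt).mp h1
    omega
  · rw [← pow_mul, ← pow_mul]
    have : p ^ j * (p * p) = orderOf r := by rw [hk]; ring
    rw [this]
    exact pow_orderOf_eq_one r

/-- `O_p(M) = A₀`. -/
theorem pCoreOf_le_A₀ (hG : IsMinSimpleOddOrder G) (H : Hyp G) {M E : Subgroup G}
    (hM : IsCoatom M) (hE : IsComplIn E (sigmaCore M) M) {p : ℕ} [Fact p.Prime]
    (hp : p ∈ tau2 M) {A : Subgroup G}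
    (hA : A ≤ E ∧ IsElementaryAbelian p A ∧ Nat.card A = p ^ 2) (D : Data M E A p) :
    Cfsg.Agent.Lib.Helper23.pCoreOf p M ≤ A ⊓ centralizer (sigmaCore M : Set G) := by
  have hpp : p.Prime := Fact.out
  obtain ⟨P, S, hAP, hPM, hPp, hPi, hPc, hΩ, hPS, hSp, hSi, hSna, z, hzA, hz1, hzS⟩ := D.syl
  have hEM := hE.1
  have hAM : A ≤ M := hA.1.trans hEM
  have hA' : A ≤ M ∧ IsElementaryAbelian p A ∧ Nat.card A = p ^ 2 := ⟨hAM, hA.2⟩
  have hAp : IsPGroup p A := IsPGroup.of_card hA.2.2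
  have hAne : A ≠ ⊥ := by
    intro h
    have h2 := hA.2.2
    rw [h, Subgroup.card_bot] at h2
    have : 1 < p ^ 2 := Nat.one_lt_pow (by norm_num) hpp.one_lt
    omega
  have hp2 : p ≠ 2 := by
    rintro rfl
    have h1 : 2 ∣ Nat.card A := by rw [hA.2.2]; norm_num
    have h2 : 2 ∣ Nat.card G := h1.trans (Subgroup.card_subgroup_dvd_card A)
    exact (Nat.not_even_iff_odd.mpr hG.1) (even_iff_two_dvd.mpr h2)
  obtain ⟨-, hmax⟩ := H.h08 M hM p hp.2.1 hp.2.2.1 hp.2.2.2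
  have hmaxA := hmax A hAM hA.2.1 hA.2.2
  set A₀ := A ⊓ centralizer (sigmaCore M : Set G) with hA₀
  set R := Cfsg.Agent.Lib.Helper23.pCoreOf p M with hR
  have hRp : IsPGroup p R := isPGroup_pCoreOf p M
  have hRP : R ≤ P := pCoreOf_le_of_sylowIn hPM hPp hPi
  have hMR : M ≤ normalizer (R : Set G) := le_normalizer_pCoreOf p M
  have hA₀A : A₀ ≤ A := inf_le_left
  have hA₀M : A₀ ≤ M := hA₀A.trans hAM
  have hA₀p : IsPGroup p A₀ := hAp.to_le hA₀A
  have hA₀R : A₀ ≤ R := Cfsg.Agent.Lib.Helper47.le_pCoreOf hA₀M D.norm₀ hA₀p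
  -- `A` is not contained in `R`
  have hRA : ¬ A ≤ R := by
    intro hAR
    obtain ⟨-, ⟨-, -, hNA⟩, -⟩ := H.h18 M hM E hE p hp A hA
    apply hNA
    have hMA : M ≤ normalizer (A : Set G) := by
      intro m hm
      rw [← cj_eq_self_iff]
      apply Subgroup.eq_of_le_of_card_ge
      · intro x hx
        obtain ⟨a, ha, rfl⟩ := mem_cj'.mp hx
        have h1 : m * a * m⁻¹ ∈ R := (mem_normalizer_iff.mp (hMR hm) a).mp (hAR ha)
        apply (hΩ _ (hRP h1)).mp
        rw [conj_pow, hA.2.1.2 a ha]; group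
      · rw [card_cj]
    exact (normalizer_eq_of_isCoatom hG hM hAne hAM hMA).le
  have hRA₀ : R ⊓ A = A₀ := by
    symm
    apply Subgroup.eq_of_le_of_card_ge (le_inf hA₀R hA₀A)
    rw [D.card₀]
    have hd : Nat.card ↥(R ⊓ A : Subgroup G) ∣ p ^ 2 := by
      rw [← hA.2.2]; exact Subgroup.card_dvd_of_le inf_le_right
    obtain ⟨j, hj, hcj⟩ := (Nat.dvd_prime_pow hpp).mp hd
    have hj2 : j ≠ 2 := by
      intro h
      apply hRA
      have hAeq : R ⊓ A = A :=
        Subgroup.eq_of_le_of_card_ge inf_le_right (by rw [hcj, h, hA.2.2])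
      exact hAeq ▸ inf_le_left
    rw [hcj]
    have : j ≤ 1 := by omega
    calc p ^ j ≤ p ^ 1 := Nat.pow_le_pow_right hpp.pos this
      _ = p := pow_one p
  -- `R` has exponent `p`
  have hexp : ∀ r ∈ R, r ^ p = 1 := by
    intro r hr
    by_contra hrp
    obtain ⟨w, hwR, hwp1, hwpp⟩ := exists_pow_order_sq hRp hr hrp
    have hwP : w ∈ P := hRP hwR
    have hwS : w ∈ S := hPS hwP
    have hwA : ∀ a ∈ A, w * a = a * w := fun a ha => hPc w hwP a (hAP ha)
    have hwpA₀ : w ^ p ∈ A₀ := by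
      rw [← hRA₀]
      exact ⟨R.pow_mem hwR p, (hΩ _ (P.pow_mem hwP p)).mp hwpp⟩
    have hcomm : ∀ s ∈ S, s * w ^ p = w ^ p * s := by
      by_cases hr2 : PRankLE p 2 ↥S
      · have hS' : ((hSp.toSylow hSi : Sylow p G) : Subgroup G) = S :=
          IsPGroup.toSylow_coe hSp hSi
        have h12 := H.h12 p (hSp.toSylow hSi) (hS'.symm ▸ hr2)
        rw [hS'] at h12
        rcases h12 with hab | ⟨P₁, P₂, hsup, hcm, -, -, hexp1, hcyc, hcl⟩
        · exfalso
          apply hSna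
          intro a ha b hb
          exact congrArg Subtype.val (hab.is_comm.comm ⟨a, ha⟩ ⟨b, hb⟩)
        · exact pow_comm_of_struct hsup hcm hexp1 hcyc hcl hwS hwpp
      · exact pow_comm_of_narrow hp2 hSp hr2 (hAP.trans hPS) hA.2.1 hA.2.2 hmaxA hwS hwA hwpp
    -- `A₀` is generated by `w ^ p`
    have hgen : ∀ a ∈ A₀, ∃ k : ℤ, a = (w ^ p) ^ k := by
      intro a ha
      have hcardA₀ : Nat.card ↥A₀ = p := D.card₀
      have hne : (⟨w ^ p, hwpA₀⟩ : ↥A₀) ≠ 1 := by
        intro h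
        exact hwp1 (congrArg Subtype.val h)
      have hmem := mem_zpowers_of_prime_card (G := ↥A₀) hcardA₀ (g := ⟨w ^ p, hwpA₀⟩)
        (g' := ⟨a, ha⟩) hne
      obtain ⟨k, hk⟩ := mem_zpowers_iff.mp hmem
      refine ⟨k, ?_⟩
      have := congrArg Subtype.val hk
      simpa using this.symm
    have hSC : S ≤ centralizer (A₀ : Set G) := by
      intro s hs
      rw [mem_centralizer_iff]
      intro a ha
      obtain ⟨k, rfl⟩ := hgen a ha
      exact ((show Commute s (w ^ p) from hcomm s hs).zpow_right k).eq.symm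
    have hSM : S ≤ M := hSC.trans D.good₀.1
    exact hSna (comm_of_tau2 H hM hp hA' hSM hSp)
  -- conclusion
  have hRA' : R ≤ A := fun r hr => (hΩ r (hRP hr)).mp (hexp r hr)
  calc R ≤ R ⊓ A := le_inf le_rfl hRA'
    _ = A₀ := hRA₀

/-- Part (b), second half, of B&G 12.7: `F(M) = M_σ × A₀`. -/
theorem fitting_eq (hG : IsMinSimpleOddOrder G) (H : Hyp G) {M E : Subgroup G}
    (hM : IsCoatom M) (hE : IsComplIn E (sigmaCore M) M) {p : ℕ} [Fact p.Prime]
    (hp : p ∈ tau2 M) {A : Subgroup G}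
    (hA : A ≤ E ∧ IsElementaryAbelian p A ∧ Nat.card A = p ^ 2) (D : Data M E A p)
    (hτ : ∀ q, q ∈ tau2 M → q = p) :
    fittingOf M = sigmaCore M ⊔ (A ⊓ centralizer (sigmaCore M : Set G)) := by
  have hEM := hE.1
  have hAM : A ≤ M := hA.1.trans hEM
  have hA' : A ≤ M ∧ IsElementaryAbelian p A ∧ Nat.card A = p ^ 2 := ⟨hAM, hA.2⟩
  have hAp : IsPGroup p A := IsPGroup.of_card hA.2.2
  have hσM : SigmaHallIn M :=
    (Cfsg.Agent.Lib.Helper62.sigmaCore_hall hG H.uniq hM (H.fus M hM)).1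
  apply le_antisymm
  · apply fittingOf_le_of_pCoreOf_le
    intro r _
    by_cases hrσ : r ∈ sigma M
    · exact (le_sigmaCore_of_sigma hσM hrσ (pCoreOf_le r M) (isPGroup_pCoreOf r M)).trans
        le_sup_left
    · by_cases hbot : Cfsg.Agent.Lib.Helper23.pCoreOf r M = ⊥
      · rw [hbot]; exact bot_le
      · have h125 : Cfsg.Agent.Lib.Helper70.BG158.Stmt125b M :=
          fun p' _ hp' A' hA' => (H.h17 M hM p' hp' A' hA').2.1
        have hr2 := (Cfsg.Agent.Lib.Helper70.BG158.key hG H.uniq hM h125 hbot hrσ).1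
        have hrp : r = p := hτ r hr2
        subst hrp
        exact (pCoreOf_le_A₀ hG H hM hE hp hA D).trans le_sup_right
  · apply sup_le
    · exact le_fittingOf_of_normal_nilpotent hσM.1
        (Cfsg.Agent.Lib.Helper24.BG.le_normalizer_sigmaCore M) (H.h17 M hM p hp A hA').1
    · have hA₀A : A ⊓ centralizer (sigmaCore M : Set G) ≤ A := inf_le_left
      exact (Cfsg.Agent.Lib.Helper47.le_pCoreOf (hA₀A.trans hAM) D.norm₀
        (hAp.to_le hA₀A)).trans (pCoreOf_le_fittingOf p M)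

/-- **B&G Theorem 12.7** from the earlier statements. -/
theorem bg127 (hG : IsMinSimpleOddOrder G) (H : Hyp G) {M E : Subgroup G}
    (hM : IsCoatom M) (hE : IsComplIn E (sigmaCore M) M) {p : ℕ} [Fact p.Prime]
    (hp : p ∈ tau2 M) (hS : ∀ S : Sylow p G, ¬ IsMulCommutative (S : Subgroup G))
    {A : Subgroup G} (hA : A ≤ E ∧ IsElementaryAbelian p A ∧ Nat.card A = p ^ 2) :
    tau2 M = {p} ∧
      (Nat.card ↥(A ⊓ centralizer (sigmaCore M : Set G)) = p ∧
        fittingOf M = sigmaCore M ⊔ (A ⊓ centralizer (sigmaCore M : Set G))) ∧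
      ∀ X : Subgroup G, X ≤ E → Nat.card X = p →
        X ≠ A ⊓ centralizer (sigmaCore M : Set G) →
        sigmaCore M ⊓ centralizer (X : Set G) = ⊥ ∧ ¬ centralizer (X : Set G) ≤ M := by
  have D := data hG H hM hE hp hS hA
  have hτ := tau2_eq hG H hM hE hp hA D
  refine ⟨?_, ⟨D.card₀, fitting_eq hG H hM hE hp hA D hτ⟩, D.partc⟩
  ext q
  constructor
  · intro hq
    exact hτ q hq
  · intro hq
    rw [Set.mem_singleton_iff] at hq
    rw [hq]; exact hp

end Cfsg.Agent.Lib.Helper64.BG127
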