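import Mathlib
import Cfsg.Agent.Lib.Helper41.PsDefs
import Cfsg.Agent.Lib.Helper49.CgCG8c

/-!
# Ps hive (S4321), leaf PS21 `ps_cF`: if `P` is normal, elements of `P` outside `Z(P)` have
`p ∣ cs`.  (helper64)
-/

set_option autoImplicit false

namespace Cfsg.Agent.Lib.Helper41.Ps

open Subgroup Cfsg.Agent.Lib.Helper22.Cg

universe u

/-- PS21 (F). if `P` is normal, elements of `P` outside `Z(P)` have `p ∣ cs`. (cg8c) -/
theorem ps_cF {G : Type u} [Group G] [Finite G] (p : ℕ) [Fact p.Prime] (P : Sylow p G)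
    (hN : ∀ g : G, ∀ y ∈ P, g * y * g⁻¹ ∈ P) (a : G) (ha : a ∈ P)
    (hnc : ¬ ∀ y ∈ P, a * y = y * a) : p ∣ cs a := by
  by_contra hp
  obtain ⟨Q, hQ⟩ := cg8c p a hp
  obtain ⟨g, hg⟩ := MulAction.exists_smul_eq G P Q
  apply hnc
  intro y hy
  apply hQ
  have hy' : g⁻¹ * y * (g⁻¹)⁻¹ ∈ P := hN g⁻¹ y hy
  have hmem : y ∈ ((g • P : Sylow p G) : Subgroup G) := by
    rw [Sylow.coe_subgroup_smul]
    refine (Subgroup.mem_smul_pointwise_iff_exists _ _ _).mpr ⟨g⁻¹ * y * (g⁻¹)⁻¹, hy', ?_⟩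
    rw [MulAut.smul_def, MulAut.conj_apply]; group
  rw [hg] at hmem
  exact hmem

end Cfsg.Agent.Lib.Helper41.Ps
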