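import Mathlib
import Cfsg.Prelude.Def_ClassicalGeometry
import Cfsg.Prelude.Def_GeometricClasses
import Cfsg.Agent.Lib.Helper5.HyDefs

/-! # HY-CONG (helper64, for helper5's S5992/S5993 hive): fixed-point congruence on families of subspaces -/

set_option autoImplicit false

namespace Cfsg.Agent.Lib.Helper5.Hy

open Polynomial Module
open Cfsg.Agent.Lib.Helper2.BG Cfsg.Agent.Lib.Helper99 Cfsg.Agent.Lib.Helper48.Ti
open Cfsg.Agent.Lib.Helper67.Ts

section concrete

variable {F : Type*} [Field F] [Fintype F]

theorem cong_map_pow {ι : Type*} [Fintype ι] [DecidableEq ι] (x : GL ι F) (k : ℕ)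
    (W : Submodule F (ι → F)) :
    W.map (Matrix.toLin' ((x ^ k : GL ι F) : Matrix ι ι F)) =
      (fun U : Submodule F (ι → F) => U.map (Matrix.toLin' (x : Matrix ι ι F)))^[k] W := by
  induction k generalizing W with
  | zero => simp
  | succ k ih =>
    rw [Function.iterate_succ_apply', ← ih, pow_succ', Units.val_mul, Matrix.toLin'_mul,
      Submodule.map_comp]

theorem cong_iterate_le {ι : Type*} [Fintype ι] [DecidableEq ι] (x : GL ι F)
    (W : Submodule F (ι → F)) (h : W.map (Matrix.toLin' (x : Matrix ι ι F)) ≤ W) (k : ℕ) :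
    (fun U : Submodule F (ι → F) => U.map (Matrix.toLin' (x : Matrix ι ι F)))^[k] W ≤ W := by
  induction k with
  | zero => simp
  | succ k ih =>
    rw [Function.iterate_succ_apply']
    exact le_trans (Submodule.map_mono ih) h

theorem cong_eq_of_le {ι : Type*} [Fintype ι] [DecidableEq ι] (x : GL ι F) (r : ℕ) (hr : 0 < r)
    (hx : x ^ r = 1) (W : Submodule F (ι → F))
    (h : W.map (Matrix.toLin' (x : Matrix ι ι F)) ≤ W) :
    W.map (Matrix.toLin' (x : Matrix ι ι F)) = W := by
  refine le_antisymm h ?_
  obtain ⟨k, rfl⟩ : ∃ k, r = k + 1 := ⟨r - 1, by omega⟩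
  have h1 : W.map (Matrix.toLin' ((x ^ (k + 1) : GL ι F) : Matrix ι ι F)) = W := by
    rw [hx]; simp
  rw [cong_map_pow, Function.iterate_succ_apply'] at h1
  calc W = _ := h1.symm
    _ ≤ _ := Submodule.map_mono (cong_iterate_le x W h k)

theorem cong_end_pow {α : Type*} (g : α → α) (n : ℕ) :
    ((show Function.End α from g) ^ n) = (show Function.End α from g^[n]) := rfl

theorem cong_end_eq_one {α : Type*} (g : α → α) (n : ℕ) (h : ∀ a, g^[n] a = a) :
    ((show Function.End α from g) ^ n) = 1 := by
  rw [cong_end_pow]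
  exact funext h

/-- HY-CONG: fixed-point congruence for an element of prime order acting on a family of subspaces closed
under the action. -/
theorem card_modEq_fixed {ι : Type*} [Fintype ι] [DecidableEq ι] (x : GL ι F) (r : ℕ)
    [Fact r.Prime] (hx : x ^ r = 1) (P : Submodule F (ι → F) → Prop)
    (hP : ∀ W, P W → P (W.map (Matrix.toLin' (x : Matrix ι ι F)))) :
    Nat.card {W : Submodule F (ι → F) // P W} ≡
      Nat.card {W : Submodule F (ι → F) // P W ∧ W.map (Matrix.toLin' (x : Matrix ι ι F)) ≤ W}
      [MOD r] := by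
  classical
  have : Finite (Submodule F (ι → F)) := Finite.of_injective (fun W => (W : Set (ι → F)))
    SetLike.coe_injective
  haveI : Fintype {W : Submodule F (ι → F) // P W} := Fintype.ofFinite _
  let g : {W : Submodule F (ι → F) // P W} → {W : Submodule F (ι → F) // P W} :=
    fun W => ⟨W.1.map (Matrix.toLin' (x : Matrix ι ι F)), hP W.1 W.2⟩
  have hiter : ∀ (k : ℕ) (W : {W : Submodule F (ι → F) // P W}),
      ((g^[k]) W).1 =
        (fun U : Submodule F (ι → F) => U.map (Matrix.toLin' (x : Matrix ι ι F)))^[k] W.1 := by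
    intro k
    induction k with
    | zero => intro W; rfl
    | succ k ih =>
      intro W
      rw [Function.iterate_succ_apply', Function.iterate_succ_apply', ← ih]
  let f : Function.End {W : Submodule F (ι → F) // P W} := g
  have hf : f ^ r ^ 1 = 1 := by
    rw [pow_one]
    apply cong_end_eq_one
    intro W
    apply Subtype.ext
    rw [hiter, ← cong_map_pow, hx]
    simp
  have key := Equiv.Perm.card_fixedPoints_modEq (p := r) (n := 1) hf
  rw [Nat.card_eq_fintype_card]
  refine key.trans ?_
  rw [← Nat.card_eq_fintype_card]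
  refine (congrArg (· % r) (Nat.card_congr ?_) : _)
  refine
    { toFun := fun W => ⟨W.1.1, W.1.2, ?_⟩
      invFun := fun W => ⟨⟨W.1, W.2.1⟩, ?_⟩
      left_inv := fun W => rfl
      right_inv := fun W => rfl }
  · have h : g W.1 = W.1 := W.2
    have h' : (g W.1).1 = W.1.1 := congrArg Subtype.val h
    exact le_of_eq h'
  · show g ⟨W.1, W.2.1⟩ = ⟨W.1, W.2.1⟩
    apply Subtype.ext
    exact cong_eq_of_le x r (Fact.out : r.Prime).pos hx W.1 W.2.2

end concrete

end Cfsg.Agent.Lib.Helper5.Hy
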