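import Mathlib
import Cfsg.Prelude.Def_ClassicalGeometry
import Cfsg.Prelude.Def_GeometricClasses
import Cfsg.Agent.Lib.Helper5.HyDefs

/-! # HY-TWO core (helper64, for helper5's S5992/S5993 hive)

`two_core`: the case analysis of HY-TWO `fixes_of_invol` with the leaves HY-SUP / HY-T1 / HY-T3 / HY-T4 as
explicit hypotheses, for an isometry acting as scalars `ε`, `ε'` on two orthogonal nondegenerate subspaces
`X` (odd dimension), `Y` (even dimension) with `dim X + dim Y = dim V`. -/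

set_option autoImplicit false

namespace Cfsg.Agent.Lib.Helper5.Hy

open Polynomial Module
open Cfsg.Agent.Lib.Helper2.BG Cfsg.Agent.Lib.Helper99 Cfsg.Agent.Lib.Helper48.Ti
open Cfsg.Agent.Lib.Helper67.Ts

section abstract

set_option linter.unusedSectionVars false

variable {F V : Type*} [Field F] [Fintype F] [AddCommGroup V] [Module F V] [FiniteDimensional F V]
variable {B : V →ₗ[F] V →ₗ[F] F}

theorem two_inv_le {f : Module.End F V} {X W : Submodule F V} {ε : F}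
    (hX : ∀ v ∈ X, f v = ε • v) (h1 : W ≤ X) : Inv f W := by
  intro v hv
  rw [hX v (h1 hv)]
  exact W.smul_mem _ hv

theorem two_inv_sup {f : Module.End F V} {X Y W₁ W₂ : Submodule F V} {ε ε' : F}
    (hX : ∀ v ∈ X, f v = ε • v) (hY : ∀ v ∈ Y, f v = ε' • v) (h1 : W₁ ≤ X) (h2 : W₂ ≤ Y) :
    Inv f (W₁ ⊔ W₂) := by
  intro v hv
  obtain ⟨x, hx, y, hy, rfl⟩ := Submodule.mem_sup.1 hv
  rw [map_add, hX x (h1 hx), hY y (h2 hy)]
  exact Submodule.add_mem _ (Submodule.mem_sup_left (W₁.smul_mem _ hx))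
    (Submodule.mem_sup_right (W₂.smul_mem _ hy))

theorem two_mem_perp {w v : V} :
    v ∈ LinearMap.BilinForm.orthogonal B (Submodule.span F {w}) ↔ B w v = 0 := by
  rw [LinearMap.BilinForm.mem_orthogonal_iff]
  constructor
  · intro h
    exact h w (Submodule.mem_span_singleton_self w)
  · intro h n hn
    obtain ⟨c, rfl⟩ := Submodule.mem_span_singleton.1 hn
    rw [map_smul, LinearMap.smul_apply, h, smul_zero]

theorem two_finrank_perp (hs : ∀ u v, B u v = B v u) (hV : Nd B ⊤) {w : V} (hw : B w w ≠ 0) :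
    finrank F ↥(LinearMap.BilinForm.orthogonal B (Submodule.span F {w})) + 1 = finrank F V := by
  have hrefl : LinearMap.BilinForm.IsRefl B := by
    intro a b hab
    rw [hs]
    exact hab
  have h1 := LinearMap.BilinForm.finrank_add_finrank_orthogonal hrefl (Submodule.span F {w})
  have htop : LinearMap.BilinForm.orthogonal B ⊤ = ⊥ := by
    rw [eq_bot_iff]
    intro z hz
    rw [LinearMap.BilinForm.mem_orthogonal_iff] at hz
    rw [Submodule.mem_bot]
    apply hV z Submodule.mem_top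
    intro v _
    have h3 := hz v Submodule.mem_top
    rw [hs]
    exact h3
  rw [htop, inf_bot_eq, finrank_bot, add_zero] at h1
  have hw0 : w ≠ 0 := by
    rintro rfl
    apply hw
    simp
  rw [finrank_span_singleton hw0] at h1
  omega

theorem two_nd_perp (hs : ∀ u v, B u v = B v u) (hV : Nd B ⊤) {w : V} (hw : B w w ≠ 0) :
    Nd B (LinearMap.BilinForm.orthogonal B (Submodule.span F {w})) := by
  intro u hu h
  apply hV u Submodule.mem_top
  intro x _
  rw [two_mem_perp] at hu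
  have hx' : x - (B w x / B w w) • w ∈
      LinearMap.BilinForm.orthogonal B (Submodule.span F {w}) := by
    rw [two_mem_perp, map_sub, map_smul, smul_eq_mul, div_mul_cancel₀ _ hw, sub_self]
  have h3 := h _ hx'
  rw [map_sub, map_smul, hs u w, hu, smul_zero, sub_zero] at h3
  exact h3

theorem two_inv_perp {f : Module.End F V} (hf : Isom B f) {w : V} {ε : F} (hε : ε ≠ 0)
    (hw : f w = ε • w) : Inv f (LinearMap.BilinForm.orthogonal B (Submodule.span F {w})) := by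
  intro v hv
  rw [two_mem_perp] at hv ⊢
  have h := hf w v
  rw [hw, map_smul, LinearMap.smul_apply, hv, smul_eq_mul] at h
  exact (mul_eq_zero.1 h).resolve_left hε

/-- The case analysis of HY-TWO. -/
theorem two_core (hs : ∀ u v, B u v = B v u) (hV : Nd B ⊤)
    (hSUP : ∀ {W₀ W₁ : Submodule F V}, Nd B W₀ → Nd B W₁ → Orth B W₀ W₁ →
      Nd B (W₀ ⊔ W₁) ∧ W₀ ⊓ W₁ = ⊥ ∧
        finrank F ↥(W₀ ⊔ W₁) = finrank F W₀ + finrank F W₁)
    (hT1 : ∀ {W₀ W₁ : Submodule F V}, Nd B W₀ → Nd B W₁ → Orth B W₀ W₁ →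
      Even (finrank F W₀) → Even (finrank F W₁) →
      (Plus B (W₀ ⊔ W₁) ↔ (Plus B W₀ ↔ Plus B W₁)))
    (hT3 : ∀ {Z : Submodule F V}, Nd B Z → ∀ m₀ : ℕ, Even m₀ → 0 < m₀ → m₀ < finrank F Z →
      ∀ b : Prop, ∃ W₀ : Submodule F V, W₀ ≤ Z ∧ Nd B W₀ ∧ finrank F W₀ = m₀ ∧ (Plus B W₀ ↔ b))
    (hT4 : ∀ {Z : Submodule F V}, Nd B Z → 2 ≤ finrank F Z → ∀ b : Prop,
      ∃ w ∈ Z, B w w ≠ 0 ∧
        (Plus B (LinearMap.BilinForm.orthogonal B (Submodule.span F {w})) ↔ b))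
    {f : Module.End F V} (hf : Isom B f)
    {X Y : Submodule F V} {ε ε' : F} (hε' : ε' ≠ 0)
    (hfX : ∀ v ∈ X, f v = ε • v) (hfY : ∀ v ∈ Y, f v = ε' • v)
    (hX : Nd B X) (hY : Nd B Y) (hXY : Orth B X Y)
    (hdim : finrank F X + finrank F Y = finrank F V) (hXodd : Odd (finrank F X))
    (hYeven : Even (finrank F Y))
    (m : ℕ) (hme : Even m) (h2m : 2 ≤ m) (hmn : m < finrank F V) (b : Prop) :
    Fixes B f m b := by
  classical
  have horth : ∀ {W₁ W₂ : Submodule F V}, W₁ ≤ X → W₂ ≤ Y → Orth B W₁ W₂ :=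
    fun h1 h2 u hu v hv => hXY u (h1 hu) v (h2 hv)
  obtain ⟨k, hk⟩ := id hme
  obtain ⟨j, hj⟩ := id hYeven
  obtain ⟨a, ha⟩ := id hXodd
  by_cases hA : m < finrank F X
  · obtain ⟨W, hWX, hWnd, hWdim, hWb⟩ := hT3 hX m hme (by omega) hA b
    exact ⟨W, two_inv_le hfX hWX, hWnd, hWdim, hWb⟩
  by_cases hB : m < finrank F Y
  · obtain ⟨W, hWY, hWnd, hWdim, hWb⟩ := hT3 hY m hme (by omega) hB b
    exact ⟨W, two_inv_le hfY hWY, hWnd, hWdim, hWb⟩
  rcases Nat.lt_or_ge (finrank F Y) m with hC1 | hC2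
  · -- `m > dim Y`: `W = W₁ ⊔ Y`
    have hme' : Even (m - finrank F Y) := ⟨k - j, by omega⟩
    obtain ⟨W₁, hW₁X, hW₁nd, hW₁dim, hW₁b⟩ :=
      hT3 hX (m - finrank F Y) hme' (by omega) (by omega) (Plus B Y ↔ b)
    have ho : Orth B W₁ Y := horth hW₁X le_rfl
    obtain ⟨hnd, -, hfr⟩ := hSUP hW₁nd hY ho
    refine ⟨W₁ ⊔ Y, two_inv_sup hfX hfY hW₁X le_rfl, hnd, by rw [hfr, hW₁dim]; omega, ?_⟩
    rw [hT1 hW₁nd hY ho (by rw [hW₁dim]; exact hme') hYeven, hW₁b]
    tauto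
  · -- `m = dim Y`
    have hmE : m = finrank F Y := by omega
    by_cases ha1 : finrank F X = 1
    · obtain ⟨w, hwY, hww, hwb⟩ := hT4 hY (by omega) b
      refine ⟨_, two_inv_perp hf hε' (hfY w hwY), two_nd_perp hs hV hww, ?_, hwb⟩
      have := two_finrank_perp hs hV hww
      omega
    · have ha3 : 3 ≤ finrank F X := by omega
      have hme2 : Even (m - 2) := ⟨k - 1, by omega⟩
      obtain ⟨W₂, hW₂Y, hW₂nd, hW₂dim, -⟩ :=
        hT3 hY (m - 2) hme2 (by omega) (by omega) True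
      obtain ⟨W₁, hW₁X, hW₁nd, hW₁dim, hW₁b⟩ :=
        hT3 hX 2 even_two (by omega) (by omega) (Plus B W₂ ↔ b)
      have ho : Orth B W₁ W₂ := horth hW₁X hW₂Y
      obtain ⟨hnd, -, hfr⟩ := hSUP hW₁nd hW₂nd ho
      refine ⟨W₁ ⊔ W₂, two_inv_sup hfX hfY hW₁X hW₂Y, hnd,
        by rw [hfr, hW₁dim, hW₂dim]; omega, ?_⟩
      rw [hT1 hW₁nd hW₂nd ho (by rw [hW₁dim]; exact even_two) (by rw [hW₂dim]; exact hme2),
        hW₁b]
      tauto

end abstract

end Cfsg.Agent.Lib.Helper5.Hy
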