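import Mathlib
import Cfsg.Prelude.Def_ClassicalGeometry
import Cfsg.Prelude.Def_GeometricClasses
import Cfsg.Agent.Lib.Helper5.HyDefs
import Cfsg.Agent.Lib.Helper67.TsINVOL
import Cfsg.Agent.Lib.Helper64.HyTWOcore
import Cfsg.Agent.Lib.Helper55.HySUP
import Cfsg.Agent.Lib.Helper33.HyT1
import Cfsg.Agent.Lib.Helper83.HyT3
import Cfsg.Agent.Lib.Helper55.HyT4

/-! # HY-TWO (helper64, for helper5's S5992/S5993 hive): `fixes_of_invol` -/

set_option autoImplicit false

namespace Cfsg.Agent.Lib.Helper5.Hy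

open Polynomial Module
open Cfsg.Agent.Lib.Helper2.BG Cfsg.Agent.Lib.Helper99 Cfsg.Agent.Lib.Helper48.Ti
open Cfsg.Agent.Lib.Helper67.Ts

section abstract

variable {F V : Type*} [Field F] [Fintype F] [AddCommGroup V] [Module F V] [FiniteDimensional F V]
variable {B : V →ₗ[F] V →ₗ[F] F}

/-- HY-TWO: every involutive isometry of an odd-dimensional nondegenerate symmetric space (dim ≥ 3) leaves
invariant nondegenerate subspaces of every even dimension `2 ≤ m < dim V` of BOTH types. -/
theorem fixes_of_invol (h2 : (2 : F) ≠ 0) (hs : ∀ u v, B u v = B v u) (hV : Nd B ⊤)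
    (hodd : Odd (finrank F V)) {f : Module.End F V} (hf : Isom B f) (hff : f * f = 1)
    (m : ℕ) (hme : Even m) (h2m : 2 ≤ m) (hmn : m < finrank F V) (b : Prop) :
    Fixes B f m b := by
  obtain ⟨hNdp, hNdm, horth, hsum⟩ := invol_split h2 hf hff hV
  have hfp : ∀ v ∈ LinearMap.ker (f - 1), f v = (1 : F) • v := by
    intro v hv
    rw [one_smul]
    exact invol_mem_ker_sub.1 hv
  have hfm : ∀ v ∈ LinearMap.ker (f + 1), f v = (-1 : F) • v := by
    intro v hv
    rw [neg_one_smul]
    exact invol_mem_ker_add.1 hv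
  have hm1 : (-1 : F) ≠ 0 := neg_ne_zero.2 one_ne_zero
  rcases Nat.even_or_odd (finrank F ↥(LinearMap.ker (f - 1))) with he | ho
  · have hXodd : Odd (finrank F ↥(LinearMap.ker (f + 1))) := by
      obtain ⟨k, hk⟩ := he
      obtain ⟨n, hn⟩ := hodd
      exact ⟨n - k, by omega⟩
    exact two_core hs hV (nd_sup hs) (plus_sup h2 hs) (exists_nd_of_type h2 hs)
      (exists_perp_of_type h2 hs hV hodd) hf one_ne_zero hfm hfp hNdm hNdp
      (fun u hu v hv => (horth v hv u hu).2) (by omega) hXodd he m hme h2m hmn b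
  · have hYeven : Even (finrank F ↥(LinearMap.ker (f + 1))) := by
      obtain ⟨k, hk⟩ := ho
      obtain ⟨n, hn⟩ := hodd
      exact ⟨n - k, by omega⟩
    exact two_core hs hV (nd_sup hs) (plus_sup h2 hs) (exists_nd_of_type h2 hs)
      (exists_perp_of_type h2 hs hV hodd) hf hm1 hfp hfm hNdp hNdm
      (fun u hu v hv => (horth u hu v hv).1) hsum ho hYeven m hme h2m hmn b

end abstract

end Cfsg.Agent.Lib.Helper5.Hy
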