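import Mathlib
import Cfsg.Prelude.Def_ClassicalGeometry
import Cfsg.Prelude.Def_GeometricClasses
import Cfsg.Prelude.Def_Classical
import Cfsg.Agent.Lib.Helper14.QmDefs
import Cfsg.Agent.Lib.Helper5.HyDefs
import Cfsg.Agent.Lib.Helper67.TsINVOL
import Cfsg.Agent.Lib.Helper64.HyTWOcore
import Cfsg.Agent.Lib.Helper55.HySUP
import Cfsg.Agent.Lib.Helper33.HyT1
import Cfsg.Agent.Lib.Helper83.HyT3

/-! # QM-INV (helper64, for helper14's Qm hive S5990): `fixes_of_invol_full` -/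

set_option autoImplicit false

namespace Cfsg.Agent.Lib.Helper14.Qm

open Module
open Cfsg.Agent.Lib.Helper2.BG Cfsg.Agent.Lib.Helper99 Cfsg.Agent.Lib.Helper48.Ti
open Cfsg.Agent.Lib.Helper5.Hy (Plus Fixes Fix Orth)
open Cfsg.Agent.Lib.Helper65.Qe (pol PlusQ IsomQ FixesQ tp)
open Cfsg.Agent.Lib.Helper8 (minusForm IsInvIso nilPart)

section oddq

variable {F V : Type*} [Field F] [Fintype F] [AddCommGroup V] [Module F V] [FiniteDimensional F V]
variable {B : V →ₗ[F] V →ₗ[F] F}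

/-- core: `f` scalar on two orthogonal nondegenerate subspaces `X`, `Y`; an even `a` strictly inside `X`
and an even `c ≤ dim Y` give an invariant nondegenerate subspace of dimension `a + c` of either type. -/
theorem inv_core (h2 : (2 : F) ≠ 0) (hs : ∀ u v, B u v = B v u)
    {f : Module.End F V} {X Y : Submodule F V} {ε ε' : F}
    (hfX : ∀ v ∈ X, f v = ε • v) (hfY : ∀ v ∈ Y, f v = ε' • v)
    (hX : Nd B X) (hY : Nd B Y) (hXY : Orth B X Y)
    (a c : ℕ) (hae : Even a) (ha0 : 0 < a) (haX : a < finrank F X)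
    (hce : Even c) (hcY : c ≤ finrank F Y) (b : Prop) :
    Fixes B f (a + c) b := by
  classical
  have horth : ∀ {W₁ W₂ : Submodule F V}, W₁ ≤ X → W₂ ≤ Y → Orth B W₁ W₂ :=
    fun h1 h2 u hu v hv => hXY u (h1 hu) v (h2 hv)
  by_cases hc0 : c = 0
  · subst hc0
    obtain ⟨W, hWX, hWnd, hWdim, hWb⟩ :=
      Cfsg.Agent.Lib.Helper5.Hy.exists_nd_of_type h2 hs hX a hae ha0 haX b
    exact ⟨W, Cfsg.Agent.Lib.Helper5.Hy.two_inv_le hfX hWX, hWnd, by rw [hWdim]; rfl, hWb⟩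
  -- a nondegenerate `W₂ ≤ Y` of dimension `c`
  have hW₂ : ∃ W₂ : Submodule F V, W₂ ≤ Y ∧ Nd B W₂ ∧ finrank F W₂ = c := by
    rcases Nat.lt_or_ge c (finrank F Y) with hlt | hge
    · obtain ⟨W₂, h1, h2', h3, -⟩ :=
        Cfsg.Agent.Lib.Helper5.Hy.exists_nd_of_type h2 hs hY c hce (by omega) hlt True
      exact ⟨W₂, h1, h2', h3⟩
    · exact ⟨Y, le_rfl, hY, by omega⟩
  obtain ⟨W₂, hW₂Y, hW₂nd, hW₂dim⟩ := hW₂
  obtain ⟨W₁, hW₁X, hW₁nd, hW₁dim, hW₁b⟩ :=
    Cfsg.Agent.Lib.Helper5.Hy.exists_nd_of_type h2 hs hX a hae ha0 haX (Plus B W₂ ↔ b)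
  have ho : Orth B W₁ W₂ := horth hW₁X hW₂Y
  obtain ⟨hnd, -, hfr⟩ := Cfsg.Agent.Lib.Helper5.Hy.nd_sup hs hW₁nd hW₂nd ho
  refine ⟨W₁ ⊔ W₂, Cfsg.Agent.Lib.Helper5.Hy.two_inv_sup hfX hfY hW₁X hW₂Y, hnd,
    by rw [hfr, hW₁dim, hW₂dim], ?_⟩
  rw [Cfsg.Agent.Lib.Helper5.Hy.plus_sup h2 hs hW₁nd hW₂nd ho (by rw [hW₁dim]; exact hae)
    (by rw [hW₂dim]; exact hce), hW₁b]
  tauto

/-- the case analysis on the two eigenspace dimensions -/
theorem inv_cases (h2 : (2 : F) ≠ 0) (hs : ∀ u v, B u v = B v u)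
    {f : Module.End F V} {X Y : Submodule F V} {ε ε' : F}
    (hfX : ∀ v ∈ X, f v = ε • v) (hfY : ∀ v ∈ Y, f v = ε' • v)
    (hX : Nd B X) (hY : Nd B Y) (hXY : Orth B X Y) (hYX : Orth B Y X)
    (hdim : finrank F X + finrank F Y = finrank F V)
    (hev : Even (finrank F V)) (hn : 6 ≤ finrank F V)
    (m : ℕ) (hme : Even m) (h2m : 2 ≤ m) (hmn : m + 2 ≤ finrank F V) (b : Prop) :
    Fixes B f m b := by
  obtain ⟨k, hk⟩ := id hme
  obtain ⟨n, hn'⟩ := id hev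
  by_cases hA : m < finrank F X
  · have := inv_core h2 hs hfX hfY hX hY hXY m 0 hme (by omega) hA (by simp) (Nat.zero_le _) b
    simpa using this
  by_cases hB : m < finrank F Y
  · have := inv_core h2 hs hfY hfX hY hX hYX m 0 hme (by omega) hB (by simp) (Nat.zero_le _) b
    simpa using this
  rcases Nat.even_or_odd (finrank F X) with heX | hoX
  · obtain ⟨x, hx⟩ := heX
    have heY : Even (finrank F Y) := ⟨n - x, by omega⟩
    obtain ⟨y, hy⟩ := heY
    by_cases h4 : 4 ≤ finrank F X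
    · -- `a = e₊ - 2`, `c = m - e₊ + 2`
      have := inv_core h2 hs hfX hfY hX hY hXY (finrank F X - 2) (m - (finrank F X - 2))
        ⟨x - 1, by omega⟩ (by omega) (by omega) ⟨k - (x - 1), by omega⟩ (by omega) b
      rwa [Nat.add_sub_cancel' (by omega)] at this
    · -- `e₊ = 2`, `m = e₋`
      have := inv_core h2 hs hfY hfX hY hX hYX (finrank F Y - 2) (m - (finrank F Y - 2))
        ⟨y - 1, by omega⟩ (by omega) (by omega) ⟨k - (y - 1), by omega⟩ (by omega) b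
      rwa [Nat.add_sub_cancel' (by omega)] at this
  · obtain ⟨x, hx⟩ := hoX
    -- `a = e₊ - 1`, `c = m - e₊ + 1`
    have := inv_core h2 hs hfX hfY hX hY hXY (finrank F X - 1) (m - (finrank F X - 1))
      ⟨x, by omega⟩ (by omega) (by omega) ⟨k - x, by omega⟩ (by omega) b
    rwa [Nat.add_sub_cancel' (by omega)] at this

/-- QM-INV -/
theorem fixes_of_invol_full (h2 : (2 : F) ≠ 0) (hs : ∀ u v, B u v = B v u) (hV : Nd B ⊤)
    (hev : Even (finrank F V)) (hn : 6 ≤ finrank F V) {f : Module.End F V} (hf : Isom B f)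
    (hff : f * f = 1) (m : ℕ) (hme : Even m) (h2m : 2 ≤ m) (hmn : m + 2 ≤ finrank F V)
    (b : Prop) : Fixes B f m b := by
  obtain ⟨hNdp, hNdm, horth, hsum⟩ := Cfsg.Agent.Lib.Helper67.Ts.invol_split h2 hf hff hV
  have hfp : ∀ v ∈ LinearMap.ker (f - 1), f v = (1 : F) • v := by
    intro v hv
    rw [one_smul]
    exact Cfsg.Agent.Lib.Helper67.Ts.invol_mem_ker_sub.1 hv
  have hfm : ∀ v ∈ LinearMap.ker (f + 1), f v = (-1 : F) • v := by
    intro v hv
    rw [neg_one_smul]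
    exact Cfsg.Agent.Lib.Helper67.Ts.invol_mem_ker_add.1 hv
  exact inv_cases h2 hs hfp hfm hNdp hNdm (fun u hu v hv => (horth u hu v hv).1)
    (fun u hu v hv => (horth v hv u hu).2) hsum hev hn m hme h2m hmn b

end oddq

end Cfsg.Agent.Lib.Helper14.Qm
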