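import Cfsg.Agent.Lib.Helper15.HsBasic

/-!
# Hs hive (helper15, S2536), leaf HS-ORB : three API lemmas on `resSub`
-/

set_option autoImplicit false
set_option linter.unusedSectionVars false

namespace Cfsg.Agent.Lib.Helper15.Hs

open Cfsg

section leaves

variable {α : Type*} [Fintype α] [DecidableEq α] (π : Set ℕ) (H : Subgroup (Equiv.Perm α))

omit [Fintype α] [DecidableEq α] in
theorem orb_mem_iff (x : α) (g : Equiv.Perm α) (hg : g ∈ H) (y : α) :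
    g y ∈ MulAction.orbit H x ↔ y ∈ MulAction.orbit H x := by
  have h1 : g y = (⟨g, hg⟩ : H) • y := rfl
  rw [h1, ← MulAction.orbit_eq_iff, MulAction.orbit_smul, MulAction.orbit_eq_iff]

omit [Fintype α] [DecidableEq α] in
theorem orb_smul_def (s : Set α) (σ : resSub H s) (a : ↥s) :
    σ • a = (σ : Equiv.Perm ↥s) a := rfl

theorem resSub_orbit_pretransitive (x : α) :
    MulAction.IsPretransitive (resSub H (MulAction.orbit H x)) ↥(MulAction.orbit H x) := by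
  refine ⟨fun a b => ?_⟩
  obtain ⟨⟨h₁, hh₁⟩, ha⟩ := a.2
  obtain ⟨⟨h₂, hh₂⟩, hb⟩ := b.2
  have hg : h₂ * h₁⁻¹ ∈ H := H.mul_mem hh₂ (H.inv_mem hh₁)
  let σ : Equiv.Perm ↥(MulAction.orbit H x) :=
    Equiv.Perm.subtypePerm (p := fun y => y ∈ MulAction.orbit H x) (h₂ * h₁⁻¹)
      (fun y => orb_mem_iff H x (h₂ * h₁⁻¹) hg y)
  have hσ : σ ∈ resSub H (MulAction.orbit H x) := ⟨h₂ * h₁⁻¹, hg, fun y => rfl⟩
  refine ⟨⟨σ, hσ⟩, ?_⟩
  apply Subtype.ext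
  rw [orb_smul_def]
  show (h₂ * h₁⁻¹) (a : α) = (b : α)
  have ha' : (a : α) = h₁ x := ha.symm
  have hb' : (b : α) = h₂ x := hb.symm
  rw [ha', hb']
  simp

theorem resSub_not_pretransitive (U : Set α) (x y : α) (hx : x ∈ U) (hy : y ∈ U)
    (hxy : y ∉ MulAction.orbit H x) : ¬ MulAction.IsPretransitive (resSub H U) ↥U := by
  intro htr
  obtain ⟨⟨σ, g, hg, hσ⟩, hs⟩ := htr.exists_smul_eq (⟨x, hx⟩ : ↥U) (⟨y, hy⟩ : ↥U)
  apply hxy
  refine ⟨⟨g, hg⟩, ?_⟩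
  have h1 := hσ ⟨x, hx⟩
  have h2 : σ (⟨x, hx⟩ : ↥U) = (⟨y, hy⟩ : ↥U) := hs
  rw [h2] at h1
  exact h1.symm

theorem top_pretransitive (U : Set α) (h : resSub H U = ⊤) :
    MulAction.IsPretransitive (resSub H U) ↥U := by
  refine ⟨fun a b => ?_⟩
  have hσ : Equiv.swap a b ∈ resSub H U := by rw [h]; exact Subgroup.mem_top _
  refine ⟨⟨Equiv.swap a b, hσ⟩, ?_⟩
  rw [orb_smul_def]
  exact Equiv.swap_apply_left a b

end leaves

end Cfsg.Agent.Lib.Helper15.Hs
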