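import Cfsg.Agent.Lib.Helper16.GagDefs

/-!
# Gag hive (helper16, S4561), leaf GAG-RAD : the radical of `n`
-/

set_option autoImplicit false
universe u v

namespace Cfsg.Agent.Lib.Helper16.Gag
open scoped IsMulCommutative

/-- Rad -/
theorem exists_squarefree_same_primes (n : ℕ) (hn : n ≠ 0) :
    ∃ m : ℕ, Squarefree m ∧ ∀ q : ℕ, q.Prime → (q ∣ m ↔ q ∣ n) := by
  refine ⟨∏ p ∈ n.primeFactors, p, ?_, ?_⟩
  · apply Finset.squarefree_prod_of_pairwise_isCoprime
    · intro a ha b hb hab
      have hpa : a.Prime := Nat.prime_of_mem_primeFactors ha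
      have hpb : b.Prime := Nat.prime_of_mem_primeFactors hb
      show IsRelPrime a b
      rw [← Nat.coprime_iff_isRelPrime]
      exact (Nat.coprime_primes hpa hpb).mpr hab
    · intro p hp
      exact (Nat.prime_of_mem_primeFactors hp).prime.squarefree
  · intro q hq
    have hm : ∏ p ∈ n.primeFactors, p ≠ 0 :=
      Finset.prod_ne_zero_iff.2 fun p hp => (Nat.prime_of_mem_primeFactors hp).ne_zero
    constructor
    · intro h
      exact h.trans (Nat.prod_primeFactors_dvd n)
    · intro h
      have hmem : q ∈ n.primeFactors := Nat.mem_primeFactors.mpr ⟨hq, h, hn⟩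
      exact Finset.dvd_prod_of_mem (fun p => p) hmem

end Cfsg.Agent.Lib.Helper16.Gag
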