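import Mathlib
import Cfsg.Agent.Lib.Helper20.SuBNDefs

/-!
# S2546 hive (helper20), leaf SuBN-X2: `conj_mem_UT_of_support`

Self-contained (Mathlib + SuBNDefs); the auxiliary facts on monomial matrices are prefixed `x2_`.
-/

set_option autoImplicit false
set_option linter.unusedSectionVars false
set_option linter.unusedVariables false

namespace Cfsg.Agent.Lib.Helper20.SuBN

open Matrix Subgroup Cfsg.Agent.Lib.Helper20.PslF Cfsg.Agent.Lib.Helper20.SuF

variable {n : ℕ} {K : Type*} [Field K] [Fintype K]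

/-- `(g⁻¹ * g) i j` for a monomial `g` -/
theorem x2_inv_mul_entry {g : SLn n K} {π : Equiv.Perm (Fin n)} (h : IsMon g π) (i j : Fin n) :
    mt g⁻¹ i (π j) * mt g (π j) j = (1 : Matrix (Fin n) (Fin n) K) i j := by
  have h1 : (mt g⁻¹ * mt g) i j = (1 : Matrix (Fin n) (Fin n) K) i j := by rw [mt_inv_mul]
  rw [Matrix.mul_apply] at h1
  rw [← h1]
  symm
  apply Finset.sum_eq_single (π j)
  · intro k _ hk
    rw [h k j hk, mul_zero]
  · intro hx
    exact absurd (Finset.mem_univ _) hx

/-- the distinguished entry of a monomial matrix is nonzero -/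
theorem x2_entry_ne_zero {g : SLn n K} {π : Equiv.Perm (Fin n)} (h : IsMon g π) (j : Fin n) :
    mt g (π j) j ≠ 0 := by
  intro h0
  have h1 := x2_inv_mul_entry h j j
  rw [h0, mul_zero, Matrix.one_apply_eq] at h1
  exact zero_ne_one h1

/-- the inverse of a monomial matrix is monomial for the inverse permutation -/
theorem x2_isMon_inv {g : SLn n K} {π : Equiv.Perm (Fin n)} (h : IsMon g π) : IsMon g⁻¹ π⁻¹ := by
  intro i k hik
  have hk : k = π (π⁻¹ k) := by simp
  have h1 := x2_inv_mul_entry h i (π⁻¹ k)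
  rw [Matrix.one_apply_ne hik, ← hk] at h1
  rcases mul_eq_zero.mp h1 with h2 | h2
  · exact h2
  · exfalso
    have h3 := x2_entry_ne_zero h (π⁻¹ k)
    rw [← hk] at h3
    exact h3 h2

/-- the entries of a product `A * X * B` with `A` monomial for `π` and `B` monomial for `π⁻¹` -/
theorem x2_sandwich {A B : SLn n K} {π : Equiv.Perm (Fin n)} (hA : IsMon A π) (hB : IsMon B π⁻¹)
    (x : SLn n K) (r c : Fin n) :
    mt (A * x * B) r c = mt A r (π⁻¹ r) * mt x (π⁻¹ r) (π⁻¹ c) * mt B (π⁻¹ c) c := by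
  rw [mt_mul, mt_mul, Matrix.mul_apply]
  rw [Finset.sum_eq_single (π⁻¹ c)]
  · congr 1
    rw [Matrix.mul_apply]
    apply Finset.sum_eq_single (π⁻¹ r)
    · intro a _ ha
      have : r ≠ π a := by
        intro e
        apply ha
        rw [e]
        simp
      rw [hA r a this, zero_mul]
    · intro hx
      exact absurd (Finset.mem_univ _) hx
  · intro b _ hb
    rw [hB b c hb, mul_zero]
  · intro hx
    exact absurd (Finset.mem_univ _) hx

/-- entries of `m * x * m⁻¹` for a monomial `m` -/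
theorem x2_conj_entry {m : SLn n K} {π : Equiv.Perm (Fin n)} (hm : IsMon m π) (x : SLn n K)
    (r c : Fin n) :
    mt (m * x * m⁻¹) r c = mt m r (π⁻¹ r) * mt x (π⁻¹ r) (π⁻¹ c) * mt m⁻¹ (π⁻¹ c) c :=
  x2_sandwich hm (x2_isMon_inv hm) x r c

/-- entries of `m⁻¹ * x * m` for a monomial `m` -/
theorem x2_conj_inv_entry {m : SLn n K} {π : Equiv.Perm (Fin n)} (hm : IsMon m π) (x : SLn n K)
    (r c : Fin n) :
    mt (m⁻¹ * x * m) r c = mt m⁻¹ r (π r) * mt x (π r) (π c) * mt m (π c) c := by
  have h1 : IsMon m (π⁻¹)⁻¹ := by rwa [inv_inv]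
  have h2 := x2_sandwich (x2_isMon_inv hm) h1 x r c
  rw [inv_inv] at h2
  exact h2

/-- SuBN-X2: if all positions of the support of `x ∈ UU` stay above the diagonal under `π⁻¹`, the
conjugate `m⁻¹ * x * m` is upper triangular. -/
theorem conj_mem_UT_of_support {m x : SLn n K} {π : Equiv.Perm (Fin n)} (hm : IsMon m π)
    (hx : x ∈ (UU : Subgroup (SLn n K)))
    (h : ∀ a b : Fin n, a < b → mt x a b ≠ 0 → π⁻¹ a < π⁻¹ b) :
    m⁻¹ * x * m ∈ (UT : Subgroup (SLn n K)) := by
  rw [mem_UT]
  intro r c hcr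
  rw [x2_conj_inv_entry hm]
  have hx' := (mem_UU x).mp hx
  have h0 : mt x (π r) (π c) = 0 := by
    by_contra hne
    have hle : π r ≤ π c := by
      by_contra hlt
      exact hne (hx'.1 _ _ (not_le.mp hlt))
    have hne' : π r ≠ π c := by
      intro e
      exact hcr.ne' (π.injective e)
    have hlt : π r < π c := lt_of_le_of_ne hle hne'
    have h1 := h _ _ hlt hne
    simp only [Equiv.Perm.coe_inv, Equiv.symm_apply_apply] at h1
    exact absurd h1 (not_lt.mpr hcr.le)
  rw [h0, mul_zero, zero_mul]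

end Cfsg.Agent.Lib.Helper20.SuBN
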