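import Mathlib
import Cfsg.Agent.Lib.Helper20.SuBNDefs
import Cfsg.Agent.Lib.Helper64.SuBNX2

/-!
# S2546 hive (helper20), leaf SuBN-Y1: `bruhat_perm_block`
-/

set_option autoImplicit false
set_option linter.unusedSectionVars false
set_option linter.unusedVariables false

namespace Cfsg.Agent.Lib.Helper20.SuBN

open Matrix Subgroup Cfsg.Agent.Lib.Helper20.PslF Cfsg.Agent.Lib.Helper20.SuF

variable {n : ℕ} {K : Type*} [Field K] [Fintype K]

/-- a function with `β (π j) ≤ β j` for all `j` is `π`-invariant -/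
theorem y1_eq_of_le {β : Fin n → ℕ} {π : Equiv.Perm (Fin n)} (h : ∀ j, β (π j) ≤ β j) :
    ∀ j, β (π j) = β j := by
  have hsum : ∑ j, β (π j) = ∑ j, β j := Equiv.sum_comp π β
  have := (Finset.sum_eq_sum_iff_of_le (s := Finset.univ) (fun j _ => h j)).mp hsum
  intro j
  exact this j (Finset.mem_univ j)

/-- SuBN-Y1: the Bruhat permutation of a block triangular matrix preserves the blocks. -/
theorem bruhat_perm_block {β : Fin n → ℕ} (hβ : Monotone β) {g u₁ m u : SLn n K}
    {π : Equiv.Perm (Fin n)} (hu₁ : u₁ ∈ (UU : Subgroup (SLn n K))) (hm : IsMon m π)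
    (hu : u ∈ (UU : Subgroup (SLn n K))) (hg : g = u₁ * m * u)
    (hgβ : ∀ x y : Fin n, β y < β x → mt g x y = 0) : ∀ j, β (π j) = β j := by
  apply y1_eq_of_le
  intro j
  have hu' := (mem_UU u).mp hu
  have hv : u₁⁻¹ ∈ (UU : Subgroup (SLn n K)) := inv_mem hu₁
  have hv' := (mem_UU u₁⁻¹).mp hv
  have e : u₁⁻¹ * g = m * u := by rw [hg]; group
  -- the entry `(π j, j)` of `m * u`
  have h1 : mt (m * u) (π j) j = mt m (π j) j := by
    rw [mt_mul, Matrix.mul_apply]
    rw [Finset.sum_eq_single j]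
    · rw [hu'.2, mul_one]
    · intro k _ hk
      have : π j ≠ π k := fun e' => hk (π.injective e').symm
      rw [hm (π j) k this, zero_mul]
    · intro hx
      exact absurd (Finset.mem_univ _) hx
  have h2 : mt (u₁⁻¹ * g) (π j) j ≠ 0 := by
    rw [e, h1]
    exact x2_entry_ne_zero hm j
  rw [mt_mul, Matrix.mul_apply] at h2
  obtain ⟨k, -, hk⟩ := Finset.exists_ne_zero_of_sum_ne_zero h2
  have hk1 : mt u₁⁻¹ (π j) k ≠ 0 := left_ne_zero_of_mul hk
  have hk2 : mt g k j ≠ 0 := right_ne_zero_of_mul hk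
  have h3 : π j ≤ k := by
    by_contra hlt
    exact hk1 (hv'.1 _ _ (not_le.mp hlt))
  have h4 : β k ≤ β j := by
    by_contra hlt
    exact hk2 (hgβ _ _ (not_le.mp hlt))
  exact (hβ h3).trans h4

end Cfsg.Agent.Lib.Helper20.SuBN
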