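import Mathlib
import Cfsg.Agent.Lib.Helper20.SuBNDefs
import Cfsg.Agent.Lib.Helper64.SuBNX2

/-!
# S2546 hive (helper20), leaf SuBN-S1: `conj_w0_mem_LL`
-/

set_option autoImplicit false
set_option linter.unusedSectionVars false
set_option linter.unusedVariables false

namespace Cfsg.Agent.Lib.Helper20.SuBN

open Matrix Subgroup Cfsg.Agent.Lib.Helper20.PslF Cfsg.Agent.Lib.Helper20.SuF

variable {n : ℕ} {K : Type*} [Field K] [Fintype K]

/-- `(g * g⁻¹) r r` for a monomial `g` -/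
theorem s1_mul_inv_diag {g : SLn n K} {π : Equiv.Perm (Fin n)} (h : IsMon g π) (r : Fin n) :
    mt g r (π⁻¹ r) * mt g⁻¹ (π⁻¹ r) r = 1 := by
  have h1 : (mt g * mt g⁻¹) r r = (1 : Matrix (Fin n) (Fin n) K) r r := by rw [mt_mul_inv]
  rw [Matrix.mul_apply, Matrix.one_apply_eq] at h1
  rw [← h1]
  symm
  apply Finset.sum_eq_single (π⁻¹ r)
  · intro a _ ha
    have : r ≠ π a := by
      intro e
      apply ha
      rw [e]
      simp
    rw [h r a this, zero_mul]
  · intro hx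
    exact absurd (Finset.mem_univ _) hx

/-- SuBN-S1: conjugation by the longest element exchanges `UU` and `LL`. -/
theorem conj_w0_mem_LL {w : SLn n K} (hw : IsMon w (Fin.revPerm : Equiv.Perm (Fin n))) {u : SLn n K}
    (hu : u ∈ (UU : Subgroup (SLn n K))) : w * u * w⁻¹ ∈ (LL : Subgroup (SLn n K)) := by
  have hu' := (mem_UU u).mp hu
  have hinv : ∀ x : Fin n, (Fin.revPerm : Equiv.Perm (Fin n))⁻¹ x = Fin.rev x := by
    intro x
    rw [Equiv.Perm.inv_eq_iff_eq]
    simp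
  rw [mem_LL]
  refine ⟨fun r c hrc => ?_, fun r => ?_⟩
  · rw [x2_conj_entry hw, hinv, hinv]
    have h0 : mt u (Fin.rev r) (Fin.rev c) = 0 := hu'.1 _ _ (Fin.rev_lt_rev.mpr hrc)
    rw [h0, mul_zero, zero_mul]
  · rw [x2_conj_entry hw]
    rw [hu'.2, mul_one]
    exact s1_mul_inv_diag hw r

end Cfsg.Agent.Lib.Helper20.SuBN
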