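import Mathlib
import Cfsg.Agent.Lib.Helper91.BG152Defs
import Cfsg.Agent.Lib.Helper22.Fitting
import Cfsg.Agent.Lib.Helper33.Conj
import Cfsg.Agent.S1445

/-!
# BG 15.2, leaf B1: `K* = C_H(K) ≤ Q = O_q(M)`
-/

set_option autoImplicit false
set_option linter.unusedSectionVars false
set_option linter.unusedVariables false
set_option linter.style.haveILetI false

namespace Cfsg.Agent.Lib.Helper91.BG152

open Subgroup Cfsg.Agent.Lib.Helper33

universe u
variable {M : Type u} [Group M] [Finite M] {H K Q : Subgroup M} {q : ℕ}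

/-- `F(H)` is nilpotent -/
theorem Ks_le_Q_isNilpotent_fittingOf (H : Subgroup M) : Group.IsNilpotent ↥(Cfsg.fittingOf H) := by
  haveI := Cfsg.Agent.Lib.Helper22.fittingSubgroup_isNilpotent (G := ↥H)
  exact Group.nilpotent_of_mulEquiv
    (Subgroup.equivMapOfInjective (Cfsg.fittingSubgroup ↥H) H.subtype H.subtype_injective)

/-- `F(H) ≤ H` -/
theorem Ks_le_Q_fittingOf_le (H : Subgroup M) : Cfsg.fittingOf H ≤ H := map_subtype_le _

/-- a nilpotent subgroup of `H` normalized by `H` lies in `F(H)` -/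
theorem Ks_le_Q_le_fittingOf {H N : Subgroup M} (hNH : N ≤ H)
    (hHN : H ≤ normalizer (N : Set M)) (hn : Group.IsNilpotent ↥N) : N ≤ Cfsg.fittingOf H := by
  have hnorm : (N.subgroupOf H).Normal :=
    (Subgroup.normal_subgroupOf_iff_le_normalizer hNH).mpr hHN
  have hnil : Group.IsNilpotent ↥(N.subgroupOf H) :=
    Group.nilpotent_of_mulEquiv (Subgroup.subgroupOfEquivOfLe hNH).symm
  have h1 := Cfsg.Agent.Lib.Helper22.le_fittingSubgroup hnorm hnil
  intro x hx
  exact ⟨⟨x, hNH hx⟩, h1 (by rw [mem_subgroupOf]; exact hx), rfl⟩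

/-- `H` normalizes `F(H)` -/
theorem Ks_le_Q_le_normalizer_fittingOf (H : Subgroup M) :
    H ≤ normalizer ((Cfsg.fittingOf H : Subgroup M) : Set M) := by
  haveI := Cfsg.Agent.Lib.Helper22.fittingSubgroup_normal ↥H
  intro h hh
  rw [mem_normalizer_iff]
  intro x
  constructor
  · rintro ⟨y, hy, rfl⟩
    refine ⟨⟨h, hh⟩ * y * ⟨h, hh⟩⁻¹, ?_, rfl⟩
    exact (Cfsg.Agent.Lib.Helper22.fittingSubgroup_normal ↥H).conj_mem y hy ⟨h, hh⟩
  · rintro ⟨y, hy, hyx⟩
    refine ⟨⟨h, hh⟩⁻¹ * y * ⟨h, hh⟩, ?_, ?_⟩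
    · have := (Cfsg.Agent.Lib.Helper22.fittingSubgroup_normal ↥H).conj_mem y hy ⟨h, hh⟩⁻¹
      simpa using this
    · have h2 : (y : M) = h * x * h⁻¹ := hyx
      simp only [Subgroup.coe_subtype, Subgroup.coe_mul, Subgroup.coe_inv, h2]
      group

/-- `F(H)` is normal in `M` when `H` is -/
theorem Ks_le_Q_fittingOf_normal (H : Subgroup M) [hH : H.Normal] :
    (Cfsg.fittingOf H).Normal := by
  have key : ∀ m : M, cj m (Cfsg.fittingOf H) ≤ Cfsg.fittingOf H := by
    intro m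
    have hHm : cj m H = H := cj_eq_self_iff.2 (by rw [normalizer_eq_top_iff.2 hH]; trivial)
    apply Ks_le_Q_le_fittingOf
    · have h0 := cj_mono (g := m) (Ks_le_Q_fittingOf_le H)
      rwa [hHm] at h0
    · have h1 := cj_mono (g := m) (Ks_le_Q_le_normalizer_fittingOf H)
      rw [hHm, ← normalizer_cj] at h1
      exact h1
    · haveI := Ks_le_Q_isNilpotent_fittingOf H
      exact Group.nilpotent_of_mulEquiv (cjEquiv m (Cfsg.fittingOf H))
  constructor
  intro n hn g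
  exact key g (conj_mem_cj hn)

/-- **B1.** `K* = C_H(K) ≤ Q`. -/
theorem Ks_le_Q [H.Normal] (h : CfgB H K Q q) : H ⊓ centralizer (K : Set M) ≤ Q := by
  classical
  haveI := h.solv
  haveI : Fact q.Prime := ⟨h.qp⟩
  have hFn : (Cfsg.fittingOf H).Normal := Ks_le_Q_fittingOf_normal H
  have hFnil : Group.IsNilpotent ↥(Cfsg.fittingOf H) := Ks_le_Q_isNilpotent_fittingOf H
  have hFH : Cfsg.fittingOf H ≤ H := Ks_le_Q_fittingOf_le H
  have hne : Cfsg.fittingOf H ⊓ centralizer (K : Set M) ≠ ⊥ := by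
    intro hbot
    have h45 := Cfsg.Agent.S1445.result h.odd H K h.sup h.cop h.pa hbot
    rw [h.comm] at h45
    apply h.nn
    haveI := hFnil
    exact Group.nilpotent_of_mulEquiv (Subgroup.subgroupOfEquivOfLe h45)
  have hKsF : H ⊓ centralizer (K : Set M) ≤ Cfsg.fittingOf H := by
    have hle : Cfsg.fittingOf H ⊓ centralizer (K : Set M) ≤ H ⊓ centralizer (K : Set M) :=
      inf_le_inf_right _ hFH
    have hcard : Nat.card ↥(Cfsg.fittingOf H ⊓ centralizer (K : Set M)) ∣ q :=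
      h.cKs ▸ Subgroup.card_dvd_of_le hle
    rcases (Nat.dvd_prime h.qp).1 hcard with h1 | h1
    · exact absurd (Subgroup.card_eq_one.1 h1) hne
    · have : Cfsg.fittingOf H ⊓ centralizer (K : Set M) = H ⊓ centralizer (K : Set M) :=
        Subgroup.eq_of_le_of_card_ge hle (by rw [h.cKs, h1])
      rw [← this]; exact inf_le_left
  have hFM : Cfsg.fittingOf H ≤ Cfsg.fittingSubgroup M :=
    Cfsg.Agent.Lib.Helper22.le_fittingSubgroup hFn hFnil
  have hsup : Cfsg.fittingSubgroup M ≤ Cfsg.pCore q M ⊔ Cfsg.pPrimeCore q M := by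
    rw [Cfsg.Agent.Lib.Helper22.fittingSubgroup_eq_iSup_pCore]
    apply iSup_le
    intro p
    by_cases hpq : (p : ℕ) = q
    · rw [hpq]; exact le_sup_left
    · haveI : Fact (p : ℕ).Prime := ⟨p.2⟩
      exact (Cfsg.Agent.Lib.Helper22.pCore_le_pPrimeCore hpq).trans le_sup_right
  have hQ : Cfsg.pCore q M ≤ Q :=
    h.maxQ _ (Cfsg.Agent.Lib.Helper22.pCore_normal' q M)
      (Cfsg.Agent.Lib.Helper22.pCore_isPGroup' q M)
  intro x hx
  apply hQ
  apply Cfsg.Agent.Lib.Helper22.mem_pCore_of_mem_sup (hsup (hFM (hKsF hx))) (k := 1)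
  rw [pow_one]
  have := pow_card_eq_one' (G := ↥(H ⊓ centralizer (K : Set M))) (x := ⟨x, hx⟩)
  rw [h.cKs] at this
  exact congrArg Subtype.val this

end Cfsg.Agent.Lib.Helper91.BG152
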