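import Mathlib
import Cfsg.Agent.Lib.Helper91.BG152Defs

/-!
# BG 15.2, leaves B9 and B10: the parts that do not depend on other leaves
-/

set_option autoImplicit false
set_option linter.unusedSectionVars false
set_option linter.unusedVariables false
set_option linter.style.haveILetI false

namespace Cfsg.Agent.Lib.Helper91.BG152

open Subgroup

universe u
variable {M : Type u} [Group M] [Finite M] {H K Q : Subgroup M} {q : ℕ}

/-- `(QD)' ≤ Q D'` for `Q` normal -/
theorem commutator_le_sup_commutator {Q D : Subgroup M} [Q.Normal] :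
    ⁅Q ⊔ D, Q ⊔ D⁆ ≤ Q ⊔ ⁅D, D⁆ := by
  have h1 : (Q ⊔ D).map (QuotientGroup.mk' Q) = D.map (QuotientGroup.mk' Q) := by
    rw [Subgroup.map_sup]
    have : Q.map (QuotientGroup.mk' Q) = ⊥ := by
      rw [eq_bot_iff]
      rintro _ ⟨x, hx, rfl⟩
      rw [mem_bot]
      exact (QuotientGroup.eq_one_iff x).2 hx
    rw [this, bot_sup_eq]
  have h2 : (⁅Q ⊔ D, Q ⊔ D⁆).map (QuotientGroup.mk' Q) = (⁅D, D⁆).map (QuotientGroup.mk' Q) := by
    rw [Subgroup.map_commutator, Subgroup.map_commutator, h1]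
  have h3 : ⁅Q ⊔ D, Q ⊔ D⁆ ≤ (⁅D, D⁆ : Subgroup M) ⊔ (QuotientGroup.mk' Q).ker := by
    rw [← Subgroup.comap_map_eq, ← h2]
    exact Subgroup.le_comap_map _ _
  rw [QuotientGroup.ker_mk'] at h3
  rw [sup_comm Q ⁅D, D⁆]
  exact h3

/-- **B10**, from a complement `D` with `D' ≤ C(Q)`. -/
theorem commutator_le_of_compl {Q D H : Subgroup M} [Q.Normal] (hsup : Q ⊔ D = H)
    (hD : ⁅D, D⁆ ≤ centralizer (Q : Set M)) : ⁅H, H⁆ ≤ Q ⊔ centralizer (Q : Set M) := by
  rw [← hsup]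
  exact commutator_le_sup_commutator.trans (sup_le_sup_left hD Q)

end Cfsg.Agent.Lib.Helper91.BG152
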