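import Mathlib
import Cfsg.Agent.Lib.Helper91.BG152Defs
import Cfsg.Agent.Lib.Helper22.Fitting

/-!
# BG 15.2, leaf B9 from B3 (`H/Q` nilpotent) and B3b (`Q` Sylow)
-/

set_option autoImplicit false
set_option linter.unusedSectionVars false
set_option linter.unusedVariables false
set_option linter.style.haveILetI false

namespace Cfsg.Agent.Lib.Helper91.BG152

open Subgroup

universe u
variable {M : Type u} [Group M] [Finite M] {H K Q : Subgroup M} {q : ℕ}

/-- **B9**, from `Q ≤ H`, `H/Q` nilpotent and `Q` Sylow. -/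
theorem no_normal_compl_of [H.Normal] [Q.Normal] (h : CfgB H K Q q) (hQH : Q ≤ H)
    (hnil : Group.IsNilpotent ↥(H.map (QuotientGroup.mk' Q))) (hsyl : ¬ q ∣ Q.index) :
    ¬ Cfsg.HasNormalPComplement q ↥H := by
  classical
  haveI : Fact q.Prime := ⟨h.qp⟩
  rintro ⟨P, N, hNn, hNP⟩
  -- `Q' = Q ∩ H` as a subgroup of `H`
  have hQ'n : (Q.subgroupOf H).Normal := inferInstance
  have hQ'p : IsPGroup q ↥(Q.subgroupOf H) :=
    h.pQ.comap_of_injective H.subtype H.subtype_injective
  have hQ'i : ¬ q ∣ (Q.subgroupOf H).index := by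
    intro hd
    apply hsyl
    rw [← Subgroup.relIndex_mul_index hQH]
    exact Dvd.dvd.mul_right hd _
  -- the Sylow subgroup `P` is `Q'`
  have hPQ : (P : Subgroup ↥H) = Q.subgroupOf H := by
    let P' : Sylow q ↥H := hQ'p.toSylow hQ'i
    have hP'n : (P' : Subgroup ↥H).Normal := hQ'n
    haveI := Sylow.unique_of_normal P' hP'n
    have : P = P' := Subsingleton.elim _ _
    rw [this]; rfl
  rw [hPQ] at hNP
  -- `N` is nilpotent: it embeds in `H/Q`
  have hdisj : N ⊓ Q.subgroupOf H = ⊥ := hNP.disjoint.eq_bot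
  have hNnil : Group.IsNilpotent ↥N := by
    let f : ↥N →* ↥(H.map (QuotientGroup.mk' Q)) :=
      { toFun := fun n => ⟨QuotientGroup.mk' Q ((n : ↥H) : M), ⟨_, (n : ↥H).2, rfl⟩⟩
        map_one' := by ext; simp
        map_mul' := by intro a b; ext; simp }
    have hf : Function.Injective f := by
      rw [injective_iff_map_eq_one]
      intro n hn
      have h1 : QuotientGroup.mk' Q ((n : ↥H) : M) = 1 := congrArg Subtype.val hn
      have h2 : ((n : ↥H) : M) ∈ Q := (QuotientGroup.eq_one_iff _).1 h1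
      have h3 : (n : ↥H) ∈ N ⊓ Q.subgroupOf H := ⟨n.2, mem_subgroupOf.2 h2⟩
      rw [hdisj, mem_bot] at h3
      exact Subtype.ext h3
    haveI := hnil
    exact Group.nilpotent_of_mulEquiv (MonoidHom.ofInjective hf).symm
  have hQ'nil : Group.IsNilpotent ↥(Q.subgroupOf H) := hQ'p.isNilpotent
  have h1 := Cfsg.Agent.Lib.Helper22.le_fittingSubgroup hNn hNnil
  have h2 := Cfsg.Agent.Lib.Helper22.le_fittingSubgroup hQ'n hQ'nil
  have htop : Cfsg.fittingSubgroup ↥H = ⊤ := by
    rw [eq_top_iff, ← hNP.sup_eq_top]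
    exact sup_le h1 h2
  apply h.nn
  haveI := Cfsg.Agent.Lib.Helper22.fittingSubgroup_isNilpotent (G := ↥H)
  have e : ↥(Cfsg.fittingSubgroup ↥H) ≃* ↥H :=
    (MulEquiv.subgroupCongr htop).trans Subgroup.topEquiv
  exact Group.nilpotent_of_mulEquiv e

end Cfsg.Agent.Lib.Helper91.BG152
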