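import Mathlib
import Cfsg.Agent.Lib.Helper91.BG152Defs
import Cfsg.Agent.Lib.Helper64.BG152B1
import Cfsg.Agent.Lib.Helper64.BG152B9a
import Cfsg.Agent.Lib.Helper62.BG152B3

/-!
# BG 15.2, leaf B9 (exact name and signature of helper91's skeleton), plus the exact-named
B3 (`map_nilpotent`) and B3b (`Q_sylow`) obtained from helper62's `_of` versions and B1.
-/

set_option autoImplicit false
set_option linter.unusedSectionVars false
set_option linter.unusedVariables false
set_option linter.style.haveILetI false

namespace Cfsg.Agent.Lib.Helper91.BG152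

open Subgroup

universe u
variable {M : Type u} [Group M] [Finite M] {H K Q : Subgroup M} {q : ℕ}

/-- B3 with B1 discharged (aux of B9). -/
theorem no_normal_compl_map_nilpotent [H.Normal] [Q.Normal] (h : CfgB H K Q q) :
    Group.IsNilpotent ↥(H.map (QuotientGroup.mk' Q)) :=
  map_nilpotent_of h (Ks_le_Q h)

/-- B3b with B1 discharged (aux of B9). -/
theorem no_normal_compl_Q_sylow [H.Normal] [Q.Normal] (h : CfgB H K Q q) : ¬ q ∣ Q.index :=
  Q_sylow_of h (Ks_le_Q h)

/-- **B9.** `H` has no normal `q`-complement. -/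
theorem no_normal_compl [H.Normal] [Q.Normal] (h : CfgB H K Q q) :
    ¬ Cfsg.HasNormalPComplement q ↥H :=
  no_normal_compl_of h (Q_sylow_Q_le_H h) (no_normal_compl_map_nilpotent h)
    (no_normal_compl_Q_sylow h)

end Cfsg.Agent.Lib.Helper91.BG152
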