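import Mathlib
import Cfsg.Agent.Lib.Helper91.BG152Defs
import Cfsg.Agent.Lib.Helper64.BG152B9
import Cfsg.Agent.Lib.Helper64.BG152B10a
import Cfsg.Agent.Lib.Helper21.BG152B4

/-!
# BG 15.2, leaf B10 with B5 as an explicit hypothesis (`commutator_le_of`), and the exact-named
B4 (`exists_inv_compl`), obtained from helper21's core and B3b.
-/

set_option autoImplicit false
set_option linter.unusedSectionVars false
set_option linter.unusedVariables false
set_option linter.style.haveILetI false

namespace Cfsg.Agent.Lib.Helper91.BG152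

open Subgroup

universe u
variable {M : Type u} [Group M] [Finite M] {H K Q : Subgroup M} {q : ℕ}

/-- B4 with B3b discharged (aux of B10). -/
theorem commutator_le_exists_inv_compl [H.Normal] [Q.Normal] (h : CfgB H K Q q) :
    ∃ D : Subgroup M, D ≤ H ∧ Q ⊓ D = ⊥ ∧ Q ⊔ D = H ∧ K ≤ normalizer (D : Set M) :=
  exists_inv_compl_core h (no_normal_compl_Q_sylow h)

/-- **B10** from the statement of B5 (as a hypothesis). -/
theorem commutator_le_of [H.Normal] [Q.Normal] (h : CfgB H K Q q)
    (hB5 : ∀ {D : Subgroup M}, D ≤ H → Q ⊓ D = ⊥ → Q ⊔ D = H → K ≤ normalizer (D : Set M) →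
      (Nat.card K).Prime ∧ ⁅D, D⁆ ≤ centralizer (Q : Set M)) :
    ⁅H, H⁆ ≤ Q ⊔ centralizer (Q : Set M) := by
  obtain ⟨D, hDH, hQD, hsup, hKD⟩ := commutator_le_exists_inv_compl h
  exact commutator_le_of_compl hsup (hB5 hDH hQD hsup hKD).2

end Cfsg.Agent.Lib.Helper91.BG152
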