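import Mathlib
import Cfsg.Agent.Lib.Helper91.BG152Defs
import Cfsg.Agent.Lib.Helper64.BG152B10
import Cfsg.Agent.Lib.Helper32.BG152B5x

/-!
# BG 15.2, leaf B10 (exact name and signature of helper91's skeleton)
-/

set_option autoImplicit false
set_option linter.unusedSectionVars false
set_option linter.unusedVariables false

namespace Cfsg.Agent.Lib.Helper91.BG152

open Subgroup

universe u
variable {M : Type u} [Group M] [Finite M] {H K Q : Subgroup M} {q : ℕ}

/-- **B10.** `H' ≤ Q C_M(Q)`. -/
theorem commutator_le [H.Normal] [Q.Normal] (h : CfgB H K Q q) :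
    ⁅H, H⁆ ≤ Q ⊔ centralizer (Q : Set M) :=
  commutator_le_of h (fun hDH hQD hsup hKD => card_K_prime_and_comm h hDH hQD hsup hKD)

end Cfsg.Agent.Lib.Helper91.BG152
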