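import Mathlib
import Cfsg.Agent.Lib.Helper22.CgDefs

/-!
# Cg hive (S4257), leaf CG6b: Frattini, `G = C_G(Q) N`.  (helper64)
-/

set_option autoImplicit false

namespace Cfsg.Agent.Lib.Helper22.Cg

open Subgroup

universe u

/-- CG6b. Frattini: `G = C_G(Q) N`. -/
theorem cg6b {G : Type u} [Group G] [Finite G] (q : ℕ) [Fact q.Prime] (N : Subgroup G) [N.Normal]
    (hqN : ¬ q ∣ Nat.card N) (Q : Sylow q G)
    (hcen : ∀ y ∈ Q, ∀ g : G, y⁻¹ * g⁻¹ * y * g ∈ N) (g : G) :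
    ∃ c : G, ∃ n ∈ N, (∀ y ∈ Q, c * y = y * c) ∧ g = c * n := by
  classical
  -- `Q ⊓ N = ⊥`
  have hQN : (Q : Subgroup G) ⊓ N = ⊥ := by
    obtain ⟨k, hk⟩ := IsPGroup.iff_card.mp Q.2
    refine (Subgroup.disjoint_of_coprime_natCard ?_).eq_bot
    rw [hk]
    exact Nat.Coprime.pow_left k ((Nat.Prime.coprime_iff_not_dvd (Fact.out)).2 hqN)
  -- elements normalizing `Q` centralize it
  have hnc : ∀ c : G, (∀ y ∈ Q, c * y * c⁻¹ ∈ Q) → ∀ y ∈ Q, c * y = y * c := by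
    intro c hc y hy
    have hy' := hc y hy
    have h1 := hcen (c * y * c⁻¹) hy' c
    have h2 : (c * y * c⁻¹)⁻¹ * c⁻¹ * (c * y * c⁻¹) * c = (c * y * c⁻¹)⁻¹ * y := by group
    rw [h2] at h1
    have h3 : (c * y * c⁻¹)⁻¹ * y ∈ (Q : Subgroup G) ⊓ N :=
      Subgroup.mem_inf.mpr
        ⟨(Q : Subgroup G).mul_mem ((Q : Subgroup G).inv_mem hy') hy, h1⟩
    rw [hQN, Subgroup.mem_bot] at h3
    have h4 : c * y * c⁻¹ = y := inv_mul_eq_one.mp h3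
    calc c * y = (c * y * c⁻¹) * c := by group
      _ = y * c := by rw [h4]
  -- `M = Q ⊔ N` contains `Q` and `g Q g⁻¹`
  have hQM : (Q : Subgroup G) ≤ (Q : Subgroup G) ⊔ N := le_sup_left
  have hNM : N ≤ (Q : Subgroup G) ⊔ N := le_sup_right
  have hQ'M : ((g • Q : Sylow q G) : Subgroup G) ≤ (Q : Subgroup G) ⊔ N := by
    intro x hx
    rw [Sylow.coe_subgroup_smul] at hx
    obtain ⟨y, hy, rfl⟩ := (Subgroup.mem_smul_pointwise_iff_exists _ _ _).mp hx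
    have hxy : (MulAut.conj g • y : G) = y * (y⁻¹ * (g⁻¹)⁻¹ * y * g⁻¹) := by
      rw [MulAut.smul_def, MulAut.conj_apply]; group
    rw [hxy]
    exact mul_mem (hQM hy) (hNM (hcen y hy g⁻¹))
  obtain ⟨m, hm⟩ := MulAction.exists_smul_eq (↥((Q : Subgroup G) ⊔ N))
    ((g • Q).subtype hQ'M) (Q.subtype hQM)
  rw [Sylow.smul_subtype] at hm
  have hm' : m • (g • Q) = Q := Sylow.subtype_injective hm
  have hm'' : ((m : G) * g) • Q = Q := by
    rw [mul_smul]; exact hm'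
  have hnorm := Sylow.smul_eq_iff_mem_normalizer.mp hm''
  have key : ∀ y ∈ Q, ((m : G) * g) * y * ((m : G) * g)⁻¹ ∈ Q := by
    intro y hy
    exact (Subgroup.mem_normalizer_iff.mp hnorm y).mp hy
  -- decompose `m = y0 * n0`
  have hmM : (m : G) ∈ (((Q : Subgroup G) ⊔ N : Subgroup G) : Set G) := m.2
  rw [Subgroup.mul_normal] at hmM
  obtain ⟨y0, hy0, n0, hn0, hmn⟩ := Set.mem_mul.mp hmM
  have hc0 : ∀ y ∈ Q, (n0 * g) * y * (n0 * g)⁻¹ ∈ Q := by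
    intro y hy
    have h := key y hy
    rw [← hmn] at h
    have e : (n0 * g) * y * (n0 * g)⁻¹
        = y0⁻¹ * ((y0 * n0 * g) * y * (y0 * n0 * g)⁻¹) * y0 := by group
    rw [e]
    exact mul_mem (mul_mem (inv_mem hy0) h) hy0
  refine ⟨n0 * g, (n0 * g)⁻¹ * n0⁻¹ * (n0 * g), ?_, hnc _ hc0, by group⟩
  exact (inferInstance : N.Normal).conj_mem' n0⁻¹ (N.inv_mem hn0) (n0 * g)

end Cfsg.Agent.Lib.Helper22.Cg
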