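import Cfsg.Agent.Lib.Helper68.BG147U
import Cfsg.Agent.Lib.Helper96.BG142IV
import Cfsg.Agent.Lib.Helper21.HallSub
import Cfsg.Agent.Lib.Helper19.BG117H
import Cfsg.Agent.Lib.Helper48.NilHallA
import Cfsg.Agent.Lib.Helper30.BG142B
import Cfsg.Agent.Lib.Helper64.BG9
import Cfsg.Agent.Lib.Helper64.BG142I3
import Cfsg.Agent.S1420
import Cfsg.Agent.S1378

/-!
# BG 14.7: the single-partner analysis

`M` maximal, `K ≠ 1` a Hall `κ(M)`-subgroup (no cyclicity assumed), `K* = C_{M_σ}(K)`,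
`Z = K K*`, `X ≤ K` of prime order and `L` a maximal subgroup over `N_G(X)`.
Armed on the statement of S1430 (`Helper56.BG143.Stmt1430`).
-/

set_option autoImplicit false
set_option linter.unusedSectionVars false
set_option linter.unusedVariables false

universe u

namespace Cfsg.Agent.Lib.Helper64.BG147Pair

open Subgroup Cfsg Cfsg.Agent.Lib.Helper33 Cfsg.Agent.Lib.Helper63
open Cfsg.Agent.Lib.Helper56.BG143 (Stmt1430 C1430)

variable {G : Type u} [Group G] [Finite G]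

/-- non-conjugacy from a prime in `σ(L) ∖ σ(M)` -/
theorem ne_cj_of_sigma {M L : Subgroup G} {p : ℕ} (hpL : p ∈ sigma L) (hpM : p ∉ sigma M)
    (g : G) : L ≠ cj g M := by
  intro h
  apply hpM
  have h1 : M = cj g⁻¹ L := cj_eq_iff.1 h.symm
  rw [h1]
  exact BG13.sigma_cj g⁻¹ hpL

/-- normalizing two subgroups normalizes their intersection -/
theorem le_normalizer_inf' {A B X : Subgroup G} (hA : X ≤ normalizer (A : Set G))
    (hB : X ≤ normalizer (B : Set G)) : X ≤ normalizer ((A ⊓ B : Subgroup G) : Set G) := by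
  intro x hx
  have h1 := hA hx
  have h2 := hB hx
  rw [mem_normalizer_iff] at h1 h2 ⊢
  intro y
  rw [mem_inf, mem_inf, h1 y, h2 y]

/-- a subgroup is contained in its own normalizer -/
theorem le_normalizer_self' (A : Subgroup G) : A ≤ normalizer (A : Set G) := Subgroup.le_normalizer

/-- `K* = C_{M_σ}(K)` -/
abbrev Ks (M K : Subgroup G) : Subgroup G := sigmaCore M ⊓ centralizer (K : Set G)

/-- a subgroup of prime order has a non-identity element generating it -/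
theorem exists_gen_of_card_prime {T : Subgroup G} (hT : (Nat.card T).Prime) :
    ∃ t ∈ T, t ≠ 1 ∧ T = zpowers t := by
  have hT1 : T ≠ ⊥ := by
    intro h
    rw [h, Subgroup.card_bot] at hT
    exact Nat.not_prime_one hT
  obtain ⟨⟨t, htT⟩, ht1⟩ := (Subgroup.ne_bot_iff_exists_ne_one).1 hT1
  have ht1' : t ≠ 1 := fun h => ht1 (Subtype.ext h)
  refine ⟨t, htT, ht1', ?_⟩
  symm
  apply Subgroup.eq_of_le_of_card_ge
  · rw [zpowers_le]; exact htT
  · rw [Nat.card_zpowers]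
    have hdvd : orderOf t ∣ Nat.card T := by
      have := orderOf_dvd_natCard (⟨t, htT⟩ : T)
      rwa [Subgroup.orderOf_mk] at this
    rcases (Nat.dvd_prime hT).1 hdvd with h | h
    · exact absurd (orderOf_eq_one_iff.1 h) ht1'
    · exact h.ge

/-- `N_G(T) ≤ M` for `T ≤ K*` of prime order -/
theorem normalizer_le_of_le_Ks (hG : IsMinSimpleOddOrder G) (h30 : Stmt1430 G)
    {M K : Subgroup G} (hM : IsCoatom M) (hK : IsPiHallOf (kappa M) K M) (hK1 : K ≠ ⊥)
    {T : Subgroup G} (hT : T ≤ Ks M K) (hTp : (Nat.card T).Prime) :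
    normalizer (T : Set G) ≤ M := by
  obtain ⟨hCM, huniq⟩ := Cfsg.Agent.Lib.Helper68.BG147.lemmaU hG h30 hM hK hK1 hT hTp
  have hne : normalizer (T : Set G) ≠ ⊤ := by
    intro h
    have hn : T.Normal := normalizer_eq_top_iff.1 h
    have := hG.2.1
    rcases hn.eq_bot_or_eq_top with h0 | h0
    · rw [h0, Subgroup.card_bot] at hTp
      exact Nat.not_prime_one hTp
    · apply hM.1
      rw [eq_top_iff, ← h0]
      exact hT.trans (inf_le_left.trans (Cfsg.Agent.Lib.Helper47.BG11.sigmaCore_le M))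
  obtain ⟨M', hM', hle⟩ := Cfsg.Agent.Lib.Helper64.BG9.exists_coatom_ge hne
  have : M' = M := huniq M' hM' ((Subgroup.centralizer_le_normalizer _).trans hle)
  rw [← this]; exact hle

/-- A prime-order subgroup `T ≤ K_B^*` of the maximal subgroup `B`, lying in another maximal
subgroup `A`, with `q ∉ σ(A)` and `C_{A_σ}(T) ≠ 1`, has `q ∈ κ(A)`. -/
theorem mem_kappa_of_partner (hG : IsMinSimpleOddOrder G) (h30 : Stmt1430 G)
    {A B : Subgroup G} (hA : IsCoatom A) (hB : IsCoatom B) (hAB : A ≠ B)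
    {KB : Subgroup G} (hKB : IsPiHallOf (kappa B) KB B) (hKB1 : KB ≠ ⊥)
    {T : Subgroup G} (hT : T ≤ Ks B KB) {q : ℕ} [hq : Fact q.Prime] (hTq : Nat.card T = q)
    (hTA : T ≤ A) (hqσ : q ∉ sigma A)
    (hne : sigmaCore A ⊓ centralizer (T : Set G) ≠ ⊥) : q ∈ kappa A := by
  have hTp : (Nat.card T).Prime := hTq ▸ hq.out
  refine Cfsg.Agent.Lib.Helper32.BG142.mem_kappa_of_rank_one hG hqσ ?_ hTA hTq hne
  by_contra hr1
  have hτ2 : q ∈ tau2 A :=
    ⟨hq.out, hqσ, Cfsg.Agent.Lib.Helper19.BG117.pRankLE_two_of_not_sigma hG hA hq.out hqσ, hr1⟩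
  obtain ⟨t, htT, ht1, hTz⟩ := exists_gen_of_card_prime hTp
  obtain ⟨E, hE, -⟩ := BG13.exists_compl_ge hG hA.1 (BG13.hallStmt hG A hA) (T := ⊥) bot_le
    (by rw [Subgroup.card_bot]; exact Nat.coprime_one_left _)
  obtain ⟨⟨y, hy⟩, hy1⟩ := (Subgroup.ne_bot_iff_exists_ne_one).1 hne
  have hy1' : y ≠ 1 := fun h => hy1 (Subtype.ext h)
  have hord : orderOf t = q := by
    rw [← hTq, hTz, Nat.card_zpowers]
  have hhat : t ∈ sigmaHat A := by
    refine ⟨hTA htT, y, hy.1, hy1', ?_⟩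
    have := (mem_centralizer_iff.1 hy.2) t htT
    exact this
  obtain ⟨hCA, -⟩ := (Cfsg.Agent.S1420.result hG A hA E hE).2.2.2 t (hTA htT) ht1
    (by
      intro p hp hpd
      rw [hord] at hpd
      rwa [(Nat.prime_dvd_prime_iff_eq hp hq.out).1 hpd]) hhat
  obtain ⟨-, huniq⟩ := Cfsg.Agent.Lib.Helper68.BG147.lemmaU hG h30 hB hKB hKB1 hT hTp
  have hle : centralizer (T : Set G) ≤ A :=
    (Subgroup.centralizer_le (Set.singleton_subset_iff.2 htT)).trans hCA
  exact hAB (huniq A hA hle)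

/-- basic facts on a partner `L ⊇ N_G(X)`: `X ≤ L_σ`, `p ∈ σ(L) ∖ σ(M)`, `L` is not conjugate
to `M`, and `Z = K K* ≤ L`. -/
theorem partner_basic (hG : IsMinSimpleOddOrder G) (h30 : Stmt1430 G)
    {M K : Subgroup G} (hM : IsCoatom M) (hK : IsPiHallOf (kappa M) K M) (hK1 : K ≠ ⊥)
    {X : Subgroup G} (hXK : X ≤ K) (hX : (Nat.card X).Prime)
    {L : Subgroup G} (hL : IsCoatom L) (hNL : normalizer (X : Set G) ≤ L) :
    X ≤ sigmaCore L ∧ Nat.card X ∈ sigma L ∧ Nat.card X ∉ sigma M ∧ (∀ g : G, L ≠ cj g M) ∧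
      K ⊔ Ks M K ≤ L := by
  obtain ⟨hsemi, -, h3⟩ := h30 M hM K hK hK1
  obtain ⟨hNX, hNK, hXσ⟩ := h3 X hXK hX
  have hXL : X ≤ sigmaCore L := hXσ L hL hNL
  have hσL := BG13.hallStmt hG L hL
  have hpL : Nat.card X ∈ sigma L := hσL.2.1 _ hX (Subgroup.card_dvd_of_le hXL)
  have hpκ : Nat.card X ∈ kappa M := hK.2.1 _ hX (Subgroup.card_dvd_of_le hXK)
  have hpM : Nat.card X ∉ sigma M := hpκ.2.2.1
  refine ⟨hXL, hpL, hpM, ne_cj_of_sigma hpL hpM, ?_⟩
  rw [← hNX]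
  exact inf_le_right.trans hNL

/-- **(b)** `M_σ ∩ L = K*`. -/
theorem sigma_inf_eq (hG : IsMinSimpleOddOrder G) (h30 : Stmt1430 G)
    {M K : Subgroup G} (hM : IsCoatom M) (hK : IsPiHallOf (kappa M) K M) (hK1 : K ≠ ⊥)
    {X : Subgroup G} (hXK : X ≤ K) (hX : (Nat.card X).Prime)
    {L : Subgroup G} (hL : IsCoatom L) (hNL : normalizer (X : Set G) ≤ L) :
    sigmaCore M ⊓ L = Ks M K := by
  obtain ⟨hXL, hpL, hpM, hnc, hZL⟩ := partner_basic hG h30 hM hK hK1 hXK hX hL hNL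
  obtain ⟨hsemi, -, h3⟩ := h30 M hM K hK hK1
  haveI : Fact (Nat.card X).Prime := ⟨hX⟩
  apply le_antisymm
  · have hXM : X ≤ M := hXK.trans hK.1
    have hTC : X ≤ normalizer ((sigmaCore M ⊓ L : Subgroup G) : Set G) :=
      le_normalizer_inf' (hXM.trans (Cfsg.Agent.Lib.Helper24.BG.le_normalizer_sigmaCore M))
        ((hXL.trans (Cfsg.Agent.Lib.Helper47.BG11.sigmaCore_le L)).trans Subgroup.le_normalizer)
    have hcent := BG13.cent_of_not_tau1 hG hM hL hnc hpM (fun h => h.2.1 hpL) rfl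
      (hXL.trans (Cfsg.Agent.Lib.Helper47.BG11.sigmaCore_le L)) inf_le_right inf_le_left hTC
    obtain ⟨x, hxX, hx1, -⟩ := exists_gen_of_card_prime hX
    rw [Ks, ← hsemi x (hXK hxX) hx1]
    exact le_inf inf_le_left
      (hcent.trans (Subgroup.centralizer_le (Set.singleton_subset_iff.2 hxX)))
  · exact le_inf inf_le_left (le_sup_right.trans hZL)

/-- two Hall `π`-subgroups of `M` have the same order -/
theorem card_eq_of_hall {π : Set ℕ} {A B M : Subgroup G} (hA : IsPiHallOf π A M)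
    (hB : IsPiHallOf π B M) : Nat.card A = Nat.card B := by
  have key : ∀ {A B : Subgroup G}, IsPiHallOf π A M → IsPiHallOf π B M →
      Nat.card A ∣ Nat.card B := by
    intro A B hA hB
    have h1 : Nat.card A ∣ B.relIndex M * Nat.card B := by
      rw [Cfsg.Agent.Lib.Helper48.NilHall.relIndex_mul_card hB.1]; exact Subgroup.card_dvd_of_le hA.1
    have hcop : (Nat.card A).Coprime (B.relIndex M) := by
      apply Nat.coprime_of_dvd
      intro q hq hqA hqB
      exact hB.2.2 q hq (hA.2.1 q hq hqA) hqB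
    exact hcop.dvd_of_dvd_mul_left h1
  exact Nat.dvd_antisymm (key hA hB) (key hB hA)

/-- a Hall subgroup has order coprime to its relative index -/
theorem coprime_of_hall {π : Set ℕ} {A M : Subgroup G} (hA : IsPiHallOf π A M) :
    (Nat.card A).Coprime (A.relIndex M) := by
  apply Nat.coprime_of_dvd
  intro q hq hqA hqB
  exact hA.2.2 q hq (hA.2.1 q hq hqA) hqB

/-- a subgroup of order `p ∈ κ(M)` of `K ≤ M` which is normal in `K` is the only subgroup of
order `p` of `K` -/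
theorem eq_of_card_of_le {M K X Y : Subgroup G} {p : ℕ} (hp : p ∈ kappa M) (hKM : K ≤ M)
    (hXK : X ≤ K) (hYK : Y ≤ K) (hXn : K ≤ normalizer (X : Set G)) (hX : Nat.card X = p)
    (hY : Nat.card Y = p) : X = Y := by
  haveI : Fact p.Prime := ⟨hp.1⟩
  have hXp : IsPGroup p X := IsPGroup.of_card (n := 1) (by rw [hX, pow_one])
  have hYp : IsPGroup p Y := IsPGroup.of_card (n := 1) (by rw [hY, pow_one])
  have hD : IsPGroup p (X ⊔ Y : Subgroup G) :=
    IsPGroup.to_sup_of_normal_left' hXp hYp (hYK.trans hXn)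
  have hDM : X ⊔ Y ≤ M := (sup_le hXK hYK).trans hKM
  have hcyc := Cfsg.Agent.Lib.Helper32.BG142.compl_inf_normalizer_eq_isCyclic hp hD hDM
  exact BG13.eq_of_card_prime_of_le_isCyclic hcyc hX hY le_sup_left le_sup_right

/-- a subgroup of order `q` inside a subgroup whose order is divisible by the prime `q` -/
theorem exists_le_card_eq {H : Subgroup G} {q : ℕ} (hq : q.Prime) (h : q ∣ Nat.card H) :
    ∃ T : Subgroup G, T ≤ H ∧ Nat.card T = q := by
  haveI : Fact q.Prime := ⟨hq⟩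
  obtain ⟨⟨t, htH⟩, ht⟩ := exists_prime_orderOf_dvd_card' q h
  refine ⟨zpowers t, by rw [zpowers_le]; exact htH, ?_⟩
  rw [Nat.card_zpowers]
  rwa [Subgroup.orderOf_mk] at ht

/-- elements of `K` and of `C(K)` commute: `K ≤ C(T)` for `T ≤ C(K)` -/
theorem le_centralizer_of_le_centralizer {K T : Subgroup G} (hT : T ≤ centralizer (K : Set G)) :
    K ≤ centralizer (T : Set G) := by
  intro k hk
  rw [mem_centralizer_iff]
  intro t ht
  exact ((mem_centralizer_iff.1 (hT ht)) k hk).symm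

/-- **The single-partner analysis** (BG 14.7, first steps). -/
theorem partner (hG : IsMinSimpleOddOrder G) (h30 : Stmt1430 G)
    {M K : Subgroup G} (hM : IsCoatom M) (hK : IsPiHallOf (kappa M) K M) (hK1 : K ≠ ⊥)
    {X : Subgroup G} (hXK : X ≤ K) (hX : (Nat.card X).Prime)
    {L : Subgroup G} (hL : IsCoatom L) (hNL : normalizer (X : Set G) ≤ L) :
    (∀ g : G, L ≠ cj g M) ∧ X ≤ sigmaCore L ∧ K ⊔ Ks M K ≤ L ∧ sigmaCore M ⊓ L = Ks M K ∧
      M ⊓ L = K ⊔ Ks M K ∧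
      (∀ q : ℕ, q.Prime → q ∣ Nat.card (Ks M K) → q ∈ kappa L) ∧
      ∃ K1 : Subgroup G, IsPiHallOf (kappa L) K1 L ∧ Ks M K ≤ K1 ∧ K1 ≤ K ⊔ Ks M K ∧
        sigmaCore L ⊓ M = Ks L K1 ∧ Ks L K1 ≤ K ∧ X ≤ Ks L K1 ∧
        K ⊔ Ks M K = K1 ⊔ Ks L K1 := by
  classical
  obtain ⟨hXL, hpL, hpM, hnc, hZL⟩ := partner_basic hG h30 hM hK hK1 hXK hX hL hNL
  obtain ⟨hsemi, -, h3⟩ := h30 M hM K hK hK1
  obtain ⟨hNX, hNK, -⟩ := h3 X hXK hX
  have hb := sigma_inf_eq hG h30 hM hK hK1 hXK hX hL hNL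
  have hσM := BG13.hallStmt hG M hM
  have hσL := BG13.hallStmt hG L hL
  have hWM := Cfsg.Agent.Lib.Helper47.BG11.sigmaCore_le M
  have hWL := Cfsg.Agent.Lib.Helper47.BG11.sigmaCore_le L
  have h78 := (Cfsg.Agent.S1378.result hG).2
  have hLM : L ≠ M := by
    have := hnc 1
    rwa [cj_eq_self_of_mem (one_mem M)] at this
  have hKs1 : Ks M K ≠ ⊥ := Cfsg.Agent.Lib.Helper56.BG143.Ks_ne_bot hK hK1 hsemi
  have hKsL : Ks M K ≤ L := le_sup_right.trans hZL
  have hKL : K ≤ L := le_sup_left.trans hZL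
  have hX1 : X ≠ ⊥ := by
    intro h; rw [h, Subgroup.card_bot] at hX; exact Nat.not_prime_one hX
  -- disjointness of `σ(M)` and `σ(L)`
  have hdisj : ∀ q : ℕ, q ∈ sigma M → q ∈ sigma L → False := by
    intro q h1 h2
    obtain ⟨g, hg⟩ := h78 M L hM hL ⟨q, h1, h2⟩
    exact hnc g hg
  -- (d1) primes of `K*` lie in `κ(L)`
  have hκL : ∀ q : ℕ, q.Prime → q ∣ Nat.card (Ks M K) → q ∈ kappa L := by
    intro q hq hqd
    haveI : Fact q.Prime := ⟨hq⟩
    obtain ⟨T, hT, hTq⟩ := exists_le_card_eq hq hqd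
    have hqM : q ∈ sigma M :=
      hσM.2.1 q hq (hTq ▸ Subgroup.card_dvd_of_le (hT.trans inf_le_left))
    refine mem_kappa_of_partner hG h30 hL hM hLM hK hK1 hT hTq (hT.trans hKsL)
      (fun h => hdisj q hqM h) ?_
    intro hbot
    apply hX1
    rw [eq_bot_iff, ← hbot]
    exact le_inf hXL (hXK.trans (le_centralizer_of_le_centralizer (hT.trans inf_le_right)))
  -- the Hall `κ(L)`-subgroup `K1 ≥ K*`
  have hLs : Group.IsSolvable ↥L := hG.2.2.2 L hL.1
  have hMs : Group.IsSolvable ↥M := hG.2.2.2 M hM.1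
  obtain ⟨K1, hK1H, hKsK1⟩ := Cfsg.Agent.Lib.Helper21.exists_isPiHallOf_ge (kappa L) L hLs
    (Ks M K) hKsL hκL
  have hK1ne : K1 ≠ ⊥ := fun h => hKs1 (eq_bot_iff.2 (h ▸ hKsK1))
  obtain ⟨hsemiL, -, h3L⟩ := h30 L hL K1 hK1H hK1ne
  -- a prime-order `T₀ ≤ K*`
  obtain ⟨q₀, hq₀, hq₀d⟩ := Nat.exists_prime_and_dvd
    (fun h => hKs1 ((Subgroup.card_eq_one).1 h) : Nat.card (Ks M K) ≠ 1)
  obtain ⟨T₀, hT₀, hT₀q⟩ := exists_le_card_eq hq₀ hq₀d
  have hT₀p : (Nat.card T₀).Prime := hT₀q ▸ hq₀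
  obtain ⟨hNT, -, -⟩ := h3L T₀ (hT₀.trans hKsK1) hT₀p
  have hNTM : normalizer (T₀ : Set G) ≤ M := normalizer_le_of_le_Ks hG h30 hM hK hK1 hT₀ hT₀p
  have hK1M : K1 ⊔ Ks L K1 ≤ M := by
    rw [← hNT]; exact inf_le_right.trans hNTM
  have hKcT : K ≤ centralizer (T₀ : Set G) :=
    le_centralizer_of_le_centralizer (hT₀.trans inf_le_right)
  have hZle : K ⊔ Ks M K ≤ K1 ⊔ Ks L K1 := by
    refine sup_le ?_ (hKsK1.trans le_sup_left)
    rw [← hNT]
    exact le_inf hKL (hKcT.trans (Subgroup.centralizer_le_normalizer _))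
  -- `X ≤ K1*`
  obtain ⟨t₀, ht₀T, ht₀1, -⟩ := exists_gen_of_card_prime hT₀p
  have hXK1s : X ≤ Ks L K1 := by
    rw [Ks, ← hsemiL t₀ (hKsK1 (hT₀ ht₀T)) ht₀1]
    refine le_inf hXL ?_
    exact (hXK.trans hKcT).trans (Subgroup.centralizer_le (Set.singleton_subset_iff.2 ht₀T))
  -- (d2) `K1*` is a `κ(M)`-group
  have hκM : ∀ s : ℕ, s.Prime → s ∣ Nat.card (Ks L K1) → s ∈ kappa M := by
    intro s hs hsd
    haveI : Fact s.Prime := ⟨hs⟩
    obtain ⟨S, hS, hSs⟩ := exists_le_card_eq hs hsd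
    have hsL : s ∈ sigma L :=
      hσL.2.1 s hs (hSs ▸ Subgroup.card_dvd_of_le (hS.trans inf_le_left))
    refine mem_kappa_of_partner hG h30 hM hL hLM.symm hK1H hK1ne hS hSs
      ((hS.trans le_sup_right).trans hK1M) (fun h => hdisj s h hsL) ?_
    intro hbot
    apply hKs1
    rw [eq_bot_iff, ← hbot]
    exact le_inf inf_le_left
      (hKsK1.trans (le_centralizer_of_le_centralizer (hS.trans inf_le_right)))
  -- `K1* ≤ K`
  have hK1sK : Ks L K1 ≤ K := by
    obtain ⟨T', hT'H, hle⟩ := Cfsg.Agent.Lib.Helper21.exists_isPiHallOf_ge (kappa M) M hMs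
      (Ks L K1) (le_sup_right.trans hK1M) hκM
    haveI := hMs
    obtain ⟨c, hcM, hc⟩ := Cfsg.Agent.Lib.Helper48.NilHall.hall_conj_in M T' K hT'H.1 hK.1
      (card_eq_of_hall hK hT'H) (coprime_of_hall hT'H)
    have hcZ : c ∈ K ⊔ Ks M K := by
      by_contra hcn
      have hbot := Cfsg.Agent.Lib.Helper30.BG142.part_b hG h30 hM hK hK1 hcM hcn
      apply hX1
      rw [eq_bot_iff, ← hbot]
      refine le_inf hXK ?_
      change X ≤ cj c K
      rw [hc]
      exact hXK1s.trans hle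
    have hcN : c ∈ normalizer (K : Set G) := by
      have : c ∈ M ⊓ normalizer (K : Set G) := by rw [hNK]; exact hcZ
      exact this.2
    rw [cj_eq_self_iff.2 hcN] at hc
    rw [hc]; exact hle
  -- `K1 ≤ Z`
  have hK1Z : K1 ≤ K ⊔ Ks M K := by
    rw [← hNX]
    refine le_inf (le_sup_left.trans hK1M) ?_
    have h1 : K1 ≤ centralizer ((Ks L K1 : Subgroup G) : Set G) :=
      le_centralizer_of_le_centralizer inf_le_right
    exact (h1.trans (Subgroup.centralizer_le hXK1s)).trans (Subgroup.centralizer_le_normalizer _)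
  have hZeq : K ⊔ Ks M K = K1 ⊔ Ks L K1 :=
    le_antisymm hZle (sup_le hK1Z (hK1sK.trans le_sup_left))
  -- (b') `L_σ ∩ M = K1*`
  have hb' : sigmaCore L ⊓ M = Ks L K1 :=
    sigma_inf_eq hG h30 hL hK1H hK1ne (hT₀.trans hKsK1) hT₀p hM hNTM
  -- (c) `M ∩ L = Z`
  have hc : M ⊓ L = K ⊔ Ks M K := by
    apply le_antisymm
    · intro d hd
      rw [← hNX]
      refine ⟨hd.1, cj_eq_self_iff.1 ?_⟩
      have hdn : d ∈ normalizer ((sigmaCore L ⊓ M : Subgroup G) : Set G) :=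
        le_normalizer_inf' (A := sigmaCore L) (B := M) (X := M ⊓ L)
          (inf_le_right.trans (Cfsg.Agent.Lib.Helper24.BG.le_normalizer_sigmaCore L))
          (inf_le_left.trans Subgroup.le_normalizer) hd
      have hYle : cj d X ≤ Ks L K1 := by
        rw [← hb', ← cj_eq_self_iff.2 hdn]
        exact cj_mono (hb' ▸ hXK1s)
      have hpκ : Nat.card X ∈ kappa M := hK.2.1 _ hX (Subgroup.card_dvd_of_le hXK)
      have hKnX : K ≤ normalizer (X : Set G) := by
        have : K ≤ M ⊓ normalizer (X : Set G) := by rw [hNX]; exact le_sup_left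
        exact this.trans inf_le_right
      exact (eq_of_card_of_le hpκ hK.1 hXK (hYle.trans hK1sK) hKnX rfl (card_cj d X)).symm
    · exact le_inf (sup_le hK.1 (inf_le_left.trans hWM)) hZL
  exact ⟨hnc, hXL, hZL, hb, hc, hκL, K1, hK1H, hKsK1, hK1Z, hb', hK1sK, hXK1s, hZeq⟩

end Cfsg.Agent.Lib.Helper64.BG147Pair
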