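import Mathlib
import Cfsg.Agent.Lib.Helper47.BG153a
import Cfsg.Agent.Lib.Helper19.BG124a
import Cfsg.Agent.Lib.Helper24.BG121
import Cfsg.Agent.Lib.Helper64.BG152B1
import Cfsg.Agent.Lib.Helper19.BG14B
import Cfsg.Agent.Lib.Helper32.BG142A
import Cfsg.Agent.S1352

/-!
# S1356 (BG 15.2), leaf A2 of helper24's split: `C_M(M_σ) ≤ F(M)`

In fact `C_M(M_σ) = Z(M_σ) X` with `X` cyclic (helper47's `cent_hall` with `H := M_σ`), so it is an
abelian normal subgroup of `M`; no nilpotency hypothesis on `M_σ` is needed (`a2'`).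
-/

set_option autoImplicit false
set_option linter.unusedSectionVars false
set_option linter.unusedVariables false
set_option linter.style.haveILetI false

namespace Cfsg.Agent.Lib.Helper24.BG152

open Subgroup Cfsg

universe u
variable {G : Type u} [Group G]

/-- the closure of a set of pairwise commuting elements is commutative -/
theorem a2_comm_closure {s : Set G} (hs : ∀ x ∈ s, ∀ y ∈ s, x * y = y * x) :
    ∀ a ∈ closure s, ∀ b ∈ closure s, a * b = b * a := by
  have h1 : s ⊆ (centralizer s : Set G) := by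
    intro x hx
    rw [SetLike.mem_coe, mem_centralizer_iff]
    intro y hy
    exact hs y hy x hx
  have h2 : closure s ≤ centralizer s :=
    (Subgroup.closure_le_centralizer_centralizer s).trans (Subgroup.centralizer_le h1)
  intro a ha b hb
  have h3 := Subgroup.closure_le_centralizer_centralizer s hb
  rw [mem_centralizer_iff] at h3
  exact h3 a (h2 ha)

/-- `A ⊔ X` is commutative when `A`, `X` are and commute elementwise -/
theorem a2_comm_sup {A X : Subgroup G} (hA : ∀ a ∈ A, ∀ b ∈ A, a * b = b * a)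
    (hX : ∀ a ∈ X, ∀ b ∈ X, a * b = b * a) (hAX : ∀ a ∈ A, ∀ x ∈ X, a * x = x * a) :
    ∀ a ∈ A ⊔ X, ∀ b ∈ A ⊔ X, a * b = b * a := by
  have h : A ⊔ X = closure ((A : Set G) ∪ (X : Set G)) := by
    rw [Subgroup.closure_union, Subgroup.closure_eq, Subgroup.closure_eq]
  rw [h]
  apply a2_comm_closure
  rintro x (hx | hx) y (hy | hy)
  · exact hA x hx y hy
  · exact hAX x hx y hy
  · exact (hAX y hy x hx).symm
  · exact hX x hx y hy

variable [Finite G]

/-- `C_M(M_σ)` is commutative. -/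
theorem a2_comm (hG : IsMinSimpleOddOrder G) {M : Subgroup G} (hM : IsCoatom M) :
    ∀ a ∈ M ⊓ centralizer (sigmaCore M : Set G), ∀ b ∈ M ⊓ centralizer (sigmaCore M : Set G),
      a * b = b * a := by
  have h1 : sigmaCore M ≠ ⊥ := Cfsg.Agent.Lib.Helper19.BG124.sigmaCore_ne_bot hG hM
  have hHall : (Nat.card (sigmaCore M)).Coprime ((sigmaCore M).relIndex (sigmaCore M)) := by
    rw [Subgroup.relIndex_self]
    exact Nat.coprime_one_right _
  obtain ⟨X, hXc, -, hX⟩ :=
    Cfsg.Agent.Lib.Helper47.BG153.cent_hall hG hM (le_refl (sigmaCore M)) h1 hHall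
  rw [hX]
  have hXle : X ≤ centralizer (sigmaCore M : Set G) := by
    have : X ≤ M ⊓ centralizer (sigmaCore M : Set G) := by
      rw [hX]
      exact le_sup_right
    exact this.trans inf_le_right
  apply a2_comm_sup
  · intro a ha b hb
    have := mem_centralizer_iff.mp ha.2 b hb.1
    exact this.symm
  · intro a ha b hb
    haveI := hXc
    obtain ⟨g, hg⟩ := hXc.exists_generator
    obtain ⟨i, hi⟩ := Subgroup.mem_zpowers_iff.mp (hg ⟨a, ha⟩)
    obtain ⟨j, hj⟩ := Subgroup.mem_zpowers_iff.mp (hg ⟨b, hb⟩)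
    have ha' : a = ((g ^ i : ↥X) : G) := by rw [hi]
    have hb' : b = ((g ^ j : ↥X) : G) := by rw [hj]
    rw [ha', hb', ← Subgroup.coe_mul, ← Subgroup.coe_mul, ← zpow_add, ← zpow_add, add_comm]
  · intro a ha x hx
    have := mem_centralizer_iff.mp (hXle hx) a ha.1
    exact this

/-- `M` normalizes `C_M(M_σ)`. -/
theorem a2_le_normalizer (M : Subgroup G) :
    M ≤ normalizer ((M ⊓ centralizer (sigmaCore M : Set G) : Subgroup G) : Set G) := by
  intro m hm
  have key : ∀ m ∈ M, ∀ x ∈ M ⊓ centralizer (sigmaCore M : Set G),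
      m * x * m⁻¹ ∈ M ⊓ centralizer (sigmaCore M : Set G) := by
    intro m hm x hx
    have hx1 : x ∈ M := (Subgroup.mem_inf.mp hx).1
    have hx2 : x ∈ centralizer (sigmaCore M : Set G) := (Subgroup.mem_inf.mp hx).2
    refine Subgroup.mem_inf.mpr ⟨M.mul_mem (M.mul_mem hm hx1) (M.inv_mem hm), ?_⟩
    rw [mem_centralizer_iff]
    intro s hs
    have hs' : m⁻¹ * s * m⁻¹⁻¹ ∈ sigmaCore M :=
      Cfsg.Agent.Lib.Helper24.BG.sigmaCore_conj_mem M (M.inv_mem hm) hs
    have h1 := mem_centralizer_iff.mp hx2 _ hs'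
    calc s * (m * x * m⁻¹) = m * ((m⁻¹ * s * m⁻¹⁻¹) * x) * m⁻¹ := by group
      _ = m * (x * (m⁻¹ * s * m⁻¹⁻¹)) * m⁻¹ := by rw [h1]
      _ = m * x * m⁻¹ * s := by group
  rw [mem_normalizer_iff]
  intro x
  constructor
  · exact key m hm x
  · intro hx
    have := key m⁻¹ (M.inv_mem hm) _ hx
    have e : m⁻¹ * (m * x * m⁻¹) * m⁻¹⁻¹ = x := by group
    rwa [e] at this

/-- **A2, without the nilpotency hypothesis**: `C_M(M_σ) ≤ F(M)`. -/
theorem a2' (hG : IsMinSimpleOddOrder G) {M : Subgroup G} (hM : IsCoatom M) :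
    M ⊓ centralizer (sigmaCore M : Set G) ≤ fittingOf M := by
  have hcomm := a2_comm hG hM
  have hnil : Group.IsNilpotent ↥(M ⊓ centralizer (sigmaCore M : Set G)) := by
    letI : CommGroup ↥(M ⊓ centralizer (sigmaCore M : Set G)) :=
      { (inferInstance : Group ↥(M ⊓ centralizer (sigmaCore M : Set G))) with
        mul_comm := fun a b => Subtype.ext (hcomm a.1 a.2 b.1 b.2) }
    exact CommGroup.isNilpotent
  exact Cfsg.Agent.Lib.Helper91.BG152.Ks_le_Q_le_fittingOf inf_le_left (a2_le_normalizer M) hnil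

/-- generic: `N ⊴ M`, `M = N K` (elementwise), `K ≤ M`; a subgroup `X ≤ M` of order prime to `|K|`
lies in `N`. -/
theorem a2_le_of_coprime {N K X M : Subgroup G} (hKM : K ≤ M)
    (hMN : M ≤ normalizer (N : Set G)) (hdec : ∀ m ∈ M, ∃ n ∈ N, ∃ k ∈ K, m = n * k)
    (hXM : X ≤ M) (hcop : (Nat.card X).Coprime (Nat.card K)) : X ≤ N := by
  intro x hx
  obtain ⟨n, hn, k, hk, hxnk⟩ := hdec x (hXM hx)
  -- `x ^ j = n_j * k ^ j`
  have hpow : ∀ j : ℕ, ∃ n' ∈ N, x ^ j = n' * k ^ j := by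
    intro j
    induction j with
    | zero => exact ⟨1, N.one_mem, by simp⟩
    | succ j ih =>
      obtain ⟨n', hn', hj⟩ := ih
      have hkj : k ^ j ∈ normalizer (N : Set G) := hMN (hKM (K.pow_mem hk j))
      have hc : k ^ j * n * (k ^ j)⁻¹ ∈ N := (mem_normalizer_iff.mp hkj n).mp hn
      refine ⟨n' * (k ^ j * n * (k ^ j)⁻¹), N.mul_mem hn' hc, ?_⟩
      rw [pow_succ, hj, pow_succ]
      conv_lhs => rw [hxnk]
      group
  obtain ⟨n', hn', hd⟩ := hpow (Nat.card K)
  have hk1 : k ^ Nat.card K = 1 := by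
    have h0 : (⟨k, hk⟩ : ↥K) ^ Nat.card K = 1 := pow_card_eq_one'
    have h00 : (((⟨k, hk⟩ : ↥K) ^ Nat.card K : ↥K) : G) = ((1 : ↥K) : G) := by rw [h0]
    rwa [Subgroup.coe_pow, Subgroup.coe_one] at h00
  rw [hk1, mul_one] at hd
  have hxN : x ^ Nat.card K ∈ N := hd ▸ hn'
  have hox : orderOf x ∣ Nat.card X := by
    have h1 : orderOf (⟨x, hx⟩ : ↥X) ∣ Nat.card X := orderOf_dvd_natCard _
    rwa [← Subgroup.orderOf_coe] at h1
  have hcop' : (Nat.card K).Coprime (orderOf x) :=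
    (Nat.Coprime.coprime_dvd_left hox hcop).symm
  obtain ⟨m, hm⟩ := exists_pow_eq_self_of_coprime hcop'
  rw [← hm]
  exact N.pow_mem hxN m

/-- **A2** (exact statement of helper24's split of S1356 Case A):
`C_M(M_σ) ≤ F(M)` and `C_M(M_σ) ≤ U M_σ`. -/
theorem a2 (hG : IsMinSimpleOddOrder G) {M K U : Subgroup G} (hM : IsCoatom M)
    (hKU : IsSigmaDecomposition M K U) :
    M ⊓ centralizer (sigmaCore M : Set G) ≤ fittingOf M ∧
      M ⊓ centralizer (sigmaCore M : Set G) ≤ U ⊔ sigmaCore M := by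
  refine ⟨a2' hG hM, ?_⟩
  have hσ := Cfsg.Agent.Lib.Helper47.BG11.sigmaHallIn_of_coatom hG hM
  have hWM : sigmaCore M ≤ M := hσ.1
  have h1 : sigmaCore M ≠ ⊥ := Cfsg.Agent.Lib.Helper19.BG124.sigmaCore_ne_bot hG hM
  have hHall : (Nat.card (sigmaCore M)).Coprime ((sigmaCore M).relIndex (sigmaCore M)) := by
    rw [Subgroup.relIndex_self]
    exact Nat.coprime_one_right _
  obtain ⟨X, hXc, hXτ, hX⟩ :=
    Cfsg.Agent.Lib.Helper47.BG153.cent_hall hG hM (le_refl (sigmaCore M)) h1 hHall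
  rw [hX]
  refine sup_le (inf_le_left.trans le_sup_right) ?_
  have hXM : X ≤ M := by
    have : X ≤ M ⊓ centralizer (sigmaCore M : Set G) := by
      rw [hX]
      exact le_sup_right
    exact this.trans inf_le_left
  have hKM : K ≤ M := hKU.hall.1
  have hUM : U ≤ M := hKU.compl.1
  have hMN : M ≤ normalizer ((U ⊔ sigmaCore M : Subgroup G) : Set G) :=
    (Cfsg.Agent.S1352.result hG M hM K hKU.cyclic hKU.hall).2 U hKU
  have hKW : K ≤ normalizer ((sigmaCore M : Subgroup G) : Set G) :=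
    hKM.trans (Cfsg.Agent.Lib.Helper24.BG.le_normalizer_sigmaCore M)
  have hdec : ∀ m ∈ M, ∃ n ∈ U ⊔ sigmaCore M, ∃ k ∈ K, m = n * k := by
    intro m hm
    obtain ⟨a, ha, b, hb, hab⟩ := hKU.compl.2.2.2 m hm
    obtain ⟨k, hk, w, hw, hkw⟩ := Cfsg.Agent.Lib.Helper19.BG14.mul_decomp hKW hb
    have hc : k * w * k⁻¹ ∈ sigmaCore M :=
      Cfsg.Agent.Lib.Helper24.BG.sigmaCore_conj_mem M (hKM hk) hw
    refine ⟨a * (k * w * k⁻¹), (U ⊔ sigmaCore M).mul_mem (le_sup_left (b := sigmaCore M) ha)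
      (le_sup_right (a := U) hc), k, hk, ?_⟩
    rw [hab, hkw]
    group
  have hcop : (Nat.card X).Coprime (Nat.card K) := by
    apply Nat.coprime_of_dvd
    intro p hp hpX hpK
    have hτ : p ∈ tau2 M := hXτ p hp hpX
    have hκ : p ∈ kappa M := hKU.hall.2.1 p hp hpK
    have hr1 : PRankLE p 1 ↥M :=
      Cfsg.Agent.Lib.Helper32.BG142.pRankLE_one_of_sylow_cyclic hp (fun P => (hκ.2.2.2 P).1)
    exact hτ.2.2.2 hr1
  exact a2_le_of_coprime hKM hMN hdec hXM hcop

end Cfsg.Agent.Lib.Helper24.BG152
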