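import Cfsg.Agent.Lib.Helper41.StnDefs

/-!
# Stn hive (S2401, helper41), sub-hive NPERM (helper64): shared definitions

`NS K S` is the subgroup of the Steinberg group generated by the `w_ij(t)` with both indices in the
finite set `S`; `NS K univ = NN K n`, `NS K ∅ = ⊥`.
-/

set_option autoImplicit false

namespace Cfsg.Agent.Lib.Helper41.Stn

open Matrix

/-- the subgroup generated by the `w_ij(t)`, `i ≠ j` both in `S`, `t ≠ 0` -/
def NS (K : Type*) [Field K] {n : ℕ} (S : Finset (Fin n)) : Subgroup (St K n) :=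
  Subgroup.closure {g | ∃ (i j : Fin n) (t : K), i ∈ S ∧ j ∈ S ∧ i ≠ j ∧ t ≠ 0 ∧ g = ww i j t}

variable {K : Type*} [Field K] {n : ℕ}

theorem ww_mem_NS {S : Finset (Fin n)} {i j : Fin n} (hi : i ∈ S) (hj : j ∈ S) (hij : i ≠ j) {t : K}
    (ht : t ≠ 0) : ww i j t ∈ NS K S :=
  Subgroup.subset_closure ⟨i, j, t, hi, hj, hij, ht, rfl⟩

theorem ww_mem_NN {i j : Fin n} (hij : i ≠ j) {t : K} (ht : t ≠ 0) : ww i j t ∈ NN K n :=
  Subgroup.subset_closure ⟨i, j, t, hij, ht, rfl⟩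

theorem hh_mem_HH {i j : Fin n} (hij : i ≠ j) {t : K} (ht : t ≠ 0) : hh i j t ∈ HH K n :=
  Subgroup.subset_closure ⟨i, j, t, hij, ht, rfl⟩

theorem NS_mono {S T : Finset (Fin n)} (h : S ⊆ T) : NS K S ≤ NS K T := by
  apply Subgroup.closure_mono
  rintro g ⟨i, j, t, hi, hj, hij, ht, rfl⟩
  exact ⟨i, j, t, h hi, h hj, hij, ht, rfl⟩

theorem NS_le_NN (S : Finset (Fin n)) : NS K S ≤ NN K n := by
  apply Subgroup.closure_mono
  rintro g ⟨i, j, t, _, _, hij, ht, rfl⟩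
  exact ⟨i, j, t, hij, ht, rfl⟩

theorem NS_univ : NS K (Finset.univ : Finset (Fin n)) = NN K n := by
  apply le_antisymm (NS_le_NN _)
  apply Subgroup.closure_mono
  rintro g ⟨i, j, t, hij, ht, rfl⟩
  exact ⟨i, j, t, Finset.mem_univ _, Finset.mem_univ _, hij, ht, rfl⟩

theorem NS_empty : NS K (∅ : Finset (Fin n)) = ⊥ := by
  rw [eq_bot_iff]
  apply (Subgroup.closure_le _).2
  rintro g ⟨i, j, t, hi, _, _, _, rfl⟩
  exact absurd hi (Finset.notMem_empty i)

end Cfsg.Agent.Lib.Helper41.Stn
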