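import Mathlib
import Cfsg.Prelude.Def_ClassicalGeometry
import Cfsg.Prelude.Def_GeometricClasses
import Cfsg.Agent.Lib.Helper99.SympForm
import Cfsg.Agent.Lib.Helper59.TqDefs

/-! # TQ-TRF (helper64, for helper59's Tq hive S5973/S5987): transport of an isometry of an abstract
model to a matrix -/

set_option autoImplicit false

namespace Cfsg.Agent.Lib.Helper59.Tq

open Module
open Cfsg.Agent.Lib.Helper99

section tools2

variable {ι : Type} [Fintype ι] [DecidableEq ι] {F : Type*} [Field F] [Fintype F]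

/-- the unit of the matrix ring attached to a linear automorphism of `ι → F` -/
noncomputable def trf_GL {F : Type*} [Field F] (f : (ι → F) ≃ₗ[F] (ι → F)) : GL ι F where
  val := LinearMap.toMatrix' (f : (ι → F) →ₗ[F] (ι → F))
  inv := LinearMap.toMatrix' (f.symm : (ι → F) →ₗ[F] (ι → F))
  val_inv := by
    rw [← LinearMap.toMatrix'_comp]
    have : (f : (ι → F) →ₗ[F] (ι → F)).comp (f.symm : (ι → F) →ₗ[F] (ι → F)) = LinearMap.id := by
      ext v
      simp
    rw [this, LinearMap.toMatrix'_id]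
  inv_val := by
    rw [← LinearMap.toMatrix'_comp]
    have : (f.symm : (ι → F) →ₗ[F] (ι → F)).comp (f : (ι → F) →ₗ[F] (ι → F)) = LinearMap.id := by
      ext v
      simp
    rw [this, LinearMap.toMatrix'_id]

theorem trf_GL_toLin' {F : Type*} [Field F] (f : (ι → F) ≃ₗ[F] (ι → F)) (w : ι → F) :
    Matrix.toLin' ((trf_GL f : GL ι F) : Matrix ι ι F) w = f w := by
  show Matrix.toLin' (LinearMap.toMatrix' (f : (ι → F) →ₗ[F] (ι → F))) w = f w
  rw [Matrix.toLin'_toMatrix']
  rfl

theorem trf_mem_isometryGroup {F : Type*} [Field F] (Q : (ι → F) → F) (x : GL ι F)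
    (h : ∀ u, Q (Matrix.toLin' (x : Matrix ι ι F) u) = Q u) : x ∈ Cfsg.isometryGroup F Q := by
  intro u v
  show Q ((x : Matrix ι ι F).mulVec u) = Q u
  rw [← Matrix.toLin'_apply]
  exact h u

/-- TQ-TRF: transport of an isometry of an abstract model to a matrix -/
theorem exists_GL_of_model (Q : (ι → F) → F) {V : Type*} [AddCommGroup V] [Module F V]
    (QV : V → F) (Θ : V ≃ₗ[F] (ι → F)) (hΘ : ∀ v, Q (Θ v) = QV v) (g : V ≃ₗ[F] V)
    (hg : ∀ v, QV (g v) = QV v) :
    ∃ x : GL ι F, x ∈ Cfsg.isometryGroup F Q ∧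
      ∀ v, Matrix.toLin' (x : Matrix ι ι F) (Θ v) = Θ (g v) := by
  refine ⟨trf_GL (Θ.symm.trans (g.trans Θ)), ?_, ?_⟩
  · apply trf_mem_isometryGroup
    intro u
    rw [trf_GL_toLin']
    show Q (Θ (g (Θ.symm u))) = Q u
    rw [hΘ, hg, ← hΘ, LinearEquiv.apply_symm_apply]
  · intro v
    rw [trf_GL_toLin']
    show Θ (g (Θ.symm (Θ v))) = Θ (g v)
    rw [LinearEquiv.symm_apply_apply]

end tools2

end Cfsg.Agent.Lib.Helper59.Tq
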