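import Cfsg.Agent.Lib.Helper37.B2O5Defs

/-! # Bo hive (S1083, helper37), leaf BO-RED1: `EE F` is transitive on non-zero singular vectors
(every non-zero singular vector is moved to `e₁`). -/

set_option autoImplicit false
set_option linter.unusedSectionVars false
set_option linter.unusedVariables false

namespace Cfsg.Agent.Lib.Helper37.B2O5

open Matrix Module QuadraticMap
open Cfsg.Agent.Lib.Helper8 Cfsg.Agent.Lib.Helper13 Cfsg.Agent.Lib.Helper37 Cfsg.Agent.Lib.Helper43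

variable {F : Type*} [Field F]

/-- step (i): make the `e₁`-coordinate non-zero. -/
theorem red1_step1 (x : I5 → F) (hx : x ≠ 0) (hQ : Q5 F x = 0) :
    ∃ h ∈ EE F, ca1 (act (Q5 F) h x) ≠ 0 := by
  by_cases h1 : ca1 x = 0
  · by_cases h2 : ca2 x = 0
    · by_cases h3 : cb2 x = 0
      · -- then `cz x = 0` and `cb1 x ≠ 0`
        have hz : cz x = 0 := by
          have := hQ
          rw [Q5_apply, h1, h2] at this
          simpa using this
        have hb : cb1 x ≠ 0 := by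
          intro h4
          apply hx
          apply ext5 <;> simp [h1, h2, h3, h4, hz]
        refine ⟨X 6 1, X_mem_EE _ _, ?_⟩
        rw [act_X6]
        simp [h1, hz, hb]
      · refine ⟨X 7 1, X_mem_EE _ _, ?_⟩
        rw [act_X7]
        simp [h1, h3]
    · refine ⟨X 4 1, X_mem_EE _ _, ?_⟩
      rw [act_X4]
      simp [h1, h2]
  · exact ⟨1, one_mem _, by rw [act_one]; exact h1⟩

/-- step (ii): with `ca1 x ≠ 0`, clear everything else. -/
theorem red1_step2 (x : I5 → F) (ha : ca1 x ≠ 0) (hQ : Q5 F x = 0) :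
    ∃ h ∈ EE F, act (Q5 F) h x = mk5 0 (ca1 x) 0 0 0 := by
  refine ⟨X 1 (-(cz x) / ca1 x) * (X 0 (-(cb2 x) / ca1 x) * X 3 (-(ca2 x) / ca1 x)),
    mul_mem (X_mem_EE _ _) (mul_mem (X_mem_EE _ _) (X_mem_EE _ _)), ?_⟩
  have hq := hQ
  rw [Q5_apply] at hq
  have hb1 : cb1 x = -(cz x ^ 2 + ca2 x * cb2 x) / ca1 x := by
    field_simp
    linear_combination hq
  simp only [act_mul, act_X1, act_X0, act_X3, cz_mk5, ca1_mk5, ca2_mk5, cb1_mk5, cb2_mk5]
  apply ext5 <;> simp only [cz_mk5, ca1_mk5, ca2_mk5, cb1_mk5, cb2_mk5]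
  · field_simp; ring
  · field_simp; ring
  · rw [hb1]; field_simp; ring
  · field_simp; ring

/-- step (iii): rescale `a e₁` to `e₁`. -/
theorem red1_step3 (a : F) (ha : a ≠ 0) :
    ∃ h ∈ EE F, act (Q5 F) h (mk5 0 a 0 0 0) = ve1 := by
  refine ⟨X 3 (-1) * (X 4 (1 - a) * X 3 a⁻¹),
    mul_mem (X_mem_EE _ _) (mul_mem (X_mem_EE _ _) (X_mem_EE _ _)), ?_⟩
  simp only [act_mul, act_X4, act_X3, cz_mk5, ca1_mk5, ca2_mk5, cb1_mk5, cb2_mk5, ve1]
  apply ext5 <;> simp only [cz_mk5, ca1_mk5, ca2_mk5, cb1_mk5, cb2_mk5]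
  · field_simp; ring
  · field_simp; ring
  · ring
  · ring

/-- BO-RED1. -/
theorem red1 (x : I5 → F) (hx : x ≠ 0) (hQ : Q5 F x = 0) : ∃ h ∈ EE F, act (Q5 F) h x = ve1 := by
  obtain ⟨h1, hh1, e1⟩ := red1_step1 x hx hQ
  have hQ1 : Q5 F (act (Q5 F) h1 x) = 0 := by rw [Q_act]; exact hQ
  obtain ⟨h2, hh2, e2⟩ := red1_step2 _ e1 hQ1
  obtain ⟨h3, hh3, e3⟩ := red1_step3 _ e1
  refine ⟨h3 * (h2 * h1), mul_mem hh3 (mul_mem hh2 hh1), ?_⟩
  rw [act_mul, act_mul, e2, e3]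

end Cfsg.Agent.Lib.Helper37.B2O5
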