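import Cfsg.Agent.Lib.Helper37.B2O5Defs

/-! # Bo hive (S1083, helper37), leaf BO-RED3: an isometry fixing `e₁, f₁` is moved by `EE F` to one
that also scales `e₂, f₂`. -/

set_option autoImplicit false
set_option linter.unusedSectionVars false
set_option linter.unusedVariables false

namespace Cfsg.Agent.Lib.Helper37.B2O5

open Matrix Module QuadraticMap
open Cfsg.Agent.Lib.Helper8 Cfsg.Agent.Lib.Helper13 Cfsg.Agent.Lib.Helper37 Cfsg.Agent.Lib.Helper43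

variable {F : Type*} [Field F]

theorem red3_polar_ve1 (x : I5 → F) : polar ⇑(Q5 F) x ve1 = cb1 x := by
  rw [polar_Q5]; simp [ve1]

theorem red3_polar_vf1 (x : I5 → F) : polar ⇑(Q5 F) x vf1 = ca1 x := by
  rw [polar_Q5]; simp [vf1]

theorem red3_polar_ve2 (x : I5 → F) : polar ⇑(Q5 F) x ve2 = cb2 x := by
  rw [polar_Q5]; simp [ve2]

theorem red3_polar_fix (g : OG F) (x y : I5 → F) (hy : act (Q5 F) g y = y) :
    polar ⇑(Q5 F) (act (Q5 F) g x) y = polar ⇑(Q5 F) x y := by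
  calc polar ⇑(Q5 F) (act (Q5 F) g x) y = polar ⇑(Q5 F) (act (Q5 F) g x) (act (Q5 F) g y) := by
        rw [hy]
    _ = polar ⇑(Q5 F) x y := polar_act _ _ _ _

theorem red3_X5_ve1 (t : F) : act (Q5 F) (X 5 t) ve1 = ve1 := by
  rw [act_X5]; apply ext5 <;> simp [ve1]

theorem red3_X5_vf1 (t : F) : act (Q5 F) (X 5 t) vf1 = vf1 := by
  rw [act_X5]; apply ext5 <;> simp [vf1]

theorem red3_X2_ve1 (t : F) : act (Q5 F) (X 2 t) ve1 = ve1 := by
  rw [act_X2]; apply ext5 <;> simp [ve1]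

theorem red3_X2_vf1 (t : F) : act (Q5 F) (X 2 t) vf1 = vf1 := by
  rw [act_X2]; apply ext5 <;> simp [vf1]

theorem red3_X5_smul_ve2 (t a : F) : act (Q5 F) (X 5 t) (a • ve2) = a • ve2 := by
  rw [act_X5]; apply ext5 <;> simp [ve2]

/-- first half: move `w = g e₂` to a multiple of `e₂`. -/
theorem red3_a (w : I5 → F) (hw : w ≠ 0) (h1 : ca1 w = 0) (h2 : cb1 w = 0) (hQ : Q5 F w = 0) :
    ∃ h ∈ EE F, act (Q5 F) h ve1 = ve1 ∧ act (Q5 F) h vf1 = vf1 ∧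
      ∃ a : F, a ≠ 0 ∧ act (Q5 F) h w = a • ve2 := by
  have hq := hQ
  rw [Q5_apply, h1, h2] at hq
  -- the case `ca2 w ≠ 0`
  have key : ∀ w : I5 → F, ca1 w = 0 → cb1 w = 0 → cz w ^ 2 + ca2 w * cb2 w = 0 → ca2 w ≠ 0 →
      act (Q5 F) (X 2 (-(cz w) / ca2 w)) w = ca2 w • ve2 := by
    intro w h1 h2 hq ha
    have hb : cb2 w = -(cz w ^ 2) / ca2 w := by
      field_simp
      linear_combination hq
    rw [act_X2]
    apply ext5 <;> simp only [cz_mk5, ca1_mk5, ca2_mk5, cb1_mk5, cb2_mk5, cz_smul, ca1_smul,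
      ca2_smul, cb1_smul, cb2_smul, ve2, mul_zero, mul_one, h1, h2]
    · field_simp; ring
    · rw [hb]; field_simp; ring
  by_cases ha : ca2 w = 0
  · -- then `cz w = 0`, `cb2 w ≠ 0`; first apply `X 5 1`
    have hz : cz w = 0 := by
      rw [ha] at hq
      simpa using hq
    have hb : cb2 w ≠ 0 := by
      intro h4
      apply hw
      apply ext5 <;> simp [h1, h2, ha, h4, hz]
    set w' := act (Q5 F) (X 5 1) w with hw'
    have e' : w' = mk5 (-cb2 w) 0 (-cb2 w) 0 (cb2 w) := by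
      rw [hw', act_X5]
      apply ext5 <;> simp [h1, h2, ha, hz]
    have h1' : ca1 w' = 0 := by rw [e']; rfl
    have h2' : cb1 w' = 0 := by rw [e']; rfl
    have ha' : ca2 w' ≠ 0 := by rw [e']; simpa using hb
    have hq' : cz w' ^ 2 + ca2 w' * cb2 w' = 0 := by
      rw [e']; simp only [cz_mk5, ca2_mk5, cb2_mk5]; ring
    refine ⟨X 2 (-(cz w') / ca2 w') * X 5 1, mul_mem (X_mem_EE _ _) (X_mem_EE _ _), ?_, ?_,
      ca2 w', ha', ?_⟩
    · rw [act_mul, red3_X5_ve1, red3_X2_ve1]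
    · rw [act_mul, red3_X5_vf1, red3_X2_vf1]
    · rw [act_mul]
      exact key w' h1' h2' hq' ha'
  · refine ⟨X 2 (-(cz w) / ca2 w), X_mem_EE _ _, red3_X2_ve1 _, red3_X2_vf1 _, ca2 w, ha, ?_⟩
    exact key w h1 h2 (by simpa using hq) ha

/-- second half: clear `v = g f₂`. -/
theorem red3_b (v : I5 → F) (a : F) (ha : a ≠ 0) (h1 : ca1 v = 0) (h2 : cb1 v = 0)
    (h3 : cb2 v = a⁻¹) (hQ : Q5 F v = 0) :
    act (Q5 F) (X 5 (cz v * a)) v = a⁻¹ • vf2 := by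
  have hq := hQ
  rw [Q5_apply, h1, h2, h3] at hq
  have hc : ca2 v = -(cz v ^ 2) * a := by
    field_simp at hq
    linear_combination hq
  rw [act_X5]
  apply ext5 <;> simp only [cz_mk5, ca1_mk5, ca2_mk5, cb1_mk5, cb2_mk5, cz_smul, ca1_smul,
    ca2_smul, cb1_smul, cb2_smul, vf2, mul_zero, mul_one, h1, h2, h3]
  · field_simp; ring
  · rw [hc]; field_simp; ring

/-- BO-RED3. -/
theorem red3 (g : OG F) (h1 : act (Q5 F) g ve1 = ve1) (h2 : act (Q5 F) g vf1 = vf1) :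
    ∃ h ∈ EE F, ∃ c : F, c ≠ 0 ∧ act (Q5 F) (h * g) ve1 = ve1 ∧ act (Q5 F) (h * g) vf1 = vf1 ∧
      act (Q5 F) (h * g) ve2 = c • ve2 ∧ act (Q5 F) (h * g) vf2 = c⁻¹ • vf2 := by
  -- `w = g e₂`
  have hw0 : act (Q5 F) g ve2 ≠ 0 := by
    intro h0
    have := act_eq_zero (Q5 F) g _ h0
    have := congrArg ca2 this
    simp [ve2] at this
  have hw1 : ca1 (act (Q5 F) g ve2) = 0 := by
    rw [← red3_polar_vf1, red3_polar_fix g _ _ h2, polar_Q5]; simp [ve2, vf1]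
  have hw2 : cb1 (act (Q5 F) g ve2) = 0 := by
    rw [← red3_polar_ve1, red3_polar_fix g _ _ h1, polar_Q5]; simp [ve2, ve1]
  have hwQ : Q5 F (act (Q5 F) g ve2) = 0 := by
    rw [Q_act, Q5_apply]; simp [ve2]
  obtain ⟨k, hk, k1, k2, a, ha, k3⟩ := red3_a _ hw0 hw1 hw2 hwQ
  -- `g' = k g`
  have g1 : act (Q5 F) (k * g) ve1 = ve1 := by rw [act_mul, h1, k1]
  have g2 : act (Q5 F) (k * g) vf1 = vf1 := by rw [act_mul, h2, k2]
  have g3 : act (Q5 F) (k * g) ve2 = a • ve2 := by rw [act_mul, k3]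
  -- `v = g' f₂`
  have hv1 : ca1 (act (Q5 F) (k * g) vf2) = 0 := by
    rw [← red3_polar_vf1, red3_polar_fix (k * g) _ _ g2, polar_Q5]; simp [vf2, vf1]
  have hv2 : cb1 (act (Q5 F) (k * g) vf2) = 0 := by
    rw [← red3_polar_ve1, red3_polar_fix (k * g) _ _ g1, polar_Q5]; simp [vf2, ve1]
  have hv3 : cb2 (act (Q5 F) (k * g) vf2) = a⁻¹ := by
    have e : polar ⇑(Q5 F) (act (Q5 F) (k * g) vf2) (act (Q5 F) (k * g) ve2) = 1 := by
      rw [polar_act, polar_Q5]; simp [vf2, ve2]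
    rw [g3, polar_smul_right, red3_polar_ve2, smul_eq_mul] at e
    field_simp
    rw [mul_comm]; exact e
  have hvQ : Q5 F (act (Q5 F) (k * g) vf2) = 0 := by
    rw [Q_act, Q5_apply]; simp [vf2]
  have hb := red3_b _ a ha hv1 hv2 hv3 hvQ
  set t := cz (act (Q5 F) (k * g) vf2) * a with ht
  refine ⟨X 5 t * k, mul_mem (X_mem_EE _ _) hk, a, ha, ?_, ?_, ?_, ?_⟩
  · rw [mul_assoc, act_mul, g1, red3_X5_ve1]
  · rw [mul_assoc, act_mul, g2, red3_X5_vf1]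
  · rw [mul_assoc, act_mul, g3, red3_X5_smul_ve2]
  · rw [mul_assoc, act_mul]; exact hb

end Cfsg.Agent.Lib.Helper37.B2O5
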