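import Mathlib
import Cfsg.Prelude.Def_ClassicalGeometry
import Cfsg.Prelude.Def_GeometricClasses
import Cfsg.Agent.Lib.Helper59.TqDefs
import Cfsg.Agent.Lib.Helper37.TqTWODERcore
import Cfsg.Agent.Lib.Helper8.OrthForms

/-! # TWODER-MP (helper64, for helper37's TQ-TWODER sub-hive of helper59's Tq hive):
the plane family of the plus model -/

set_option autoImplicit false

namespace Cfsg.Agent.Lib.Helper59.Tq

open Module

variable {F : Type*} [Field F]

/-- the vector `e_a + s f_a` -/
def twodermp_X (m : ℕ) (a : Fin m) (s : F) : Fin m ⊕ Fin m → F :=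
  Pi.single (Sum.inl a) 1 + s • Pi.single (Sum.inr a) 1

theorem twodermp_X_inl (m : ℕ) (a i : Fin m) (s : F) :
    twodermp_X m a s (Sum.inl i) = if i = a then 1 else 0 := by
  simp [twodermp_X, Pi.single_apply]

theorem twodermp_X_inr (m : ℕ) (a i : Fin m) (s : F) :
    twodermp_X m a s (Sum.inr i) = if i = a then s else 0 := by
  simp [twodermp_X, Pi.single_apply]

theorem twodermp_Q (m : ℕ) (a : Fin m) (s : F) :
    Cfsg.quadFormPlus m F (twodermp_X m a s) = s := by
  unfold Cfsg.quadFormPlus
  simp only [twodermp_X_inl, twodermp_X_inr]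
  simp

theorem twodermp_polar (m : ℕ) (a b : Fin m) (s s' : F) :
    QuadraticMap.polar (Cfsg.quadFormPlus m F) (twodermp_X m a s) (twodermp_X m b s')
      = if a = b then s + s' else 0 := by
  rw [Cfsg.Agent.Lib.Helper8.plusForm_coe, Cfsg.Agent.Lib.Helper8.polar_plusForm]
  simp only [twodermp_X_inl, twodermp_X_inr]
  by_cases h : a = b
  · subst h
    simp [Finset.sum_add_distrib, add_comm]
  · have h' : ¬ b = a := fun e => h e.symm
    simp [Finset.sum_add_distrib, h, h']

/-- the sign `±1` -/
def twodermp_sg (c : Bool) : F := if c then -1 else 1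

theorem twodermp_sg_ne (c : Bool) : (twodermp_sg c : F) ≠ 0 := by
  cases c <;> simp [twodermp_sg]

theorem twodermp_sg_add {c c' : Bool} (h : c ≠ c') : (twodermp_sg c + twodermp_sg c' : F) = 0 := by
  cases c <;> cases c' <;> simp_all [twodermp_sg]

theorem twodermp_single_inl (h2 : (2 : F) ≠ 0) (m : ℕ) (a : Fin m) :
    (Pi.single (Sum.inl a) 1 : Fin m ⊕ Fin m → F)
      = (2 : F)⁻¹ • (twodermp_X m a 1 + twodermp_X m a (-1)) := by
  funext c
  rcases c with i | i
  · simp only [Pi.add_apply, Pi.smul_apply, twodermp_X_inl, smul_eq_mul, Pi.single_apply,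
      Sum.inl.injEq]
    split_ifs
    · field_simp; norm_num
    · simp
  · simp only [Pi.add_apply, Pi.smul_apply, twodermp_X_inr, smul_eq_mul, Pi.single_apply]
    split_ifs <;> simp_all

theorem twodermp_single_inr (h2 : (2 : F) ≠ 0) (m : ℕ) (a : Fin m) :
    (Pi.single (Sum.inr a) 1 : Fin m ⊕ Fin m → F)
      = (2 : F)⁻¹ • (twodermp_X m a 1 - twodermp_X m a (-1)) := by
  funext c
  rcases c with i | i
  · simp only [Pi.sub_apply, Pi.smul_apply, twodermp_X_inl, smul_eq_mul, Pi.single_apply]
    split_ifs <;> simp_all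
  · simp only [Pi.sub_apply, Pi.smul_apply, twodermp_X_inr, smul_eq_mul, Pi.single_apply,
      Sum.inr.injEq]
    split_ifs
    · field_simp; norm_num
    · simp

/-- SUB-LEAF TWODER-MP -/
theorem twoder_model_plus (h2 : (2 : F) ≠ 0) (d' : ℕ) :
    ∃ v w : Fin d' × Bool → (Fin (2 * d') ⊕ Fin (2 * d') → F),
      twoder_Fam (Cfsg.quadFormPlus (2 * d') F) v w := by
  classical
  let e : Fin 2 × Fin d' ≃ Fin (2 * d') := finProdFinEquiv
  refine ⟨fun j => twodermp_X (2 * d') (e (0, j.1)) (twodermp_sg j.2),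
    fun j => twodermp_X (2 * d') (e (1, j.1)) (twodermp_sg j.2), ?_⟩
  have hX : ∀ (a : Fin (2 * d')) (c : Bool), twodermp_X (2 * d') a (twodermp_sg c : F) ∈
      Submodule.span F
        (Set.range (fun j : Fin d' × Bool => twodermp_X (2 * d') (e (0, j.1)) (twodermp_sg j.2 : F)) ∪
          Set.range (fun j : Fin d' × Bool =>
            twodermp_X (2 * d') (e (1, j.1)) (twodermp_sg j.2 : F))) := by
    intro a c
    obtain ⟨⟨k, t⟩, rfl⟩ := e.surjective a
    apply Submodule.subset_span
    fin_cases k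
    · exact Or.inl ⟨(t, c), rfl⟩
    · exact Or.inr ⟨(t, c), rfl⟩
  refine ⟨?_, ?_, ?_, ?_, ?_, ?_⟩
  · intro j
    rw [twodermp_Q, twodermp_Q]
  · intro j
    rw [twodermp_Q]
    exact twodermp_sg_ne _
  · intro j j'
    rw [twodermp_polar, if_neg]
    intro h
    have := e.injective h
    simp at this
  · intro j j' hjj
    rw [twodermp_polar]
    split_ifs with h
    · have h1 : j.1 = j'.1 := by
        have := e.injective h
        simpa using this
      have h2' : j.2 ≠ j'.2 := fun h3 => hjj (Prod.ext h1 h3)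
      exact twodermp_sg_add h2'
    · rfl
  · intro j j' hjj
    rw [twodermp_polar]
    split_ifs with h
    · have h1 : j.1 = j'.1 := by
        have := e.injective h
        simpa using this
      have h2' : j.2 ≠ j'.2 := fun h3 => hjj (Prod.ext h1 h3)
      exact twodermp_sg_add h2'
    · rfl
  · rw [eq_top_iff, ← (Pi.basisFun F (Fin (2 * d') ⊕ Fin (2 * d'))).span_eq, Submodule.span_le]
    rintro _ ⟨c, rfl⟩
    rw [Pi.basisFun_apply]
    have h1 := fun a => hX a false
    have h2' := fun a => hX a true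
    simp only [twodermp_sg, if_true, Bool.false_eq_true, if_false] at h1 h2'
    rcases c with a | a
    · rw [twodermp_single_inl h2]
      exact Submodule.smul_mem _ _ (Submodule.add_mem _ (h1 a) (h2' a))
    · rw [twodermp_single_inr h2]
      exact Submodule.smul_mem _ _ (Submodule.sub_mem _ (h1 a) (h2' a))

end Cfsg.Agent.Lib.Helper59.Tq
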