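import Mathlib
import Cfsg.Agent.Lib.Helper67.OgDefs
import Cfsg.Agent.Lib.Helper54.OgEE
import Cfsg.Agent.Lib.Helper97.OgLTV

/-!
# Og hive (helper67), leaf OG-CL : the closure lemma (`closure_long`, `closure_W`)
-/

set_option autoImplicit false
set_option linter.unusedSectionVars false
set_option linter.unusedVariables false

namespace Cfsg.Agent.Lib.Helper67.Og

open Matrix Module QuadraticMap
open Cfsg.Agent.Lib.Helper37 Cfsg.Agent.Lib.Helper8 Cfsg.Agent.Lib.Helper43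
open Cfsg.Agent.Lib.Helper37.OrthField
open scoped commutatorElement

section abstract

variable {ι : Type} [Fintype ι] [DecidableEq ι] {F : Type*} [Field F]
variable (Q : QuadraticForm F (ι → F)) (hQ : (QuadraticMap.polarBilin Q).Nondegenerate)
variable {k : ℕ} {e f : Fin k → ι → F}
variable {L : Matrix.SpecialLinearGroup (Fin k) F →* ↥(Cfsg.isometryGroup F ⇑Q)}

/-- the closure predicate: `y ⟂ u` and `Ee u y ∈ H` -/
def cl_P (H : Subgroup ↥(Cfsg.isometryGroup F ⇑Q)) (u y : ι → F) : Prop :=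
  polar ⇑Q u y = 0 ∧ Ee Q hQ u y ∈ H

theorem cl_polar_sum {κ : Type*} (s : Finset κ) (x : ι → F) (y : κ → ι → F) :
    polar ⇑Q x (∑ m ∈ s, y m) = ∑ m ∈ s, polar ⇑Q x (y m) := by
  have := map_sum (QuadraticMap.polarBilin Q x) y s
  exact this

theorem cl_zero (H : Subgroup ↥(Cfsg.isometryGroup F ⇑Q)) (u : ι → F) : cl_P Q hQ H u 0 := by
  refine ⟨by simp, ?_⟩
  rw [Ee_zero]
  exact H.one_mem

theorem cl_add {H : Subgroup ↥(Cfsg.isometryGroup F ⇑Q)} {u y z : ι → F} (hu : Q u = 0)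
    (hy : cl_P Q hQ H u y) (hz : cl_P Q hQ H u z) : cl_P Q hQ H u (y + z) := by
  refine ⟨by rw [polar_add_right, hy.1, hz.1, add_zero], ?_⟩
  rw [← Ee_mul Q hQ hu hy.1 hz.1]
  exact H.mul_mem hy.2 hz.2

theorem cl_neg {H : Subgroup ↥(Cfsg.isometryGroup F ⇑Q)} {u y : ι → F} (hu : Q u = 0)
    (hy : cl_P Q hQ H u y) : cl_P Q hQ H u (-y) := by
  refine ⟨by rw [polar_neg_right, hy.1, neg_zero], ?_⟩
  rw [← Ee_inv Q hQ hu hy.1]
  exact H.inv_mem hy.2

theorem cl_sub {H : Subgroup ↥(Cfsg.isometryGroup F ⇑Q)} {u y z : ι → F} (hu : Q u = 0)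
    (hy : cl_P Q hQ H u y) (hz : cl_P Q hQ H u z) : cl_P Q hQ H u (y - z) := by
  rw [sub_eq_add_neg]
  exact cl_add Q hQ hu hy (cl_neg Q hQ hu hz)

theorem cl_sum {H : Subgroup ↥(Cfsg.isometryGroup F ⇑Q)} {u : ι → F} (hu : Q u = 0)
    {κ : Type*} (s : Finset κ) (y : κ → ι → F) (hy : ∀ m ∈ s, cl_P Q hQ H u (y m)) :
    cl_P Q hQ H u (∑ m ∈ s, y m) :=
  Finset.sum_induction y (cl_P Q hQ H u) (fun _ _ ha hb => cl_add Q hQ hu ha hb)
    (cl_zero Q hQ H u) hy

theorem cl_f (D : LeviData Q k e f L) (H : Subgroup ↥(Cfsg.isometryGroup F ⇑Q))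
    (hLH : ∀ A, L A ∈ H) (i : Fin k) {m : Fin k} (hm : m ≠ i) (c : F) :
    cl_P Q hQ H (e i) (c • f m) := by
  refine ⟨by rw [polar_smul_right, D.fam.ef, if_neg (Ne.symm hm), smul_zero], ?_⟩
  have := levi_transvection Q hQ D (Ne.symm hm) (-c)
  rw [neg_neg] at this
  rw [← this]
  exact hLH _

theorem cl_ei (D : LeviData Q k e f L) (H : Subgroup ↥(Cfsg.isometryGroup F ⇑Q))
    (i : Fin k) (c : F) : cl_P Q hQ H (e i) (c • e i) := by
  refine ⟨by rw [polar_smul_right, D.fam.ee, smul_zero], ?_⟩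
  have h0 : polar ⇑Q (e i) 0 = 0 := by simp
  have := Ee_add_smul Q hQ (D.fam.qe i) h0 c
  rw [zero_add] at this
  rw [this, Ee_zero]
  exact H.one_mem

theorem cl_conj (H : Subgroup ↥(Cfsg.isometryGroup F ⇑Q)) (hLH : ∀ A, L A ∈ H) (i : Fin k)
    (A : Matrix.SpecialLinearGroup (Fin k) F) (hA : act Q (L A) (e i) = e i) {y : ι → F}
    (hy : cl_P Q hQ H (e i) y) : cl_P Q hQ H (e i) (act Q (L A) y) := by
  constructor
  · have := polar_act Q (L A) (e i) y
    rw [hA] at this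
    rw [this]
    exact hy.1
  · have := Ee_conj Q hQ (L A) (e i) y
    rw [hA] at this
    rw [← this]
    exact H.mul_mem (H.mul_mem (hLH A) hy.2) (H.inv_mem (hLH A))

include hQ in
theorem cl_act_tv (D : LeviData Q k e f L) {l j : Fin k} (hlj : l ≠ j) (c : F) (x : ι → F) :
    act Q (L (Matrix.SpecialLinearGroup.transvection hlj c)) x
      = x + (c * polar ⇑Q (f j) x) • e l - (c * polar ⇑Q (e l) x) • f j := by
  have huv : polar ⇑Q (e l) ((-c) • f j) = 0 := by
    rw [polar_smul_right, D.fam.ef, if_neg hlj, smul_zero]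
  rw [levi_transvection Q hQ D hlj c, act_Ee Q hQ (D.fam.qe l) huv]
  have hq : Q ((-c) • f j) = 0 := by rw [QuadraticMap.map_smul, D.fam.qf, smul_zero]
  rw [hq, zero_mul, zero_smul, sub_zero, polar_smul_left, smul_eq_mul]
  module

theorem cl_exists_third (hk : 3 ≤ k) (i j : Fin k) : ∃ l' : Fin k, l' ≠ i ∧ l' ≠ j := by
  have hcard : ({i, j} : Finset (Fin k)).card < (Finset.univ : Finset (Fin k)).card := by
    rw [Finset.card_univ, Fintype.card_fin]
    exact lt_of_le_of_lt Finset.card_le_two (by omega)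
  obtain ⟨l', -, hl'⟩ := Finset.exists_mem_notMem_of_card_lt_card hcard
  simp only [Finset.mem_insert, Finset.mem_singleton, not_or] at hl'
  exact ⟨l', hl'.1, hl'.2⟩

theorem cl_long_P (D : LeviData Q k e f L) (hk : 3 ≤ k)
    (H : Subgroup ↥(Cfsg.isometryGroup F ⇑Q)) (hLH : ∀ A, L A ∈ H) (i : Fin k) {v : ι → F}
    (hv : polar ⇑Q (e i) v = 0) (hmem : Ee Q hQ (e i) v ∈ H) (j : Fin k) (hji : j ≠ i)
    (hj : polar ⇑Q (f j) v ≠ 0) (l : Fin k) (c : F) : cl_P Q hQ H (e i) (c • e l) := by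
  have h := D.fam
  have hqi := h.qe i
  have hPv : cl_P Q hQ H (e i) v := ⟨hv, hmem⟩
  have hPsum : cl_P Q hQ H (e i) (∑ m, polar ⇑Q (e m) v • f m) := by
    apply cl_sum Q hQ hqi
    intro m _
    by_cases hm : m = i
    · rw [hm, hv, zero_smul]
      exact cl_zero Q hQ H (e i)
    · exact cl_f Q hQ D H hLH i hm _
  have hPv' : cl_P Q hQ H (e i) (v - ∑ m, polar ⇑Q (e m) v • f m) := cl_sub Q hQ hqi hPv hPsum
  have hev' : ∀ l, polar ⇑Q (e l) (v - ∑ m, polar ⇑Q (e m) v • f m) = 0 := by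
    intro l
    rw [polar_sub_right, cl_polar_sum]
    simp only [polar_smul_right, h.ef, smul_eq_mul]
    rw [Finset.sum_eq_single l]
    · simp
    · intro m _ hml
      rw [if_neg (Ne.symm hml), mul_zero]
    · intro hl
      exact absurd (Finset.mem_univ l) hl
  have hfv' : polar ⇑Q (f j) (v - ∑ m, polar ⇑Q (e m) v • f m) = polar ⇑Q (f j) v := by
    rw [polar_sub_right, cl_polar_sum]
    simp only [polar_smul_right, h.ff, smul_zero, Finset.sum_const_zero, sub_zero]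
  have hfe : ∀ a b : Fin k, polar ⇑Q (f a) (e b) = if b = a then 1 else 0 := by
    intro a b
    rw [polar_comm, h.ef]
  have key : ∀ (l : Fin k) (c : F), l ≠ j → cl_P Q hQ H (e i) (c • e l) := by
    intro l c hlj
    have hfix : act Q (L (Matrix.SpecialLinearGroup.transvection hlj
        (c / polar ⇑Q (f j) v))) (e i) = e i := by
      rw [cl_act_tv Q hQ D hlj, hfe, if_neg (Ne.symm hji), h.ee]
      simp
    have h1 := cl_conj Q hQ H hLH i _ hfix hPv'
    rw [cl_act_tv Q hQ D hlj, hfv', hev' l, mul_zero, zero_smul, sub_zero,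
      div_mul_cancel₀ _ hj] at h1
    have h2 := cl_sub Q hQ hqi h1 hPv'
    rwa [add_sub_cancel_left] at h2
  by_cases hlj : l = j
  · obtain ⟨l', hl'i, hl'j⟩ := cl_exists_third hk i j
    have h0 := key l' 1 hl'j
    rw [one_smul] at h0
    have hjl' : j ≠ l' := Ne.symm hl'j
    have hfix : act Q (L (Matrix.SpecialLinearGroup.transvection hjl' c)) (e i) = e i := by
      rw [cl_act_tv Q hQ D hjl', hfe, if_neg (Ne.symm hl'i), h.ee]
      simp
    have h1 := cl_conj Q hQ H hLH i _ hfix h0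
    rw [cl_act_tv Q hQ D hjl', hfe, if_pos rfl, h.ee, mul_one, mul_zero, zero_smul,
      sub_zero] at h1
    have h2 := cl_sub Q hQ hqi h1 h0
    rw [add_sub_cancel_left] at h2
    rw [hlj]
    exact h2
  · exact key l c hlj

/-- if `Ee (e i) v ∈ H` and `v` has a nonzero `e j`-coordinate (`j ≠ i`), then every
`Ee (e i) (c • e l)` is in `H` (conjugate by Levi transvections fixing `e i`) -/
theorem closure_long (D : LeviData Q k e f L) (hk : 3 ≤ k)
    (H : Subgroup ↥(Cfsg.isometryGroup F ⇑Q)) (hLH : ∀ A, L A ∈ H) (i : Fin k) {v : ι → F}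
    (hv : polar ⇑Q (e i) v = 0) (hmem : Ee Q hQ (e i) v ∈ H) (j : Fin k) (hji : j ≠ i)
    (hj : polar ⇑Q (f j) v ≠ 0) (l : Fin k) (c : F) : Ee Q hQ (e i) (c • e l) ∈ H :=
  (cl_long_P Q hQ D hk H hLH i hv hmem j hji hj l c).2

/-- if `Ee (e i) v ∈ H` then `Ee (e i) (Wpart v) ∈ H` -/
theorem closure_W (D : LeviData Q k e f L) (hk : 3 ≤ k)
    (H : Subgroup ↥(Cfsg.isometryGroup F ⇑Q)) (hLH : ∀ A, L A ∈ H) (i : Fin k) {v : ι → F}
    (hv : polar ⇑Q (e i) v = 0) (hmem : Ee Q hQ (e i) v ∈ H) :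
    Ee Q hQ (e i) (Wpart Q e f v) ∈ H := by
  have h := D.fam
  have hqi := h.qe i
  have hPv : cl_P Q hQ H (e i) v := ⟨hv, hmem⟩
  have hPsum : cl_P Q hQ H (e i)
      (∑ m, (polar ⇑Q (f m) v • e m + polar ⇑Q (e m) v • f m)) := by
    apply cl_sum Q hQ hqi
    intro m _
    apply cl_add Q hQ hqi
    · by_cases hm : m = i
      · rw [hm]
        exact cl_ei Q hQ D H i _
      · by_cases ha : polar ⇑Q (f m) v = 0
        · rw [ha, zero_smul]
          exact cl_zero Q hQ H (e i)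
        · exact cl_long_P Q hQ D hk H hLH i hv hmem m hm ha m _
    · by_cases hm : m = i
      · rw [hm, hv, zero_smul]
        exact cl_zero Q hQ H (e i)
      · exact cl_f Q hQ D H hLH i hm _
  exact (cl_sub Q hQ hqi hPv hPsum).2

end abstract

end Cfsg.Agent.Lib.Helper67.Og
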