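import Cfsg.Agent.Lib.Helper41.StnDefs
import Cfsg.Agent.Lib.Helper64.StnNpermDefs
import Cfsg.Agent.Lib.Helper13.Stn_WINV
import Cfsg.Agent.Lib.Helper13.Stn_HONE
import Cfsg.Agent.Lib.Helper95.Stn_WWW

/-!
# Stn hive (S2401), sub-hive NPERM: the three product rules NP-WSAME / NP-WSHIFT / NP-WDISJ
-/

set_option autoImplicit false

namespace Cfsg.Agent.Lib.Helper41.Stn

open Matrix

variable {K : Type*} [Field K] {n : ℕ}

/-- NP-WSAME -/
theorem ww_mul_ww_same {i j : Fin n} (hij : i ≠ j) {t : K} (ht : t ≠ 0) :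
    ww i j t * ww i j 1 ∈ HH K n := by
  have h1 : ww i j (1 : K) * ww i j 1 = (hh i j (-1 : K))⁻¹ := by
    have h2 : hh i j (-1 : K) = (ww i j (1 : K))⁻¹ * (ww i j 1)⁻¹ := by
      unfold hh
      rw [ww_inv]
    rw [h2, _root_.mul_inv_rev, inv_inv]
  have h3 : ww i j t * ww i j 1 = hh i j t * (hh i j (-1 : K))⁻¹ := by
    rw [ww_eq_hh_mul i j t, mul_assoc, h1]
  rw [h3]
  exact Subgroup.mul_mem _ (hh_mem_HH hij ht)
    (Subgroup.inv_mem _ (hh_mem_HH hij (neg_ne_zero.mpr one_ne_zero)))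

/-- NP-WSHIFT -/
theorem ww_mul_ww_shift (hn : 3 ≤ n) {k j m : Fin n} (hkj : k ≠ j) (hkm : k ≠ m) (hjm : j ≠ m) {t : K}
    (ht : t ≠ 0) : ww k j t * ww k m 1 = ww k m 1 * ww m j t := by
  have h := ww_conj_ww hn hkm (one_ne_zero : (1 : K) ≠ 0) (Ne.symm hjm) ht
  have e1 : Equiv.swap k m m = k := Equiv.swap_apply_right k m
  have e2 : Equiv.swap k m j = j := Equiv.swap_apply_of_ne_of_ne (Ne.symm hkj) hjm
  have e3 : mu k m (1 : K) m = 1 := by
    unfold mu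
    rw [if_neg (Ne.symm hkm), if_pos rfl]
  have e4 : mu k m (1 : K) j = 1 := by
    unfold mu
    rw [if_neg (Ne.symm hkj), if_neg hjm]
  rw [e1, e2, e3, e4, div_one, one_mul] at h
  rw [← h]
  group

/-- NP-WDISJ -/
theorem ww_mul_ww_disj (hn : 3 ≤ n) {i j k m : Fin n} (hij : i ≠ j) (hki : k ≠ i) (hkj : k ≠ j)
    (hkm : k ≠ m) {t : K} (ht : t ≠ 0) :
    ∃ h ∈ HH K n, ww i j t * ww k m 1 = h * ww k (Equiv.swap i j m) 1 * ww i j t := by
  have h := ww_conj_ww hn hij ht hkm (one_ne_zero : (1 : K) ≠ 0)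
  have e1 : Equiv.swap i j k = k := Equiv.swap_apply_of_ne_of_ne hki hkj
  have hmu : mu i j t m ≠ 0 := by
    unfold mu
    split_ifs
    · exact neg_ne_zero.mpr (inv_ne_zero ht)
    · exact ht
    · exact one_ne_zero
  have e3 : mu i j t k = 1 := by
    unfold mu
    rw [if_neg hki, if_neg hkj]
  rw [e1, e3, mul_one] at h
  have hc : (1 : K) / mu i j t m ≠ 0 := div_ne_zero one_ne_zero hmu
  have hkm' : k ≠ Equiv.swap i j m := by
    intro h'
    apply hkm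
    have := congrArg (Equiv.swap i j) h'
    rw [Equiv.swap_apply_self, e1] at this
    exact this
  refine ⟨hh k (Equiv.swap i j m) (1 / mu i j t m), hh_mem_HH hkm' hc, ?_⟩
  rw [← ww_eq_hh_mul, ← h]
  group

end Cfsg.Agent.Lib.Helper41.Stn
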