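import Cfsg.Agent.Lib.Helper41.StnDefs
import Cfsg.Agent.Lib.Helper64.StnNpermDefs
import Cfsg.Agent.Lib.Helper64.Stn_NPW
import Cfsg.Agent.Lib.Helper70.Stn_NPDIAGH
import Cfsg.Agent.Lib.Helper13.Stn_WINV
import Cfsg.Agent.Lib.Helper13.Stn_HONE
import Cfsg.Agent.Lib.Helper95.Stn_WSYMM
import Cfsg.Agent.Lib.Helper8.StnBru_NH
import Cfsg.Agent.Lib.Helper24.Stn_NPSTEPcore
import Cfsg.Agent.Lib.Helper44.Stn_NPMON
import Cfsg.Agent.Lib.Helper9.Stn_NPKILLcore

/-!
# Stn hive (S2401, helper41), sub-hive NPERM (helper64): assembly of `NN_diag_mem_HH`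

An element of `N` whose image in `SL_n` is diagonal lies in `H`.
Leaves: helper24 (STEP core), helper8 / helper88 (N normalises H), helper44 (MON), helper70 (DIAGH), helper9 (KILL core),
helper13 / helper95 / helper97 / helper43 (Layer A).
-/

set_option autoImplicit false

namespace Cfsg.Agent.Lib.Helper41.Stn

open Matrix

variable {K : Type*} [Field K] {n : ℕ}

theorem nperm_insert_decomp (hn : 3 ≤ n) {a : Fin n} {S : Finset (Fin n)} (ha : a ∉ S) {ν : St K n}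
    (hν : ν ∈ NS K (insert a S)) :
    ∃ h ∈ HH K n, ∃ ν' ∈ NS K S, ν = h * ν' ∨ ∃ m ∈ S, ν = h * ww a m 1 * ν' :=
  npstep_core (K := K) (n := n)
    (fun {ν h} hν hh => NN_conj_HH hn hν hh)
    (fun {i j} hij {t} ht => ww_mul_ww_same hij ht)
    (fun {k j m} hkj hkm hjm {t} ht => ww_mul_ww_shift hn hkj hkm hjm ht)
    (fun {i j k m} hij hki hkj hkm {t} ht => ww_mul_ww_disj hn hij hki hkj hkm ht)
    (fun i j t => ww_eq_hh_mul i j t)
    (fun i j t => ww_inv i j t)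
    (fun {i j} hij {t} ht => ww_symm hn hij ht)
    ha hν

theorem nperm_ne_zero_of_ww (φ : St K n →* SpecialLinearGroup (Fin n) K) (hφ : IsStd φ)
    {S : Finset (Fin n)} {a m : Fin n} (ha : a ∉ S) (hm : m ∈ S) {h ν' : St K n} (hh : h ∈ HH K n)
    (hν' : ν' ∈ NS K S) : (φ (h * ww a m 1 * ν')).1 m a ≠ 0 :=
  npkill_core φ hφ ha hm (NS_monomial φ hφ hν') (std_HH_diag φ hφ hh)

theorem NS_diag_mem_HH (hn : 3 ≤ n) (φ : St K n →* SpecialLinearGroup (Fin n) K) (hφ : IsStd φ)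
    (S : Finset (Fin n)) : ∀ ν : St K n, ν ∈ NS K S →
      (∀ i j : Fin n, i ≠ j → (φ ν).1 i j = 0) → ν ∈ HH K n := by
  induction S using Finset.induction_on with
  | empty =>
    intro ν hν _
    rw [NS_empty, Subgroup.mem_bot] at hν
    rw [hν]
    exact Subgroup.one_mem _
  | insert a S ha ih =>
    intro ν hν hd
    obtain ⟨h, hh, ν', hν', hcase⟩ := nperm_insert_decomp hn ha hν
    rcases hcase with rfl | ⟨m, hm, rfl⟩
    · exact Subgroup.mul_mem _ hh (ih ν' hν' (diag_of_HH_mul φ hφ hh hd))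
    · exfalso
      have hma : m ≠ a := fun h' => ha (h' ▸ hm)
      exact nperm_ne_zero_of_ww φ hφ ha hm hh hν' (hd m a hma)

/-- STN-NPERM (exact statement of tools/helper41/StnSkel.lean.txt). -/
theorem NN_diag_mem_HH (hn : 3 ≤ n) (φ : St K n →* SpecialLinearGroup (Fin n) K) (hφ : IsStd φ)
    {ν : St K n} (hν : ν ∈ NN K n) (hd : ∀ i j : Fin n, i ≠ j → (φ ν).1 i j = 0) : ν ∈ HH K n :=
  NS_diag_mem_HH hn φ hφ Finset.univ ν (by rw [NS_univ]; exact hν) hd

end Cfsg.Agent.Lib.Helper41.Stn
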