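import Mathlib
import Cfsg.Agent.S1390
import Cfsg.Agent.Lib.Helper48.NilHallA
import Cfsg.Agent.Lib.Helper19.BG14B

/-!
# S1538: for a maximal subgroup `M` of Type II the sets `A₁(M)`, `A(M)`, `A₀(M)` are TI-subsets
with set normalizer `M`

Inputs: S1390 (helper30: `A(M) \ A₁(M)` is TI), the TI-clause for `F(M)` in the definition of Type II,
conjugacy of Hall subgroups of the solvable group `M` (helper48), and elementary order arguments.
-/

set_option autoImplicit false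
set_option linter.unusedSectionVars false
set_option linter.unusedVariables false
set_option linter.style.haveILetI false

namespace Cfsg.Agent.Lib.Helper64.BG1538

open Subgroup Cfsg Cfsg.Agent.Lib.Helper33

universe u

variable {G : Type u} [Group G]

/-! ### generic lemmas on set normalizers -/

/-- an element mapping `S` into `S` under conjugation by itself and by its inverse normalizes `S` -/
theorem mem_normalizer_set {S : Set G} {g : G} (h1 : ∀ x ∈ S, g * x * g⁻¹ ∈ S)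
    (h2 : ∀ x ∈ S, g⁻¹ * x * g ∈ S) : g ∈ normalizer S := by
  rw [mem_set_normalizer_iff]
  intro x
  constructor
  · exact h1 x
  · intro hx
    have := h2 _ hx
    have e : g⁻¹ * (g * x * g⁻¹) * g = x := by group
    rwa [e] at this

/-- a subgroup all of whose elements conjugate the set `S` into itself normalizes `S` -/
theorem le_normalizer_set {M : Subgroup G} {S : Set G}
    (h : ∀ m ∈ M, ∀ x ∈ S, m * x * m⁻¹ ∈ S) : M ≤ normalizer S := by
  intro m hm
  apply mem_normalizer_set (h m hm)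
  intro x hx
  have := h m⁻¹ (M.inv_mem hm) x hx
  rwa [inv_inv] at this

/-- in a simple group, the set normalizer of an `M`-invariant subset of the maximal subgroup `M`
containing a non-identity element is `M` -/
theorem normalizer_set_le [IsSimpleGroup G] {M : Subgroup G} (hM : IsCoatom M) {S : Set G}
    (hSM : S ⊆ (M : Set G)) (hne : ∃ a ∈ S, a ≠ 1) (hinv : M ≤ normalizer S) :
    normalizer S ≤ M := by
  rcases eq_or_lt_of_le hinv with h | h
  · rw [← h]
  · exfalso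
    have htop : normalizer S = ⊤ := hM.2 _ h
    have hconj : Group.conjugatesOfSet S ⊆ S := by
      intro a ha
      obtain ⟨x, hx, hc⟩ := Group.mem_conjugatesOfSet_iff.mp ha
      obtain ⟨c, rfl⟩ := isConj_iff.mp hc
      have hc' : c ∈ normalizer S := by rw [htop]; exact mem_top c
      exact (mem_set_normalizer_iff.mp hc' x).mp hx
    have hle : normalClosure S ≤ M := by
      unfold normalClosure
      rw [closure_le]
      exact hconj.trans hSM
    obtain ⟨a, ha, ha1⟩ := hne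
    rcases (normalClosure_normal (s := S)).eq_bot_or_eq_top with h0 | h0
    · have : a ∈ normalClosure S := subset_normalClosure ha
      rw [h0, mem_bot] at this
      exact ha1 this
    · rw [h0] at hle
      exact hM.1 (top_le_iff.mp hle)

/-- from the strong TI-property (with respect to `M`) to `IsTISubset` and the normalizer -/
theorem ti_of_strong {M : Subgroup G} {S : Set G} (hinv : M ≤ normalizer S)
    (hne : ∃ a ∈ S, a ≠ 1)
    (hT : ∀ g, g ∉ M → ∀ x ∈ S, g * x * g⁻¹ ∈ S → x = 1) :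
    IsTISubset S ∧ normalizer S = M := by
  have hle : normalizer S ≤ M := by
    intro g hg
    by_contra hgM
    obtain ⟨a, ha, ha1⟩ := hne
    exact ha1 (hT g hgM a ha ((mem_set_normalizer_iff.mp hg a).mp ha))
  have heq : normalizer S = M := le_antisymm hle hinv
  refine ⟨?_, heq⟩
  intro g hg x hx hgx
  rw [heq] at hg
  exact hT g hg x hx hgx

variable [Finite G]

/-- `M` normalizes `M_F` -/
theorem le_normalizer_fittingHallOf (M : Subgroup G) :
    M ≤ normalizer ((fittingHallOf M : Subgroup G) : Set G) := by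
  apply Cfsg.Agent.Lib.Helper23.le_normalizer_of_conj_mem
  rintro m hm _ ⟨y, hy, rfl⟩
  have hn : (fittingHall ↥M).Normal := inferInstance
  exact ⟨(⟨m, hm⟩ : M) * y * (⟨m, hm⟩ : M)⁻¹, hn.conj_mem y hy ⟨m, hm⟩, by simp⟩

/-- `M_F` is a Hall subgroup of `M` -/
theorem hall_fittingHallOf (M : Subgroup G) :
    (Nat.card (fittingHallOf M)).Coprime ((fittingHallOf M).relIndex M) := by
  have h := Cfsg.Agent.Lib.Helper23.fittingHall_coprime ↥M
  rw [Cfsg.Agent.Lib.Helper23.card_fittingHallOf]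
  have : (fittingHallOf M).relIndex M = (fittingHall ↥M).index := by
    show (((fittingHall ↥M).map M.subtype).comap M.subtype).index = _
    rw [Subgroup.comap_map_eq_self_of_injective (Subgroup.subtype_injective M)]
  rwa [this]

/-- an element of `M` whose order divides `|N|`, `N` a normal Hall subgroup of `M`, lies in `N` -/
theorem mem_of_orderOf_dvd {N M : Subgroup G} (hNM : N ≤ M)
    (hMN : M ≤ normalizer (N : Set G)) (hcop : (Nat.card N).Coprime (N.relIndex M)) {y : G}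
    (hy : y ∈ M) (ho : orderOf y ∣ Nat.card N) : y ∈ N := by
  haveI : (N.subgroupOf M).Normal := (Subgroup.normal_subgroupOf_iff_le_normalizer hNM).mpr hMN
  have h1 : (⟨y, hy⟩ : M) ^ (N.subgroupOf M).index ∈ N.subgroupOf M :=
    Subgroup.pow_index_mem (N.subgroupOf M) ⟨y, hy⟩
  rw [Subgroup.mem_subgroupOf] at h1
  have h2 : y ^ N.relIndex M ∈ N := h1
  have hc : (N.relIndex M).Coprime (orderOf y) := (Nat.Coprime.coprime_dvd_left ho hcop).symm
  obtain ⟨m, hm⟩ := exists_pow_eq_self_of_coprime hc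
  rw [← hm]
  exact N.pow_mem h2 m

/-- `x ^ |D| = 1` for `x ∈ D` -/
theorem pow_card_of_mem {D : Subgroup G} {x : G} (hx : x ∈ D) : x ^ Nat.card D = 1 := by
  have h0 : (⟨x, hx⟩ : ↥D) ^ Nat.card D = 1 := pow_card_eq_one'
  have h00 : (((⟨x, hx⟩ : ↥D) ^ Nat.card D : ↥D) : G) = ((1 : ↥D) : G) := by rw [h0]
  rwa [Subgroup.coe_pow, Subgroup.coe_one] at h00

/-! ### type P data -/

/-- `W₂ ≤ M'` -/
theorem typeP_W₂_le {M W₁ U W₂ : Subgroup G} (hP : IsTypePWith M W₁ U W₂) : W₂ ≤ ⁅M, M⁆ :=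
  (hP.W₂_le.trans inf_le_left).trans hP.U_compl.1

/-- **order argument**: no conjugate of an element of `W₁W₂` outside `W₂` lies in `M'` -/
theorem typeP_conj_not_mem {M W₁ U W₂ : Subgroup G} (hP : IsTypePWith M W₁ U W₂) {w : G}
    (hw : w ∈ W₁ ⊔ W₂) (hw2 : w ∉ W₂) (g : G) : g * w * g⁻¹ ∉ ⁅M, M⁆ := by
  intro hgw
  have hcomm := hP.selfNormalizing.2.2.2.1
  have hW₁N : W₁ ≤ normalizer (W₂ : Set G) := by
    apply Cfsg.Agent.Lib.Helper23.le_normalizer_of_conj_mem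
    intro a ha b hb
    have : a * b * a⁻¹ = b := by rw [hcomm a ha b hb]; group
    rw [this]; exact hb
  obtain ⟨a, ha, b, hb, rfl⟩ := Cfsg.Agent.Lib.Helper19.BG14.mul_decomp hW₁N hw
  have ha1 : a ≠ 1 := by
    rintro rfl
    rw [one_mul] at hw2
    exact hw2 hb
  set n := Nat.card ↥⁅M, M⁆ with hn
  have hbn : b ^ n = 1 := pow_card_of_mem (typeP_W₂_le hP hb)
  have hwn : (a * b) ^ n = a ^ n := by
    rw [Commute.mul_pow (hcomm a ha b hb), hbn, mul_one]
  have hyn : (g * (a * b) * g⁻¹) ^ n = 1 := pow_card_of_mem hgw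
  rw [conj_pow, hwn] at hyn
  have han : a ^ n = 1 := by
    have : a ^ n = g⁻¹ * (g * a ^ n * g⁻¹) * g := by group
    rw [this, hyn]; group
  have h1 : orderOf a ∣ n := orderOf_dvd_of_pow_eq_one han
  have h2 : orderOf a ∣ Nat.card W₁ := by
    have h3 : orderOf (⟨a, ha⟩ : ↥W₁) ∣ Nat.card W₁ := orderOf_dvd_natCard _
    rwa [← Subgroup.orderOf_coe] at h3
  have hcop := Cfsg.Agent.Lib.Helper30.BG1390.typeP_coprime hP
  have h3 : orderOf a = 1 := Nat.eq_one_of_dvd_coprimes hcop h2 h1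
  exact ha1 (orderOf_eq_one_iff.mp h3)

/-- conjugacy of type P data in `M` -/
theorem typeP_conj (hG : IsMinSimpleOddOrder G) {M : Subgroup G} (hM : IsCoatom M)
    {W₁ U W₂ W₁' U' W₂' : Subgroup G} (hP : IsTypePWith M W₁ U W₂)
    (hP' : IsTypePWith M W₁' U' W₂') : ∃ c ∈ M, cj c W₁ = W₁' ∧ cj c W₂ = W₂' := by
  haveI : Group.IsSolvable ↥M := hG.2.2.2 M hM.1
  have e1 := Cfsg.Agent.Lib.Helper23.card_isComplIn hP.W₁_compl
  have e2 := Cfsg.Agent.Lib.Helper23.card_isComplIn hP'.W₁_compl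
  have hcard : Nat.card W₁ = Nat.card W₁' := by
    have hpos : 0 < Nat.card ↥⁅M, M⁆ := Nat.card_pos
    exact Nat.eq_of_mul_eq_mul_left hpos (e1.trans e2.symm)
  obtain ⟨c, hc, hcW⟩ := Cfsg.Agent.Lib.Helper48.NilHall.hall_conj_in M W₁' W₁ hP'.W₁_compl.2.1
    hP.W₁_compl.2.1 hcard hP'.W₁_hall
  refine ⟨c, hc, hcW, ?_⟩
  -- a non-identity element of `W₁`
  obtain ⟨⟨x, hx⟩, hx1⟩ := (Subgroup.ne_bot_iff_exists_ne_one).mp hP.W₁_ne
  have hx1' : x ≠ 1 := fun h => hx1 (Subtype.ext h)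
  have hcx : c * x * c⁻¹ ∈ W₁' := by rw [← hcW]; exact conj_mem_cj hx
  have hcx1 : c * x * c⁻¹ ≠ 1 := by
    intro h
    apply hx1'
    have : x = c⁻¹ * (c * x * c⁻¹) * c := by group
    rw [this, h]; group
  have hW₂ := hP.W₂_centralizer x hx hx1'
  have hW₂' := hP'.W₂_centralizer _ hcx hcx1
  have hMM' := Cfsg.Agent.Lib.Helper30.BG1390.c_le_normalizer_derived M
  ext y
  rw [mem_cj, ← hW₂, ← hW₂', Subgroup.mem_inf, Subgroup.mem_inf, mem_centralizer_singleton_iff,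
    mem_centralizer_singleton_iff]
  constructor
  · rintro ⟨h1, h2⟩
    refine ⟨?_, ?_⟩
    · have := (mem_normalizer_iff.mp (hMM' hc) _).mp h1
      have e : c * (c⁻¹ * y * c) * c⁻¹ = y := by group
      rwa [e] at this
    · calc y * (c * x * c⁻¹) = c * ((c⁻¹ * y * c) * x) * c⁻¹ := by group
        _ = c * (x * (c⁻¹ * y * c)) * c⁻¹ := by rw [h2]
        _ = c * x * c⁻¹ * y := by group
  · rintro ⟨h1, h2⟩
    refine ⟨?_, ?_⟩
    · have := (mem_normalizer_iff.mp (hMM' (M.inv_mem hc)) _).mp h1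
      rwa [inv_inv] at this
    · calc c⁻¹ * y * c * x = c⁻¹ * (y * (c * x * c⁻¹)) * c := by group
        _ = c⁻¹ * ((c * x * c⁻¹) * y) * c := by rw [h2]
        _ = x * (c⁻¹ * y * c) := by group

/-- `orderOf x ∣ |D|` for `x ∈ D` -/
theorem orderOf_dvd_card_of_mem {D : Subgroup G} {x : G} (hx : x ∈ D) :
    orderOf x ∣ Nat.card D := by
  have h3 : orderOf (⟨x, hx⟩ : ↥D) ∣ Nat.card D := orderOf_dvd_natCard _
  rwa [← Subgroup.orderOf_coe] at h3

omit [Finite G] in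
/-- the set normalizer of a singleton -/
theorem mem_normalizer_singleton {g w : G} :
    g ∈ normalizer ({w} : Set G) ↔ g * w * g⁻¹ = w := by
  rw [mem_set_normalizer_iff]
  constructor
  · intro h
    exact (h w).mp rfl
  · intro h z
    simp only [Set.mem_singleton_iff]
    constructor
    · rintro rfl
      exact h
    · intro hz
      calc z = g⁻¹ * (g * z * g⁻¹) * g := by group
        _ = g⁻¹ * (g * w * g⁻¹) * g := by rw [hz, h]
        _ = w := by group

omit [Finite G] in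
/-- conjugate of a cyclic subgroup -/
theorem cj_zpowers' (s g : G) : cj s (zpowers g) = zpowers (s * g * s⁻¹) := by
  rw [cj_def, MonoidHom.map_zpowers]
  rfl

/-- an element conjugating an element of `W₁W₂ \ (W₁ ∪ W₂)` to such an element for (possibly other)
type P data of `M` lies in `M` -/
theorem typeP_hat_conj (hG : IsMinSimpleOddOrder G) {M : Subgroup G} (hM : IsCoatom M)
    {W₁ U W₂ W₁' U' W₂' : Subgroup G} (hP : IsTypePWith M W₁ U W₂)
    (hP' : IsTypePWith M W₁' U' W₂') {w w' h : G} (hw : w ∈ W₁ ⊔ W₂) (hw1 : w ∉ W₁)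
    (hw2 : w ∉ W₂) (hw' : w' ∈ W₁' ⊔ W₂') (hw1' : w' ∉ W₁') (hw2' : w' ∉ W₂')
    (he : h * w * h⁻¹ = w') : h ∈ M := by
  obtain ⟨c, hc, hc1, hc2⟩ := typeP_conj hG hM hP hP'
  have hcW : cj c (W₁ ⊔ W₂) = W₁' ⊔ W₂' := by rw [cj_sup, hc1, hc2]
  have hN : normalizer ({w} : Set G) = W₁ ⊔ W₂ := by
    apply hP.selfNormalizing.2.2.2.2.2 {w} _ (Set.singleton_nonempty w)
    rw [Set.singleton_subset_iff]
    refine ⟨hw, ?_⟩
    rintro (h1 | h1)
    · exact hw1 h1
    · exact hw2 h1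
  have hN' : normalizer ({w'} : Set G) = W₁' ⊔ W₂' := by
    apply hP'.selfNormalizing.2.2.2.2.2 {w'} _ (Set.singleton_nonempty w')
    rw [Set.singleton_subset_iff]
    refine ⟨hw', ?_⟩
    rintro (h1 | h1)
    · exact hw1' h1
    · exact hw2' h1
  have hhW : cj h (W₁ ⊔ W₂) = W₁' ⊔ W₂' := by
    ext y
    rw [mem_cj, ← hN, ← hN', mem_normalizer_singleton, mem_normalizer_singleton, ← he]
    constructor
    · intro h1
      calc y * (h * w * h⁻¹) * y⁻¹ = h * ((h⁻¹ * y * h) * w * (h⁻¹ * y * h)⁻¹) * h⁻¹ := by group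
        _ = h * w * h⁻¹ := by rw [h1]
    · intro h1
      calc (h⁻¹ * y * h) * w * (h⁻¹ * y * h)⁻¹ = h⁻¹ * (y * (h * w * h⁻¹) * y⁻¹) * h := by group
        _ = w := by rw [h1]; group
  set h' := c⁻¹ * h with hh'
  have hh'W : cj h' (W₁ ⊔ W₂) = W₁ ⊔ W₂ := by
    rw [hh', cj_mul, hhW, ← hcW, cj_inv_cj]
  have hh'W' : cj h'⁻¹ (W₁ ⊔ W₂) = W₁ ⊔ W₂ := by
    conv_lhs => rw [← hh'W]
    rw [cj_inv_cj]
  obtain ⟨z, hz⟩ :=
    (Subgroup.isCyclic_iff_exists_zpowers_eq_top (W₁ ⊔ W₂)).mp hP.selfNormalizing.2.2.2.2.1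
  set X : Set G := {z | zpowers z = W₁ ⊔ W₂} with hX
  have hXsub : X ⊆ (↑(W₁ ⊔ W₂) : Set G) \ (↑W₁ ∪ ↑W₂) := by
    intro x hx
    have hx' : zpowers x = W₁ ⊔ W₂ := hx
    refine ⟨?_, ?_⟩
    · rw [SetLike.mem_coe, ← hx']
      exact mem_zpowers x
    · rintro (h1 | h1)
      · have h2 : W₁ ⊔ W₂ ≤ W₁ := by rw [← hx']; exact (zpowers_le).mpr h1
        have h3 : W₂ ≤ W₁ ⊓ W₂ := le_inf (le_sup_right.trans h2) le_rfl
        rw [hP.selfNormalizing.2.2.1] at h3
        exact hP.selfNormalizing.2.1 (le_bot_iff.mp h3)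
      · have h2 : W₁ ⊔ W₂ ≤ W₂ := by rw [← hx']; exact (zpowers_le).mpr h1
        have h3 : W₁ ≤ W₁ ⊓ W₂ := le_inf le_rfl (le_sup_left.trans h2)
        rw [hP.selfNormalizing.2.2.1] at h3
        exact hP.selfNormalizing.1 (le_bot_iff.mp h3)
  have hXne : X.Nonempty := ⟨z, hz⟩
  have hNX := hP.selfNormalizing.2.2.2.2.2 X hXsub hXne
  have hh'X : h' ∈ normalizer X := by
    apply mem_normalizer_set
    · intro x hx
      have hx' : zpowers x = W₁ ⊔ W₂ := hx
      show zpowers (h' * x * h'⁻¹) = W₁ ⊔ W₂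
      rw [← cj_zpowers', hx', hh'W]
    · intro x hx
      have hx' : zpowers x = W₁ ⊔ W₂ := hx
      show zpowers (h'⁻¹ * x * h') = W₁ ⊔ W₂
      have := cj_zpowers' h'⁻¹ x
      rw [inv_inv] at this
      rw [← this, hx', hh'W']
  rw [hNX] at hh'X
  have hWM : W₁ ⊔ W₂ ≤ M :=
    sup_le hP.W₁_compl.2.1 ((typeP_W₂_le hP).trans hP.W₁_compl.1)
  have e : h = c * h' := by rw [hh']; group
  rw [e]
  exact M.mul_mem hc (hWM hh'X)

/-- **S1538** -/
theorem main (hG : IsMinSimpleOddOrder G) {M : Subgroup G} (hM : IsCoatom M)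
    (hII : IsOfTypeII M) :
    (IsTISubset (typeA0 M) ∧ normalizer (typeA0 M) = M) ∧
      (IsTISubset (typeA M) ∧ normalizer (typeA M) = M) ∧
      (IsTISubset (typeA1 M) ∧ normalizer (typeA1 M) = M) := by
  have hII' := hII
  obtain ⟨W₁, U, W₂, hP, hU1, hW₁p, hTI, hUab, hNU, hF', hFF⟩ := hII
  haveI hsimple : IsSimpleGroup G := hG.2.1
  have hHM : fittingHallOf M ≤ M := Cfsg.Agent.Lib.Helper23.fittingHallOf_le M
  have hM'M : ⁅M, M⁆ ≤ M := hP.W₁_compl.1
  have hMH : M ≤ normalizer ((fittingHallOf M : Subgroup G) : Set G) :=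
    le_normalizer_fittingHallOf M
  have hMM' := Cfsg.Agent.Lib.Helper30.BG1390.c_le_normalizer_derived M
  have hHF : fittingHallOf M ≤ fittingOf M := le_sup_left.trans_eq hP.fitting_eq
  have hHM' : fittingHallOf M ≤ ⁅M, M⁆ := hP.U_compl.1
  have hnI : ¬ IsOfTypeI M :=
    fun hI => Cfsg.Agent.Lib.Helper30.BG1390.not_typeP_of_typeF hG hM hI.1 hP
  have key : ∀ {W₁'' U'' W₂'' : Subgroup G}, IsTypePWith M W₁'' U'' W₂'' →
      normalizer (U'' : Set G) ≤ M → False := by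
    intro W₁'' U'' W₂'' hP'' hN''
    have hcop'' :=
      Cfsg.Agent.Lib.Helper23.coprime_card_of_compl M U'' ⁅M, M⁆ hM'M hP''.U_compl
    obtain ⟨n', hn', he⟩ := Cfsg.Agent.Lib.Helper30.BG1390.c_compl_conj hG hM.1 hHM hM'M hMH
      hP''.U_compl hP.U_compl hcop''
    apply hNU
    rw [← he, normalizer_cj]
    calc cj n' (normalizer (U'' : Set G)) ≤ cj n' M := cj_mono hN''
      _ = M := cj_eq_self_of_mem (hHM hn')
  have hnot : ¬ (IsOfTypeIII M ∨ IsOfTypeIV M) := by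
    rintro (⟨W₁'', U'', W₂'', hP'', -, -, -, -, hN''⟩ | ⟨W₁'', U'', W₂'', hP'', -, -, -, -, hN''⟩)
    · exact key hP'' hN''
    · exact key hP'' hN''
  have hA : typeA M =
      {a | a ∈ ⁅M, M⁆ ∧ a ≠ 1 ∧ ∃ x ∈ fittingHallOf M, x ≠ 1 ∧ a * x = x * a} := by
    unfold typeA; rw [if_neg hnI]; unfold typeCore; rw [if_neg hnot]
  have hA1 : typeA1 M = (fittingHallOf M : Set G) \ {1} := by
    unfold typeA1 typeCore; rw [if_neg hnot]
  -- a non-identity element of `M_F`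
  have hH1 : fittingHallOf M ≠ ⊥ := by
    intro h
    apply hP.H_not_cyclic
    rw [h]
    infer_instance
  obtain ⟨⟨a₀, ha₀⟩, ha₀1⟩ := (Subgroup.ne_bot_iff_exists_ne_one).mp hH1
  have ha₀1' : a₀ ≠ 1 := fun h => ha₀1 (Subtype.ext h)
  have ha₀A1 : a₀ ∈ typeA1 M := by
    rw [hA1]; exact ⟨ha₀, ha₀1'⟩
  -- `A₁ ⊆ A ⊆ A₀`
  have hA1A : typeA1 M ⊆ typeA M := by
    intro x hx
    rw [hA1] at hx
    rw [hA]
    exact ⟨hHM' hx.1, hx.2, x, hx.1, hx.2, rfl⟩
  have hAA0 : typeA M ⊆ typeA0 M := by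
    intro x hx
    unfold typeA0
    exact Or.inl hx
  have hAM' : ∀ x ∈ typeA M, x ∈ ⁅M, M⁆ ∧ x ≠ 1 := by
    intro x hx
    rw [hA] at hx
    exact ⟨hx.1, hx.2.1⟩
  -- invariance under `M`
  have hinv1 : ∀ m ∈ M, ∀ x ∈ typeA1 M, m * x * m⁻¹ ∈ typeA1 M := by
    intro m hm x hx
    rw [hA1] at hx ⊢
    refine ⟨(mem_normalizer_iff.mp (hMH hm) x).mp hx.1, ?_⟩
    intro h
    apply hx.2
    have h' : m * x * m⁻¹ = 1 := h
    exact conj_eq_one_iff.mp h'
  have hinvA : ∀ m ∈ M, ∀ x ∈ typeA M, m * x * m⁻¹ ∈ typeA M := by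
    intro m hm x hx
    rw [hA] at hx ⊢
    obtain ⟨hx1, hx2, y, hy, hy1, hxy⟩ := hx
    refine ⟨(mem_normalizer_iff.mp (hMM' hm) x).mp hx1, ?_, m * y * m⁻¹,
      (mem_normalizer_iff.mp (hMH hm) y).mp hy, ?_, ?_⟩
    · intro h
      apply hx2
      have : x = m⁻¹ * (m * x * m⁻¹) * m := by group
      rw [this, h]; group
    · intro h
      apply hy1
      have : y = m⁻¹ * (m * y * m⁻¹) * m := by group
      rw [this, h]; group
    · calc m * x * m⁻¹ * (m * y * m⁻¹) = m * (x * y) * m⁻¹ := by group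
        _ = m * (y * x) * m⁻¹ := by rw [hxy]
        _ = m * y * m⁻¹ * (m * x * m⁻¹) := by group
  have hinvA0 : ∀ m ∈ M, ∀ x ∈ typeA0 M, m * x * m⁻¹ ∈ typeA0 M := by
    intro m hm x hx
    unfold typeA0 at hx ⊢
    rcases hx with hx | ⟨hn, W₁', U', W₂', hP', m', hm', w, hw, hw1, hw2, rfl⟩
    · exact Or.inl (hinvA m hm x hx)
    · refine Or.inr ⟨hn, W₁', U', W₂', hP', m * m', M.mul_mem hm hm', w, hw, hw1, hw2, ?_⟩
      group
  -- strong TI for `A₁`
  have hNF : normalizer ((fittingOf M : Subgroup G) : Set G) ≤ M :=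
    normalizer_set_le hM (Cfsg.Agent.Lib.Helper23.fittingOf_le M) ⟨a₀, hHF ha₀, ha₀1'⟩
      (Cfsg.Agent.Lib.Helper23.le_normalizer_fittingOf M)
  have hT1 : ∀ g, g ∉ M → ∀ x ∈ typeA1 M, g * x * g⁻¹ ∈ typeA1 M → x = 1 := by
    intro g hg x hx hgx
    rw [hA1] at hx hgx
    exact hTI g (fun h => hg (hNF h)) x (hHF hx.1) (hHF hgx.1)
  -- S1390
  have hTI2 : IsTISubset (typeA M \ typeA1 M) :=
    (Cfsg.Agent.S1390.result hG M hM U (Or.inr ⟨hII', hP.U_compl⟩)).2.2
  have hinvD : M ≤ normalizer (typeA M \ typeA1 M) := by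
    apply le_normalizer_set
    intro m hm x hx
    refine ⟨hinvA m hm x hx.1, fun h => hx.2 ?_⟩
    have := hinv1 m⁻¹ (M.inv_mem hm) _ h
    have e : m⁻¹ * (m * x * m⁻¹) * m⁻¹⁻¹ = x := by group
    rwa [e] at this
  -- a conjugate of an element of `A₁` lying in `M` lies in `A₁`
  have hmix : ∀ g : G, ∀ x ∈ typeA1 M, g * x * g⁻¹ ∈ M → g * x * g⁻¹ ∈ typeA1 M := by
    intro g x hx hgx
    rw [hA1] at hx ⊢
    have ho : orderOf (g * x * g⁻¹) = orderOf x := by
      have := (MulAut.conj g).orderOf_eq x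
      rwa [MulAut.conj_apply] at this
    refine ⟨mem_of_orderOf_dvd hHM hMH (hall_fittingHallOf M) hgx
      (ho ▸ orderOf_dvd_card_of_mem hx.1), ?_⟩
    intro h
    apply hx.2
    have h' : g * x * g⁻¹ = 1 := h
    exact conj_eq_one_iff.mp h'
  -- strong TI for `A`
  have hT2 : ∀ g, g ∉ M → ∀ x ∈ typeA M, g * x * g⁻¹ ∈ typeA M → x = 1 := by
    intro g hg x hx hgx
    by_cases hx1 : x ∈ typeA1 M
    · exact hT1 g hg x hx1 (hmix g x hx1 (hM'M (hAM' _ hgx).1))
    · by_cases hgx1 : g * x * g⁻¹ ∈ typeA1 M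
      · exfalso
        apply hx1
        have := hmix g⁻¹ _ hgx1 (by
          have e : g⁻¹ * (g * x * g⁻¹) * g⁻¹⁻¹ = x := by group
          rw [e]; exact hM'M (hAM' _ hx).1)
        have e : g⁻¹ * (g * x * g⁻¹) * g⁻¹⁻¹ = x := by group
        rwa [e] at this
      · have hND : normalizer (typeA M \ typeA1 M) ≤ M :=
          normalizer_set_le hM (fun y hy => hM'M (hAM' _ hy.1).1) ⟨x, ⟨hx, hx1⟩, (hAM' _ hx).2⟩
            hinvD
        exact hTI2 g (fun h => hg (hND h)) x ⟨hx, hx1⟩ ⟨hgx, hgx1⟩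
  -- strong TI for `A₀`
  have hT3 : ∀ g, g ∉ M → ∀ x ∈ typeA0 M, g * x * g⁻¹ ∈ typeA0 M → x = 1 := by
    intro g hg x hx hgx
    unfold typeA0 at hx hgx
    rcases hx with hx | ⟨-, W₁', U', W₂', hP', m, hm, w, hw, hw1, hw2, rfl⟩
    · rcases hgx with hgx | ⟨-, W₁'', U'', W₂'', hP'', m', hm', w', hw', hw1', hw2', he⟩
      · exact hT2 g hg x hx hgx
      · exfalso
        have h1 : (g⁻¹ * m') * w' * (g⁻¹ * m')⁻¹ = x := by
          have : x = g⁻¹ * (g * x * g⁻¹) * g := by group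
          rw [this, he]; group
        exact typeP_conj_not_mem hP'' hw' hw2' (g⁻¹ * m') (h1 ▸ (hAM' _ hx).1)
    · rcases hgx with hgx | ⟨-, W₁'', U'', W₂'', hP'', m', hm', w', hw', hw1', hw2', he⟩
      · exfalso
        have h1 : (g * m) * w * (g * m)⁻¹ = g * (m * w * m⁻¹) * g⁻¹ := by group
        exact typeP_conj_not_mem hP' hw hw2 (g * m) (h1 ▸ (hAM' _ hgx).1)
      · exfalso
        have h1 : (m'⁻¹ * g * m) * w * (m'⁻¹ * g * m)⁻¹ = w' := by
          have : (m'⁻¹ * g * m) * w * (m'⁻¹ * g * m)⁻¹ = m'⁻¹ * (g * (m * w * m⁻¹) * g⁻¹) * m' := by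
            group
          rw [this, he]; group
        have h2 := typeP_hat_conj hG hM hP' hP'' hw hw1 hw2 hw' hw1' hw2' h1
        apply hg
        have : g = m' * (m'⁻¹ * g * m) * m⁻¹ := by group
        rw [this]
        exact M.mul_mem (M.mul_mem hm' h2) (M.inv_mem hm)
  exact ⟨ti_of_strong (le_normalizer_set hinvA0) ⟨a₀, hAA0 (hA1A ha₀A1), ha₀1'⟩ hT3,
    ti_of_strong (le_normalizer_set hinvA) ⟨a₀, hA1A ha₀A1, ha₀1'⟩ hT2,
    ti_of_strong (le_normalizer_set hinv1) ⟨a₀, ha₀A1, ha₀1'⟩ hT1⟩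

end Cfsg.Agent.Lib.Helper64.BG1538
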