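import Mathlib
import Cfsg.Agent.Lib.Helper87.AltModel

/-!
# S5165 (helper87's AltF hive), leaf N1: a `p`-cycle in a `p`-group containing `Bs` lies in `Bs`
-/

set_option autoImplicit false
set_option linter.unusedVariables false
set_option linter.unusedSectionVars false

namespace Cfsg.Agent.Lib.Helper87.AltF

open Equiv Subgroup

theorem n1_cyc_pow_inl_self {I : Type} [DecidableEq I] (p a0 : ℕ) (k : I) (j : ℕ) (s : ZMod p) :
    ((cyc p a0 k) ^ j) (Sum.inl (k, s)) = Sum.inl (k, s + (j : ZMod p)) := by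
  induction j generalizing s with
  | zero => simp
  | succ n ih =>
    rw [pow_succ, Perm.mul_apply, cyc_inl_self, ih]
    push_cast
    congr 2
    ring

theorem n1_cyc_pow_inl_of_ne {I : Type} [DecidableEq I] (p a0 : ℕ) {j k : I} (h : j ≠ k) (n : ℕ)
    (s : ZMod p) : ((cyc p a0 k) ^ n) (Sum.inl (j, s)) = Sum.inl (j, s) := by
  induction n with
  | zero => simp
  | succ n ih => rw [pow_succ, Perm.mul_apply, cyc_inl_of_ne p a0 h, ih]

theorem n1_cyc_pow_inr {I : Type} [DecidableEq I] (p a0 : ℕ) (k : I) (n : ℕ) (x : Fin a0) :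
    ((cyc p a0 k) ^ n) (Sum.inr x : PtI I p a0) = Sum.inr x := by
  induction n with
  | zero => simp
  | succ n ih => rw [pow_succ, Perm.mul_apply, cyc_inr, ih]

theorem n1_cyc_mem_Bs {I : Type} [DecidableEq I] (p a0 : ℕ) (k : I) :
    cyc p a0 k ∈ Bs (I := I) p a0 :=
  Subgroup.subset_closure ⟨k, rfl⟩

/-- points moved by `cyc k` are in block `k` -/
theorem n1_cyc_moved {I : Type} [DecidableEq I] (p a0 : ℕ) (k : I) (z : PtI I p a0)
    (hz : cyc p a0 k z ≠ z) : ∃ s, z = Sum.inl (k, s) := by
  rcases z with ⟨j, s⟩ | x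
  · by_cases hjk : j = k
    · exact ⟨s, by rw [hjk]⟩
    · exact absurd (cyc_inl_of_ne p a0 hjk s) hz
  · exact absurd (cyc_inr p a0 k x) hz

/-- the block `k` as a set -/
def n1_block {I : Type} (p a0 : ℕ) (k : I) : Set (PtI I p a0) :=
  Set.range (fun s : ZMod p => (Sum.inl (k, s) : PtI I p a0))

theorem n1_block_ncard {I : Type} (p a0 : ℕ) [Fact p.Prime] (k : I) :
    (n1_block (I := I) p a0 k).ncard = p := by
  unfold n1_block
  rw [← Set.image_univ, Set.ncard_image_of_injective, Set.ncard_univ, Nat.card_zmod]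
  intro s t hst
  simpa using hst

/-- Step 1: the support of a `p`-cycle `c` which lies, together with `cyc k`, in a `p`-group and
meets block `k` is contained in block `k`. -/
theorem n1_support_subset_block {I : Type} [Fintype I] [DecidableEq I] (p a0 : ℕ) [Fact p.Prime]
    (P : Subgroup (Perm (PtI I p a0))) (hP : IsPGroup p P) (c : Perm (PtI I p a0))
    (hc : c.IsCycle) (hcs : c.support.card = p) (hcP : c ∈ P) (k : I) (hkP : cyc p a0 k ∈ P)
    (s : ZMod p) (hx : c (Sum.inl (k, s)) ≠ Sum.inl (k, s)) :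
    ∀ z, c z ≠ z → ∃ t, z = Sum.inl (k, t) := by
  classical
  have hp : p.Prime := Fact.out
  have : NeZero p := ⟨hp.ne_zero⟩
  by_contra hcon
  push Not at hcon
  obtain ⟨z, hz, hzk⟩ := hcon
  set x : PtI I p a0 := Sum.inl (k, s) with hxdef
  set Q : Subgroup (Perm (PtI I p a0)) := Subgroup.closure {cyc p a0 k, c} with hQ
  have hQP : Q ≤ P := by
    rw [hQ, Subgroup.closure_le]
    rintro y (rfl | rfl)
    · exact hkP
    · exact hcP
  have hQp : IsPGroup p Q := hP.to_le hQP
  have hkQ : cyc p a0 k ∈ Q := Subgroup.subset_closure (Or.inl rfl)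
  have hcQ : c ∈ Q := Subgroup.subset_closure (Or.inr rfl)
  set T : Set (PtI I p a0) := n1_block p a0 k ∪ (c.support : Set (PtI I p a0)) with hT
  -- invariance of `T`
  have hinv : ∀ q ∈ Q, ∀ y, y ∈ T ↔ q y ∈ T := by
    intro q hq
    induction hq using Subgroup.closure_induction with
    | mem g hg =>
      intro y
      rcases hg with rfl | rfl
      · by_cases hy : cyc p a0 k y = y
        · rw [hy]
        · obtain ⟨t, rfl⟩ := n1_cyc_moved p a0 k y hy
          rw [cyc_inl_self]
          constructor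
          · intro _
            exact Or.inl ⟨t + 1, rfl⟩
          · intro _
            exact Or.inl ⟨t, rfl⟩
      · by_cases hy : g y = y
        · rw [hy]
        · have h1 : y ∈ g.support := Perm.mem_support.mpr hy
          have h2 : g y ∈ g.support := Perm.apply_mem_support.mpr h1
          constructor
          · intro _
            exact Or.inr h2
          · intro _
            exact Or.inr h1
    | one => intro y; rfl
    | mul a b _ _ iha ihb =>
      intro y
      rw [Perm.mul_apply, ihb y, iha (b y)]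
    | inv a _ iha =>
      intro y
      have h0 : a (a⁻¹ y) = y := by simp
      rw [iha (a⁻¹ y), h0]
  have hxT : x ∈ T := Or.inl ⟨s, rfl⟩
  -- the orbit
  obtain ⟨n, hn⟩ := hQp.card_orbit x
  rw [Nat.card_coe_set_eq] at hn
  have hOT : MulAction.orbit Q x ⊆ T := by
    rintro _ ⟨q, rfl⟩
    exact (hinv q.1 q.2 x).mp hxT
  have hBO : insert z (n1_block p a0 k) ⊆ MulAction.orbit Q x := by
    intro y hy
    rcases hy with rfl | ⟨t, rfl⟩
    · obtain ⟨i, hi⟩ := hc.exists_pow_eq hx hz
      exact ⟨⟨c ^ i, Subgroup.pow_mem _ hcQ i⟩, hi⟩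
    · refine ⟨⟨(cyc p a0 k) ^ (t - s).val, Subgroup.pow_mem _ hkQ _⟩, ?_⟩
      show ((cyc p a0 k) ^ (t - s).val) x = _
      rw [hxdef, n1_cyc_pow_inl_self, ZMod.natCast_zmod_val]
      congr 2
      ring
  have hzB : z ∉ n1_block p a0 k := by
    rintro ⟨t, ht⟩
    exact hzk t ht.symm
  have h1 : p + 1 ≤ p ^ n := by
    have h0 : (insert z (n1_block p a0 k)).ncard = p + 1 := by
      rw [Set.ncard_insert_of_notMem hzB (Set.toFinite _), n1_block_ncard]
    rw [← hn, ← h0]
    exact Set.ncard_le_ncard hBO (Set.toFinite _)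
  have h2 : p ^ n + 1 ≤ p + p := by
    have h3 := Set.ncard_union_add_ncard_inter (n1_block p a0 k) (c.support : Set (PtI I p a0))
      (Set.toFinite _) (Set.toFinite _)
    rw [n1_block_ncard, Set.ncard_coe_finset, hcs, ← hT] at h3
    have h4 : 0 < (n1_block p a0 k ∩ (c.support : Set (PtI I p a0))).ncard := by
      rw [Set.ncard_pos (Set.toFinite _)]
      exact ⟨x, ⟨s, rfl⟩, Finset.mem_coe.mpr (Perm.mem_support.mpr hx)⟩
    have h5 : p ^ n ≤ T.ncard := by
      rw [← hn]
      exact Set.ncard_le_ncard hOT (Set.toFinite _)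
    omega
  -- arithmetic
  have hp2 : 2 ≤ p := hp.two_le
  rcases n with _ | _ | n
  · simp at h1
    omega
  · simp at h1
  · have : p * p ≤ p ^ (n + 1 + 1) := by
      calc p * p = p ^ 2 := (sq p).symm
        _ ≤ p ^ (n + 1 + 1) := Nat.pow_le_pow_right (by omega) (by omega)
    nlinarith

/-- [N1] a `p`-cycle lying in a `p`-group which contains `Bs` belongs to `Bs`. -/
theorem pcycle_mem_Bs {I : Type} [Fintype I] [DecidableEq I] (p a0 : ℕ) [Fact p.Prime]
    (ha0 : a0 ≤ 1) (P : Subgroup (Perm (PtI I p a0))) (hP : IsPGroup p P)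
    (hB : Bs (I := I) p a0 ≤ P) (c : Perm (PtI I p a0)) (hc : c.IsCycle)
    (hcs : c.support.card = p) (hcP : c ∈ P) : c ∈ Bs (I := I) p a0 := by
  classical
  have hp : p.Prime := Fact.out
  have : NeZero p := ⟨hp.ne_zero⟩
  have hsubs : Subsingleton (Fin a0) := by
    interval_cases a0 <;> infer_instance
  -- a block point in the support
  obtain ⟨k, s, hx⟩ : ∃ k s, c (Sum.inl (k, s)) ≠ Sum.inl (k, s) := by
    have h1 : 1 < c.support.card := by rw [hcs]; exact hp.one_lt
    obtain ⟨a, ha, b, hb, hab⟩ := Finset.one_lt_card.mp h1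
    rcases a with ⟨k, s⟩ | xa
    · exact ⟨k, s, Perm.mem_support.mp ha⟩
    · rcases b with ⟨k, s⟩ | xb
      · exact ⟨k, s, Perm.mem_support.mp hb⟩
      · exfalso
        apply hab
        rw [Subsingleton.elim xa xb]
  have hkB : cyc p a0 k ∈ Bs (I := I) p a0 := n1_cyc_mem_Bs p a0 k
  have hkP : cyc p a0 k ∈ P := hB hkB
  have hsub := n1_support_subset_block p a0 P hP c hc hcs hcP k hkP s hx
  obtain ⟨s1, hs1⟩ := hsub (c (Sum.inl (k, s))) (fun h => hx (c.injective h))
  set j : ℕ := (s - s1).val with hj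
  set g : Perm (PtI I p a0) := (cyc p a0 k) ^ j * c with hg
  have hgP : g ∈ P := Subgroup.mul_mem _ (Subgroup.pow_mem _ hkP _) hcP
  have hgx : g (Sum.inl (k, s)) = Sum.inl (k, s) := by
    rw [hg, Perm.mul_apply, hs1, n1_cyc_pow_inl_self, hj, ZMod.natCast_zmod_val]
    congr 2
    ring
  have hgout : ∀ z : PtI I p a0, (∀ t, z ≠ Sum.inl (k, t)) → g z = z := by
    intro z hz
    have hcz : c z = z := by
      by_contra h
      obtain ⟨t, ht⟩ := hsub z h
      exact hz t ht
    rw [hg, Perm.mul_apply, hcz]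
    rcases z with ⟨i, t⟩ | y
    · have hik : i ≠ k := by
        rintro rfl
        exact hz t rfl
      exact n1_cyc_pow_inl_of_ne p a0 hik _ _
    · exact n1_cyc_pow_inr p a0 k _ _
  have hg1 : g = 1 := by
    by_contra hne
    have hct : g.cycleType ≠ 0 := by rwa [Ne, Perm.cycleType_eq_zero]
    obtain ⟨n, hn⟩ := Multiset.exists_mem_of_ne_zero hct
    have h2 := Perm.two_le_of_mem_cycleType hn
    have hdvd := Perm.dvd_of_mem_cycleType hn
    obtain ⟨m, hm⟩ := (IsPGroup.iff_orderOf.mp hP) ⟨g, hgP⟩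
    rw [Subgroup.orderOf_mk] at hm
    rw [hm] at hdvd
    obtain ⟨i, _, hi⟩ := (Nat.dvd_prime_pow hp).mp hdvd
    have hpn : p ≤ n := by
      rcases i with _ | i
      · simp at hi
        omega
      · rw [hi, pow_succ]
        exact Nat.le_mul_of_pos_left _ (pow_pos hp.pos _)
    have hle : n ≤ g.support.card := by
      rw [← Perm.sum_cycleType]
      exact Multiset.le_sum_of_mem hn
    have hsc : g.support.card < p := by
      have hss : g.support ⊆
          (Finset.univ.image (fun t : ZMod p => (Sum.inl (k, t) : PtI I p a0))).erase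
            (Sum.inl (k, s)) := by
        intro z hz
        rw [Perm.mem_support] at hz
        rw [Finset.mem_erase]
        refine ⟨fun h => hz (h ▸ hgx), ?_⟩
        rw [Finset.mem_image]
        by_contra hcon
        apply hz
        apply hgout
        intro t ht
        exact hcon ⟨t, Finset.mem_univ _, ht.symm⟩
      have hcard := Finset.card_le_card hss
      rw [Finset.card_erase_of_mem (Finset.mem_image.mpr ⟨s, Finset.mem_univ _, rfl⟩),
        Finset.card_image_of_injective _ (fun a b hab => by simpa using hab),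
        Finset.card_univ, ZMod.card] at hcard
      have := hp.pos
      omega
    omega
  have hc' : c = ((cyc p a0 k) ^ j)⁻¹ := eq_inv_of_mul_eq_one_right hg1
  rw [hc']
  exact Subgroup.inv_mem _ (Subgroup.pow_mem _ hkB _)

end Cfsg.Agent.Lib.Helper87.AltF
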