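import Mathlib
import Cfsg.Agent.Lib.Helper87.AltModel
import Cfsg.Agent.Lib.Helper64.AltFN1

/-!
# S5165 (helper87's AltF hive), leaf N2: the normalizer of a `p`-group containing `Bs`
normalizes `Bs`
-/

set_option autoImplicit false
set_option linter.unusedVariables false
set_option linter.unusedSectionVars false

namespace Cfsg.Agent.Lib.Helper87.AltF

open Equiv Subgroup

theorem n2_cyc_apply_ne {I : Type} [DecidableEq I] (p a0 : ℕ) [Fact p.Prime] (k : I)
    (s : ZMod p) : cyc p a0 k (Sum.inl (k, s)) ≠ Sum.inl (k, s) := by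
  rw [cyc_inl_self]
  intro h
  have h1 : s + 1 = s := by simpa using h
  have h2 : (1 : ZMod p) = 0 := by simpa using h1
  exact one_ne_zero h2

theorem n2_cyc_isCycle {I : Type} [DecidableEq I] (p a0 : ℕ) [Fact p.Prime] (k : I) :
    (cyc p a0 k).IsCycle := by
  have hp : p.Prime := Fact.out
  have : NeZero p := ⟨hp.ne_zero⟩
  refine ⟨Sum.inl (k, 0), n2_cyc_apply_ne p a0 k 0, ?_⟩
  intro y hy
  obtain ⟨t, rfl⟩ := n1_cyc_moved p a0 k y hy
  refine ⟨(t.val : ℤ), ?_⟩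
  rw [zpow_natCast, n1_cyc_pow_inl_self, ZMod.natCast_zmod_val, zero_add]

theorem n2_cyc_pow_p {I : Type} [DecidableEq I] (p a0 : ℕ) [Fact p.Prime] (k : I) :
    (cyc p a0 k) ^ p = 1 := by
  ext z
  rcases z with ⟨j, s⟩ | x
  · by_cases hjk : j = k
    · subst hjk
      rw [n1_cyc_pow_inl_self, ZMod.natCast_self, add_zero]
      rfl
    · rw [n1_cyc_pow_inl_of_ne p a0 hjk]
      rfl
  · rw [n1_cyc_pow_inr]
    rfl

theorem n2_cyc_orderOf {I : Type} [DecidableEq I] (p a0 : ℕ) [Fact p.Prime] (k : I) :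
    orderOf (cyc p a0 k) = p := by
  apply orderOf_eq_prime (n2_cyc_pow_p p a0 k)
  intro h
  apply n2_cyc_apply_ne p a0 k 0
  rw [h]
  rfl

theorem n2_cyc_support_card {I : Type} [Fintype I] [DecidableEq I] (p a0 : ℕ) [Fact p.Prime]
    (k : I) : (cyc p a0 k).support.card = p := by
  rw [← (n2_cyc_isCycle p a0 k).orderOf, n2_cyc_orderOf]

/-- conjugation by `g` maps `Bs` into `Bs` -/
theorem n2_conj_mem {I : Type} [Fintype I] [DecidableEq I] (p a0 : ℕ) [Fact p.Prime]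
    (ha0 : a0 ≤ 1) (S0 : Subgroup (Perm (PtI I p a0))) (hS0 : IsPGroup p S0)
    (hB : Bs (I := I) p a0 ≤ S0) (g : Perm (PtI I p a0))
    (hg : ∀ x ∈ S0, g * x * g⁻¹ ∈ S0) :
    ∀ b ∈ Bs (I := I) p a0, g * b * g⁻¹ ∈ Bs (I := I) p a0 := by
  intro b hb
  unfold Bs at hb
  induction hb using Subgroup.closure_induction with
  | mem x hx =>
    obtain ⟨k, rfl⟩ := hx
    apply pcycle_mem_Bs p a0 ha0 S0 hS0 hB
    · exact (n2_cyc_isCycle p a0 k).conj
    · rw [Perm.card_support_conj, n2_cyc_support_card]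
    · exact hg _ (hB (n1_cyc_mem_Bs p a0 k))
  | one =>
    rw [mul_one, mul_inv_cancel]
    exact Subgroup.one_mem _
  | mul x y _ _ ihx ihy =>
    have : g * (x * y) * g⁻¹ = (g * x * g⁻¹) * (g * y * g⁻¹) := by group
    rw [this]
    exact Subgroup.mul_mem _ ihx ihy
  | inv x _ ihx =>
    have : g * x⁻¹ * g⁻¹ = (g * x * g⁻¹)⁻¹ := by group
    rw [this]
    exact Subgroup.inv_mem _ ihx

/-- [N2] whatever normalizes a `p`-group containing `Bs` normalizes `Bs`. -/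
theorem normalizer_le_of_Bs_le {I : Type} [Fintype I] [DecidableEq I] (p a0 : ℕ) [Fact p.Prime]
    (ha0 : a0 ≤ 1) (S0 : Subgroup (Perm (PtI I p a0))) (hS0 : IsPGroup p S0)
    (hB : Bs (I := I) p a0 ≤ S0) (g : Perm (PtI I p a0))
    (hg : ∀ x ∈ S0, g * x * g⁻¹ ∈ S0) :
    g ∈ normalizer ((Bs (I := I) p a0 : Subgroup (Perm (PtI I p a0))) : Set (Perm (PtI I p a0))) := by
  classical
  -- powers of `g` also normalize `S0`
  have hpow : ∀ n : ℕ, ∀ x ∈ S0, g ^ n * x * (g ^ n)⁻¹ ∈ S0 := by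
    intro n
    induction n with
    | zero =>
      intro x hx
      simpa using hx
    | succ n ih =>
      intro x hx
      have : g ^ (n + 1) * x * (g ^ (n + 1))⁻¹ = g * (g ^ n * x * (g ^ n)⁻¹) * g⁻¹ := by
        rw [pow_succ']
        group
      rw [this]
      exact hg _ (ih x hx)
  -- `g⁻¹` is a power of `g`
  obtain ⟨n, hn⟩ : ∃ n : ℕ, g⁻¹ = g ^ n := by
    have hpos : 0 < orderOf g := orderOf_pos g
    refine ⟨orderOf g - 1, ?_⟩
    symm
    apply eq_inv_of_mul_eq_one_left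
    rw [← pow_succ, Nat.sub_add_cancel hpos, pow_orderOf_eq_one]
  have hginv : ∀ x ∈ S0, g⁻¹ * x * g⁻¹⁻¹ ∈ S0 := by
    intro x hx
    rw [hn]
    exact hpow n x hx
  rw [Subgroup.mem_normalizer_iff]
  intro h
  constructor
  · intro hh
    exact n2_conj_mem p a0 ha0 S0 hS0 hB g hg h hh
  · intro hh
    have h1 := n2_conj_mem p a0 ha0 S0 hS0 hB g⁻¹ hginv _ hh
    have h2 : g⁻¹ * (g * h * g⁻¹) * g⁻¹⁻¹ = h := by group
    rw [h2] at h1
    exact h1

end Cfsg.Agent.Lib.Helper87.AltF
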