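import Mathlib
import Cfsg.Agent.Lib.Helper87.AltModel
import Cfsg.Agent.Lib.Helper64.AltFN2

/-!
# S5165 (helper87's AltF hive), leaf C3: `Bg` is self-centralizing in the alternating group
-/

set_option autoImplicit false
set_option linter.unusedVariables false
set_option linter.unusedSectionVars false

namespace Cfsg.Agent.Lib.Helper87.AltF

open Equiv Subgroup

/-- the element `(k, s) ↦ (k, s + μ k)` of the base group -/
def c3_T {I : Type} (p a0 : ℕ) (μ : I → ZMod p) : Perm (PtI I p a0) :=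
  blk p a0 1 (fun k => Equiv.addRight (μ k))

theorem c3_T_inl {I : Type} (p a0 : ℕ) (μ : I → ZMod p) (k : I) (s : ZMod p) :
    c3_T p a0 μ (Sum.inl (k, s)) = Sum.inl (k, s + μ k) := rfl

theorem c3_T_inr {I : Type} (p a0 : ℕ) (μ : I → ZMod p) (x : Fin a0) :
    c3_T (I := I) p a0 μ (Sum.inr x) = Sum.inr x := rfl

theorem c3_T_mem_aux {I : Type} [DecidableEq I] (p a0 : ℕ) [Fact p.Prime] (s : Finset I) :
    ∀ μ : I → ZMod p, (∀ k, k ∉ s → μ k = 0) → c3_T p a0 μ ∈ Bs (I := I) p a0 := by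
  have hp : p.Prime := Fact.out
  have : NeZero p := ⟨hp.ne_zero⟩
  induction s using Finset.induction_on with
  | empty =>
    intro μ hμ
    have : c3_T p a0 μ = 1 := by
      ext z
      rcases z with ⟨k, t⟩ | x
      · rw [c3_T_inl, hμ k (Finset.notMem_empty k), add_zero]
        rfl
      · rfl
    rw [this]
    exact Subgroup.one_mem _
  | insert a s has ih =>
    intro μ hμ
    have h1 : c3_T p a0 μ = c3_T p a0 (Function.update μ a 0) * (cyc p a0 a) ^ (μ a).val := by
      ext z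
      rcases z with ⟨k, t⟩ | x
      · rw [Perm.mul_apply]
        by_cases hka : k = a
        · subst hka
          rw [n1_cyc_pow_inl_self, c3_T_inl, c3_T_inl, Function.update_self, add_zero,
            ZMod.natCast_zmod_val]
        · rw [n1_cyc_pow_inl_of_ne p a0 hka, c3_T_inl, c3_T_inl, Function.update_of_ne hka]
      · rw [Perm.mul_apply, n1_cyc_pow_inr]
        rfl
    rw [h1]
    apply Subgroup.mul_mem
    · apply ih
      intro k hk
      by_cases hka : k = a
      · rw [hka, Function.update_self]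
      · rw [Function.update_of_ne hka]
        apply hμ
        rw [Finset.mem_insert]
        push Not
        exact ⟨hka, hk⟩
    · exact Subgroup.pow_mem _ (n1_cyc_mem_Bs p a0 a) _

theorem c3_T_mem {I : Type} [Fintype I] [DecidableEq I] (p a0 : ℕ) [Fact p.Prime]
    (μ : I → ZMod p) : c3_T p a0 μ ∈ Bs (I := I) p a0 :=
  c3_T_mem_aux p a0 Finset.univ μ (fun k hk => absurd (Finset.mem_univ k) hk)

/-- `cyc k * cyc l` is even -/
theorem c3_pair_mem_Bg {I : Type} [Fintype I] [DecidableEq I] (p a0 : ℕ) [Fact p.Prime]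
    (k l : I) : cyc p a0 k * cyc p a0 l ∈ Bg (I := I) p a0 := by
  unfold Bg
  rw [Subgroup.mem_inf]
  refine ⟨Subgroup.mul_mem _ (n1_cyc_mem_Bs p a0 k) (n1_cyc_mem_Bs p a0 l), ?_⟩
  rw [Perm.mem_alternatingGroup, Perm.sign_mul, (n2_cyc_isCycle p a0 k).sign,
    (n2_cyc_isCycle p a0 l).sign, n2_cyc_support_card, n2_cyc_support_card]
  exact Int.units_mul_self _

/-- points moved by `cyc k * cyc l` -/
theorem c3_pair_moved {I : Type} [DecidableEq I] (p a0 : ℕ) (k l : I) (w : PtI I p a0)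
    (h : (cyc p a0 k * cyc p a0 l) w ≠ w) : ∃ s, w = Sum.inl (k, s) ∨ w = Sum.inl (l, s) := by
  by_contra hcon
  push Not at hcon
  apply h
  have h1 : cyc p a0 l w = w := by
    by_contra h1
    obtain ⟨s, hs⟩ := n1_cyc_moved p a0 l w h1
    exact (hcon s).2 hs
  have h2 : cyc p a0 k w = w := by
    by_contra h2
    obtain ⟨s, hs⟩ := n1_cyc_moved p a0 k w h2
    exact (hcon s).1 hs
  rw [Perm.mul_apply, h1, h2]

theorem c3_pair_apply {I : Type} [DecidableEq I] (p a0 : ℕ) {k l : I} (hkl : k ≠ l) (s : ZMod p) :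
    (cyc p a0 k * cyc p a0 l) (Sum.inl (k, s)) = Sum.inl (k, s + 1) := by
  rw [Perm.mul_apply, cyc_inl_of_ne p a0 hkl, cyc_inl_self]

/-- an element commuting with all `cyc k * cyc l` preserves every block -/
theorem c3_preserves {I : Type} [Fintype I] [DecidableEq I] (p a0 : ℕ) [Fact p.Prime]
    (hI : 3 ≤ Fintype.card I) (g : Perm (PtI I p a0))
    (hg : ∀ k l : I, g * (cyc p a0 k * cyc p a0 l) = (cyc p a0 k * cyc p a0 l) * g)
    (k : I) (s : ZMod p) : ∃ s', g (Sum.inl (k, s)) = Sum.inl (k, s') := by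
  have hp : p.Prime := Fact.out
  -- two further indices
  obtain ⟨l, m, hlk, hmk, hlm⟩ : ∃ l m : I, l ≠ k ∧ m ≠ k ∧ l ≠ m := by
    have h1 : 1 < (Finset.univ.erase k).card := by
      rw [Finset.card_erase_of_mem (Finset.mem_univ k), Finset.card_univ]
      omega
    obtain ⟨l, hl, m, hm, hlm⟩ := Finset.one_lt_card.mp h1
    exact ⟨l, m, (Finset.mem_erase.mp hl).1, (Finset.mem_erase.mp hm).1, hlm⟩
  have key : ∀ l : I, l ≠ k → ∃ t, g (Sum.inl (k, s)) = Sum.inl (k, t) ∨
      g (Sum.inl (k, s)) = Sum.inl (l, t) := by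
    intro l hlk
    apply c3_pair_moved
    have h1 := congrArg (fun f : Perm (PtI I p a0) => f (Sum.inl (k, s))) (hg k l)
    simp only [Perm.mul_apply] at h1
    rw [Perm.mul_apply, ← h1]
    intro h2
    have h3 := g.injective h2
    rw [cyc_inl_of_ne p a0 hlk.symm] at h3
    exact n2_cyc_apply_ne p a0 k s h3
  obtain ⟨t1, h1 | h1⟩ := key l hlk
  · exact ⟨t1, h1⟩
  · obtain ⟨t2, h2 | h2⟩ := key m hmk
    · exact ⟨t2, h2⟩
    · exfalso
      rw [h1] at h2
      have : l = m := by
        have := Sum.inl.inj h2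
        exact (Prod.mk.inj this).1
      exact hlm this

/-- [C3] `Bg` is self-centralizing in the alternating group. -/
theorem Bg_centric {I : Type} [Fintype I] [DecidableEq I] (p a0 : ℕ) [Fact p.Prime]
    (hI : 3 ≤ Fintype.card I) (ha0 : a0 ≤ 1) :
    ∀ g ∈ alternatingGroup (PtI I p a0), (∀ x ∈ Bg (I := I) p a0, g * x = x * g) →
      g ∈ Bg (I := I) p a0 := by
  intro g hgA hgc
  have hp : p.Prime := Fact.out
  have : NeZero p := ⟨hp.ne_zero⟩
  have hsubs : Subsingleton (Fin a0) := by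
    interval_cases a0 <;> infer_instance
  have hg : ∀ k l : I, g * (cyc p a0 k * cyc p a0 l) = (cyc p a0 k * cyc p a0 l) * g :=
    fun k l => hgc _ (c3_pair_mem_Bg p a0 k l)
  have hg' : ∀ k l : I, g⁻¹ * (cyc p a0 k * cyc p a0 l) = (cyc p a0 k * cyc p a0 l) * g⁻¹ := by
    intro k l
    rw [inv_mul_eq_iff_eq_mul, ← mul_assoc, hg k l, mul_assoc, mul_inv_cancel, mul_one]
  choose φ hφ using c3_preserves p a0 hI g hg
  -- a second index
  have hex : ∀ k : I, ∃ l : I, l ≠ k := by
    intro k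
    have h1 : 0 < (Finset.univ.erase k).card := by
      rw [Finset.card_erase_of_mem (Finset.mem_univ k), Finset.card_univ]
      omega
    obtain ⟨l, hl⟩ := Finset.card_pos.mp h1
    exact ⟨l, (Finset.mem_erase.mp hl).1⟩
  have hstep : ∀ k s, φ k (s + 1) = φ k s + 1 := by
    intro k s
    obtain ⟨l, hlk⟩ := hex k
    have h1 := congrArg (fun f : Perm (PtI I p a0) => f (Sum.inl (k, s))) (hg k l)
    simp only [Perm.mul_apply] at h1
    rw [cyc_inl_of_ne p a0 hlk.symm, cyc_inl_self, hφ, hφ, cyc_inl_of_ne p a0 hlk.symm,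
      cyc_inl_self] at h1
    have := Sum.inl.inj h1
    exact (Prod.mk.inj this).2
  have hnat : ∀ k (n : ℕ), φ k (n : ZMod p) = φ k 0 + n := by
    intro k n
    induction n with
    | zero => simp
    | succ n ih =>
      push_cast
      rw [hstep, ih]
      ring
  have hall : ∀ k s, φ k s = s + φ k 0 := by
    intro k s
    have := hnat k s.val
    rw [ZMod.natCast_zmod_val] at this
    rw [this, add_comm]
  have hinr : ∀ x : Fin a0, g (Sum.inr x) = Sum.inr x := by
    intro x
    rcases hgx : g (Sum.inr x) with ⟨k, s⟩ | y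
    · exfalso
      obtain ⟨s', hs'⟩ := c3_preserves p a0 hI g⁻¹ hg' k s
      have h0 : g⁻¹ (g (Sum.inr x)) = Sum.inr x := by simp
      rw [← hgx, h0] at hs'
      exact Sum.inr_ne_inl hs'
    · rw [Subsingleton.elim y x]
  have hgT : g = c3_T p a0 (fun k => φ k 0) := by
    ext z
    rcases z with ⟨k, s⟩ | x
    · rw [hφ, c3_T_inl, hall]
    · rw [hinr, c3_T_inr]
  unfold Bg
  rw [Subgroup.mem_inf]
  refine ⟨?_, hgA⟩
  rw [hgT]
  exact c3_T_mem p a0 _

end Cfsg.Agent.Lib.Helper87.AltF
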