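import Cfsg.Agent.S1453
import Cfsg.Agent.Lib.Helper63.AbelianIndexP

set_option autoImplicit false
set_option linter.style.haveILetI false
set_option linter.unusedSectionVars false

/-!
# Group-theoretic lemmas for B&G Theorem 12.7

* `pow_mem_center_of_narrow`: in a `p`-group `R` of rank at least three with a maximal elementary
  abelian subgroup `E` of order `p ^ 2`, the `p`-th power of an element centralizing `E` is central
  as soon as it has order dividing `p` (a consequence of B&G 5.3 = `S1453`).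
-/

namespace Cfsg.Agent.Lib.Helper64.BG127

open Subgroup Cfsg

/-- Abstract form: `R` a `p`-group of rank `≥ 3`, `E` maximal elementary abelian of order `p ^ 2`,
`w` centralizes `E` and `(w ^ p) ^ p = 1`; then `w ^ p` is central. -/
theorem pow_mem_center_of_narrow {R : Type*} [Group R] [Finite R] (p : ℕ) [Fact p.Prime]
    (hp : p ≠ 2) (hR : IsPGroup p R) (hr : ¬ PRankLE p 2 R) (E : Subgroup R)
    (hE : IsElementaryAbelian p E) (hE2 : Nat.card E = p ^ 2)
    (hEmax : ∀ B : Subgroup R, IsElementaryAbelian p B → E ≤ B → B = E)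
    (w : R) (hw : ∀ e ∈ E, w * e = e * w) (hwp : (w ^ p) ^ p = 1) : w ^ p ∈ center R := by
  classical
  have hpp : p.Prime := Fact.out
  obtain ⟨hET, hZ1, -, hTchar, hTidx⟩ := Cfsg.Agent.S1453.result p hp hR hr E hE hE2 hEmax
  obtain ⟨T, hT⟩ : ∃ T : Subgroup R, T = centralizer ((closure
      {x : R | x ∈ Subgroup.upperCentralSeries R 2 ∧ x ^ p = 1} : Subgroup R) : Set R) := ⟨_, rfl⟩
  rw [← hT] at hET hTidx hTchar
  have hclZ : closure {x : R | x ∈ center R ∧ x ^ p = 1} = Cfsg.Agent.S1453.omegaCenter p R :=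
    Subgroup.closure_eq (Cfsg.Agent.S1453.omegaCenter p R)
  rw [hclZ] at hZ1
  obtain ⟨Z, hZdef⟩ : ∃ Z, Z = Cfsg.Agent.S1453.omegaCenter p R := ⟨_, rfl⟩
  rw [← hZdef] at hZ1
  have hZmem : ∀ x, x ∈ Z ↔ x ∈ center R ∧ x ^ p = 1 := by
    intro x; rw [hZdef]; rfl
  obtain ⟨hEc', hEe⟩ := hE
  have hEc : ∀ a ∈ E, ∀ b ∈ E, a * b = b * a := fun a ha b hb =>
    congrArg Subtype.val (hEc'.is_comm.comm ⟨a, ha⟩ ⟨b, hb⟩)
  have hEmax' : ∀ B : Subgroup R, (∀ a ∈ B, ∀ b ∈ B, a * b = b * a) → (∀ a ∈ B, a ^ p = 1) →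
      E ≤ B → B = E := by
    intro B hBc hBe hEB
    refine hEmax B ⟨⟨⟨?_⟩⟩, hBe⟩ hEB
    rintro ⟨a, ha⟩ ⟨b, hb⟩
    exact Subtype.ext (hBc a ha b hb)
  -- an element of order dividing `p` commuting with `E` lies in `E`
  have hkey : ∀ y : R, y ^ p = 1 → (∀ e ∈ E, e * y = y * e) → y ∈ E := by
    intro y hy hc
    obtain ⟨h1, h2⟩ := Cfsg.Agent.S1453.sup_elemAb (p := p) E (zpowers y) hEc hEe
      (by
        intro a ha b hb
        obtain ⟨k, rfl⟩ := mem_zpowers_iff.mp ha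
        obtain ⟨l, rfl⟩ := mem_zpowers_iff.mp hb
        exact zpow_mul_comm y k l)
      (by
        intro a ha
        obtain ⟨k, rfl⟩ := mem_zpowers_iff.mp ha
        rw [← zpow_natCast, ← zpow_mul, mul_comm, zpow_mul, zpow_natCast, hy, one_zpow])
      (by
        intro a ha b hb
        obtain ⟨k, rfl⟩ := mem_zpowers_iff.mp hb
        exact (show Commute a y from hc a ha).zpow_right k)
    have := hEmax' (E ⊔ zpowers y) h1 h2 le_sup_left
    rw [← this]
    exact le_sup_right (α := Subgroup R) (mem_zpowers y)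
  have hZT : Z ≤ T := by
    intro z hz
    rw [hT]
    exact Subgroup.center_le_centralizer _ ((hZmem z).mp hz).1
  have hZE : Z ≤ E := fun z hz => hkey z ((hZmem z).mp hz).2
    (fun e _ => (mem_center_iff.mp ((hZmem z).mp hz).1 e))
  obtain ⟨x, hxE, hxT⟩ := SetLike.not_le_iff_exists.mp hET
  have hx1 : x ≠ 1 := fun h => hxT (h ▸ T.one_mem)
  have hxp : x ^ p = 1 := hEe x hxE
  haveI hTn : T.Normal := Subgroup.normal_of_characteristic T
  have htop : T ⊔ zpowers x = ⊤ :=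
    Cfsg.Agent.Lib.Helper63.eq_top_of_index_prime hpp hTidx le_sup_left
      (le_sup_right (α := Subgroup R) (mem_zpowers x)) hxT
  have hdec : ∀ y : R, ∃ t ∈ T, ∃ u ∈ zpowers x, y = t * u := by
    intro y
    have hy : y ∈ ((T ⊔ zpowers x : Subgroup R) : Set R) := by rw [htop]; trivial
    rw [Subgroup.normal_mul] at hy
    obtain ⟨t, ht, u, hu, rfl⟩ := Set.mem_mul.mp hy
    exact ⟨t, ht, u, hu, rfl⟩
  -- `E ∩ T = Z`
  have hETZ : E ⊓ T = Z := by
    have hle : Z ≤ E ⊓ T := le_inf hZE hZT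
    have hd : Nat.card ↥(E ⊓ T : Subgroup R) ∣ p ^ 2 := by
      rw [← hE2]; exact Subgroup.card_dvd_of_le inf_le_left
    obtain ⟨j, hj, hcj⟩ := (Nat.dvd_prime_pow hpp).mp hd
    have hj2 : j ≠ 2 := by
      intro h
      have : E ⊓ T = E := Subgroup.eq_of_le_of_card_ge inf_le_left (by rw [hcj, h, hE2])
      have h' : x ∈ E ⊓ T := by rw [this]; exact hxE
      exact hxT h'.2
    have hj1 : 1 ≤ j := by
      by_contra h
      have h0 : j = 0 := by omega
      have hc1 : Nat.card ↥(E ⊓ T : Subgroup R) = 1 := by rw [hcj, h0, pow_zero]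
      have := Subgroup.card_le_of_le hle
      rw [hZ1, hc1] at this
      exact absurd this (by have := hpp.one_lt; omega)
    have hj' : j = 1 := by omega
    symm
    apply Subgroup.eq_of_le_of_card_ge hle
    rw [hcj, hj', pow_one, hZ1]
  have hcx : ∀ y : R, y ∈ centralizer ((zpowers x : Subgroup R) : Set R) ↔ x * y = y * x := by
    intro y
    rw [Subgroup.mem_centralizer_iff]
    constructor
    · intro h; exact h x (mem_zpowers x)
    · intro h u hu
      obtain ⟨k, rfl⟩ := mem_zpowers_iff.mp hu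
      exact ((show Commute x y from h).zpow_left k).eq
  -- elements of order `p` of `T ∩ C(x)` lie in `Z`
  have hR₁Z : ∀ a ∈ T, x * a = a * x → a ^ p = 1 → a ∈ Z := by
    intro a haT hax hap
    have haE : a ∈ E := by
      apply hkey a hap
      intro e he
      obtain ⟨t, ht, u, hu, rfl⟩ := hdec e
      have htE : t ∈ E := by
        have : t = (t * u) * u⁻¹ := by group
        rw [this]
        exact E.mul_mem he (E.inv_mem ((zpowers_le.mpr hxE) hu))
      have htZ : t ∈ Z := hETZ ▸ (⟨htE, ht⟩ : t ∈ E ⊓ T)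
      have h1 : a * t = t * a := mem_center_iff.mp ((hZmem t).mp htZ).1 a
      obtain ⟨k, rfl⟩ := mem_zpowers_iff.mp hu
      have h2 : x ^ k * a = a * x ^ k := ((show Commute x a from hax).zpow_left k).eq
      calc t * x ^ k * a = t * (x ^ k * a) := by group
        _ = t * (a * x ^ k) := by rw [h2]
        _ = (t * a) * x ^ k := by group
        _ = (a * t) * x ^ k := by rw [h1]
        _ = a * (t * x ^ k) := by group
    exact hETZ ▸ (⟨haE, haT⟩ : a ∈ E ⊓ T)
  -- decompose `w`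
  obtain ⟨t, ht, u, hu, hwtu⟩ := hdec w
  obtain ⟨k, rfl⟩ := mem_zpowers_iff.mp hu
  have hwx : Commute w x := hw x hxE
  have hux : Commute (x ^ k) x := (Commute.refl x).zpow_left k
  have htw : t = w * (x ^ k)⁻¹ := by rw [hwtu]; group
  have htx : Commute t x := by
    rw [htw]; exact hwx.mul_left hux.inv_left
  have htu : Commute t (x ^ k) := htx.zpow_right k
  have hup : (x ^ k) ^ p = 1 := by
    rw [← zpow_natCast, ← zpow_mul, mul_comm, zpow_mul, zpow_natCast, hxp, one_zpow]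
  have hwp' : w ^ p = t ^ p := by
    rw [hwtu, htu.mul_pow, hup, mul_one]
  rw [hwp']
  have htpT : t ^ p ∈ T := T.pow_mem ht p
  have htpx : x * t ^ p = t ^ p * x := ((htx.pow_left p).symm).eq
  have htpp : (t ^ p) ^ p = 1 := by rw [← hwp']; exact hwp
  exact ((hZmem _).mp (hR₁Z (t ^ p) htpT htpx htpp)).1

/-- Subgroup form of `pow_mem_center_of_narrow`. -/
theorem pow_comm_of_narrow {G : Type*} [Group G] [Finite G] {p : ℕ} [Fact p.Prime] (hp2 : p ≠ 2)
    {S A : Subgroup G} (hS : IsPGroup p S) (hr : ¬ PRankLE p 2 S) (hAS : A ≤ S)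
    (hA : IsElementaryAbelian p A) (hcard : Nat.card A = p ^ 2)
    (hmax : ∀ B : Subgroup G, IsElementaryAbelian p B → A ≤ B → B = A)
    {w : G} (hwS : w ∈ S) (hw : ∀ a ∈ A, w * a = a * w) (hwp : (w ^ p) ^ p = 1) :
    ∀ s ∈ S, s * w ^ p = w ^ p * s := by
  have hAc : ∀ a ∈ A, ∀ b ∈ A, a * b = b * a := fun a ha b hb =>
    congrArg Subtype.val (hA.1.is_comm.comm ⟨a, ha⟩ ⟨b, hb⟩)
  have hE : IsElementaryAbelian p (A.subgroupOf S) := by
    refine ⟨⟨⟨?_⟩⟩, ?_⟩
    · rintro ⟨a, ha⟩ ⟨b, hb⟩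
      apply Subtype.ext
      apply Subtype.ext
      exact hAc a.1 (mem_subgroupOf.mp ha) b.1 (mem_subgroupOf.mp hb)
    · intro a ha
      apply Subtype.ext
      simpa using hA.2 a.1 (mem_subgroupOf.mp ha)
  have hE2 : Nat.card (A.subgroupOf S) = p ^ 2 := by
    rw [Nat.card_congr (Subgroup.subgroupOfEquivOfLe hAS).toEquiv, hcard]
  have hEmax : ∀ B : Subgroup S, IsElementaryAbelian p B → A.subgroupOf S ≤ B →
      B = A.subgroupOf S := by
    intro B hB hEB
    have hBc : ∀ a ∈ B, ∀ b ∈ B, a * b = b * a := fun a ha b hb =>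
      congrArg Subtype.val (hB.1.is_comm.comm ⟨a, ha⟩ ⟨b, hb⟩)
    have hB' : IsElementaryAbelian p (B.map S.subtype) := by
      refine ⟨⟨⟨?_⟩⟩, ?_⟩
      · rintro ⟨_, a, ha, rfl⟩ ⟨_, b, hb, rfl⟩
        apply Subtype.ext
        simpa using congrArg Subtype.val (hBc a ha b hb)
      · rintro _ ⟨a, ha, rfl⟩
        simpa using congrArg Subtype.val (hB.2 a ha)
    have hAB : A ≤ B.map S.subtype := by
      intro a ha
      exact ⟨⟨a, hAS ha⟩, hEB (mem_subgroupOf.mpr ha), rfl⟩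
    have h := hmax _ hB' hAB
    apply le_antisymm _ hEB
    intro b hb
    rw [mem_subgroupOf, ← h]
    exact ⟨b, hb, rfl⟩
  have h := pow_mem_center_of_narrow p hp2 hS hr
    (A.subgroupOf S) hE hE2 hEmax ⟨w, hwS⟩
    (by
      rintro ⟨e, heS⟩ he
      apply Subtype.ext
      simpa using hw e (mem_subgroupOf.mp he))
    (by
      apply Subtype.ext
      simpa using hwp)
  intro s hs
  have := mem_center_iff.mp h ⟨s, hs⟩
  simpa using congrArg Subtype.val this

/-- In a `p`-group with the structure `P₁ ∘ P₂` of B&G 10.7(a) (= `S1412`), every `p`-th power of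
order dividing `p` is central. -/
theorem pow_comm_of_struct {G : Type*} [Group G] {p : ℕ} {S P₁ P₂ : Subgroup G}
    (hsup : P₁ ⊔ P₂ = S) (hcomm : ∀ a ∈ P₁, ∀ b ∈ P₂, a * b = b * a)
    (hexp : Monoid.exponent P₁ = p) (hcyc : IsCyclic P₂)
    (hcl : closure {x : G | x ∈ P₂ ∧ x ^ p = 1} = P₁ ⊓ centralizer (P₁ : Set G))
    {w : G} (hwS : w ∈ S) (hwp : (w ^ p) ^ p = 1) : ∀ s ∈ S, s * w ^ p = w ^ p * s := by
  have hnorm : P₂ ≤ normalizer (P₁ : Set G) := by
    refine le_trans ?_ (Subgroup.centralizer_le_normalizer (s := (P₁ : Set G)))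
    intro b hb
    rw [mem_centralizer_iff]
    intro a ha
    exact hcomm a ha b hb
  have hdec : ∀ s ∈ S, ∃ a ∈ P₁, ∃ b ∈ P₂, s = a * b := by
    intro s hs
    rw [← hsup, ← SetLike.mem_coe, Subgroup.coe_mul_of_right_le_normalizer_left P₁ P₂ hnorm] at hs
    obtain ⟨a, ha, b, hb, rfl⟩ := Set.mem_mul.mp hs
    exact ⟨a, ha, b, hb, rfl⟩
  obtain ⟨a, ha, b, hb, rfl⟩ := hdec w hwS
  have hap : a ^ p = 1 := by
    have := Monoid.pow_exponent_eq_one (⟨a, ha⟩ : P₁)
    rw [hexp] at this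
    simpa using congrArg Subtype.val this
  have hab : Commute a b := hcomm a ha b hb
  have hwp' : (a * b) ^ p = b ^ p := by rw [hab.mul_pow, hap, one_mul]
  rw [hwp'] at hwp ⊢
  have hbp : b ^ p ∈ P₁ ⊓ centralizer (P₁ : Set G) := by
    rw [← hcl]
    exact subset_closure ⟨P₂.pow_mem hb p, hwp⟩
  have hbc : ∀ a' ∈ P₁, a' * b ^ p = b ^ p * a' := fun a' ha' =>
    mem_centralizer_iff.mp hbp.2 a' ha'
  have hP₂c : ∀ x ∈ P₂, ∀ y ∈ P₂, x * y = y * x := by
    intro x hx y hy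
    obtain ⟨g, hg⟩ := hcyc.exists_generator
    obtain ⟨m, hm⟩ := Subgroup.mem_zpowers_iff.mp (hg ⟨x, hx⟩)
    obtain ⟨n, hn⟩ := Subgroup.mem_zpowers_iff.mp (hg ⟨y, hy⟩)
    have : (⟨x, hx⟩ : P₂) * ⟨y, hy⟩ = ⟨y, hy⟩ * ⟨x, hx⟩ := by
      rw [← hm, ← hn]; exact zpow_mul_comm g m n
    simpa using congrArg Subtype.val this
  intro s hs
  obtain ⟨a', ha', b', hb', rfl⟩ := hdec s hs
  have h1 : b' * b ^ p = b ^ p * b' := hP₂c b' hb' (b ^ p) (P₂.pow_mem hb p)
  calc a' * b' * b ^ p = a' * (b' * b ^ p) := by group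
    _ = a' * (b ^ p * b') := by rw [h1]
    _ = (a' * b ^ p) * b' := by group
    _ = (b ^ p * a') * b' := by rw [hbc a' ha']
    _ = b ^ p * (a' * b') := by group

end Cfsg.Agent.Lib.Helper64.BG127
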