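import Cfsg.Agent.Lib.Helper64.BG127a
import Cfsg.Agent.Lib.Helper64.BG1213
import Cfsg.Agent.Lib.Helper47.BG11a
import Cfsg.Agent.Lib.Helper51.NPC
import Cfsg.Agent.Lib.Helper64.SylowMax

set_option autoImplicit false
set_option linter.style.haveILetI false
set_option linter.unusedSectionVars false

/-!
# B&G Theorem 12.7 (nonabelian Sylow `p`-subgroups, `p ∈ τ₂(M)`), part B: the outer element

`P` is an abelian Sylow `p`-subgroup of `M` with `Ω₁(P) = A ≅ E_{p²}` a maximal elementary abelian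
subgroup of `G`, `C_G(A) ≤ M`, and `P ≤ S` for a nonabelian `p`-subgroup `S`.
-/

namespace Cfsg.Agent.Lib.Helper64.BG127

open Subgroup Cfsg Cfsg.Agent.Lib.Helper33 Cfsg.Agent.Lib.Helper23 Cfsg.Agent.Lib.Helper24
open Cfsg.Agent.Lib.Helper47.BG11

universe u

variable {G : Type u} [Group G] [Finite G]

/-- The outer element `y ∈ N_S(P) ∖ P` and the central element `z ∈ Ω₁(Z(S)) ≤ A`. -/
theorem exists_outer {p : ℕ} [Fact p.Prime] {M A P S : Subgroup G}
    (hA : IsElementaryAbelian p A)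
    (hmaxA : ∀ B : Subgroup G, IsElementaryAbelian p B → A ≤ B → B = A)
    (hPM : P ≤ M) (hPi : ¬ p ∣ P.relIndex M) (hAP : A ≤ P)
    (hPc : ∀ a ∈ P, ∀ b ∈ P, a * b = b * a) (hΩ : ∀ x ∈ P, x ^ p = 1 → x ∈ A)
    (hSp : IsPGroup p S) (hPS : P ≤ S) (hSna : ¬ ∀ a ∈ S, ∀ b ∈ S, a * b = b * a) :
    (∀ g ∈ S, g ∈ M → g ∈ P) ∧
    (∃ z ∈ A, z ≠ 1 ∧ ∀ s ∈ S, s * z = z * s) ∧
    ∃ y ∈ S, y ∉ M ∧ (∀ a ∈ A, y * a * y⁻¹ ∈ A) ∧ ∃ n : ℕ, y ^ (p ^ n) = 1 := by
  have hpp : p.Prime := Fact.out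
  -- `S ∩ M = P`
  have hSM : ∀ g ∈ S, g ∈ M → g ∈ P := by
    intro g hgS hgM
    have h := sylowIn_max (p := p) (V := M) (S := P) (S' := S ⊓ M) hPi (le_inf hPS hPM)
      inf_le_right (hSp.to_le inf_le_left)
    rw [← h]
    exact ⟨hgS, hgM⟩
  refine ⟨hSM, ?_, ?_⟩
  · -- the central element
    haveI : Nontrivial ↥S := by
      by_contra hnt
      rw [not_nontrivial_iff_subsingleton] at hnt
      apply hSna
      intro a ha b hb
      have h1 : (⟨a, ha⟩ : S) = 1 := Subsingleton.elim _ _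
      have h2 : (⟨b, hb⟩ : S) = 1 := Subsingleton.elim _ _
      have ha1 : a = 1 := by simpa using congrArg Subtype.val h1
      have hb1 : b = 1 := by simpa using congrArg Subtype.val h2
      rw [ha1, hb1]
    haveI : Nontrivial (center ↥S) := hSp.center_nontrivial
    have hZp : IsPGroup p (center ↥S) := hSp.to_subgroup _
    obtain ⟨n, hn⟩ := IsPGroup.iff_card.mp hZp
    have hn0 : n ≠ 0 := by
      rintro rfl
      rw [pow_zero] at hn
      have := (Nat.card_eq_one_iff_unique.mp hn).1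
      exact not_subsingleton (center ↥S) this
    have hdvd : p ∣ Nat.card (center ↥S) := by
      rw [hn]; exact dvd_pow_self p hn0
    obtain ⟨c, hc⟩ := exists_prime_orderOf_dvd_card' p hdvd
    have hc1 : c ≠ 1 := by
      intro h; rw [h, orderOf_one] at hc; exact hpp.one_lt.ne hc
    have hcp : c ^ p = 1 := by rw [← hc]; exact pow_orderOf_eq_one c
    obtain ⟨z, hz⟩ : ∃ z : G, z = ((c : ↥S) : G) := ⟨_, rfl⟩
    have hzS : z ∈ S := hz ▸ (c : ↥S).2
    have hzc : ∀ s ∈ S, s * z = z * s := by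
      intro s hs
      have := mem_center_iff.mp c.2 ⟨s, hs⟩
      rw [hz]
      simpa using congrArg Subtype.val this
    have hz1 : z ≠ 1 := by
      intro h
      apply hc1
      apply Subtype.ext
      apply Subtype.ext
      rw [hz] at h
      simpa using h
    have hzp : z ^ p = 1 := by
      have := congrArg (fun x : center ↥S => ((x : ↥S) : G)) hcp
      rw [hz]
      simpa using this
    have hzA : z ∈ A := by
      apply mem_of_maximal hA hmaxA _ hzp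
      rw [mem_centralizer_iff]
      intro a ha
      exact hzc a (hPS (hAP ha))
    exact ⟨z, hzA, hz1, hzc⟩
  · -- the outer element
    have hne : P ≠ S := by
      intro h
      apply hSna
      intro a ha b hb
      exact hPc a (h ▸ ha) b (h ▸ hb)
    have hSnil : Group.IsNilpotent ↥S := hSp.isNilpotent
    obtain ⟨y, hyS, hyN, hyP⟩ := exists_normalizing_of_ne_nilpotent hSnil hPS hne
    refine ⟨y, hyS, fun hyM => hyP (hSM y hyS hyM), ?_, ?_⟩
    · intro a ha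
      have h1 : y * a * y⁻¹ ∈ P := (mem_normalizer_iff.mp hyN a).mp (hAP ha)
      apply hΩ _ h1
      rw [conj_pow, hA.2 a ha, mul_one, mul_inv_cancel]
    · obtain ⟨n, hn⟩ := hSp ⟨y, hyS⟩
      exact ⟨n, by simpa using congrArg Subtype.val hn⟩

/-- `M` is the unique maximal subgroup containing `C_G(X)`. -/
def Good (M X : Subgroup G) : Prop :=
  centralizer (X : Set G) ≤ M ∧
    ∀ L : Subgroup G, IsCoatom L → centralizer (X : Set G) ≤ L → L = M

/-- The statement of the transvection lemma (`Helper77.LemT.exists_pow_conj_eq`). -/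
def LemTStmt (G : Type u) [Group G] : Prop :=
  ∀ {p : ℕ} [Fact p.Prime] {A X₁ X₂ : Subgroup G} {y z : G},
    (∀ a ∈ A, ∀ b ∈ A, a * b = b * a) → (∀ a ∈ A, a ^ p = 1) → Nat.card A = p ^ 2 →
    (∀ a ∈ A, y * a * y⁻¹ ∈ A) → (∃ n : ℕ, y ^ (p ^ n) = 1) →
    z ∈ A → z ≠ 1 → y * z = z * y →
    X₁ ≤ A → X₂ ≤ A → Nat.card X₁ = p → Nat.card X₂ = p →
    (¬ ∀ x ∈ X₁, y * x = x * y) → (¬ ∀ x ∈ X₂, y * x = x * y) →
    ∃ k : ℕ, X₂ = X₁.map (MulAut.conj (y ^ k)).toMonoidHom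

/-- Uniqueness of the good point of `A`. -/
theorem good_unique (hG : IsMinSimpleOddOrder G) (hT : LemTStmt G) {p : ℕ} [Fact p.Prime]
    {M A P S : Subgroup G} (hM : IsCoatom M) (hA : IsElementaryAbelian p A)
    (hcard : Nat.card A = p ^ 2) (hAM : A ≤ M) (hAP : A ≤ P)
    (hPc : ∀ a ∈ P, ∀ b ∈ P, a * b = b * a) (hSM : ∀ g ∈ S, g ∈ M → g ∈ P)
    {y z : G} (hyS : y ∈ S) (hyM : y ∉ M) (hyA : ∀ a ∈ A, y * a * y⁻¹ ∈ A)
    (hy : ∃ n : ℕ, y ^ (p ^ n) = 1) (hzA : z ∈ A) (hz1 : z ≠ 1) (hzS : ∀ s ∈ S, s * z = z * s)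
    {X₁ X₂ : Subgroup G} (hX₁ : X₁ ≤ A) (hX₂ : X₂ ≤ A) (h1 : Nat.card X₁ = p)
    (h2 : Nat.card X₂ = p) (hg1 : Good M X₁) (hc2 : centralizer (X₂ : Set G) ≤ M) :
    X₁ = X₂ := by
  have hAc : ∀ a ∈ A, ∀ b ∈ A, a * b = b * a := fun a ha b hb =>
    congrArg Subtype.val (hA.1.is_comm.comm ⟨a, ha⟩ ⟨b, hb⟩)
  have hn : ∀ X : Subgroup G, centralizer (X : Set G) ≤ M → ¬ ∀ x ∈ X, y * x = x * y := by
    intro X hX h
    apply hyM
    apply hX
    rw [mem_centralizer_iff]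
    intro x hx
    exact (h x hx).symm
  obtain ⟨k, hk⟩ := hT hAc hA.2 hcard hyA hy hzA hz1 (hzS y hyS) hX₁ hX₂ h1 h2
    (hn X₁ hg1.1) (hn X₂ hc2)
  rw [← cj_def] at hk
  by_cases hkM : y ^ k ∈ M
  · have hkP : y ^ k ∈ P := hSM _ (S.pow_mem hyS k) hkM
    have hkN : y ^ k ∈ normalizer (X₁ : Set G) := by
      apply Subgroup.centralizer_le_normalizer
      rw [mem_centralizer_iff]
      intro x hx
      exact hPc x (hAP (hX₁ hx)) _ hkP
    rw [hk, cj_eq_self_iff.mpr hkN]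
  · exfalso
    apply hkM
    have hcen : centralizer (X₂ : Set G) = cj (y ^ k) (centralizer (X₁ : Set G)) := by
      rw [hk, centralizer_cj]
    have hco : IsCoatom (cj (y ^ k)⁻¹ M) := by
      rw [cj_def]; exact Cfsg.Agent.Lib.Helper64.isCoatom_map_conj hM _
    have hle : centralizer (X₁ : Set G) ≤ cj (y ^ k)⁻¹ M := by
      rw [← cj_le_iff, ← hcen]; exact hc2
    have heq := hg1.2 _ hco hle
    have hnm : (y ^ k)⁻¹ ∈ normalizer (M : Set G) := cj_eq_self_iff.mp heq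
    have hMne : M ≠ ⊥ := by
      intro h
      have hAb : A = ⊥ := le_bot_iff.mp (h ▸ hAM)
      rw [hAb, Subgroup.card_bot] at hcard
      have : 1 < p ^ 2 := Nat.one_lt_pow (by norm_num) (Fact.out : p.Prime).one_lt
      omega
    have hNM := normalizer_eq_of_isCoatom hG hM hMne le_rfl le_normalizer
    rw [hNM] at hnm
    simpa using M.inv_mem hnm

end Cfsg.Agent.Lib.Helper64.BG127
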