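import Cfsg.Agent.Lib.Helper64.BG127b
import Cfsg.Agent.Lib.Helper32.RelSylow
import Cfsg.Agent.Lib.Helper62.SigmaHall

set_option autoImplicit false
set_option linter.style.haveILetI false
set_option linter.unusedSectionVars false

/-!
# B&G Theorem 12.7, part C: the hypotheses (earlier statements) and first consequences
-/

namespace Cfsg.Agent.Lib.Helper64.BG127

open Subgroup Cfsg Cfsg.Agent.Lib.Helper33 Cfsg.Agent.Lib.Helper23 Cfsg.Agent.Lib.Helper24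
open Cfsg.Agent.Lib.Helper47.BG11 Cfsg.Agent.Lib.Helper63

universe u

variable {G : Type u} [Group G] [Finite G]

/-- The earlier statements used in the proof of B&G 12.7. -/
structure Hyp (G : Type u) [Group G] : Prop where
  uniq : BG10.UniqStmt G
  fus : ∀ M : Subgroup G, IsCoatom M → SigmaFusion M
  h08 : ∀ (M : Subgroup G), IsCoatom M → ∀ (p : ℕ) [Fact p.Prime], p ∉ sigma M →
    PRankLE p 2 M → ¬ PRankLE p 1 M →
    ¬ IsIdealPrime p G ∧ ∀ A : Subgroup G, A ≤ M → IsElementaryAbelian p A →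
      Nat.card A = p ^ 2 → ∀ B : Subgroup G, IsElementaryAbelian p B → A ≤ B → B = A
  h12 : ∀ (p : ℕ) [Fact p.Prime] (P : Sylow p G), PRankLE p 2 (P : Subgroup G) →
    IsMulCommutative (P : Subgroup G) ∨ ∃ P₁ P₂ : Subgroup G, P₁ ⊔ P₂ = (P : Subgroup G) ∧
      (∀ a ∈ P₁, ∀ b ∈ P₂, a * b = b * a) ∧
      ¬ IsMulCommutative P₁ ∧ Nat.card P₁ = p ^ 3 ∧ Monoid.exponent P₁ = p ∧ IsCyclic P₂ ∧
      closure {x : G | x ∈ P₂ ∧ x ^ p = 1} = P₁ ⊓ centralizer (P₁ : Set G)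
  h14 : ∀ M : Subgroup G, IsCoatom M →
    ∃ H : Subgroup G, IsPiHallOf {q | q.Prime ∧ q ∉ beta M} H (sigmaCore M) ∧ Group.IsNilpotent H
  h16 : ∀ (M : Subgroup G), IsCoatom M → ∀ (p : ℕ) [Fact p.Prime] (A : Subgroup G),
    (A ≤ M ∧ IsElementaryAbelian p A ∧ Nat.card A = p ^ 2) → centralizer (A : Set G) ≤ M
  h17 : ∀ (M : Subgroup G), IsCoatom M → ∀ (p : ℕ) [Fact p.Prime], p ∈ tau2 M →
    ∀ A : Subgroup G, (A ≤ M ∧ IsElementaryAbelian p A ∧ Nat.card A = p ^ 2) →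
    Group.IsNilpotent (sigmaCore M) ∧
      (∀ P : Sylow p M, IsMulCommutative (P : Subgroup M) ∧
        (A ≤ (P : Subgroup M).map M.subtype →
          (∀ x ∈ (P : Subgroup M).map M.subtype, x ^ p = 1 ↔ x ∈ A) ∧
          ¬ normalizer ((((P : Subgroup M).map M.subtype : Subgroup G)) : Set G) ≤ M)) ∧
      M ≤ normalizer ((sigmaCore M ⊔ A : Subgroup G) : Set G) ∧
      sigmaCore M ⊓ centralizer (A : Set G) = ⊥ ∧
      (∀ Mstar : Subgroup G, IsCoatom Mstar → Mstar ≠ M → A ≤ Mstar → sigmaCore M ⊓ Mstar = ⊥) ∧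
      ∃ A₁ : Subgroup G, A₁ ≤ A ∧ Nat.card A₁ = p ∧
        sigmaCore M ⊓ centralizer (A₁ : Set G) = ⊥
  h18 : ∀ (M : Subgroup G), IsCoatom M → ∀ E : Subgroup G, IsComplIn E (sigmaCore M) M →
    ∀ (p : ℕ) [Fact p.Prime], p ∈ tau2 M →
    ∀ A : Subgroup G, (A ≤ E ∧ IsElementaryAbelian p A ∧ Nat.card A = p ^ 2) →
    (E ≤ normalizer (A : Set G) ∧ ∀ X : Subgroup G, X ≤ E → Nat.card X = p → X ≤ A) ∧
      (centralizer (A : Set G) ≤ M ⊓ normalizer (A : Set G) ∧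
        M ⊓ normalizer (A : Set G) = E ∧ ¬ normalizer (A : Set G) ≤ M) ∧
      ∀ X : Subgroup G, X ≤ A → Nat.card X = p →
        sigmaCore M ⊓ centralizer (X : Set G) ≠ ⊥ →
        (centralizer (X : Set G) ≤ M ∧
          ∀ L : Subgroup G, IsCoatom L → centralizer (X : Set G) ≤ L → L = M)
  hT : LemTStmt G

/-- B&G 12.5(b) at the subgroup level. -/
theorem sylow_facts (H : Hyp G) {M : Subgroup G} (hM : IsCoatom M) {p : ℕ} [Fact p.Prime]
    (hp : p ∈ tau2 M) {A : Subgroup G}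
    (hA : A ≤ M ∧ IsElementaryAbelian p A ∧ Nat.card A = p ^ 2) {P : Subgroup G}
    (hPM : P ≤ M) (hPp : IsPGroup p P) (hPi : ¬ p ∣ P.relIndex M) :
    (∀ a ∈ P, ∀ b ∈ P, a * b = b * a) ∧
      (A ≤ P → (∀ x ∈ P, x ^ p = 1 ↔ x ∈ A) ∧ ¬ normalizer (P : Set G) ≤ M) := by
  obtain ⟨P₀, hP₀⟩ := exists_sylow_map_eq M P hPM hPp hPi
  obtain ⟨hc, h2⟩ := (H.h17 M hM p hp A hA).2.1 P₀
  rw [hP₀] at h2
  refine ⟨?_, h2⟩
  intro a ha b hb
  rw [← hP₀] at ha hb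
  obtain ⟨a', ha', rfl⟩ := ha
  obtain ⟨b', hb', rfl⟩ := hb
  have := hc.is_comm.comm ⟨a', ha'⟩ ⟨b', hb'⟩
  simpa using congrArg (fun z : (P₀ : Subgroup M) => ((z : M) : G)) this

/-- For `p ∈ τ₂(M)` every `p`-subgroup of `M` is abelian. -/
theorem comm_of_tau2 (H : Hyp G) {M : Subgroup G} (hM : IsCoatom M) {p : ℕ} [Fact p.Prime]
    (hp : p ∈ tau2 M) {A : Subgroup G}
    (hA : A ≤ M ∧ IsElementaryAbelian p A ∧ Nat.card A = p ^ 2) {T : Subgroup G}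
    (hTM : T ≤ M) (hT : IsPGroup p T) : ∀ a ∈ T, ∀ b ∈ T, a * b = b * a := by
  obtain ⟨P, hTP, hPM, hPp, hPi⟩ := Cfsg.Agent.Lib.Helper32.exists_relSylow_ge hTM hT
  have h := (sylow_facts H hM hp hA hPM hPp hPi).1
  intro a ha b hb
  exact h a (hTP ha) b (hTP hb)

/-- A subgroup of `H` containing an elementary abelian subgroup of order `q ^ 2`: `q ∈ σ(H)` or
`q ∈ τ₂(H)`. -/
theorem mem_sigma_or_tau2 (hG : IsMinSimpleOddOrder G) (H : Hyp G) {L : Subgroup G}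
    (hL : IsCoatom L) {q : ℕ} [Fact q.Prime] {B : Subgroup G} (hBL : B ≤ L)
    (hBe : IsElementaryAbelian q B) (hBcard : Nat.card B = q ^ 2) :
    q ∈ sigma L ∨ q ∈ tau2 L := by
  have hq : q.Prime := Fact.out
  by_cases hσ : q ∈ sigma L
  · exact Or.inl hσ
  right
  have hα : q ∉ alpha L := fun h => hσ (alpha_subset_sigma hG H.uniq hL h)
  have hr2 : PRankLE q 2 ↥L := by
    by_contra h
    exact hα ⟨hq, h⟩
  have hr1 : ¬ PRankLE q 1 ↥L := by
    intro h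
    have h1 := h (B.subgroupOf L) ?_ ?_
    · rw [Nat.card_congr (Subgroup.subgroupOfEquivOfLe hBL).toEquiv, hBcard] at h1
      have : q ^ 1 < q ^ 2 := Nat.pow_lt_pow_right hq.one_lt (by norm_num)
      omega
    · refine ⟨⟨fun a b => ?_⟩⟩
      apply Subtype.ext
      apply Subtype.ext
      have := hBe.1.is_comm.comm ⟨a.1.1, a.2⟩ ⟨b.1.1, b.2⟩
      simpa using congrArg Subtype.val this
    · intro a ha
      apply Subtype.ext
      simpa using hBe.2 a.1 ha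
  exact ⟨hq, hσ, hr2, hr1⟩

/-- A nonabelian `p`-subgroup of a maximal subgroup `L` forces `p ∈ σ(L)`. -/
theorem mem_sigma_of_nonabelian (hG : IsMinSimpleOddOrder G) (H : Hyp G) {L : Subgroup G}
    (hL : IsCoatom L) {p : ℕ} [Fact p.Prime] {T : Subgroup G} (hTL : T ≤ L) (hT : IsPGroup p T)
    (hTna : ¬ ∀ a ∈ T, ∀ b ∈ T, a * b = b * a) : p ∈ sigma L := by
  have hTna' : ¬ IsMulCommutative T := by
    intro h
    apply hTna
    intro a ha b hb
    exact congrArg Subtype.val (h.is_comm.comm ⟨a, ha⟩ ⟨b, hb⟩)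
  obtain ⟨A, hAT, hAe, hAcard⟩ := exists_elemAb_sq_of_nonabelian hG.1 hT hTna'
  rcases mem_sigma_or_tau2 hG H hL (hAT.trans hTL) hAe hAcard with h | h
  · exact h
  · exact absurd (comm_of_tau2 H hL h ⟨hAT.trans hTL, hAe, hAcard⟩ hTL hT) hTna

end Cfsg.Agent.Lib.Helper64.BG127
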