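import Cfsg.Agent.Lib.Helper64.BG127c
import Cfsg.Agent.Lib.Helper32.RankGen
import Cfsg.Agent.Lib.Helper47.PCoreOf

set_option autoImplicit false
set_option linter.style.haveILetI false
set_option linter.unusedSectionVars false

/-!
# B&G Theorem 12.7, part D: the bad point `A₀`
-/

namespace Cfsg.Agent.Lib.Helper64.BG127

open Subgroup Cfsg Cfsg.Agent.Lib.Helper33 Cfsg.Agent.Lib.Helper23 Cfsg.Agent.Lib.Helper24
open Cfsg.Agent.Lib.Helper47.BG11 Cfsg.Agent.Lib.Helper63 Cfsg.Agent.Lib.Helper48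

universe u

variable {G : Type u} [Group G] [Finite G]

/-- Coprime generation for `A ≅ E_{p²}`: `Q` is generated by the `C_Q(X)`, `X` a point of `A`. -/
theorem le_of_points {p : ℕ} [Fact p.Prime] {A Q T : Subgroup G}
    (hAc : ∀ a ∈ A, ∀ b ∈ A, a * b = b * a) (hAe : ∀ a ∈ A, a ^ p = 1)
    (hcard : Nat.card A = p ^ 2) (hAQ : A ≤ normalizer (Q : Set G)) (hQ : ¬ p ∣ Nat.card Q)
    (h : ∀ X : Subgroup G, X ≤ A → Nat.card X = p → Q ⊓ centralizer (X : Set G) ≤ T) :
    Q ≤ T := by
  have hpp : p.Prime := Fact.out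
  have hB : Cfsg.Agent.Lib.Helper32.IsExpAb p A := ⟨hAc, hAe⟩
  have hlt : p < Nat.card A := by
    rw [hcard, sq]; exact lt_mul_of_one_lt_left hpp.pos hpp.one_lt
  have hB1 : ∃ b ∈ A, b ≠ 1 := by
    by_contra hcon
    push Not at hcon
    have : A = ⊥ := by
      rw [eq_bot_iff]
      intro x hx
      rw [mem_bot]; exact hcon x hx
    rw [this, Subgroup.card_bot] at hlt
    have := hpp.one_lt
    omega
  obtain ⟨b, hb, hb1⟩ := hB1
  obtain ⟨a, ha, hab⟩ := hB.exists_not_mem_zpowers hlt b hb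
  refine (Cfsg.Agent.Lib.Helper32.le_genSub_of_mem_normalizer Q a b (hAe a ha) (hAe b hb)
    (hAc a ha b hb) (hAQ ha) (hAQ hb) hQ).trans ?_
  unfold genSub
  apply iSup₂_le
  intro c hc
  have hcA : c ∈ A := hB.genSet_subset ha hb hc
  have hc1 : c ≠ 1 := Cfsg.Agent.Lib.Helper32.IsExpAb.genSet_ne_one hb1 hab hc
  have hcard' : Nat.card (zpowers c) = p := by
    rw [Nat.card_zpowers]; exact orderOf_eq_prime (hAe c hcA) hc1
  refine le_trans ?_ (h (zpowers c) (zpowers_le.mpr hcA) hcard')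
  refine le_inf inf_le_left ?_
  intro x hx
  have hxc : c * x = x * c := (Subgroup.mem_centralizer_iff.mp hx.2) c (Set.mem_singleton c)
  rw [mem_centralizer_iff]
  intro u hu
  obtain ⟨k, rfl⟩ := mem_zpowers_iff.mp hu
  exact ((show Commute c x from hxc).zpow_left k).eq

/-- `Good` is invariant under conjugation by elements of `M`. -/
theorem Good.cj {M X : Subgroup G} (h : Good M X) {m : G} (hm : m ∈ M) : Good M (cj m X) := by
  constructor
  · rw [centralizer_cj]
    have := cj_mono (g := m) h.1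
    rwa [cj_eq_self_of_mem hm] at this
  · intro L hL hle
    rw [centralizer_cj, cj_le_iff] at hle
    have hco : IsCoatom (Helper33.cj m⁻¹ L) := by
      rw [cj_def]; exact Cfsg.Agent.Lib.Helper64.isCoatom_map_conj hL _
    have := h.2 _ hco hle
    rw [cj_eq_iff, inv_inv, cj_eq_self_of_mem hm] at this
    exact this

end Cfsg.Agent.Lib.Helper64.BG127
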