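import Cfsg.Agent.Lib.Helper64.BG127d

set_option autoImplicit false
set_option linter.style.haveILetI false
set_option linter.unusedSectionVars false
set_option maxHeartbeats 1000000

/-!
# B&G Theorem 12.7, part E: assembly
-/

namespace Cfsg.Agent.Lib.Helper64.BG127

open Subgroup Cfsg Cfsg.Agent.Lib.Helper33 Cfsg.Agent.Lib.Helper23 Cfsg.Agent.Lib.Helper24
open Cfsg.Agent.Lib.Helper47.BG11 Cfsg.Agent.Lib.Helper63 Cfsg.Agent.Lib.Helper48

universe u

variable {G : Type u} [Group G] [Finite G]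

/-- The data extracted in the first half of the proof of 12.7. -/
structure Data (M E A : Subgroup G) (p : ℕ) : Prop where
  card₀ : Nat.card ↥(A ⊓ centralizer (sigmaCore M : Set G)) = p
  good₀ : Good M (A ⊓ centralizer (sigmaCore M : Set G))
  norm₀ : M ≤ normalizer ((A ⊓ centralizer (sigmaCore M : Set G) : Subgroup G) : Set G)
  partc : ∀ X : Subgroup G, X ≤ E → Nat.card X = p →
    X ≠ A ⊓ centralizer (sigmaCore M : Set G) →
    sigmaCore M ⊓ centralizer (X : Set G) = ⊥ ∧ ¬ centralizer (X : Set G) ≤ M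
  syl : ∃ P S : Subgroup G, A ≤ P ∧ P ≤ M ∧ IsPGroup p P ∧ ¬ p ∣ P.relIndex M ∧
    (∀ a ∈ P, ∀ b ∈ P, a * b = b * a) ∧ (∀ x ∈ P, x ^ p = 1 ↔ x ∈ A) ∧
    P ≤ S ∧ IsPGroup p S ∧ ¬ p ∣ S.index ∧ (¬ ∀ a ∈ S, ∀ b ∈ S, a * b = b * a) ∧
    ∃ z ∈ A, z ≠ 1 ∧ ∀ s ∈ S, s * z = z * s

theorem data (hG : IsMinSimpleOddOrder G) (H : Hyp G) {M E : Subgroup G} (hM : IsCoatom M)
    (hE : IsComplIn E (sigmaCore M) M) {p : ℕ} [Fact p.Prime] (hp : p ∈ tau2 M)
    (hS : ∀ S : Sylow p G, ¬ IsMulCommutative (S : Subgroup G)) {A : Subgroup G}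
    (hA : A ≤ E ∧ IsElementaryAbelian p A ∧ Nat.card A = p ^ 2) : Data M E A p := by
  have hpp : p.Prime := Fact.out
  have hE' := hE
  obtain ⟨hEM, hσM, hEσ, hEdec⟩ := hE
  have hAM : A ≤ M := hA.1.trans hEM
  have hA' : A ≤ M ∧ IsElementaryAbelian p A ∧ Nat.card A = p ^ 2 := ⟨hAM, hA.2⟩
  have hAc : ∀ a ∈ A, ∀ b ∈ A, a * b = b * a := fun a ha b hb =>
    congrArg Subtype.val (hA.2.1.1.is_comm.comm ⟨a, ha⟩ ⟨b, hb⟩)
  have hAp : IsPGroup p A := IsPGroup.of_card hA.2.2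
  have hAne : A ≠ ⊥ := by
    intro h
    have h2 := hA.2.2
    rw [h, Subgroup.card_bot] at h2
    have : 1 < p ^ 2 := Nat.one_lt_pow (by norm_num) hpp.one_lt
    omega
  obtain ⟨hnil, -, h17c, h17d, h17e, -⟩ := H.h17 M hM p hp A hA'
  obtain ⟨⟨hEA, hpts⟩, ⟨hCA, hNE, hNA⟩, hbad⟩ := H.h18 M hM E hE' p hp A hA
  obtain ⟨-, hmax⟩ := H.h08 M hM p hp.2.1 hp.2.2.1 hp.2.2.2
  have hmaxA := hmax A hAM hA.2.1 hA.2.2
  have hCAM : centralizer (A : Set G) ≤ M := hCA.trans inf_le_left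
  -- Sylow subgroups
  obtain ⟨P, hAP, hPM, hPp, hPi⟩ := Cfsg.Agent.Lib.Helper32.exists_relSylow_ge hAM hAp
  obtain ⟨hPc, hP2⟩ := sylow_facts H hM hp hA' hPM hPp hPi
  obtain ⟨hΩ, hNP⟩ := hP2 hAP
  obtain ⟨S, hPS⟩ := hPp.exists_le_sylow
  have hSna : ¬ ∀ a ∈ (S : Subgroup G), ∀ b ∈ (S : Subgroup G), a * b = b * a := by
    intro h
    apply hS S
    refine ⟨⟨fun a b => ?_⟩⟩
    exact Subtype.ext (h a.1 a.2 b.1 b.2)
  obtain ⟨hSM, ⟨z, hzA, hz1, hzS⟩, y, hyS, hyM, hyA, hy⟩ :=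
    exists_outer hA.2.1 hmaxA hPM hPi hAP hPc (fun x hx hxp => (hΩ x hx).mp hxp)
      S.isPGroup' hPS hSna
  have hSi : ¬ p ∣ (S : Subgroup G).index := S.not_dvd_index
  -- uniqueness of good points
  have huniq : ∀ X₁ X₂ : Subgroup G, X₁ ≤ A → X₂ ≤ A → Nat.card X₁ = p → Nat.card X₂ = p →
      Good M X₁ → centralizer (X₂ : Set G) ≤ M → X₁ = X₂ := fun X₁ X₂ h1 h2 h3 h4 h5 h6 =>
    good_unique hG H.hT hM hA.2.1 hA.2.2 hAM hAP hPc hSM hyS hyM hyA hy hzA hz1 hzS h1 h2 h3 h4 h5 h6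
  -- `M_σ ≠ 1`
  have hσne : sigmaCore M ≠ ⊥ := by
    intro h
    apply hNA
    have hME : M ≤ E := by
      intro m hm
      obtain ⟨e, he, s, hs, rfl⟩ := hEdec m hm
      rw [h, mem_bot] at hs
      rw [hs, mul_one]; exact he
    exact (normalizer_eq_of_isCoatom hG hM hAne hAM (hME.trans hEA)).le
  -- `M_σ` is a `p'`-group normalized by `A`
  obtain ⟨hHall, -, -⟩ := Cfsg.Agent.Lib.Helper62.sigmaCore_hall hG H.uniq hM (H.fus M hM)
  have hσp : ¬ p ∣ Nat.card (sigmaCore M) := fun h => hp.2.1 (hHall.2.1 p hpp h)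
  have hAσ : A ≤ normalizer ((sigmaCore M : Subgroup G) : Set G) :=
    hAM.trans (Cfsg.Agent.Lib.Helper24.BG.le_normalizer_sigmaCore M)
  -- a bad point exists
  obtain ⟨X₀, hX₀A, hX₀card, hX₀bad⟩ : ∃ X₀ : Subgroup G, X₀ ≤ A ∧ Nat.card X₀ = p ∧
      sigmaCore M ⊓ centralizer (X₀ : Set G) ≠ ⊥ := by
    by_contra hcon
    push Not at hcon
    apply hσne
    rw [eq_bot_iff]
    apply le_of_points hAc hA.2.1.2 hA.2.2 hAσ hσp
    intro X hXA hXcard
    rw [hcon X hXA hXcard]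
  have hX₀good : Good M X₀ := hbad X₀ hX₀A hX₀card hX₀bad
  -- all other points are regular
  have hreg : ∀ X : Subgroup G, X ≤ A → Nat.card X = p → X ≠ X₀ →
      sigmaCore M ⊓ centralizer (X : Set G) = ⊥ := by
    intro X hXA hXcard hne
    by_contra hX
    exact hne (huniq X X₀ hXA hX₀A hXcard hX₀card (hbad X hXA hXcard hX) hX₀good.1)
  -- `M_σ ≤ C(X₀)`
  have hσX₀ : sigmaCore M ≤ centralizer (X₀ : Set G) := by
    apply le_of_points hAc hA.2.1.2 hA.2.2 hAσ hσp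
    intro X hXA hXcard
    by_cases hXX : X = X₀
    · rw [hXX]; exact inf_le_right
    · rw [hreg X hXA hXcard hXX]; exact bot_le
  have hX₀σ : X₀ ≤ centralizer (sigmaCore M : Set G) := by
    intro x hx
    rw [mem_centralizer_iff]
    intro s hs
    exact ((mem_centralizer_iff.mp (hσX₀ hs)) x hx).symm
  -- `A₀ = X₀`
  have hA₀ : A ⊓ centralizer (sigmaCore M : Set G) = X₀ := by
    symm
    apply Subgroup.eq_of_le_of_card_ge (le_inf hX₀A hX₀σ)
    rw [hX₀card]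
    have hd : Nat.card ↥(A ⊓ centralizer (sigmaCore M : Set G) : Subgroup G) ∣ p ^ 2 := by
      rw [← hA.2.2]; exact Subgroup.card_dvd_of_le inf_le_left
    obtain ⟨j, hj, hcj⟩ := (Nat.dvd_prime_pow hpp).mp hd
    have hj2 : j ≠ 2 := by
      intro h
      have hAeq : A ⊓ centralizer (sigmaCore M : Set G) = A :=
        Subgroup.eq_of_le_of_card_ge inf_le_left (by rw [hcj, h, hA.2.2])
      have hAle : A ≤ centralizer (sigmaCore M : Set G) := hAeq ▸ inf_le_right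
      apply hσne
      rw [eq_bot_iff, ← h17d]
      refine le_inf le_rfl ?_
      intro s hs
      rw [mem_centralizer_iff]
      intro a ha
      exact ((mem_centralizer_iff.mp (hAle ha)) s hs).symm
    rw [hcj]
    have : j ≤ 1 := by omega
    calc p ^ j ≤ p ^ 1 := Nat.pow_le_pow_right hpp.pos this
      _ = p := pow_one p
  -- part (c)
  have hpartc : ∀ X : Subgroup G, X ≤ E → Nat.card X = p → X ≠ X₀ →
      sigmaCore M ⊓ centralizer (X : Set G) = ⊥ ∧ ¬ centralizer (X : Set G) ≤ M := by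
    intro X hXE hXcard hne
    have hXA : X ≤ A := hpts X hXE hXcard
    refine ⟨hreg X hXA hXcard hne, fun hXM => ?_⟩
    exact hne (huniq X₀ X hX₀A hXA hX₀card hXcard hX₀good hXM).symm
  -- `X₀` is normal in `M`
  have hnorm : M ≤ normalizer (X₀ : Set G) := by
    intro m hm
    obtain ⟨e, he, s, hs, rfl⟩ := hEdec m hm
    apply Subgroup.mul_mem
    · rw [← cj_eq_self_iff]
      have hle : Helper33.cj e X₀ ≤ A := by
        have := cj_mono (g := e) hX₀A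
        rwa [cj_eq_self_iff.mpr (hEA he)] at this
      exact huniq _ _ hle hX₀A (by rw [card_cj, hX₀card]) hX₀card (hX₀good.cj (hEM he))
        hX₀good.1
    · exact (Subgroup.centralizer_le_normalizer (s := (X₀ : Set G))) (hσX₀ hs)
  rw [← hA₀] at hX₀card hX₀good hnorm hpartc
  exact ⟨hX₀card, hX₀good, hnorm, hpartc, P, S, hAP, hPM, hPp, hPi, hPc, hΩ, hPS, S.isPGroup',
    hSi, hSna, z, hzA, hz1, hzS⟩

end Cfsg.Agent.Lib.Helper64.BG127
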