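import Cfsg.Agent.Lib.Helper64.BG127e
import Cfsg.Agent.Lib.Helper96.BG127
import Cfsg.Agent.Lib.Helper50.BG117T3

set_option autoImplicit false
set_option linter.style.haveILetI false
set_option linter.unusedSectionVars false
set_option maxHeartbeats 1000000

/-!
# B&G Theorem 12.7, part F: `τ₂(M) = {p}`
-/

namespace Cfsg.Agent.Lib.Helper64.BG127

open Subgroup Cfsg Cfsg.Agent.Lib.Helper33 Cfsg.Agent.Lib.Helper23 Cfsg.Agent.Lib.Helper24
open Cfsg.Agent.Lib.Helper47.BG11 Cfsg.Agent.Lib.Helper63 Cfsg.Agent.Lib.Helper48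

open scoped Pointwise

universe u

variable {G : Type u} [Group G] [Finite G]

/-- Two subgroups of a solvable group `X` of orders prime to the index of a nilpotent Hall
subgroup `W`: suitable conjugates commute elementwise (elements of coprime orders). -/
theorem exists_conj_commute {X W S B : Subgroup G} (hsX : Group.IsSolvable ↥X)
    (hWX : W ≤ X) (hWn : Group.IsNilpotent ↥W)
    (hco : (Nat.card W).Coprime (W.relIndex X)) (hSX : S ≤ X) (hBX : B ≤ X)
    (hS : (Nat.card S).Coprime (W.relIndex X)) (hB : (Nat.card B).Coprime (W.relIndex X))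
    {m n : ℕ} (hmn : m.Coprime n) (hSm : ∀ s ∈ S, s ^ m = 1) (hBn : ∀ b ∈ B, b ^ n = 1) :
    ∃ g : G, ∀ s ∈ S, ∀ b ∈ B, (g * s * g⁻¹) * b = b * (g * s * g⁻¹) := by
  have hcardX : Nat.card X = Nat.card W * W.relIndex X := by
    have := Subgroup.relIndex_mul_relIndex (⊥ : Subgroup G) W X bot_le hWX
    rw [Subgroup.relIndex_bot_left, Subgroup.relIndex_bot_left] at this
    exact this.symm
  obtain ⟨l, -, hl⟩ := Cfsg.Agent.Lib.Helper50.BG117.exists_conj_le_of_solvable X hsX _ _ hcardX hco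
    W hWX rfl S hSX hS
  obtain ⟨l', -, hl'⟩ := Cfsg.Agent.Lib.Helper50.BG117.exists_conj_le_of_solvable X hsX _ _ hcardX
    hco W hWX rfl B hBX hB
  rw [← cj_eq_smul] at hl hl'
  refine ⟨l' * l⁻¹, fun s hs b hb => ?_⟩
  have h1 : l⁻¹ * s * l ∈ W := mem_cj.mp (hl hs)
  have h2 : l'⁻¹ * b * l' ∈ W := mem_cj.mp (hl' hb)
  have hW1 : W ≤ MulAut.conj (1 : G) • W := by rw [← cj_eq_smul, cj_one]
  have hc := Cfsg.Agent.Lib.Helper50.BG117.commute_of_le_conj_nilpotent hWn 1 hW1 h1 h2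
    (m := m) (n := n) ?_ ?_ hmn
  · have hc' := hc.eq
    have e1 : l' * l⁻¹ * s * (l' * l⁻¹)⁻¹ = l' * (l⁻¹ * s * l) * l'⁻¹ := by group
    have e2 : b = l' * (l'⁻¹ * b * l') * l'⁻¹ := by group
    rw [e1]
    conv_lhs => rw [e2]
    conv_rhs => rw [e2]
    calc l' * (l⁻¹ * s * l) * l'⁻¹ * (l' * (l'⁻¹ * b * l') * l'⁻¹)
        = l' * ((l⁻¹ * s * l) * (l'⁻¹ * b * l')) * l'⁻¹ := by group
      _ = l' * ((l'⁻¹ * b * l') * (l⁻¹ * s * l)) * l'⁻¹ := by rw [hc']
      _ = _ := by group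
  · have : l⁻¹ * s * l = l⁻¹ * s * l⁻¹⁻¹ := by rw [inv_inv]
    rw [this, conj_pow, hSm s hs]; group
  · have : l'⁻¹ * b * l' = l'⁻¹ * b * l'⁻¹⁻¹ := by rw [inv_inv]
    rw [this, conj_pow, hBn b hb]; group

/-- Part (a) of B&G 12.7: `τ₂(M) = {p}`. -/
theorem tau2_eq (hG : IsMinSimpleOddOrder G) (H : Hyp G) {M E : Subgroup G} (hM : IsCoatom M)
    (hE : IsComplIn E (sigmaCore M) M) {p : ℕ} [Fact p.Prime] (hp : p ∈ tau2 M) {A : Subgroup G}
    (hA : A ≤ E ∧ IsElementaryAbelian p A ∧ Nat.card A = p ^ 2) (D : Data M E A p) :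
    ∀ q, q ∈ tau2 M → q = p := by
  intro q hq
  by_contra hqp
  have hpp : p.Prime := Fact.out
  haveI : Fact q.Prime := ⟨hq.1⟩
  have hqq : q.Prime := hq.1
  obtain ⟨P, S, hAP, hPM, hPp, hPi, hPc, hΩ, hPS, hSp, hSi, hSna, z, hzA, hz1, hzS⟩ := D.syl
  obtain ⟨B, hBE, hBe, hBcard⟩ :=
    Cfsg.Agent.Lib.Helper96.BG127.exists_elemAb_sq_le_compl hE hq
  have hEM := hE.1
  have hAM : A ≤ M := hA.1.trans hEM
  have hBM : B ≤ M := hBE.trans hEM
  obtain ⟨⟨hEA, -⟩, -, -⟩ := H.h18 M hM E hE p hp A hA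
  obtain ⟨⟨hEB, -⟩, -, -⟩ := H.h18 M hM E hE q hq B ⟨hBE, hBe, hBcard⟩
  have hAp : IsPGroup p A := IsPGroup.of_card hA.2.2
  have hBq : IsPGroup q B := IsPGroup.of_card hBcard
  have hAne : A ≠ ⊥ := by
    intro h
    have h2 := hA.2.2
    rw [h, Subgroup.card_bot] at h2
    have : 1 < p ^ 2 := Nat.one_lt_pow (by norm_num) hpp.one_lt
    omega
  have hdisj : A ⊓ B = ⊥ :=
    (IsPGroup.disjoint_of_ne p q (fun h => hqp h.symm) A B hAp hBq).eq_bot
  have hAB : A ≤ centralizer (B : Set G) :=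
    le_centralizer_of_normalize_of_inf_eq_bot (hA.1.trans hEB) (hBE.trans hEA) hdisj
  -- the maximal subgroup `L ≥ C(z)`
  have hCz : centralizer ({z} : Set G) ≠ ⊤ := by
    intro h
    apply hz1
    have hzc : z ∈ center G := by
      rw [Subgroup.mem_center_iff]
      intro g
      have hg : g ∈ centralizer ({z} : Set G) := h ▸ mem_top g
      exact (mem_centralizer_iff.mp hg z rfl).symm
    rw [BG10.center_eq_bot hG, mem_bot] at hzc
    exact hzc
  obtain ⟨L, hL, hCL⟩ := Cfsg.Agent.Lib.Helper64.BG9.exists_coatom_ge hCz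
  have hSL : (S : Subgroup G) ≤ L := by
    intro s hs
    apply hCL
    rw [mem_centralizer_iff]
    rintro _ rfl
    exact (hzS s hs).symm
  have hBL : B ≤ L := by
    intro b hb
    apply hCL
    rw [mem_centralizer_iff]
    rintro _ rfl
    exact (mem_centralizer_iff.mp (hAB hzA) b hb).symm
  have hpL : p ∈ sigma L := mem_sigma_of_nonabelian hG H hL hSL hSp hSna
  have hLM : L ≠ M := by
    rintro rfl
    exact hSna (comm_of_tau2 H hM hp ⟨hAM, hA.2⟩ hSL hSp)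
  have hσL : SigmaHallIn L :=
    (Cfsg.Agent.Lib.Helper62.sigmaCore_hall hG H.uniq hL (H.fus L hL)).1
  have hAL : A ≤ L := hAP.trans (hPS.trans hSL)
  have hAσ : A ≤ sigmaCore L := le_sigmaCore_of_sigma hσL hpL hAL hAp
  have hqL : q ∈ sigma L := by
    rcases mem_sigma_or_tau2 hG H hL hBL hBe hBcard with h | h
    · exact h
    · exfalso
      obtain ⟨-, -, -, -, h17e, -⟩ := H.h17 L hL q h B ⟨hBL, hBe, hBcard⟩
      have h0 := h17e M hM hLM.symm hBM
      have hAbot : A ≤ ⊥ := h0 ▸ le_inf hAσ hAM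
      exact hAne (eq_bot_iff.mpr hAbot)
  have hSσ : (S : Subgroup G) ≤ sigmaCore L := le_sigmaCore_of_sigma hσL hpL hSL hSp
  have hBσ : B ≤ sigmaCore L := le_sigmaCore_of_sigma hσL hqL hBL hBq
  -- `p, q ∉ β(L)`
  have hpβ : p ∉ beta L := fun h => (H.h08 M hM p hp.2.1 hp.2.2.1 hp.2.2.2).1 h.2
  have hqβ : q ∉ beta L := fun h => (H.h08 M hM q hq.2.1 hq.2.2.1 hq.2.2.2).1 h.2
  obtain ⟨W, ⟨hWle, hWπ, hWidx⟩, hWnil⟩ := H.h14 L hL
  have hsolv : Group.IsSolvable ↥(sigmaCore L) := by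
    apply isSolvable_of_ne_top hG
    intro h
    have hle : sigmaCore L ≤ L := hσL.1
    rw [h] at hle
    exact hL.1 (top_le_iff.mp hle)
  have hco : (Nat.card W).Coprime (W.relIndex (sigmaCore L)) := by
    rw [Nat.coprime_iff_gcd_eq_one]
    by_contra hne
    obtain ⟨r, hr, hrd⟩ := Nat.exists_prime_and_dvd hne
    exact hWidx r hr (hWπ r hr (hrd.trans (Nat.gcd_dvd_left _ _))) (hrd.trans (Nat.gcd_dvd_right _ _))
  have hpn : ¬ p ∣ W.relIndex (sigmaCore L) := hWidx p hpp ⟨hpp, hpβ⟩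
  have hqn : ¬ q ∣ W.relIndex (sigmaCore L) := hWidx q hqq ⟨hqq, hqβ⟩
  obtain ⟨a, ha⟩ := hSp.exists_card_eq
  have hSco : (Nat.card (S : Subgroup G)).Coprime (W.relIndex (sigmaCore L)) := by
    rw [ha]
    exact Nat.Coprime.pow_left _ ((Nat.Prime.coprime_iff_not_dvd hpp).2 hpn)
  have hBco : (Nat.card B).Coprime (W.relIndex (sigmaCore L)) := by
    rw [hBcard]
    exact Nat.Coprime.pow_left _ ((Nat.Prime.coprime_iff_not_dvd hqq).2 hqn)
  have hmn : (p ^ a).Coprime q :=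
    Nat.Coprime.pow_left _ ((Nat.coprime_primes hpp hqq).2 (fun h => hqp h.symm))
  obtain ⟨g, hg⟩ := exists_conj_commute hsolv hWle hWnil hco hSσ hBσ hSco hBco hmn
    (fun s hs => by
      have := pow_card_eq_one' (G := (S : Subgroup G)) (x := ⟨s, hs⟩)
      rw [ha] at this
      simpa using congrArg Subtype.val this)
    (fun b hb => hBe.2 b hb)
  -- the conjugate of `S` lies in `C(B) ≤ M`
  have hCB : centralizer (B : Set G) ≤ M := H.h16 M hM q B ⟨hBM, hBe, hBcard⟩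
  have hTM : Helper33.cj g S ≤ M := by
    intro t ht
    obtain ⟨s, hs, rfl⟩ := mem_cj'.mp ht
    apply hCB
    rw [mem_centralizer_iff]
    intro b hb
    exact (hg s hs b hb).symm
  have hTc := comm_of_tau2 H hM hp ⟨hAM, hA.2⟩ hTM (isPGroup_cj hSp)
  apply hSna
  intro s hs t ht
  have := hTc _ (conj_mem_cj (g := g) hs) _ (conj_mem_cj (g := g) ht)
  have e : g * s * g⁻¹ * (g * t * g⁻¹) = g * (s * t) * g⁻¹ := by group
  have e' : g * t * g⁻¹ * (g * s * g⁻¹) = g * (t * s) * g⁻¹ := by group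
  rw [e, e'] at this
  exact mul_left_cancel (mul_right_cancel this)

end Cfsg.Agent.Lib.Helper64.BG127
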