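import Cfsg.Agent.Lib.Helper64.BG127g

set_option autoImplicit false
set_option linter.style.haveILetI false
set_option linter.unusedSectionVars false
set_option maxHeartbeats 1000000

/-!
# B&G Theorem 12.7, part H: the bad `p`-elements of `E` lie in `A₀`
-/

namespace Cfsg.Agent.Lib.Helper64.BG127

open Subgroup Cfsg Cfsg.Agent.Lib.Helper33 Cfsg.Agent.Lib.Helper23 Cfsg.Agent.Lib.Helper24
open Cfsg.Agent.Lib.Helper47.BG11 Cfsg.Agent.Lib.Helper63 Cfsg.Agent.Lib.Helper48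

universe u

variable {G : Type u} [Group G] [Finite G]

/-- In the situation of B&G 12.7 (nonabelian Sylow `p`-subgroups of `G`), a `p`-element `d` of `E`
with `C_{M_σ}(d) ≠ 1` lies in `A₀ = C_A(M_σ)`. -/
theorem mem_A₀_of_bad (hG : IsMinSimpleOddOrder G) (H : Hyp G) {M E : Subgroup G}
    (hM : IsCoatom M) (hE : IsComplIn E (sigmaCore M) M) {p : ℕ} [Fact p.Prime]
    (hp : p ∈ tau2 M) (hS : ∀ S : Sylow p G, ¬ IsMulCommutative (S : Subgroup G))
    {A : Subgroup G} (hA : A ≤ E ∧ IsElementaryAbelian p A ∧ Nat.card A = p ^ 2)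
    {d : G} (hdE : d ∈ E) (hd : ∃ n : ℕ, d ^ (p ^ n) = 1)
    (hbad : ∃ x ∈ sigmaCore M, x ≠ 1 ∧ d * x = x * d) :
    d ∈ A ⊓ centralizer (sigmaCore M : Set G) := by
  have hpp : p.Prime := Fact.out
  have D := data hG H hM hE hp hS hA
  have hEM := hE.1
  have hAM : A ≤ M := hA.1.trans hEM
  have hA' : A ≤ M ∧ IsElementaryAbelian p A ∧ Nat.card A = p ^ 2 := ⟨hAM, hA.2⟩
  have hAp : IsPGroup p A := IsPGroup.of_card hA.2.2
  have hp2 : p ≠ 2 := by
    rintro rfl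
    have h1 : 2 ∣ Nat.card A := by rw [hA.2.2]; norm_num
    have h2 : 2 ∣ Nat.card G := h1.trans (Subgroup.card_subgroup_dvd_card A)
    exact (Nat.not_even_iff_odd.mpr hG.1) (even_iff_two_dvd.mpr h2)
  obtain ⟨-, hmax⟩ := H.h08 M hM p hp.2.1 hp.2.2.1 hp.2.2.2
  have hmaxA := hmax A hAM hA.2.1 hA.2.2
  obtain ⟨⟨hEA, hpts⟩, -, -⟩ := H.h18 M hM E hE p hp A hA
  set A₀ := A ⊓ centralizer (sigmaCore M : Set G) with hA₀
  -- elements of order `p`
  have hcase1 : ∀ c : G, c ∈ E → c ^ p = 1 → (∃ x ∈ sigmaCore M, x ≠ 1 ∧ c * x = x * c) →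
      c ∈ A₀ := by
    intro c hcE hcp ⟨x, hxσ, hx1, hcx⟩
    by_cases hc1 : c = 1
    · rw [hc1]; exact A₀.one_mem
    have hcard : Nat.card (zpowers c) = p := by
      rw [Nat.card_zpowers]; exact orderOf_eq_prime hcp hc1
    have hXE : zpowers c ≤ E := zpowers_le.mpr hcE
    by_contra hcA₀
    have hne : zpowers c ≠ A₀ := fun h => hcA₀ (h ▸ mem_zpowers c)
    have h0 := (D.partc (zpowers c) hXE hcard hne).1
    apply hx1
    have hx : x ∈ sigmaCore M ⊓ centralizer ((zpowers c : Subgroup G) : Set G) := by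
      refine ⟨hxσ, ?_⟩
      show x ∈ centralizer ((zpowers c : Subgroup G) : Set G)
      rw [mem_centralizer_iff]
      intro u hu
      obtain ⟨k, rfl⟩ := mem_zpowers_iff.mp hu
      exact ((show Commute c x from hcx).zpow_left k).eq
    rw [h0, mem_bot] at hx
    exact hx
  by_cases hdp : d ^ p = 1
  · exact hcase1 d hdE hdp hbad
  exfalso
  -- a Sylow `p`-subgroup of `M` containing `A` and `d`
  have hdp' : IsPGroup p (zpowers d) := by
    obtain ⟨n, hn⟩ := hd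
    rw [IsPGroup.iff_orderOf]
    rintro ⟨u, hu⟩
    obtain ⟨k, rfl⟩ := mem_zpowers_iff.mp hu
    have h1 : orderOf (d ^ k) ∣ p ^ n := by
      apply orderOf_dvd_of_pow_eq_one
      rw [← zpow_natCast, ← zpow_mul, mul_comm, zpow_mul, zpow_natCast, hn, one_zpow]
    obtain ⟨j, -, hj⟩ := (Nat.dvd_prime_pow hpp).mp h1
    exact ⟨j, by rw [Subgroup.orderOf_mk]; exact hj⟩
  have hdN : zpowers d ≤ normalizer (A : Set G) := zpowers_le.mpr (hEA hdE)
  have hTp : IsPGroup p (zpowers d ⊔ A : Subgroup G) :=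
    IsPGroup.to_sup_of_normal_right' hdp' hAp hdN
  have hTM : zpowers d ⊔ A ≤ M := sup_le (zpowers_le.mpr (hEM hdE)) hAM
  obtain ⟨P, hTP, hPM, hPp, hPi⟩ := Cfsg.Agent.Lib.Helper32.exists_relSylow_ge hTM hTp
  have hAP : A ≤ P := le_sup_right.trans hTP
  have hdP : zpowers d ≤ P := le_sup_left.trans hTP
  obtain ⟨hPc, hP2⟩ := sylow_facts H hM hp hA' hPM hPp hPi
  obtain ⟨hΩ, -⟩ := hP2 hAP
  obtain ⟨S, hPS⟩ := hPp.exists_le_sylow
  have hSna : ¬ ∀ a ∈ (S : Subgroup G), ∀ b ∈ (S : Subgroup G), a * b = b * a := by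
    intro h
    apply hS S
    refine ⟨⟨fun a b => ?_⟩⟩
    exact Subtype.ext (h a.1 a.2 b.1 b.2)
  obtain ⟨w, hwd, hwp1, hwpp⟩ := exists_pow_order_sq hdp' (mem_zpowers d) hdp
  have hwP : w ∈ P := hdP hwd
  have hwS : w ∈ (S : Subgroup G) := hPS hwP
  have hwA : ∀ a ∈ A, w * a = a * w := fun a ha => hPc w hwP a (hAP ha)
  have hwpA₀ : w ^ p ∈ A₀ := by
    apply hcase1 (w ^ p) (E.pow_mem (zpowers_le.mpr hdE hwd) p) hwpp
    obtain ⟨x, hxσ, hx1, hdx⟩ := hbad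
    refine ⟨x, hxσ, hx1, ?_⟩
    obtain ⟨k, rfl⟩ := mem_zpowers_iff.mp hwd
    exact (((show Commute d x from hdx).zpow_left k).pow_left p).eq
  have hcomm : ∀ s ∈ (S : Subgroup G), s * w ^ p = w ^ p * s := by
    by_cases hr2 : PRankLE p 2 ↥(S : Subgroup G)
    · rcases H.h12 p S hr2 with hab | ⟨P₁, P₂, hsup, hcm, -, -, hexp1, hcyc, hcl⟩
      · exact absurd hab (hS S)
      · exact pow_comm_of_struct hsup hcm hexp1 hcyc hcl hwS hwpp
    · exact pow_comm_of_narrow hp2 S.isPGroup' hr2 (hAP.trans hPS) hA.2.1 hA.2.2 hmaxA hwS hwA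
        hwpp
  have hgen : ∀ a ∈ A₀, ∃ k : ℤ, a = (w ^ p) ^ k := by
    intro a ha
    have hcardA₀ : Nat.card ↥A₀ = p := D.card₀
    have hne : (⟨w ^ p, hwpA₀⟩ : ↥A₀) ≠ 1 := by
      intro h
      exact hwp1 (congrArg Subtype.val h)
    have hmem := mem_zpowers_of_prime_card (G := ↥A₀) hcardA₀ (g := ⟨w ^ p, hwpA₀⟩)
      (g' := ⟨a, ha⟩) hne
    obtain ⟨k, hk⟩ := mem_zpowers_iff.mp hmem
    refine ⟨k, ?_⟩
    have := congrArg Subtype.val hk
    simpa using this.symm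
  have hSC : (S : Subgroup G) ≤ centralizer (A₀ : Set G) := by
    intro s hs
    rw [mem_centralizer_iff]
    intro a ha
    obtain ⟨k, rfl⟩ := hgen a ha
    exact ((show Commute s (w ^ p) from hcomm s hs).zpow_right k).eq.symm
  have hSM : (S : Subgroup G) ≤ M := hSC.trans D.good₀.1
  exact hSna (comm_of_tau2 H hM hp hA' hSM S.isPGroup')

end Cfsg.Agent.Lib.Helper64.BG127
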