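import Cfsg.Agent.Lib.Helper64.BG135a
import Cfsg.Agent.Lib.Helper63.BG13b
import Cfsg.Agent.Lib.Helper32.BG142Defs
import Cfsg.Agent.Lib.Helper24.SylowInv
import Cfsg.Agent.Lib.Helper24.BG121
import Cfsg.Agent.Lib.Helper48.CoprimeGen
import Cfsg.Agent.Lib.Helper96.BG127
import Cfsg.Agent.Lib.Helper70.BG1216b
import Cfsg.Agent.Lib.Helper23.BadTau2A0
import Cfsg.Agent.Lib.Helper23.FitUniqueB
import Cfsg.Agent.S1414
import Cfsg.Agent.S1418
import Cfsg.Agent.S1423
import Cfsg.Agent.S1426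
import Cfsg.Agent.S1427

/-!
# Bender–Glauberman Theorem 13.5 (`cent_cent_Msigma_tau1_uniq`)

`M` maximal, `E` a complement of `W = M_σ`, `p ∈ τ₁(M)`, `P ≤ E` of order `p`, `X ≤ C_W(P)` of
prime order `q`.  Then `𝓜(C_G(X)) = {M}` and `𝓜(S) = {M}` for every Sylow `q`-subgroup `S` of `W`.

Proved from BG 13.4 (`Stmt1428`, as a hypothesis until S1428 lands) and BG 13.12 (`Stmt1312`, as
a hypothesis), together with the landed rows S1414, S1418, S1423, S1426, S1427:

* `C_E(P)` centralizes `X` (13.4 for the elements of prime order of `C_E(P)`, S1427 for the cyclic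
  Sylow subgroups of `E`; a `τ₂`-element in `C_E(P)` is excluded by 13.12);
* `E = E' C_E(P)` (Frattini);
* if `q ∉ β(M)`: writing `a = k s` along `W = O_{q'}(W) S`, `S` an `E`-invariant Sylow `q`-subgroup,
  `s` is centralized by `E' C_E(P) = E`, so `s ∈ C_W(E) ≤ W'` (S1426) and `a ∈ W'`;
* S1423.
-/

set_option autoImplicit false
set_option linter.unusedSectionVars false
set_option linter.unusedVariables false
set_option linter.style.haveILetI false

namespace Cfsg.Agent.Lib.Helper64.BG135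

open Subgroup Cfsg Cfsg.Agent.Lib.Helper33 Cfsg.Agent.Lib.Helper32.BG142

universe u

variable {G : Type u} [Group G] [Finite G]

/-- BG 13.12 (`tau12_regular`) as a Prop: `p ∈ τ₁(M)`, `P ≤ E` of order `p`, `q ∈ τ₂(M)`,
`A ≤ E` elementary abelian of order `q²` with `C_A(P) ≠ 1`; then `C_{M_σ}(P) = 1`. -/
def Stmt1312 (G : Type u) [Group G] : Prop :=
  ∀ (M : Subgroup G), IsCoatom M → ∀ (E : Subgroup G), IsComplIn E (sigmaCore M) M →
    ∀ (p : ℕ), p ∈ tau1 M → ∀ (P : Subgroup G), P ≤ E → Nat.card P = p →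
    ∀ (q : ℕ), q ∈ tau2 M → ∀ (A : Subgroup G), A ≤ E → IsElementaryAbelian q A →
      Nat.card A = q ^ 2 → A ⊓ centralizer (P : Set G) ≠ ⊥ →
      sigmaCore M ⊓ centralizer (P : Set G) = ⊥

/-- **Step (a)**: `C_E(P)` centralizes every subgroup `X ≠ 1` of `C_{M_σ}(P)`. -/
theorem cent_compl_le_centralizer (hG : IsMinSimpleOddOrder G) (h28 : Stmt1428 G)
    (h1312 : Stmt1312 G) {M : Subgroup G} (hM : IsCoatom M) {E : Subgroup G}
    (hE : IsComplIn E (sigmaCore M) M) {p : ℕ} (hp : p ∈ tau1 M) {P : Subgroup G} (hPE : P ≤ E)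
    (hP : Nat.card P = p) {X : Subgroup G} (hX1 : X ≠ ⊥)
    (hXC : X ≤ sigmaCore M ⊓ centralizer (P : Set G)) :
    E ⊓ centralizer (P : Set G) ≤ centralizer (X : Set G) := by
  have hEM : E ≤ M := hE.1
  have key : E ⊓ centralizer (P : Set G) ≤ (E ⊓ centralizer (P : Set G)) ⊓ centralizer (X : Set G) := by
    apply Cfsg.Agent.Lib.Helper48.le_of_forall_sylow_le _ _ inf_le_left
    intro r hr
    haveI := hr
    obtain ⟨S_r⟩ : Nonempty (Sylow r ↥(E ⊓ centralizer (P : Set G))) := inferInstance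
    refine ⟨S_r, ?_⟩
    by_cases hS1 : (S_r : Subgroup ↥(E ⊓ centralizer (P : Set G))) = ⊥
    · rw [hS1, Subgroup.map_bot]; exact bot_le
    -- an element of order `r`
    have hrS : r ∣ Nat.card (S_r : Subgroup ↥(E ⊓ centralizer (P : Set G))) := by
      obtain ⟨k, hk⟩ := IsPGroup.iff_card.mp S_r.isPGroup'
      rw [hk]
      rcases Nat.eq_zero_or_pos k with h0 | h0
      · exfalso
        rw [h0, pow_zero] at hk
        exact hS1 (Subgroup.card_eq_one.mp hk)
      · exact dvd_pow_self r h0.ne'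
    obtain ⟨y, hy⟩ := exists_prime_orderOf_dvd_card' r hrS
    set y₀ : G := ((y : ↥(E ⊓ centralizer (P : Set G))) : G) with hy₀
    have hy₀o : orderOf y₀ = r := by
      rw [hy₀, Subgroup.orderOf_coe, Subgroup.orderOf_coe]; exact hy
    have hy₀1 : y₀ ≠ 1 := by
      intro h
      rw [h, orderOf_one] at hy₀o
      exact hr.out.one_lt.ne hy₀o
    have hy₀C : y₀ ∈ E ⊓ centralizer (P : Set G) := (y : ↥(E ⊓ centralizer (P : Set G))).2
    have hy₀T : y₀ ∈ (S_r : Subgroup ↥(E ⊓ centralizer (P : Set G))).map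
        (E ⊓ centralizer (P : Set G)).subtype := ⟨y, y.2, rfl⟩
    have hYc : Nat.card (zpowers y₀) = r := by rw [Nat.card_zpowers, hy₀o]
    have hYC : zpowers y₀ ≤ E ⊓ centralizer (P : Set G) := by
      rw [Subgroup.zpowers_le]; exact hy₀C
    have h13_4 := h28 M hM E hE p hp P hPE hP (zpowers y₀) hYC (by rw [hYc]; exact hr.out)
    have hrE : r ∣ Nat.card E := by
      rw [← hy₀o]
      have := orderOf_dvd_natCard (⟨y₀, hy₀C.1⟩ : E)
      rwa [Subgroup.orderOf_mk] at this
    rcases Cfsg.Agent.Lib.Helper23.Bad.mem_tau_of_dvd_card_compl hG hM hE hr.out hrE with h2 | h13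
    · -- `r ∈ τ₂(M)`: excluded by 13.12
      exfalso
      obtain ⟨A, hAE, hAe, hAc⟩ := Cfsg.Agent.Lib.Helper96.BG127.exists_elemAb_sq_le_compl hE h2
      have hYA : zpowers y₀ ≤ A :=
        (Cfsg.Agent.S1418.result hG M hM E hE r h2 A ⟨hAE, hAe, hAc⟩).1.2 (zpowers y₀)
          (hYC.trans inf_le_left) hYc
      have hne : A ⊓ centralizer (P : Set G) ≠ ⊥ := by
        intro h
        have : y₀ ∈ A ⊓ centralizer (P : Set G) :=
          ⟨hYA (Subgroup.mem_zpowers y₀), hy₀C.2⟩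
        rw [h] at this
        exact hy₀1 (Subgroup.mem_bot.mp this)
      have := h1312 M hM E hE p hp P hPE hP r h2 A hAE hAe hAc hne
      rw [this] at hXC
      exact hX1 (le_bot_iff.mp hXC)
    · -- cyclic Sylow `r`-subgroup of `E`
      have hr1 : PRankLE r 1 ↥M := by
        rcases h13 with h | h
        · exact h.2.2.2.2
        · exact h.2.2.2
      set T : Subgroup G := (S_r : Subgroup ↥(E ⊓ centralizer (P : Set G))).map
        (E ⊓ centralizer (P : Set G)).subtype with hT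
      have hTC : T ≤ E ⊓ centralizer (P : Set G) := Subgroup.map_subtype_le _
      have hTE : T ≤ E := hTC.trans inf_le_left
      have hTr : IsPGroup r T := (S_r.isPGroup').map _
      have hT' : IsPGroup r (T.subgroupOf E) :=
        hTr.comap_of_injective E.subtype E.subtype_injective
      obtain ⟨R_E, hR_E⟩ := IsPGroup.exists_le_sylow hT'
      have hTR : T ≤ (R_E : Subgroup ↥E).map E.subtype := by
        intro t ht
        exact ⟨⟨t, hTE ht⟩, hR_E (by rw [Subgroup.mem_subgroupOf]; exact ht), rfl⟩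
      have hRM : (R_E : Subgroup ↥E).map E.subtype ≤ M := (Subgroup.map_subtype_le _).trans hEM
      have hRr : IsPGroup r ((R_E : Subgroup ↥E).map E.subtype) := (R_E.isPGroup').map _
      have hr2 : r ≠ 2 := Cfsg.Agent.Lib.Helper63.BG13.ne_two_of_dvd_card hG
        (hrE.trans (Subgroup.card_subgroup_dvd_card E))
      have hcyc0 : IsCyclic ↥((R_E : Subgroup ↥E).map E.subtype) :=
        Cfsg.Agent.Lib.Helper63.BG13.isCyclic_of_le_of_pRankLE_one hr2 hRr hRM hr1
      have hcyc : IsCyclic ↥(R_E : Subgroup ↥E) := by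
        haveI := hcyc0
        exact isCyclic_of_surjective
          ((Subgroup.equivMapOfInjective (R_E : Subgroup ↥E) E.subtype E.subtype_injective).symm)
          (MulEquiv.surjective _)
      have hy₀R : y₀ ∈ (R_E : Subgroup ↥E).map E.subtype := hTR hy₀T
      have hRne : (R_E : Subgroup ↥E) ≠ ⊥ := by
        intro h
        rw [h, Subgroup.map_bot] at hy₀R
        exact hy₀1 (Subgroup.mem_bot.mp hy₀R)
      have h27 := Cfsg.Agent.S1427.result hG M hM E hE r R_E hRne hcyc y₀ hy₀R hy₀1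
      refine le_inf hTC ?_
      intro t ht
      rw [mem_centralizer_iff]
      intro x hx
      have hx1 : x ∈ sigmaCore M ⊓ centralizer ((zpowers y₀ : Subgroup G) : Set G) := h13_4 (hXC hx)
      have hx2 : x ∈ sigmaCore M ⊓ centralizer ({y₀} : Set G) := by
        refine ⟨hx1.1, ?_⟩
        show x ∈ centralizer ({y₀} : Set G)
        rw [mem_centralizer_iff]
        intro z hz
        rw [Set.mem_singleton_iff] at hz
        rw [hz]
        exact mem_centralizer_iff.mp hx1.2 y₀ (Subgroup.mem_zpowers y₀)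
      rw [h27] at hx2
      exact (mem_centralizer_iff.mp hx2.2 t (hTR ht)).symm
  exact key.trans inf_le_right

/-- **Steps (b), (c)**: for `q ∉ β(M)`, a subgroup `X ≤ C_{M_σ}(P)` of order `q` lies in `(M_σ)'`. -/
theorem le_commutator_sigmaCore (hG : IsMinSimpleOddOrder G) (h28 : Stmt1428 G)
    (h1312 : Stmt1312 G) {M : Subgroup G} (hM : IsCoatom M) {E : Subgroup G}
    (hE : IsComplIn E (sigmaCore M) M) {p : ℕ} (hp : p ∈ tau1 M) {P : Subgroup G} (hPE : P ≤ E)
    (hP : Nat.card P = p) {q : ℕ} [hq : Fact q.Prime] (hqβ : q ∉ beta M) {X : Subgroup G}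
    (hX : Nat.card X = q) (hXC : X ≤ sigmaCore M ⊓ centralizer (P : Set G)) :
    X ≤ ⁅sigmaCore M, sigmaCore M⁆ := by
  have hEM : E ≤ M := hE.1
  have hWM : sigmaCore M ≤ M := hE.2.1
  have hσ : Cfsg.Agent.Lib.Helper47.BG11.SigmaHallIn M :=
    Cfsg.Agent.Lib.Helper63.BG13.hallStmt hG M hM
  have hcop : (Nat.card E).Coprime (Nat.card (sigmaCore M)) :=
    Cfsg.Agent.Lib.Helper70.BG1216.coprime_card_compl hσ hE
  have hX1 : X ≠ ⊥ := by
    intro h
    rw [h, Subgroup.card_bot] at hX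
    exact hq.out.one_lt.ne hX
  have hCX := cent_compl_le_centralizer hG h28 h1312 hM hE hp hPE hP hX1 hXC
  have hqW : q ∣ Nat.card (sigmaCore M) := by
    rw [← hX]; exact Subgroup.card_dvd_of_le (hXC.trans inf_le_left)
  have hqM : q ∣ Nat.card M := hqW.trans (Subgroup.card_dvd_of_le hWM)
  have hqE : ¬ q ∣ Nat.card E := by
    intro h
    have := Nat.dvd_gcd h hqW
    rw [hcop] at this
    exact hq.out.one_lt.ne' (Nat.dvd_one.mp this)
  obtain ⟨hnpD, hnpW, -⟩ := (Cfsg.Agent.S1414.result hG M hM).2.2.2.2 q hq.out hqM hqβ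
  have hfix := (Cfsg.Agent.S1426.result hG M hM E hE).1
  have hWn : M ≤ normalizer ((sigmaCore M : Subgroup G) : Set G) :=
    Cfsg.Agent.Lib.Helper24.BG.le_normalizer_sigmaCore M
  have hMtop : M ≠ ⊤ := hM.1
  have hEtop : E ≠ ⊤ := fun h => hMtop (top_le_iff.mp (h ▸ hEM))
  haveI : Group.IsSolvable ↥E := Cfsg.Agent.Lib.Helper23.isSolvable_of_ne_top hG hEtop
  obtain ⟨S₁, hS₁⟩ := Cfsg.Agent.Lib.Helper24.exists_invariant_sylow (p := q) E (sigmaCore M)
    (hEM.trans hWn) hcop (Or.inl inferInstance)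
  haveI hpF : Fact p.Prime := ⟨hp.1⟩
  have hD : ¬ p ∣ Nat.card ↥⁅E, E⁆ := by
    intro h
    exact hp.2.2.2.1 (h.trans (Subgroup.card_dvd_of_le (Subgroup.commutator_mono hEM hEM)))
  have hEC := le_commutator_sup_centralizer hPE hP hD
  intro a ha
  have haq : a ^ q = 1 := by
    have := pow_card_eq_one' (G := X) (x := ⟨a, ha⟩)
    rw [hX] at this
    have h2 := congrArg Subtype.val this
    simpa using h2
  refine mem_commutator_of_fixed (M := M) (W := sigmaCore M) (E := E)
    (C := E ⊓ centralizer (P : Set G)) hWM hWn hEM hqE hnpW hnpD S₁ hS₁ inf_le_left hEC hfix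
    (hXC ha).1 haq ?_
  intro c hc
  exact mem_centralizer_iff.mp (hCX hc) a ha |>.symm

/-- **Bender–Glauberman Theorem 13.5.** -/
theorem bg135 (hG : IsMinSimpleOddOrder G) (h28 : Stmt1428 G) (h1312 : Stmt1312 G)
    {M : Subgroup G} (hM : IsCoatom M) {E : Subgroup G} (hE : IsComplIn E (sigmaCore M) M)
    {p : ℕ} (hp : p ∈ tau1 M) {P : Subgroup G} (hPE : P ≤ E) (hP : Nat.card P = p)
    {q : ℕ} [hq : Fact q.Prime] {X : Subgroup G} (hX : Nat.card X = q)
    (hXC : X ≤ sigmaCore M ⊓ centralizer (P : Set G)) :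
    (centralizer (X : Set G) ≤ M ∧
        ∀ L : Subgroup G, IsCoatom L → centralizer (X : Set G) ≤ L → L = M) ∧
      ∀ S : Sylow q ↥(sigmaCore M),
        InUniqueMaximal ((S : Subgroup ↥(sigmaCore M)).map (sigmaCore M).subtype) ∧
          (S : Subgroup ↥(sigmaCore M)).map (sigmaCore M).subtype ≤ M := by
  have hXW : X ≤ sigmaCore M := hXC.trans inf_le_left
  have hqσ : q ∈ sigma M :=
    Cfsg.Agent.Lib.Helper47.BG11.mem_sigma_of_dvd_card_le hXW hq.out (by rw [hX])
  have hXM : X ≤ M := hXW.trans hE.2.1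
  have h : q ∈ beta M ∨ X ≤ ⁅sigmaCore M, sigmaCore M⁆ := by
    by_cases hqβ : q ∈ beta M
    · exact Or.inl hqβ
    · exact Or.inr (le_commutator_sigmaCore hG h28 h1312 hM hE hp hPE hP hqβ hX hXC)
  obtain ⟨S₀⟩ : Nonempty (Sylow q ↥(sigmaCore M)) := inferInstance
  refine ⟨(Cfsg.Agent.S1423.result hG M hM q hqσ X hXM hX S₀ h).1, fun S => ?_⟩
  exact (Cfsg.Agent.S1423.result hG M hM q hqσ X hXM hX S h).2

/-- Corollary: `N_G(X) ≤ M` in the situation of 13.5. -/
theorem normalizer_le_of_bg135 (hG : IsMinSimpleOddOrder G) (h28 : Stmt1428 G)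
    (h1312 : Stmt1312 G) {M : Subgroup G} (hM : IsCoatom M) {E : Subgroup G}
    (hE : IsComplIn E (sigmaCore M) M) {p : ℕ} (hp : p ∈ tau1 M) {P : Subgroup G} (hPE : P ≤ E)
    (hP : Nat.card P = p) {q : ℕ} [hq : Fact q.Prime] {X : Subgroup G} (hX : Nat.card X = q)
    (hXC : X ≤ sigmaCore M ⊓ centralizer (P : Set G)) :
    normalizer (X : Set G) ≤ M := by
  obtain ⟨⟨hc, huniq⟩, -⟩ := bg135 hG h28 h1312 hM hE hp hPE hP hX hXC
  have hXtop : normalizer (X : Set G) ≠ ⊤ := by
    intro h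
    -- `X` would be normal in the simple group `G`
    have hXn : X.Normal := Subgroup.normalizer_eq_top_iff.mp h
    have hXne : X ≠ ⊥ := by
      intro h0
      rw [h0, Subgroup.card_bot] at hX
      exact hq.out.one_lt.ne hX
    have hXT : X = ⊤ := by
      haveI : IsSimpleGroup G := hG.2.1
      exact (hXn.eq_bot_or_eq_top).resolve_left hXne
    have : M = ⊤ := top_le_iff.mp (hXT ▸ (hXC.trans inf_le_left).trans hE.2.1)
    exact hM.1 this
  obtain ⟨L, hL, hNL⟩ := Cfsg.Agent.Lib.Helper64.BG9.exists_coatom_ge hXtop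
  have hCL : centralizer (X : Set G) ≤ L :=
    (Subgroup.centralizer_le_normalizer (s := (X : Set G))).trans hNL
  rw [← huniq L hL hCL]
  exact hNL

end Cfsg.Agent.Lib.Helper64.BG135
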