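import Cfsg.Agent.Lib.Helper64.BG135Z
import Cfsg.Agent.Lib.Helper47.BG1312Main
import Cfsg.Agent.S1428

/-!
# B&G Theorem 13.5, unconditional

The hypotheses `Stmt1428` (= S1428, B&G 13.4) and `Stmt1312` (= B&G 13.12, helper47) of
`Lib/Helper64/BG135` discharged.
-/

set_option autoImplicit false
set_option linter.unusedSectionVars false
set_option linter.unusedVariables false

namespace Cfsg.Agent.Lib.Helper64.BG135

open Subgroup Cfsg Cfsg.Agent.Lib.Helper33 Cfsg.Agent.Lib.Helper32.BG142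

universe u

variable {G : Type u} [Group G] [Finite G]

/-- S1428 = B&G 13.4. -/
theorem stmt1428 (hG : IsMinSimpleOddOrder G) : Stmt1428 G :=
  fun M hM E hE p hp P hPE hP R hRE hR =>
    Cfsg.Agent.S1428.result hG M hM E hE p hp P hPE hP R hRE hR

/-- B&G 13.12. -/
theorem stmt1312 (hG : IsMinSimpleOddOrder G) : Stmt1312 G :=
  fun M hM E hE p hp P hPE hP q hq A hAE hAe hAc hAP =>
    Cfsg.Agent.Lib.Helper47.BG1312.stmt1312 hG M E hM hE p hp P hPE hP q hq A hAE hAe hAc hAP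

/-- **B&G Theorem 13.5**, unconditional. -/
theorem bg135_final (hG : IsMinSimpleOddOrder G)
    {M : Subgroup G} (hM : IsCoatom M) {E : Subgroup G} (hE : IsComplIn E (sigmaCore M) M)
    {p : ℕ} (hp : p ∈ tau1 M) {P : Subgroup G} (hPE : P ≤ E) (hP : Nat.card P = p)
    {q : ℕ} [hq : Fact q.Prime] {X : Subgroup G} (hX : Nat.card X = q)
    (hXC : X ≤ sigmaCore M ⊓ centralizer (P : Set G)) :
    (centralizer (X : Set G) ≤ M ∧
        ∀ L : Subgroup G, IsCoatom L → centralizer (X : Set G) ≤ L → L = M) ∧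
      ∀ S : Sylow q ↥(sigmaCore M),
        InUniqueMaximal ((S : Subgroup ↥(sigmaCore M)).map (sigmaCore M).subtype) ∧
          (S : Subgroup ↥(sigmaCore M)).map (sigmaCore M).subtype ≤ M :=
  bg135 hG (stmt1428 hG) (stmt1312 hG) hM hE hp hPE hP hX hXC

/-- B&G 13.5 for `P ≤ M` (no complement given). -/
theorem bg135_of_le_final (hG : IsMinSimpleOddOrder G)
    {M : Subgroup G} (hM : IsCoatom M) {p : ℕ} (hp : p ∈ tau1 M) {P : Subgroup G} (hPM : P ≤ M)
    (hP : Nat.card P = p) {q : ℕ} [hq : Fact q.Prime] {X : Subgroup G} (hX : Nat.card X = q)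
    (hXC : X ≤ sigmaCore M ⊓ centralizer (P : Set G)) :
    (centralizer (X : Set G) ≤ M ∧
        ∀ L : Subgroup G, IsCoatom L → centralizer (X : Set G) ≤ L → L = M) ∧
      ∀ S : Sylow q ↥(sigmaCore M),
        InUniqueMaximal ((S : Subgroup ↥(sigmaCore M)).map (sigmaCore M).subtype) ∧
          (S : Subgroup ↥(sigmaCore M)).map (sigmaCore M).subtype ≤ M :=
  bg135_of_le hG (stmt1428 hG) (stmt1312 hG) hM hp hPM hP hX hXC

/-- `N_G(X) ≤ M` in the situation of 13.5. -/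
theorem normalizer_le_final (hG : IsMinSimpleOddOrder G) {M : Subgroup G} (hM : IsCoatom M)
    {E : Subgroup G} (hE : IsComplIn E (sigmaCore M) M) {p : ℕ} (hp : p ∈ tau1 M)
    {P : Subgroup G} (hPE : P ≤ E) (hP : Nat.card P = p) {q : ℕ} [hq : Fact q.Prime]
    {X : Subgroup G} (hX : Nat.card X = q)
    (hXC : X ≤ sigmaCore M ⊓ centralizer (P : Set G)) : normalizer (X : Set G) ≤ M :=
  normalizer_le_of_bg135 hG (stmt1428 hG) (stmt1312 hG) hM hE hp hPE hP hX hXC

/-- `C_E(P)` centralizes `C_{M_σ}(P)`. -/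
theorem cent_compl_le_centralizer_final (hG : IsMinSimpleOddOrder G) {M : Subgroup G}
    (hM : IsCoatom M) {E : Subgroup G} (hE : IsComplIn E (sigmaCore M) M) {p : ℕ}
    (hp : p ∈ tau1 M) {P : Subgroup G} (hPE : P ≤ E) (hP : Nat.card P = p) :
    E ⊓ centralizer (P : Set G) ≤
      centralizer ((sigmaCore M ⊓ centralizer (P : Set G) : Subgroup G) : Set G) := by
  by_cases h : sigmaCore M ⊓ centralizer (P : Set G) = ⊥
  · rw [h]
    intro x _
    rw [mem_centralizer_iff]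
    intro y hy
    have : y = 1 := Subgroup.mem_bot.mp hy
    rw [this, one_mul, mul_one]
  · exact cent_compl_le_centralizer hG (stmt1428 hG) (stmt1312 hG) hM hE hp hPE hP h le_rfl

/-- For `q ∉ β(M)`: `X ≤ (M_σ)'`. -/
theorem le_commutator_sigmaCore_final (hG : IsMinSimpleOddOrder G) {M : Subgroup G}
    (hM : IsCoatom M) {E : Subgroup G} (hE : IsComplIn E (sigmaCore M) M) {p : ℕ}
    (hp : p ∈ tau1 M) {P : Subgroup G} (hPE : P ≤ E) (hP : Nat.card P = p) {q : ℕ}
    [hq : Fact q.Prime] (hqβ : q ∉ beta M) {X : Subgroup G} (hX : Nat.card X = q)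
    (hXC : X ≤ sigmaCore M ⊓ centralizer (P : Set G)) :
    X ≤ ⁅sigmaCore M, sigmaCore M⁆ :=
  le_commutator_sigmaCore hG (stmt1428 hG) (stmt1312 hG) hM hE hp hPE hP hqβ hX hXC

/-- **(HZ) of B&G 14.2**, unconditional. -/
theorem stmtZ_final (hG : IsMinSimpleOddOrder G) {M : Subgroup G} (hM : IsCoatom M)
    {K : Subgroup G} (hKM : K ≤ M) (hτ : ∃ p ∈ tau1 M, p ∣ Nat.card K) {Y : Subgroup G}
    (hY : Y ≤ sigmaCore M ⊓ centralizer (K : Set G)) (hYp : (Nat.card Y).Prime) :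
    (centralizer (Y : Set G) ≤ M ∧
        ∀ L : Subgroup G, IsCoatom L → centralizer (Y : Set G) ≤ L → L = M) ∧
      normalizer (Y : Set G) ≤ M :=
  stmtZ_of hG (stmt1428 hG) (stmt1312 hG) hM hKM hτ hY hYp

end Cfsg.Agent.Lib.Helper64.BG135
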