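import Cfsg.Agent.Lib.Helper64.BG135

/-!
# Consequences of B&G 13.5 for Theorem 14.2

`stmtZ_of`: for a Hall `κ(M)`-subgroup `K` of `M` whose order is divisible by a prime of `τ₁(M)`,
every subgroup `Y` of prime order of `K* = C_{M_σ}(K)` has `𝓜(C_G(Y)) = {M}`.
-/

set_option autoImplicit false
set_option linter.unusedSectionVars false
set_option linter.unusedVariables false
set_option linter.style.haveILetI false

namespace Cfsg.Agent.Lib.Helper64.BG135

open Subgroup Cfsg Cfsg.Agent.Lib.Helper33 Cfsg.Agent.Lib.Helper32.BG142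

universe u

variable {G : Type u} [Group G] [Finite G]

/-- A subgroup `P ≤ M` of prime order `p ∈ τ₁(M)` lies in a complement of `M_σ`; so 13.5 holds for
every such `P` (no complement given in advance). -/
theorem bg135_of_le (hG : IsMinSimpleOddOrder G) (h28 : Stmt1428 G) (h1312 : Stmt1312 G)
    {M : Subgroup G} (hM : IsCoatom M) {p : ℕ} (hp : p ∈ tau1 M) {P : Subgroup G} (hPM : P ≤ M)
    (hP : Nat.card P = p) {q : ℕ} [hq : Fact q.Prime] {X : Subgroup G} (hX : Nat.card X = q)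
    (hXC : X ≤ sigmaCore M ⊓ centralizer (P : Set G)) :
    (centralizer (X : Set G) ≤ M ∧
        ∀ L : Subgroup G, IsCoatom L → centralizer (X : Set G) ≤ L → L = M) ∧
      ∀ S : Sylow q ↥(sigmaCore M),
        InUniqueMaximal ((S : Subgroup ↥(sigmaCore M)).map (sigmaCore M).subtype) ∧
          (S : Subgroup ↥(sigmaCore M)).map (sigmaCore M).subtype ≤ M := by
  have hσ : Cfsg.Agent.Lib.Helper47.BG11.SigmaHallIn M :=
    Cfsg.Agent.Lib.Helper63.BG13.hallStmt hG M hM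
  have hcop : (Nat.card P).Coprime (Nat.card (sigmaCore M)) := by
    rw [hP]
    rw [Nat.Prime.coprime_iff_not_dvd hp.1]
    intro h
    exact hp.2.1 (Cfsg.Agent.Lib.Helper47.BG11.mem_sigma_of_dvd_card_le le_rfl hp.1 h)
  obtain ⟨E, hE, hPE⟩ := Cfsg.Agent.Lib.Helper63.BG13.exists_compl_ge hG hM.1 hσ hPM hcop
  exact bg135 hG h28 h1312 hM hE hp hPE hP hX hXC

/-- **(HZ) of B&G 14.2**: `K` a Hall `κ(M)`-subgroup (any subgroup of `M` will do) whose order is
divisible by a prime of `τ₁(M)`; every `Y ≤ C_{M_σ}(K)` of prime order has `𝓜(C_G(Y)) = {M}`. -/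
theorem stmtZ_of (hG : IsMinSimpleOddOrder G) (h28 : Stmt1428 G) (h1312 : Stmt1312 G)
    {M : Subgroup G} (hM : IsCoatom M) {K : Subgroup G} (hKM : K ≤ M)
    (hτ : ∃ p ∈ tau1 M, p ∣ Nat.card K) {Y : Subgroup G}
    (hY : Y ≤ sigmaCore M ⊓ centralizer (K : Set G)) (hYp : (Nat.card Y).Prime) :
    (centralizer (Y : Set G) ≤ M ∧
        ∀ L : Subgroup G, IsCoatom L → centralizer (Y : Set G) ≤ L → L = M) ∧
      normalizer (Y : Set G) ≤ M := by
  obtain ⟨p, hp, hpK⟩ := hτ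
  haveI : Fact p.Prime := ⟨hp.1⟩
  obtain ⟨x, hx⟩ := exists_prime_orderOf_dvd_card' p hpK
  have hxo : orderOf (x : G) = p := by rw [Subgroup.orderOf_coe]; exact hx
  have hPc : Nat.card (zpowers (x : G)) = p := by rw [Nat.card_zpowers, hxo]
  have hPK : zpowers (x : G) ≤ K := by rw [Subgroup.zpowers_le]; exact x.2
  haveI : Fact (Nat.card Y).Prime := ⟨hYp⟩
  have hYC : Y ≤ sigmaCore M ⊓ centralizer ((zpowers (x : G) : Subgroup G) : Set G) :=
    hY.trans (inf_le_inf_left _ (Subgroup.centralizer_le hPK))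
  have h1 := bg135_of_le hG h28 h1312 hM hp (hPK.trans hKM) hPc rfl hYC
  refine ⟨h1.1, ?_⟩
  -- `N_G(Y) ≤ M`
  have hσ : Cfsg.Agent.Lib.Helper47.BG11.SigmaHallIn M :=
    Cfsg.Agent.Lib.Helper63.BG13.hallStmt hG M hM
  have hcop : (Nat.card (zpowers (x : G))).Coprime (Nat.card (sigmaCore M)) := by
    rw [hPc]
    rw [Nat.Prime.coprime_iff_not_dvd hp.1]
    intro h
    exact hp.2.1 (Cfsg.Agent.Lib.Helper47.BG11.mem_sigma_of_dvd_card_le le_rfl hp.1 h)
  obtain ⟨E, hE, hPE⟩ := Cfsg.Agent.Lib.Helper63.BG13.exists_compl_ge hG hM.1 hσ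
    (hPK.trans hKM) hcop
  exact normalizer_le_of_bg135 hG h28 h1312 hM hE hp hPE hPc rfl hYC

end Cfsg.Agent.Lib.Helper64.BG135
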