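import Mathlib
import Cfsg.Prelude.Def_Transfer
import Cfsg.Agent.Lib.Helper33.PStabX1
import Cfsg.Agent.Lib.Helper11.FrattiniFusion

/-!
# Bender–Glauberman Theorem 13.5, pure group theory part

* `top_le_commutator_sup_centralizer`, `le_commutator_sup_centralizer`: if `P ≤ E` has prime order
  `p` not dividing `|E'|` then `E = E' C_E(P)` (Frattini argument).
* `exists_normal_compl`: a group with a normal `q`-complement `K₀`: elementwise description of `K₀`
  and the factorisation `W = K₀ S` for every Sylow `q`-subgroup `S`.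
* `mem_commutator_of_fixed`: the mechanism of B&G 13.5 (`= Lemma K + 12.13`).
-/

set_option autoImplicit false
set_option linter.unusedSectionVars false
set_option linter.unusedVariables false

namespace Cfsg.Agent.Lib.Helper64.BG135

open Subgroup Cfsg Cfsg.Agent.Lib.Helper33

universe u

/-! ### the Frattini step -/

/-- Abstract form: if `P` has prime order `p` and `p ∤ |E'|` then `E = E' C_E(P)`. -/
theorem top_le_commutator_sup_centralizer {E : Type u} [Group E] [Finite E] {p : ℕ}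
    [hp : Fact p.Prime] (P : Subgroup E) (hP : Nat.card P = p)
    (hD : ¬ p ∣ Nat.card ↥(commutator E)) :
    ∀ e : E, e ∈ commutator E ⊔ centralizer (P : Set E) := by
  intro e
  have hPp : IsPGroup p P := IsPGroup.of_card (n := 1) (by rw [hP, pow_one])
  have hcop : (Nat.card ↥(commutator E)).Coprime p :=
    ((Nat.Prime.coprime_iff_not_dvd hp.out).mpr hD).symm
  have hIs : ¬ p ∣ P.relIndex (commutator E ⊔ P) := by
    have := Cfsg.Agent.Lib.Helper11.not_dvd_relIndex_sup_of_coprime (p := p) (commutator E) hcop P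
    rwa [sup_comm] at this
  have hLM : (⊤ : Subgroup E) ≤ normalizer ((commutator E ⊔ P : Subgroup E) : Set E) := by
    have hcl : ∀ g : E, ∀ n ∈ commutator E ⊔ P, g * n * g⁻¹ ∈ commutator E ⊔ P := by
      intro g n hn
      have h1 : g * n * g⁻¹ * n⁻¹ ∈ commutator E := by
        have := Subgroup.commutator_mem_commutator (H₁ := (⊤ : Subgroup E)) (H₂ := ⊤)
          (Subgroup.mem_top g) (Subgroup.mem_top n)
        rw [commutatorElement_def] at this
        rw [commutator_def]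
        exact this
      have h2 : g * n * g⁻¹ = (g * n * g⁻¹ * n⁻¹) * n := by group
      rw [h2]
      exact (commutator E ⊔ P).mul_mem (le_sup_left (a := commutator E) (b := P) h1) hn
    intro g _
    rw [mem_normalizer_iff]
    intro n
    constructor
    · exact hcl g n
    · intro h
      have := hcl g⁻¹ _ h
      have h3 : g⁻¹ * (g * n * g⁻¹) * g⁻¹⁻¹ = n := by group
      rwa [h3] at this
  obtain ⟨m, hm, n, hn, rfl⟩ := frattini_rel (L := ⊤) (M := commutator E ⊔ P) (I := P)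
    le_top hLM le_sup_right hPp hIs (Subgroup.mem_top e)
  -- `P` is abelian
  have : IsCyclic P := isCyclic_of_prime_card hP
  have hPab : P ≤ centralizer (P : Set E) := by
    intro x hx
    rw [mem_centralizer_iff]
    intro y hy
    obtain ⟨g, hg⟩ := IsCyclic.exists_generator (α := P)
    obtain ⟨i, hi⟩ := Subgroup.mem_zpowers_iff.mp (hg ⟨x, hx⟩)
    obtain ⟨j, hj⟩ := Subgroup.mem_zpowers_iff.mp (hg ⟨y, hy⟩)
    have hx' : x = (g : E) ^ i := by
      have := congrArg (Subtype.val) hi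
      simpa using this.symm
    have hy' : y = (g : E) ^ j := by
      have := congrArg (Subtype.val) hj
      simpa using this.symm
    rw [hx', hy']
    exact (Commute.zpow_zpow_self (g : E) j i).eq
  -- `N_E(P) ≤ C_E(P)`
  have hNC : n ∈ centralizer (P : Set E) := by
    rw [mem_centralizer_iff]
    intro x hx
    have hnP : n * x * n⁻¹ ∈ P := (mem_normalizer_iff.mp hn.2 x).mp hx
    have hz1 : n * x * n⁻¹ * x⁻¹ ∈ P := P.mul_mem hnP (P.inv_mem hx)
    have hz2 : n * x * n⁻¹ * x⁻¹ ∈ commutator E := by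
      have := Subgroup.commutator_mem_commutator (H₁ := (⊤ : Subgroup E)) (H₂ := ⊤)
        (Subgroup.mem_top n) (Subgroup.mem_top x)
      rw [commutatorElement_def] at this
      rw [commutator_def]
      exact this
    have hz : n * x * n⁻¹ * x⁻¹ = 1 :=
      Cfsg.Agent.Lib.Helper11.eq_one_of_mem_pGroup_of_mem_coprime (p := p) hcop hPp hz1 hz2
    have h1 : n * x * n⁻¹ = x := mul_inv_eq_one.mp hz
    have h2 : n * x = x * n := mul_inv_eq_iff_eq_mul.mp h1
    exact h2.symm
  have hm' : m ∈ commutator E ⊔ centralizer (P : Set E) :=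
    (sup_le_sup_left hPab (commutator E)) hm
  exact (commutator E ⊔ centralizer (P : Set E)).mul_mem hm' (le_sup_right (a := commutator E) hNC)

variable {G : Type u} [Group G] [Finite G]

/-- Relative form: `P ≤ E` of prime order `p`, `p ∤ |E'|`: `E ≤ E' C_E(P)`. -/
theorem le_commutator_sup_centralizer {E P : Subgroup G} {p : ℕ} [hp : Fact p.Prime]
    (hPE : P ≤ E) (hP : Nat.card P = p) (hD : ¬ p ∣ Nat.card ↥⁅E, E⁆) :
    E ≤ ⁅E, E⁆ ⊔ (E ⊓ centralizer (P : Set G)) := by
  intro e he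
  have hmapc : (commutator ↥E).map E.subtype = ⁅E, E⁆ := Subgroup.map_subtype_commutator E
  have hcard : Nat.card ↥(commutator ↥E) = Nat.card ↥⁅E, E⁆ := by
    rw [← hmapc]
    exact (Subgroup.card_map_of_injective E.subtype_injective).symm
  have hP' : Nat.card ↥(P.subgroupOf E) = p := by
    rw [← hP]
    exact Nat.card_congr (Subgroup.subgroupOfEquivOfLe hPE).toEquiv
  have hD' : ¬ p ∣ Nat.card ↥(commutator ↥E) := by rw [hcard]; exact hD
  have h := top_le_commutator_sup_centralizer (P.subgroupOf E) hP' hD' ⟨e, he⟩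
  have h2 : e ∈ (commutator ↥E ⊔ centralizer ((P.subgroupOf E : Subgroup ↥E) : Set ↥E)).map
      E.subtype := ⟨⟨e, he⟩, h, rfl⟩
  rw [Subgroup.map_sup, hmapc] at h2
  have hle : (centralizer ((P.subgroupOf E : Subgroup ↥E) : Set ↥E)).map E.subtype ≤
      E ⊓ centralizer (P : Set G) := ?_
  · exact (sup_le_sup_left hle _) h2
  rintro x ⟨x', hx', rfl⟩
  refine ⟨x'.2, ?_⟩
  show E.subtype x' ∈ centralizer (P : Set G)
  rw [mem_centralizer_iff]
  intro y hy
  have := (mem_centralizer_iff.mp hx') ⟨y, hPE hy⟩ (by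
    show (⟨y, hPE hy⟩ : ↥E) ∈ P.subgroupOf E
    rw [Subgroup.mem_subgroupOf]; exact hy)
  have h3 := congrArg (Subtype.val) this
  simpa using h3

/-! ### normal `q`-complements -/

/-- A group with a normal `q`-complement: there is a subgroup `K₀` consisting exactly of the
elements of order prime to `q`, and `W = K₀ S` for every Sylow `q`-subgroup `S`. -/
theorem exists_normal_compl {q : ℕ} [hq : Fact q.Prime] {W : Subgroup G}
    (h : HasNormalPComplement q ↥W) :
    ∃ K₀ : Subgroup G, K₀ ≤ W ∧ (∀ x ∈ W, x ∈ K₀ ↔ (orderOf x).Coprime q) ∧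
      ∀ S₁ : Sylow q ↥W, ∀ a ∈ W, ∃ k ∈ K₀, ∃ s ∈ (S₁ : Subgroup ↥W).map W.subtype, a = k * s := by
  obtain ⟨Q, N, hNn, hNQ⟩ := h
  have := hNn
  have hcardQ : ∀ S₁ : Sylow q ↥W, Nat.card (S₁ : Subgroup ↥W) = q ^ (Nat.card ↥W).factorization q :=
    fun S₁ => Sylow.card_eq_multiplicity S₁
  have hmul : Nat.card N * Nat.card (Q : Subgroup ↥W) = Nat.card ↥W := hNQ.card_mul_card
  have hqN : ¬ q ∣ Nat.card N := by
    intro hdiv
    obtain ⟨t, ht⟩ := hdiv
    have h0 : Nat.card ↥W = q ^ ((Nat.card ↥W).factorization q + 1) * t :=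
      hmul.symm.trans (by rw [hcardQ Q, ht, pow_succ]; ring)
    have h1 : q ^ ((Nat.card ↥W).factorization q + 1) ∣ Nat.card ↥W := ⟨t, h0⟩
    exact Nat.pow_succ_factorization_not_dvd Nat.card_pos.ne' hq.out h1
  have hNidx : N.index = q ^ (Nat.card ↥W).factorization q := by
    rw [← hcardQ Q]; exact hNQ.symm.index_eq_card
  have hchar : ∀ x : ↥W, x ∈ N ↔ (orderOf x).Coprime q := by
    intro x
    constructor
    · intro hx
      have h1 : orderOf x ∣ Nat.card N := by
        have := orderOf_dvd_natCard (⟨x, hx⟩ : N)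
        rwa [Subgroup.orderOf_mk] at this
      rw [Nat.coprime_comm, Nat.Prime.coprime_iff_not_dvd hq.out]
      exact fun h2 => hqN (h2.trans h1)
    · intro hx
      have h1 : ((QuotientGroup.mk' N) x) ^ orderOf x = 1 := by
        rw [← map_pow, pow_orderOf_eq_one, map_one]
      have h2 : ((QuotientGroup.mk' N) x) ^ (q ^ (Nat.card ↥W).factorization q) = 1 := by
        have : Nat.card (↥W ⧸ N) = q ^ (Nat.card ↥W).factorization q := by
          rw [← hNidx]; rfl
        rw [← this]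
        exact pow_card_eq_one'
      have h3 : orderOf ((QuotientGroup.mk' N) x) ∣ Nat.gcd (orderOf x)
          (q ^ (Nat.card ↥W).factorization q) :=
        Nat.dvd_gcd (orderOf_dvd_of_pow_eq_one h1) (orderOf_dvd_of_pow_eq_one h2)
      have h4 : Nat.gcd (orderOf x) (q ^ (Nat.card ↥W).factorization q) = 1 :=
        Nat.Coprime.pow_right _ hx
      rw [h4, Nat.dvd_one, orderOf_eq_one_iff] at h3
      exact (QuotientGroup.eq_one_iff x).mp h3
  refine ⟨N.map W.subtype, Subgroup.map_subtype_le N, ?_, ?_⟩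
  · intro x hx
    have h1 : x ∈ N.map W.subtype ↔ (⟨x, hx⟩ : ↥W) ∈ N := by
      constructor
      · rintro ⟨y, hy, hyx⟩
        have : y = ⟨x, hx⟩ := Subtype.ext hyx
        rwa [← this]
      · intro h; exact ⟨⟨x, hx⟩, h, rfl⟩
    rw [h1, hchar, Subgroup.orderOf_mk]
  · intro S₁ a ha
    have hcop : (Nat.card N).Coprime (Nat.card (S₁ : Subgroup ↥W)) := by
      rw [hcardQ S₁]
      apply Nat.Coprime.pow_right
      rw [Nat.coprime_comm, Nat.Prime.coprime_iff_not_dvd hq.out]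
      exact hqN
    have hmul' : Nat.card N * Nat.card (S₁ : Subgroup ↥W) = Nat.card ↥W := by
      rw [hcardQ S₁, ← hcardQ Q]; exact hmul
    have hc : N.IsComplement' (S₁ : Subgroup ↥W) :=
      Subgroup.isComplement'_of_coprime hmul' hcop
    obtain ⟨⟨⟨k, hk⟩, ⟨s, hs⟩⟩, hks⟩ := hc.2 ⟨a, ha⟩
    refine ⟨k, ⟨k, hk, rfl⟩, s, ⟨s, hs, rfl⟩, ?_⟩
    have := congrArg Subtype.val hks
    simpa using this.symm

/-- Conjugation preserves the order of an element. -/
theorem orderOf_conj' (c x : G) : orderOf (c * x * c⁻¹) = orderOf x := by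
  have := MulEquiv.orderOf_eq (MulAut.conj c) x
  rwa [MulAut.conj_apply] at this

/-- An element of order prime to `q` in a `q`-subgroup is trivial. -/
theorem eq_one_of_coprime_of_mem_pGroup {q : ℕ} [hq : Fact q.Prime] {S : Subgroup G}
    (hS : IsPGroup q S) {z : G} (hz : z ∈ S) (hc : (orderOf z).Coprime q) : z = 1 := by
  obtain ⟨j, hj⟩ := hS ⟨z, hz⟩
  have h1 : z ^ q ^ j = 1 := by
    have := congrArg Subtype.val hj
    simpa using this
  have h2 : orderOf z ∣ q ^ j := orderOf_dvd_of_pow_eq_one h1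
  have h3 : (orderOf z).Coprime (q ^ j) := Nat.Coprime.pow_right _ hc
  exact orderOf_eq_one_iff.mp (Nat.Coprime.eq_one_of_dvd h3 h2)

/-! ### the mechanism of 13.5 -/

/-- **Mechanism of B&G 13.5.**  `W ⊴ M` and `M'` have normal `q`-complements, `E ≤ M` is a
`q'`-subgroup normalizing a Sylow `q`-subgroup `S` of `W`, `E = E' C` with `C ≤ E`, and
`C_W(E) ≤ W'`.  Then every element `a ∈ W` with `a ^ q = 1` centralized by `C` lies in `W'`. -/
theorem mem_commutator_of_fixed {q : ℕ} [hq : Fact q.Prime] {M W E C : Subgroup G}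
    (hWM : W ≤ M) (hWn : M ≤ normalizer (W : Set G)) (hEM : E ≤ M)
    (hqE : ¬ q ∣ Nat.card E)
    (hnpW : HasNormalPComplement q ↥W) (hnpD : HasNormalPComplement q ↥⁅M, M⁆)
    (S₁ : Sylow q ↥W)
    (hES : E ≤ normalizer ((((S₁ : Subgroup ↥W).map W.subtype : Subgroup G)) : Set G))
    (hCE : C ≤ E) (hEC : E ≤ ⁅E, E⁆ ⊔ C)
    (hfix : W ⊓ centralizer (E : Set G) ≤ ⁅W, W⁆)
    {a : G} (haW : a ∈ W) (haq : a ^ q = 1) (haC : ∀ c ∈ C, c * a = a * c) :
    a ∈ ⁅W, W⁆ := by
  obtain ⟨K₀, hK₀W, hK₀, hdec⟩ := exists_normal_compl hnpW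
  obtain ⟨O, hOD, hO, -⟩ := exists_normal_compl hnpD
  obtain ⟨k, hk, s, hs, rfl⟩ := hdec S₁ a haW
  set S : Subgroup G := (S₁ : Subgroup ↥W).map W.subtype with hSdef
  have hSW : S ≤ W := Subgroup.map_subtype_le _
  have hSq : IsPGroup q S := (S₁.isPGroup').map _
  have hkW : k ∈ W := hK₀W hk
  have hsW : s ∈ W := hSW hs
  -- `C` centralizes `s`
  have h1 : ∀ c ∈ C, c * s = s * c := by
    intro c hc
    have hcM : c ∈ M := hEM (hCE hc)
    have hk2W : c * k * c⁻¹ ∈ W := (mem_normalizer_iff.mp (hWn hcM) k).mp hkW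
    have hk2 : c * k * c⁻¹ ∈ K₀ := by
      rw [hK₀ _ hk2W, orderOf_conj']
      exact (hK₀ k hkW).mp hk
    have hs2 : c * s * c⁻¹ ∈ S := (mem_normalizer_iff.mp (hES (hCE hc)) s).mp hs
    have heq : (c * k * c⁻¹) * (c * s * c⁻¹) = k * s := by
      have h0 := haC c hc
      have h00 : (c * k * c⁻¹) * (c * s * c⁻¹) = c * (k * s) * c⁻¹ := by group
      rw [h00, h0]; group
    have hz : k⁻¹ * (c * k * c⁻¹) = s * (c * s * c⁻¹)⁻¹ := by
      have h3 : (c * k * c⁻¹) = k * s * (c * s * c⁻¹)⁻¹ := by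
        rw [← heq]; group
      rw [h3]; group
    have hzK : k⁻¹ * (c * k * c⁻¹) ∈ K₀ := K₀.mul_mem (K₀.inv_mem hk) hk2
    have hzS : k⁻¹ * (c * k * c⁻¹) ∈ S := by
      rw [hz]; exact S.mul_mem hs (S.inv_mem hs2)
    have hz1 : k⁻¹ * (c * k * c⁻¹) = 1 :=
      eq_one_of_coprime_of_mem_pGroup hSq hzS ((hK₀ _ (hK₀W hzK)).mp hzK)
    rw [hz] at hz1
    have h4 : s = c * s * c⁻¹ := mul_inv_eq_one.mp hz1
    have h5 : c * s = c * s * c⁻¹ * c := by group
    rw [h5, ← h4]
  -- `E'` centralizes `s`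
  have hEE : ⁅E, E⁆ ≤ E := by
    rw [Subgroup.commutator_le]
    intro x hx y hy
    rw [commutatorElement_def]
    exact E.mul_mem (E.mul_mem (E.mul_mem hx hy) (E.inv_mem hx)) (E.inv_mem hy)
  have hDn : ∀ g ∈ M, ∀ x ∈ ⁅M, M⁆, g * x * g⁻¹ ∈ ⁅M, M⁆ := by
    intro g hg x hx
    have hxM : x ∈ M := by
      have : ⁅M, M⁆ ≤ M := by
        rw [Subgroup.commutator_le]
        intro x hx y hy
        rw [commutatorElement_def]
        exact M.mul_mem (M.mul_mem (M.mul_mem hx hy) (M.inv_mem hx)) (M.inv_mem hy)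
      exact this hx
    have h0 : g * x * g⁻¹ * x⁻¹ ∈ ⁅M, M⁆ := by
      have := Subgroup.commutator_mem_commutator hg hxM
      rwa [commutatorElement_def] at this
    have h00 : g * x * g⁻¹ = (g * x * g⁻¹ * x⁻¹) * x := by group
    rw [h00]
    exact (⁅M, M⁆).mul_mem h0 hx
  have h2 : ∀ d ∈ ⁅E, E⁆, d * s = s * d := by
    intro d hd
    have hdE : d ∈ E := hEE hd
    have hdD : d ∈ ⁅M, M⁆ := Subgroup.commutator_mono hEM hEM hd
    have hdq : (orderOf d).Coprime q := by
      rw [Nat.coprime_comm, Nat.Prime.coprime_iff_not_dvd hq.out]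
      intro h
      apply hqE
      have := orderOf_dvd_natCard (⟨d, hdE⟩ : E)
      rw [Subgroup.orderOf_mk] at this
      exact h.trans this
    have hdO : d ∈ O := (hO d hdD).mpr hdq
    have hsM : s ∈ M := hWM hsW
    have hd2D : s * d * s⁻¹ ∈ ⁅M, M⁆ := hDn s hsM d hdD
    have hd2O : s * d * s⁻¹ ∈ O := by
      rw [hO _ hd2D, orderOf_conj']; exact hdq
    have hzO : s * d * s⁻¹ * d⁻¹ ∈ O := O.mul_mem hd2O (O.inv_mem hdO)
    have hzS : s * d * s⁻¹ * d⁻¹ ∈ S := by
      have h0 : d * s⁻¹ * d⁻¹ ∈ S :=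
        (mem_normalizer_iff.mp (hES hdE) s⁻¹).mp (S.inv_mem hs)
      have h00 : s * d * s⁻¹ * d⁻¹ = s * (d * s⁻¹ * d⁻¹) := by group
      rw [h00]; exact S.mul_mem hs h0
    have hz1 : s * d * s⁻¹ * d⁻¹ = 1 :=
      eq_one_of_coprime_of_mem_pGroup hSq hzS ((hO _ (hOD hzO)).mp hzO)
    have h3 : s * d * s⁻¹ = d := mul_inv_eq_one.mp hz1
    have h4 : s * d = d * s := mul_inv_eq_iff_eq_mul.mp h3
    exact h4.symm
  -- so `s ∈ C_W(E) ≤ W'`
  have hsE : s ∈ centralizer (E : Set G) := by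
    have hle : ⁅E, E⁆ ⊔ C ≤ centralizer ({s} : Set G) := by
      apply sup_le
      · intro d hd
        rw [mem_centralizer_iff]
        intro y hy
        rw [Set.mem_singleton_iff] at hy
        rw [hy]; exact (h2 d hd).symm
      · intro c hc
        rw [mem_centralizer_iff]
        intro y hy
        rw [Set.mem_singleton_iff] at hy
        rw [hy]; exact (h1 c hc).symm
    rw [mem_centralizer_iff]
    intro e he
    have := mem_centralizer_iff.mp (hle (hEC he)) s (Set.mem_singleton s)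
    exact this.symm
  have hsW2 : s ∈ ⁅W, W⁆ := hfix ⟨hsW, hsE⟩
  -- pass to `W / W'`
  have hmapc : (commutator ↥W).map W.subtype = ⁅W, W⁆ := Subgroup.map_subtype_commutator W
  have hs' : (⟨s, hsW⟩ : ↥W) ∈ commutator ↥W := by
    rw [← hmapc] at hsW2
    obtain ⟨y, hy, hys⟩ := hsW2
    have : y = ⟨s, hsW⟩ := Subtype.ext hys
    rwa [← this]
  have hkq : (orderOf k).Coprime q := (hK₀ k hkW).mp hk
  set φ := QuotientGroup.mk' (commutator ↥W) with hφ
  have e1 : φ ⟨k * s, haW⟩ = φ ⟨k, hkW⟩ := by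
    have : (⟨k * s, haW⟩ : ↥W) = ⟨k, hkW⟩ * ⟨s, hsW⟩ := rfl
    rw [this, map_mul]
    have : φ ⟨s, hsW⟩ = 1 := (QuotientGroup.eq_one_iff _).mpr hs'
    rw [this, mul_one]
  have e2 : (φ ⟨k * s, haW⟩) ^ q = 1 := by
    rw [← map_pow]
    have : (⟨k * s, haW⟩ : ↥W) ^ q = 1 := Subtype.ext (by simpa using haq)
    rw [this, map_one]
  have e3 : (φ ⟨k * s, haW⟩) ^ orderOf k = 1 := by
    rw [e1, ← map_pow]
    have : (⟨k, hkW⟩ : ↥W) ^ orderOf k = 1 := Subtype.ext (by simp [pow_orderOf_eq_one])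
    rw [this, map_one]
  have e4 : orderOf (φ ⟨k * s, haW⟩) ∣ Nat.gcd (orderOf k) q :=
    Nat.dvd_gcd (orderOf_dvd_of_pow_eq_one e3) (orderOf_dvd_of_pow_eq_one e2)
  rw [hkq, Nat.dvd_one, orderOf_eq_one_iff] at e4
  have e5 : (⟨k * s, haW⟩ : ↥W) ∈ commutator ↥W := (QuotientGroup.eq_one_iff _).mp e4
  rw [← hmapc]
  exact ⟨⟨k * s, haW⟩, e5, rfl⟩

end Cfsg.Agent.Lib.Helper64.BG135
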