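import Cfsg.Agent.S1395
import Cfsg.Agent.Lib.Helper56.BG95U
import Cfsg.Agent.Lib.Helper64.BG95Sig
import Cfsg.Agent.Lib.Helper64.BG95Same

set_option autoImplicit false

/-!
# BG 9.5: assembly of the parts

`bg95_of_parts`: under the contradiction hypothesis `A ∉ 𝓤` for `A ∈ SCN_3(P)`, the three parts
(PART I: every maximal subgroup over the normalizer of a nontrivial member of `И*(P;q)` contains `P`
in its derived group and has a large `O_t`, `t ≠ p`; PART III: two such maximal subgroups for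
different primes coincide; (b): such maximal subgroups contain `K = O_{p'}(C_G(A))`) give `False`.
-/

namespace Cfsg.Agent.Lib.Helper64

open Subgroup Cfsg Cfsg.Agent.Lib.Helper33 Cfsg.Agent.Lib.Helper24 Cfsg.Agent.Lib.Helper32

universe u

variable {G : Type u} [Group G] [Finite G]

theorem bg95_of_parts (hG : Cfsg.IsMinSimpleOddOrder G) {p : ℕ} [Fact p.Prime] (P : Sylow p G)
    {A : Subgroup G} (hA : Cfsg.IsSCN (P : Subgroup G) A) (hA3 : ¬ Cfsg.PRankLE p 2 ↥A)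
    (hCH : ¬ Cfsg.InUniqueMaximal A)
    (hI : ∀ {q : ℕ}, q.Prime → q ≠ p → ∀ {Q : Subgroup G},
      Q ∈ Cfsg.maxInvSubgroups ⊤ (P : Subgroup G) {q} → Q ≠ ⊥ → ∀ {H : Subgroup G}, IsCoatom H →
      Subgroup.normalizer (Q : Set G) ≤ H →
      (P : Subgroup G) ≤ ⁅H, H⁆ ∧ ∃ t : ℕ, t.Prime ∧ t ≠ p ∧ ¬ Cfsg.PRankLE t 2 ↥(Cfsg.fittingOf H))
    (hLink : ∀ {H L : Subgroup G}, IsCoatom H → IsCoatom L → (P : Subgroup G) ≤ H →
      (P : Subgroup G) ≤ L → (P : Subgroup G) ≤ ⁅H, H⁆ → (P : Subgroup G) ≤ ⁅L, L⁆ →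
      ∀ {t s : ℕ}, t.Prime → s.Prime → t ≠ p → s ≠ p → t ≠ s →
      ¬ Cfsg.PRankLE t 2 ↥(Cfsg.fittingOf H) → ¬ Cfsg.PRankLE s 2 ↥(Cfsg.fittingOf L) → H = L)
    (hK : ∀ {H : Subgroup G}, IsCoatom H → A ≤ H → ∀ {t : ℕ}, t.Prime → t ≠ p →
      ¬ Cfsg.PRankLE t 2 ↥(Cfsg.fittingOf H) →
      Cfsg.piCoreOf (Cfsg.primesNotDvd (Nat.card A)) (Subgroup.centralizer (A : Set G)) ≤ H) :
    False := by
  have hp : p.Prime := Fact.out
  have hPp : IsPGroup p (P : Subgroup G) := P.2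
  have hAP : A ≤ (P : Subgroup G) := hA.1
  have hAp : IsPGroup p A := hPp.to_le hAP
  have hAc : IsMulCommutative A := BG9.scn_abelian hA
  have hAne : A ≠ ⊥ := by
    intro h0
    apply hA3
    intro B _ _
    have h1 : Nat.card B ≤ Nat.card A := Subgroup.card_le_card_group B
    have h2 : Nat.card A = 1 := by rw [h0]; exact Subgroup.card_bot
    rw [h2] at h1
    exact h1.trans (Nat.one_le_pow _ _ hp.pos)
  have hA1 : ¬ Cfsg.PRankLE p 1 ↥A := by
    intro h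
    apply hA3
    intro B hBc hBe
    exact (h B hBc hBe).trans (Nat.pow_le_pow_right hp.pos (by norm_num))
  obtain ⟨n, hn⟩ := IsPGroup.iff_card.mp hAp
  have hn0 : n ≠ 0 := by
    rintro rfl
    rw [pow_zero] at hn
    exact hAne (Subgroup.card_eq_one.mp hn)
  have hpA : p ∣ Nat.card A := by rw [hn]; exact dvd_pow_self p hn0
  have hpG : p ∣ Nat.card G := hpA.trans (Subgroup.card_subgroup_dvd_card A)
  have hqA : ∀ {q : ℕ}, q.Prime → q ≠ p → ¬ q ∣ Nat.card A := by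
    intro q hq hqp h
    rw [hn] at h
    exact hqp ((Nat.prime_dvd_prime_iff_eq hq hp).mp (hq.dvd_of_dvd_pow h))
  have hTrans : Cfsg.TransitivityHypothesis A :=
    Cfsg.Agent.S1396.result hG p hpG A hAp hAc (Or.inr ⟨P, hA, hA1⟩)
  have hinf : A ⊓ centralizer (A : Set G) = A := inf_of_le_left (BG9.self_le_centralizer hAc)
  have hZ : ¬ Cfsg.RankLE 2 ↥(A ⊓ centralizer (A : Set G)) := by
    rw [hinf]
    intro h
    exact hA3 (h p hp)
  -- `P` is a proper subgroup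
  have hPtop : (P : Subgroup G) ≠ ⊤ := by
    intro htop
    -- a `p`-group is nilpotent, hence `G` would be solvable with trivial centre
    have hGp : IsPGroup p G := by
      intro g
      obtain ⟨k, hk⟩ := hPp ⟨g, by rw [htop]; trivial⟩
      exact ⟨k, by simpa using congrArg Subtype.val hk⟩
    have hc : Subgroup.center G = ⊥ := BG9.center_eq_bot hG
    haveI : Nontrivial G := by
      rcases subsingleton_or_nontrivial G with hs | hn'
      · exfalso
        exact hAne (Subsingleton.elim _ _)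
      · exact hn'
    exact (Subgroup.nontrivial_iff_ne_bot _).mp hGp.center_nontrivial hc
  -- the `π(A)`-condition on `P`
  have hPπ : ∀ r : ℕ, r.Prime → r ∣ Nat.card (P : Subgroup G) → r ∣ Nat.card A := by
    intro r hr hrd
    obtain ⟨m, hm⟩ := IsPGroup.iff_card.mp hPp
    rw [hm] at hrd
    have : r = p := (Nat.prime_dvd_prime_iff_eq hr hp).mp (hr.dvd_of_dvd_pow hrd)
    rw [this]; exact hpA
  have hsn : (A.subgroupOf (P : Subgroup G)).IsSubnormal :=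
    ((normal_subgroupOf_iff_le_normalizer hAP).mpr hA.2.1).isSubnormal
  -- S1393 + S1395(c)
  have htr : ∀ {q : ℕ}, q.Prime → q ≠ p → ∀ Q₁ ∈ Cfsg.maxInvSubgroups ⊤ A {q},
      ∀ Q₂ ∈ Cfsg.maxInvSubgroups ⊤ A {q},
      ∃ k ∈ Cfsg.piCoreOf (Cfsg.primesNotDvd (Nat.card A)) (Subgroup.centralizer (A : Set G)),
        Q₂ = Q₁.map (MulAut.conj k).toMonoidHom :=
    fun hq hqp => Cfsg.Agent.S1393.result hG A hTrans hZ _ hq (hqA hq hqp)
  have hsub : ∀ {q : ℕ}, q.Prime → q ≠ p →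
      Cfsg.maxInvSubgroups ⊤ (P : Subgroup G) {q} ⊆ Cfsg.maxInvSubgroups ⊤ A {q} :=
    fun hq hqp => (Cfsg.Agent.S1395.result hG A hTrans _ hq (hqA hq hqp) (P : Subgroup G) hPtop hPπ
      hAP hsn (htr hq hqp)).2.2.1
  -- existence of members of `И*(P;q)`
  have hex : ∀ {q : ℕ}, q.Prime → ∃ Q, Q ∈ Cfsg.maxInvSubgroups ⊤ (P : Subgroup G) {q} := by
    intro q hq
    have hbot : (⊥ : Subgroup G) ∈ Cfsg.invSubgroups ⊤ (P : Subgroup G) {q} := by
      haveI : Fact q.Prime := ⟨hq⟩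
      refine mem_invSubgroups_of_isPGroup hq IsPGroup.of_bot ?_
      intro x _
      rw [Subgroup.mem_normalizer_iff]
      intro y
      simp
    obtain ⟨Q, hQ, -⟩ := exists_maxInv_ge hbot
    exact ⟨Q, hQ⟩
  -- the final step: if all of `И*(P;q)`, `q ≠ p`, lie in a maximal subgroup `M ≥ A` containing `K`
  have hfin : ∀ M : Subgroup G, IsCoatom M → A ≤ M →
      Cfsg.piCoreOf (Cfsg.primesNotDvd (Nat.card A)) (Subgroup.centralizer (A : Set G)) ≤ M →
      (∀ {q : ℕ}, q.Prime → q ≠ p → ∀ Q ∈ Cfsg.maxInvSubgroups ⊤ (P : Subgroup G) {q}, Q ≤ M) →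
      False := by
    intro M hM hAM hKM hall
    apply hCH
    refine Cfsg.Agent.Lib.Helper56.BG95.inUniqueMaximal_of_inv_le' hG hM hAM hAp hAne ?_
    refine sig_le hAp ?_
    intro q hq hqp Q' hQ'
    obtain ⟨Q, hQ⟩ := hex hq
    obtain ⟨k, hk, hkQ⟩ := htr hq hqp Q (hsub hq hqp hQ) Q' hQ'
    rw [hkQ]
    rintro _ ⟨x, hx, rfl⟩
    have hxM : x ∈ M := hall hq hqp Q hQ hx
    have hkM : k ∈ M := hKM hk
    simpa using M.mul_mem (M.mul_mem hkM hxM) (M.inv_mem hkM)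
  -- case distinction: is some member of `И*(P;q)` nontrivial?
  by_cases hne : ∃ q : ℕ, q.Prime ∧ q ≠ p ∧ ∃ Q ∈ Cfsg.maxInvSubgroups ⊤ (P : Subgroup G) {q}, Q ≠ ⊥
  · obtain ⟨q₀, hq₀, hq₀p, Q₀, hQ₀, hQ₀ne⟩ := hne
    -- properness of members of `И*(P;q)`
    have hQtop : ∀ {q : ℕ}, q.Prime → q ≠ p → ∀ Q ∈ Cfsg.maxInvSubgroups ⊤ (P : Subgroup G) {q},
        Q ≠ ⊤ := by
      intro q hq hqp Q hQ htop
      haveI : Fact q.Prime := ⟨hq⟩
      have hQq : IsPGroup q Q := isPGroup_of_mem_invSubgroups hq hQ.1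
      have hd : Disjoint A Q := IsPGroup.disjoint_of_ne p q hqp.symm A Q hAp hQq
      rw [htop, disjoint_top] at hd
      exact hAne hd
    haveI : IsSimpleGroup G := hG.2.1
    have hNQ : ∀ {q : ℕ}, q.Prime → q ≠ p → ∀ Q ∈ Cfsg.maxInvSubgroups ⊤ (P : Subgroup G) {q},
        Q ≠ ⊥ → ∃ H : Subgroup G, IsCoatom H ∧ Subgroup.normalizer (Q : Set G) ≤ H := by
      intro q hq hqp Q hQ hQne
      exact BG9.exists_coatom_ge (normalizer_ne_top_of_simple hQne (hQtop hq hqp Q hQ))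
    obtain ⟨M, hM, hNM⟩ := hNQ hq₀ hq₀p Q₀ hQ₀ hQ₀ne
    obtain ⟨hPM', t₀, ht₀, ht₀p, hMt₀⟩ := hI hq₀ hq₀p hQ₀ hQ₀ne hM hNM
    have hPM : (P : Subgroup G) ≤ M := hQ₀.1.2.2.trans hNM
    have hAM : A ≤ M := hAP.trans hPM
    have hKM := hK hM hAM ht₀ ht₀p hMt₀
    refine hfin M hM hAM hKM ?_
    intro q hq hqp Q hQ
    by_cases hQne : Q = ⊥
    · rw [hQne]; exact bot_le
    · obtain ⟨H, hH, hNH⟩ := hNQ hq hqp Q hQ hQne
      obtain ⟨hPH', t, ht, htp, hHt⟩ := hI hq hqp hQ hQne hH hNH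
      have hPH : (P : Subgroup G) ≤ H := hQ.1.2.2.trans hNH
      have hAH : A ≤ H := hAP.trans hPH
      have hHM : H = M := by
        by_cases htt : t = t₀
        · subst htt
          haveI : Fact t.Prime := ⟨ht⟩
          exact same_prime hG P hA hA3 hH hM hAH hAM (hK hH hAH ht htp hHt) htp hHt hMt₀
        · exact hLink hH hM hPH hPM hPH' hPM' ht ht₀ htp ht₀p htt hHt hMt₀
      rw [← hHM]
      exact (Subgroup.le_normalizer).trans hNH
  · -- all members of `И*(P;q)` are trivial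
    push Not at hne
    obtain ⟨M, hM, hAM⟩ := BG9.exists_coatom_ge (H := A) (by
      intro htop
      apply hPtop
      rw [eq_top_iff, ← htop]
      exact hAP)
    apply hCH
    refine Cfsg.Agent.Lib.Helper56.BG95.inUniqueMaximal_of_inv_le' hG hM hAM hAp hAne ?_
    refine sig_le hAp ?_
    intro q hq hqp Q' hQ'
    obtain ⟨Q, hQ⟩ := hex hq
    obtain ⟨k, hk, hkQ⟩ := htr hq hqp Q (hsub hq hqp hQ) Q' hQ'
    rw [hkQ, hne q hq hqp Q hQ, Subgroup.map_bot]
    exact bot_le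

end Cfsg.Agent.Lib.Helper64
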