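import Cfsg.Agent.Lib.Helper64.PolySeq

/-!
# Polynomial sequences in a filtered group and the Hall–Petrescu formula

For a group `G` with a filtration `Gs` (`Gs (i+1) ≤ Gs i`, `⁅Gs i, Gs j⁆ ≤ Gs (i+j)`), a sequence `f : ℕ → G` is
polynomial (`IsPolySeq Gs k f`) if its `r`-th discrete derivative takes values in `Gs (k + r)`.
Polynomial sequences form a group (Lazard–Leibman); binomial sequences `n ↦ c ^ (n.choose j)` are polynomial;
a polynomial sequence vanishing at `0, …, m-1` has `f n` in the subgroup generated by the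
`c ^ (n.choose i)`, `i ≥ m`, `c ∈ Gs (k + i)` (Taylor expansion).  As a consequence we get the
Hall–Petrescu formula `hall_petrescu`: `(x*y)⁻¹ ^ n * x ^ n * y ^ n` is a product of elements
`c ^ (n.choose i)` with `i ≥ 2` and `c ∈ γ_i(G)`.
-/

set_option autoImplicit false

namespace Cfsg.Agent.Lib.Helper64

open scoped commutatorElement

section Seq

variable {G : Type*} [Group G]

/-- the shift endomorphism of the group of sequences -/
def seqShift : (ℕ → G) →* (ℕ → G) where
  toFun f := fun n => f (n + 1)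
  map_one' := rfl
  map_mul' _ _ := rfl

@[simp] theorem seqShift_apply (f : ℕ → G) (n : ℕ) : seqShift f n = f (n + 1) := rfl

/-- the filtration of the group of sequences induced by a filtration of `G` -/
def seqFil (Gs : ℕ → Subgroup G) (i : ℕ) : Subgroup (ℕ → G) := Subgroup.pi Set.univ (fun _ => Gs i)

theorem mem_seqFil {Gs : ℕ → Subgroup G} {i : ℕ} {f : ℕ → G} : f ∈ seqFil Gs i ↔ ∀ n, f n ∈ Gs i := by
  simp [seqFil, Subgroup.mem_pi]

theorem polyD_seq_apply (f : ℕ → G) (n : ℕ) : polyD seqShift f n = f (n + 1) * (f n)⁻¹ := by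
  simp [polyD]

/-- `f` is a polynomial sequence of shifted degree `k` with respect to the filtration `Gs` -/
def IsPolySeq (Gs : ℕ → Subgroup G) (k : ℕ) (f : ℕ → G) : Prop := IsPoly seqShift (seqFil Gs) k f

variable {Gs : ℕ → Subgroup G}

theorem seqFil_anti (hanti : ∀ i, Gs (i + 1) ≤ Gs i) (i : ℕ) : seqFil Gs (i + 1) ≤ seqFil Gs i := by
  intro f hf
  rw [mem_seqFil] at hf ⊢
  exact fun n => hanti i (hf n)

theorem seqFil_comm (hcomm : ∀ i j, ⁅Gs i, Gs j⁆ ≤ Gs (i + j)) (i j : ℕ) :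
    ⁅seqFil Gs i, seqFil Gs j⁆ ≤ seqFil Gs (i + j) := by
  rw [Subgroup.commutator_le]
  intro f hf g hg
  rw [mem_seqFil] at hf hg ⊢
  intro n
  have : ⁅f, g⁆ n = ⁅f n, g n⁆ := by simp [commutatorElement_def]
  rw [this]
  exact hcomm i j (Subgroup.commutator_mem_commutator (hf n) (hg n))

section
variable (hanti : ∀ i, Gs (i + 1) ≤ Gs i) (hcomm : ∀ i j, ⁅Gs i, Gs j⁆ ≤ Gs (i + j))
include hanti hcomm

theorem IsPolySeq.mul {k : ℕ} {f g : ℕ → G} (hf : IsPolySeq Gs k f) (hg : IsPolySeq Gs k g) :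
    IsPolySeq Gs k (f * g) :=
  IsPoly.mul (seqFil_anti hanti) (seqFil_comm hcomm) hf hg

theorem IsPolySeq.inv {k : ℕ} {f : ℕ → G} (hf : IsPolySeq Gs k f) : IsPolySeq Gs k f⁻¹ :=
  IsPoly.inv (seqFil_anti hanti) (seqFil_comm hcomm) hf

theorem IsPolySeq.comm {a b : ℕ} {f g : ℕ → G} (hf : IsPolySeq Gs a f) (hg : IsPolySeq Gs b g) :
    IsPolySeq Gs (a + b) ⁅f, g⁆ :=
  IsPoly.comm (seqFil_anti hanti) (seqFil_comm hcomm) hf hg

omit hcomm in
theorem Gs_le_of_le {i j : ℕ} (hij : i ≤ j) : Gs j ≤ Gs i := by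
  induction j, hij using Nat.le_induction with
  | base => exact le_rfl
  | succ j _ ih => exact (hanti j).trans ih

omit hcomm in
/-- binomial sequences are polynomial -/
theorem isPolySeq_choose (j : ℕ) : ∀ (k : ℕ) (c : G), c ∈ Gs (k + j) →
    IsPolySeq Gs k (fun n => c ^ n.choose j) := by
  induction j with
  | zero =>
    intro k c hc
    apply isPoly_of_deriv
    · rw [mem_seqFil]; intro n; simpa using hc
    · have : polyD seqShift (fun n : ℕ => c ^ n.choose 0) = 1 := by
        funext n; simp [polyD_seq_apply]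
      rw [this]
      exact isPoly_one _
  | succ j ih =>
    intro k c hc
    apply isPoly_of_deriv
    · rw [mem_seqFil]; intro n
      exact Subgroup.pow_mem _ (Gs_le_of_le hanti (by omega) hc) _
    · have : polyD seqShift (fun n : ℕ => c ^ n.choose (j + 1)) = fun n => c ^ n.choose j := by
        funext n
        rw [polyD_seq_apply, Nat.choose_succ_succ', pow_add, mul_inv_cancel_right]
      rw [this]
      exact ih (k + 1) c (by rwa [show k + 1 + j = k + (j + 1) by omega])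

omit hanti hcomm in
/-- a polynomial sequence vanishing at `0, …, j-1` has `f j ∈ Gs (k + j)` -/
theorem IsPolySeq.apply_mem_of_vanish (j : ℕ) : ∀ (k : ℕ) (f : ℕ → G), IsPolySeq Gs k f →
    (∀ n < j, f n = 1) → f j ∈ Gs (k + j) := by
  induction j with
  | zero =>
    intro k f hf _
    exact mem_seqFil.mp hf.mem 0
  | succ j ih =>
    intro k f hf hv
    have h1 := ih (k + 1) (polyD seqShift f) hf.deriv (by
      intro n hn
      rw [polyD_seq_apply, hv n (by omega), hv (n + 1) (by omega)]; simp)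
    rw [polyD_seq_apply, hv j (by omega)] at h1
    have e : k + 1 + j = k + (j + 1) := by omega
    rw [e] at h1
    simpa using h1

/-- Taylor expansion (weak form): a polynomial sequence vanishing at `0, …, m-1` takes at `n` a value in
the subgroup generated by the `c ^ (n.choose i)` with `i ≥ m` and `c ∈ Gs (k + i)`. -/
theorem IsPolySeq.apply_mem_closure {k : ℕ} (n : ℕ) : ∀ (d m : ℕ) (f : ℕ → G), n + 1 - m = d →
    IsPolySeq Gs k f → (∀ n' < m, f n' = 1) →
    f n ∈ Subgroup.closure {z : G | ∃ i, m ≤ i ∧ ∃ c ∈ Gs (k + i), z = c ^ n.choose i} := by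
  intro d
  induction d with
  | zero =>
    intro m f hd _ hv
    rw [hv n (by omega)]
    exact Subgroup.one_mem _
  | succ d ih =>
    intro m f hd hf hv
    have hc : f m ∈ Gs (k + m) := IsPolySeq.apply_mem_of_vanish m k f hf hv
    set c := f m with hcdef
    have hb : IsPolySeq Gs k (fun n' => c ^ n'.choose m) := isPolySeq_choose hanti m k c hc
    set g : ℕ → G := f * (fun n' => c ^ n'.choose m)⁻¹ with hg
    have hgp : IsPolySeq Gs k g := IsPolySeq.mul hanti hcomm hf (IsPolySeq.inv hanti hcomm hb)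
    have hgv : ∀ n' < m + 1, g n' = 1 := by
      intro n' hn'
      rcases Nat.lt_succ_iff_lt_or_eq.mp hn' with h | h
      · simp [hg, hv n' h, Nat.choose_eq_zero_of_lt h]
      · subst h
        simp [hg, hcdef]
    have h1 := ih (m + 1) g (by omega) hgp hgv
    have h2 : f n = g n * c ^ n.choose m := by simp [hg]
    rw [h2]
    refine Subgroup.mul_mem _ ?_ (Subgroup.subset_closure ⟨m, le_rfl, c, hc, rfl⟩)
    refine (Subgroup.closure_mono ?_) h1
    rintro z ⟨i, hi, c', hc', rfl⟩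
    exact ⟨i, by omega, c', hc', rfl⟩

end

end Seq

section LCS

variable {G : Type*} [Group G]

/-- three subgroups lemma modulo a normal subgroup -/
theorem commutator_commutator_le_of_rotate' {H₁ H₂ H₃ L : Subgroup G} [hL : L.Normal]
    (h1 : ⁅⁅H₂, H₃⁆, H₁⁆ ≤ L) (h2 : ⁅⁅H₃, H₁⁆, H₂⁆ ≤ L) : ⁅⁅H₁, H₂⁆, H₃⁆ ≤ L := by
  have key : ∀ A B C : Subgroup G, ⁅⁅A, B⁆, C⁆ ≤ L ↔
      ⁅⁅A.map (QuotientGroup.mk' L), B.map (QuotientGroup.mk' L)⁆, C.map (QuotientGroup.mk' L)⁆ = ⊥ := by
    intro A B C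
    rw [← Subgroup.map_commutator, ← Subgroup.map_commutator, Subgroup.map_eq_bot_iff,
      QuotientGroup.ker_mk']
  rw [key] at h1 h2 ⊢
  exact Subgroup.commutator_commutator_eq_bot_of_rotate h1 h2

/-- `[γ_{i+1}, γ_{j+1}] ≤ γ_{i+j+2}` -/
theorem lcs_commutator_le (j : ℕ) : ∀ i : ℕ,
    ⁅(⊤ : Subgroup G).lowerCentralSeries i, (⊤ : Subgroup G).lowerCentralSeries j⁆ ≤
      (⊤ : Subgroup G).lowerCentralSeries (i + j + 1) := by
  induction j with
  | zero =>
    intro i
    rw [Subgroup.lowerCentralSeries_zero, Nat.add_zero, Subgroup.lowerCentralSeries_succ]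
  | succ j ih =>
    intro i
    rw [Subgroup.lowerCentralSeries_succ, Subgroup.commutator_comm]
    -- ⁅⁅γ_j, ⊤⁆, γ_i⁆ ≤ γ_{i+j+2}
    apply commutator_commutator_le_of_rotate'
    · -- ⁅⁅⊤, γ_i⁆, γ_j⁆
      rw [Subgroup.commutator_comm ⊤, ← Subgroup.lowerCentralSeries_succ]
      have := ih (i + 1)
      rwa [show i + 1 + j + 1 = i + (j + 1) + 1 by omega] at this
    · -- ⁅⁅γ_i, γ_j⁆, ⊤⁆
      have := ih i
      calc ⁅⁅(⊤ : Subgroup G).lowerCentralSeries i, (⊤ : Subgroup G).lowerCentralSeries j⁆, ⊤⁆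
          ≤ ⁅(⊤ : Subgroup G).lowerCentralSeries (i + j + 1), ⊤⁆ := Subgroup.commutator_mono this le_rfl
        _ = (⊤ : Subgroup G).lowerCentralSeries (i + (j + 1) + 1) := by
          rw [← Subgroup.lowerCentralSeries_succ]; rfl

variable (G) in
/-- the lower central series indexed from `1` (`lcsF G 0 = lcsF G 1 = ⊤`, `lcsF G 2 = G'`, …) -/
def lcsF (i : ℕ) : Subgroup G := (⊤ : Subgroup G).lowerCentralSeries (i - 1)

instance lcsF_normal (i : ℕ) : (lcsF G i).Normal := by
  unfold lcsF; infer_instance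

theorem lcsF_anti (i : ℕ) : lcsF G (i + 1) ≤ lcsF G i :=
  Subgroup.lowerCentralSeries_antitone _ (by omega)

theorem lcsF_comm (i j : ℕ) : ⁅lcsF G i, lcsF G j⁆ ≤ lcsF G (i + j) := by
  rcases Nat.eq_zero_or_pos i with rfl | hi
  · rw [Nat.zero_add]
    exact Subgroup.commutator_le_right _ _
  rcases Nat.eq_zero_or_pos j with rfl | hj
  · rw [Nat.add_zero]
    exact Subgroup.commutator_le_left _ _
  have := lcs_commutator_le (G := G) (j - 1) (i - 1)
  unfold lcsF
  rwa [show i - 1 + (j - 1) + 1 = i + j - 1 by omega] at this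

/-- **Hall–Petrescu formula** (weak form): `(x*y)⁻ⁿ xⁿ yⁿ` lies in the subgroup generated by the
`c ^ (n.choose i)` with `i ≥ 2` and `c ∈ γ_i(G)` (`γ_i(G) = (⊤ : Subgroup G).lowerCentralSeries (i - 1)`). -/
theorem hall_petrescu (x y : G) (n : ℕ) :
    ((x * y)⁻¹) ^ n * x ^ n * y ^ n ∈ Subgroup.closure {z : G | ∃ i, 2 ≤ i ∧
      ∃ c ∈ (⊤ : Subgroup G).lowerCentralSeries (i - 1), z = c ^ n.choose i} := by
  have hpow : ∀ c : G, IsPolySeq (lcsF G) 0 (fun n => c ^ n) := by
    intro c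
    have := isPolySeq_choose (Gs := lcsF G) lcsF_anti 1 0 c (by simp [lcsF])
    simpa using this
  have hf : IsPolySeq (lcsF G) 0 (fun n => ((x * y)⁻¹) ^ n * x ^ n * y ^ n) :=
    IsPolySeq.mul lcsF_anti lcsF_comm (IsPolySeq.mul lcsF_anti lcsF_comm (hpow _) (hpow _)) (hpow _)
  have hv : ∀ n' < 2, (fun n => ((x * y)⁻¹) ^ n * x ^ n * y ^ n) n' = 1 := by
    intro n' hn'
    interval_cases n'
    · simp
    · simp [mul_assoc]
  have := IsPolySeq.apply_mem_closure lcsF_anti lcsF_comm n (n + 1 - 2) 2 _ rfl hf hv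
  simpa [lcsF] using this

end LCS

end Cfsg.Agent.Lib.Helper64
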