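import Mathlib
import Cfsg.Prelude.Def_ClassicalGeometry
import Cfsg.Prelude.Def_GeometricClasses
import Cfsg.Agent.Lib.Helper5.HyDefs
import Cfsg.Agent.Lib.Helper94.Un11
import Cfsg.Agent.Lib.Helper94.Un12
import Cfsg.Agent.Lib.Helper83.HyBR

/-! # HY-UNI (helper64, for helper5's S5993 hive): a unipotent element of `Ω_{2d+1}(q)` all of whose
invariant nondegenerate even-dimensional subspaces are of plus type.

Jordan type `(2^d, 1)` for `d` even and `(3, 2^(d-1))` for `d` odd, built with helper94's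
`Un.exists_unipotent_odd`; the type of an invariant nondegenerate subspace is a sub-multiset
(`Un.jordan_sub'`), of even sum, hence consists of `2`s only; `Un.plusType_of_sq_zero` concludes. -/

set_option autoImplicit false

namespace Cfsg.Agent.Lib.Helper5.Hy

open Polynomial Module
open Cfsg.Agent.Lib.Helper2.BG Cfsg.Agent.Lib.Helper99 Cfsg.Agent.Lib.Helper48.Ti
open Cfsg.Agent.Lib.Helper67.Ts

theorem uni_core {F : Type*} [Field F] [Fintype F] {p : ℕ} [Fact p.Prime] [CharP F p]
    (h2 : (2 : F) ≠ 0) (hp3 : 3 ≤ p) (d : ℕ) (μ : Multiset ℕ)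
    (hμ3 : ∀ b ∈ μ, b ≤ 3) (hev : ∀ e, Even e → Even (μ.count e)) (hsum : μ.sum = 2 * d + 1)
    (h2μ : 2 ∈ μ)
    (hsub : ∀ ν : Multiset ℕ, ν ≤ μ → Even ν.sum → ν.count 1 = 0 ∧ ν.count 3 = 0) :
    ∃ x : GL (Unit ⊕ (Fin d ⊕ Fin d)) F, x ∈ Cfsg.Geo.omegaGL (Cfsg.quadFormOdd d F) ∧
      orderOf x = p ∧
      ∀ W : Submodule F (VO d F),
        Inv (Matrix.toLin' (x : Matrix (Unit ⊕ (Fin d ⊕ Fin d)) (Unit ⊕ (Fin d ⊕ Fin d)) F)) W →
        Nd (oddB d) W → Even (finrank F W) → Plus (oddB d) W := by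
  classical
  obtain ⟨x, hxΩ, hprof⟩ :=
    Cfsg.Agent.Lib.Helper94.Un.exists_unipotent_odd (F := F) h2 d μ hev hsum
  have hQ := Cfsg.Agent.Lib.Helper94.nondeg_quadFormOdd (F := F) (m := d) h2
  have hxiso : x ∈ Cfsg.isometryGroup F (Cfsg.quadFormOdd d F) :=
    Cfsg.Agent.Lib.Helper94.omega_le_isom hxΩ
  have hcard : μ.sum = Fintype.card (Unit ⊕ (Fin d ⊕ Fin d)) := by
    rw [hsum]; simp; ring
  obtain ⟨hxp, hxns, -⟩ := Cfsg.Agent.Lib.Helper94.Un.unipotent_facts hQ h2 x hxiso μ hprof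
    hcard (fun b hb => le_trans (hμ3 b hb) hp3) 2 h2μ (by norm_num)
  have hxp' : x ^ p = 1 := Units.ext (by rw [hxp]; rfl)
  have hx1 : x ≠ 1 := by
    intro h
    apply hxns 1
    rw [h, one_smul]
    rfl
  have hord : orderOf x = p := orderOf_eq_prime hxp' hx1
  have hK3 : ((x : Matrix (Unit ⊕ (Fin d ⊕ Fin d)) (Unit ⊕ (Fin d ⊕ Fin d)) F) - 1) ^ 3 = 0 :=
    Cfsg.Agent.Lib.Helper94.Un.pow_eq_zero_of_prof _ μ hprof hcard 3 hμ3
  refine ⟨x, hxΩ, hord, ?_⟩
  intro W hinv hnd heven
  have hxW : W.map (Matrix.toLin'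
      (x : Matrix (Unit ⊕ (Fin d ⊕ Fin d)) (Unit ⊕ (Fin d ⊕ Fin d)) F)) ≤ W := by
    rintro _ ⟨v, hv, rfl⟩
    exact hinv v hv
  have hWnd : Cfsg.Geo.IsNondegenerateOn (QuadraticMap.polar (Cfsg.quadFormOdd d F)) W :=
    ((bridge h2 d W).1).2 hnd
  obtain ⟨ν, hνμ, hνsum, -, hcount⟩ :=
    Cfsg.Agent.Lib.Helper94.Un.jordan_sub' hQ h2 x hxiso 3 hK3 μ hprof W hWnd hxW
  obtain ⟨hc1, hc3⟩ := hsub ν hνμ (by rw [hνsum]; exact heven)
  set T : Module.End F (Unit ⊕ (Fin d ⊕ Fin d) → F) := Matrix.toLin'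
    ((x : Matrix (Unit ⊕ (Fin d ⊕ Fin d)) (Unit ⊕ (Fin d ⊕ Fin d)) F) - 1) with hT
  have hT3 : T ^ 3 = 0 := by rw [hT, ← Matrix.toLin'_pow, hK3, map_zero]
  have hT4 : T ^ 4 = 0 := by rw [pow_succ, hT3, zero_mul]
  have hw3 : finrank F ↥(W ⊓ LinearMap.ker (T ^ 3)) = finrank F W := by
    rw [hT3, LinearMap.ker_zero, inf_top_eq]
  have hw4 : finrank F ↥(W ⊓ LinearMap.ker (T ^ 4)) = finrank F W := by
    rw [hT4, LinearMap.ker_zero, inf_top_eq]
  have hw0 : finrank F ↥(W ⊓ LinearMap.ker (T ^ 0)) = 0 := by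
    rw [pow_zero, Module.End.one_eq_id, LinearMap.ker_id, inf_bot_eq, finrank_bot]
  have e1 : ν.count 1 + (finrank F ↥(W ⊓ LinearMap.ker (T ^ 0)) +
      finrank F ↥(W ⊓ LinearMap.ker (T ^ 2))) = 2 * finrank F ↥(W ⊓ LinearMap.ker (T ^ 1)) :=
    hcount 1 le_rfl (by norm_num)
  have e3 : ν.count 3 + (finrank F ↥(W ⊓ LinearMap.ker (T ^ 2)) +
      finrank F ↥(W ⊓ LinearMap.ker (T ^ 4))) = 2 * finrank F ↥(W ⊓ LinearMap.ker (T ^ 3)) :=
    hcount 3 (by norm_num) le_rfl
  rw [pow_one] at e1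
  have hw2 : finrank F ↥(W ⊓ LinearMap.ker (T ^ 2)) = finrank F W := by omega
  have h2W : W ≤ LinearMap.ker (T ^ 2) := by
    have := Submodule.eq_of_le_of_finrank_eq (inf_le_left : W ⊓ LinearMap.ker (T ^ 2) ≤ W) hw2
    exact inf_eq_left.1 this
  have h1W : 2 * finrank F ↥(W ⊓ LinearMap.ker T) = finrank F W := by omega
  have hplus := Cfsg.Agent.Lib.Helper94.Un.plusType_of_sq_zero hQ h2 x hxiso W hxW h2W h1W
  exact ((bridge h2 d W).2).1 hplus

/-- HY-UNI -/
theorem exists_unipotent_bad {F : Type*} [Field F] [Fintype F] {p : ℕ} [Fact p.Prime] [CharP F p]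
    (hq : Odd (Fintype.card F)) (d : ℕ) (hd : 3 ≤ d) :
    ∃ x : GL (Unit ⊕ (Fin d ⊕ Fin d)) F, x ∈ Cfsg.Geo.omegaGL (Cfsg.quadFormOdd d F) ∧
      orderOf x = p ∧
      ∀ W : Submodule F (VO d F), Inv (Matrix.toLin' (x : Matrix _ _ F)) W → Nd (oddB d) W →
        Even (finrank F W) → Plus (oddB d) W := by
  classical
  have h2 : (2 : F) ≠ 0 := Cfsg.Agent.Lib.Helper94.Un.two_ne_zero_of_odd_card (p := p) rfl hq
  have hp' : p.Prime := Fact.out
  have hp3 : 3 ≤ p := by
    have hp2 : p ≠ 2 := by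
      rintro rfl
      apply h2
      have : ((2 : ℕ) : F) = 0 := CharP.cast_eq_zero F 2
      exact_mod_cast this
    have := hp'.two_le
    omega
  rcases Nat.even_or_odd d with hde | hdo
  · -- `μ = (2^d, 1)`
    refine uni_core h2 hp3 d (Multiset.replicate d 2 + {1}) ?_ ?_ (by simp; ring) ?_ ?_
    · intro e he
      rcases Multiset.mem_add.mp he with h | h
      · rw [Multiset.eq_of_mem_replicate h]; omega
      · rw [Multiset.mem_singleton.mp h]; omega
    · intro e he
      rw [Multiset.count_add, Multiset.count_replicate, Multiset.count_singleton]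
      have he1 : e ≠ 1 := by rintro rfl; exact absurd he (by decide)
      rw [if_neg he1, add_zero]
      split_ifs
      · exact hde
      · exact ⟨0, rfl⟩
    · apply Multiset.mem_add.mpr
      left
      rw [Multiset.mem_replicate]
      exact ⟨by omega, rfl⟩
    · intro ν hν hνe
      have hs := Cfsg.Agent.Lib.Helper94.Un.sum_of_le_two_values ν _ 2 1 (by decide) hν
        (by
          intro x hx
          rcases Multiset.mem_add.mp hx with h | h
          · left; exact Multiset.eq_of_mem_replicate h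
          · right; exact Multiset.mem_singleton.mp h)
      have hc1 : ν.count 1 ≤ 1 := by
        have := Multiset.count_le_of_le 1 hν
        rw [Multiset.count_add, Multiset.count_replicate, Multiset.count_singleton] at this
        simpa using this
      have hc3 : ν.count 3 ≤ 0 := by
        have := Multiset.count_le_of_le 3 hν
        rw [Multiset.count_add, Multiset.count_replicate, Multiset.count_singleton] at this
        simpa using this
      obtain ⟨t, ht⟩ := hνe
      constructor <;> omega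
  · -- `μ = (2^(d-1), 3)`
    obtain ⟨j, hj⟩ := hdo
    refine uni_core h2 hp3 d (Multiset.replicate (d - 1) 2 + {3}) ?_ ?_ (by simp; omega) ?_ ?_
    · intro e he
      rcases Multiset.mem_add.mp he with h | h
      · rw [Multiset.eq_of_mem_replicate h]; omega
      · rw [Multiset.mem_singleton.mp h]
    · intro e he
      rw [Multiset.count_add, Multiset.count_replicate, Multiset.count_singleton]
      have he1 : e ≠ 3 := by rintro rfl; exact absurd he (by decide)
      rw [if_neg he1, add_zero]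
      split_ifs
      · exact ⟨j, by omega⟩
      · exact ⟨0, rfl⟩
    · apply Multiset.mem_add.mpr
      left
      rw [Multiset.mem_replicate]
      exact ⟨by omega, rfl⟩
    · intro ν hν hνe
      have hs := Cfsg.Agent.Lib.Helper94.Un.sum_of_le_two_values ν _ 2 3 (by decide) hν
        (by
          intro x hx
          rcases Multiset.mem_add.mp hx with h | h
          · left; exact Multiset.eq_of_mem_replicate h
          · right; exact Multiset.mem_singleton.mp h)
      have hc3 : ν.count 3 ≤ 1 := by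
        have := Multiset.count_le_of_le 3 hν
        rw [Multiset.count_add, Multiset.count_replicate, Multiset.count_singleton] at this
        simpa using this
      have hc1 : ν.count 1 ≤ 0 := by
        have := Multiset.count_le_of_le 1 hν
        rw [Multiset.count_add, Multiset.count_replicate, Multiset.count_singleton] at this
        simpa using this
      obtain ⟨t, ht⟩ := hνe
      constructor <;> omega

end Cfsg.Agent.Lib.Helper5.Hy
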