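import Mathlib

set_option autoImplicit false

namespace Cfsg.Agent.Lib.Helper64

open Polynomial

/-- `q ^ e ≡ 1 (mod p)` where `e` is the order of `q` modulo `p`. -/
theorem pow_orderOf_zmod_modEq (p q : ℕ) : q ^ orderOf (q : ZMod p) ≡ 1 [MOD p] := by
  have h := pow_orderOf_eq_one (q : ZMod p)
  rw [← Nat.cast_pow] at h
  have h1 : ((q ^ orderOf (q : ZMod p) : ℕ) : ZMod p) = ((1 : ℕ) : ZMod p) := by
    rw [h, Nat.cast_one]
  exact (ZMod.natCast_eq_natCast_iff _ _ _).mp h1

theorem orderOf_zmod_pos {p q : ℕ} [hp : Fact p.Prime] (hq : q.Prime) (hpq : p ≠ q) :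
    0 < orderOf (q : ZMod p) := by
  have hcop : Nat.Coprime q p := (Nat.coprime_primes hq hp.out).mpr (Ne.symm hpq)
  have hu : IsUnit (q : ZMod p) := (ZMod.isUnit_iff_coprime q p).mpr hcop
  obtain ⟨u, hu⟩ := hu
  rw [← hu, orderOf_units]
  exact orderOf_pos u

/-- An irreducible nontrivial action of a cyclic group of prime order `p` on an elementary abelian
`q`-group `V` forces `|V| = q ^ e`, `e` the order of `q` modulo `p`. -/
theorem card_eq_pow_orderOf_of_irreducible {V : Type*} [AddCommGroup V] [Finite V] {p q : ℕ}
    [hp : Fact p.Prime] [hq : Fact q.Prime] (hpq : p ≠ q) (hV : ∀ v : V, q • v = 0)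
    (φ : AddMonoid.End V) (hφp : φ ^ p = 1) (hφ1 : φ ≠ 1)
    (hirr : ∀ B : AddSubgroup V, (∀ v ∈ B, φ v ∈ B) → B = ⊥ ∨ B = ⊤) :
    Nat.card V = q ^ orderOf (q : ZMod p) := by
  classical
  have hVnt : Nontrivial V := by
    by_contra h
    rw [not_nontrivial_iff_subsingleton] at h
    exact hφ1 (by ext v; exact Subsingleton.elim _ _)
  set e := orderOf (q : ZMod p) with he
  have hepos : 0 < e := orderOf_zmod_pos hq.out hpq
  -- the commutative ring generated by φ
  have hcommK : IsMulCommutative (Subring.closure ({φ} : Set (AddMonoid.End V))) :=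
    Subring.isMulCommutative_closure (by
      intro x hx y hy
      rw [Set.mem_singleton_iff] at hx hy
      rw [hx, hy])
  letI : CommRing (Subring.closure ({φ} : Set (AddMonoid.End V))) :=
    { (inferInstance : Ring (Subring.closure ({φ} : Set (AddMonoid.End V)))) with
      mul_comm := fun a b => hcommK.is_comm.comm a b }
  -- every element of K commutes with φ
  have hcommφ : ∀ u ∈ Subring.closure ({φ} : Set (AddMonoid.End V)), u * φ = φ * u := by
    intro u hu
    have h1 := Subring.closure_le_centralizer_centralizer ({φ} : Set (AddMonoid.End V)) hu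
    rw [Subring.mem_centralizer_iff] at h1
    have : φ ∈ Subring.centralizer ({φ} : Set (AddMonoid.End V)) := by
      rw [Subring.mem_centralizer_iff]
      intro g hg
      rw [Set.mem_singleton_iff] at hg
      rw [hg]
    exact (h1 φ this).symm
  -- nonzero elements of K are injective
  have hinj : ∀ u ∈ Subring.closure ({φ} : Set (AddMonoid.End V)), u ≠ 0 →
      ∀ v : V, u v = 0 → v = 0 := by
    intro u hu hu0 v hv
    let B : AddSubgroup V :=
      { carrier := {w | u w = 0}
        zero_mem' := map_zero u
        add_mem' := fun {a b} ha hb => by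
          show u (a + b) = 0
          rw [map_add, ha, hb, add_zero]
        neg_mem' := fun {a} ha => by
          show u (-a) = 0
          rw [map_neg, ha, neg_zero] }
    have hker : ∀ w ∈ B, φ w ∈ B := by
      intro w hw
      have hw' : u w = 0 := hw
      show u (φ w) = 0
      have := congrArg (fun f : AddMonoid.End V => f w) (hcommφ u hu)
      simp only [AddMonoid.End.coe_mul, Function.comp_apply] at this
      rw [this, hw', map_zero]
    rcases hirr _ hker with h | h
    · have : v ∈ B := hv
      rw [h, AddSubgroup.mem_bot] at this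
      exact this
    · exfalso
      apply hu0
      ext w
      have : w ∈ B := by rw [h]; trivial
      exact this
  obtain ⟨a, ha⟩ := exists_ne (0 : V)
  have hKnt : Nontrivial (Subring.closure ({φ} : Set (AddMonoid.End V))) := by
    refine ⟨⟨0, 1, fun h => ?_⟩⟩
    have h1 : (0 : AddMonoid.End V) = 1 := congrArg Subtype.val h
    have h2 := congrArg (fun f : AddMonoid.End V => f a) h1
    simp only [AddMonoid.End.coe_one, id_eq] at h2
    exact ha h2.symm
  have hnzd : NoZeroDivisors (Subring.closure ({φ} : Set (AddMonoid.End V))) := by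
    refine ⟨fun {x y} hxy => ?_⟩
    by_contra hcon
    push Not at hcon
    obtain ⟨hx, hy⟩ := hcon
    apply hy
    apply Subtype.ext
    ext v
    have h1 : (x : AddMonoid.End V) * (y : AddMonoid.End V) = 0 := by
      have := congrArg Subtype.val hxy
      simpa using this
    have h2 := congrArg (fun f : AddMonoid.End V => f v) h1
    simp only [AddMonoid.End.coe_mul, Function.comp_apply] at h2
    have hx' : (x : AddMonoid.End V) ≠ 0 := fun h => hx (Subtype.ext h)
    exact hinj x.1 x.2 hx' _ h2
  have hdom : IsDomain (Subring.closure ({φ} : Set (AddMonoid.End V))) :=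
    NoZeroDivisors.to_isDomain _
  have hq0 : ((q : ℕ) : Subring.closure ({φ} : Set (AddMonoid.End V))) = 0 := by
    apply Subtype.ext
    rw [Subring.coe_natCast]
    ext v
    rw [AddMonoid.End.natCast_apply]
    exact hV v
  have hchar : CharP (Subring.closure ({φ} : Set (AddMonoid.End V))) q :=
    (CharP.charP_iff_prime_eq_zero hq.out).mpr hq0
  -- Frobenius fixes φ
  have hmod := pow_orderOf_zmod_modEq p q
  rw [← he] at hmod
  have hφpow : φ ^ q ^ e = φ := by
    have h1 : 1 ≤ q ^ e := Nat.one_le_pow _ _ hq.out.pos
    obtain ⟨m, hm⟩ := (Nat.modEq_iff_dvd' h1).mp hmod.symm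
    have h2 : q ^ e = 1 + p * m := by omega
    rw [h2, pow_add, pow_one, pow_mul, hφp, one_pow, mul_one]
  have hfix : ∀ u : Subring.closure ({φ} : Set (AddMonoid.End V)), u ^ q ^ e = u := by
    rintro ⟨u, hu⟩
    induction hu using Subring.closure_induction with
    | mem x hx =>
      rw [Set.mem_singleton_iff] at hx
      subst hx
      apply Subtype.ext
      simpa using hφpow
    | zero =>
      exact map_zero (iterateFrobenius (Subring.closure ({φ} : Set (AddMonoid.End V))) q e)
    | one =>
      exact map_one (iterateFrobenius (Subring.closure ({φ} : Set (AddMonoid.End V))) q e)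
    | add x y hx hy ihx ihy =>
      have := map_add (iterateFrobenius (Subring.closure ({φ} : Set (AddMonoid.End V))) q e)
        ⟨x, hx⟩ ⟨y, hy⟩
      simp only [iterateFrobenius_def] at this
      rw [ihx, ihy] at this
      exact this
    | neg x hx ihx =>
      have := map_neg (iterateFrobenius (Subring.closure ({φ} : Set (AddMonoid.End V))) q e)
        ⟨x, hx⟩
      simp only [iterateFrobenius_def] at this
      rw [ihx] at this
      exact this
    | mul x y hx hy ihx ihy =>
      have := map_mul (iterateFrobenius (Subring.closure ({φ} : Set (AddMonoid.End V))) q e)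
        ⟨x, hx⟩ ⟨y, hy⟩
      simp only [iterateFrobenius_def] at this
      rw [ihx, ihy] at this
      exact this
  -- |K| ≤ q ^ e
  have hfinEnd : Finite (AddMonoid.End V) :=
    Finite.of_injective (fun f : AddMonoid.End V => (f : V → V)) DFunLike.coe_injective
  have hn1 : 1 < q ^ e := Nat.one_lt_pow hepos.ne' hq.out.one_lt
  have hcardK : Nat.card (Subring.closure ({φ} : Set (AddMonoid.End V))) ≤ q ^ e := by
    letI : Fintype (Subring.closure ({φ} : Set (AddMonoid.End V))) := Fintype.ofFinite _
    rw [Nat.card_eq_fintype_card]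
    have hdeg : (X ^ q ^ e - X : (Subring.closure ({φ} : Set (AddMonoid.End V)))[X]).natDegree
        = q ^ e := by
      have h1 : (X : (Subring.closure ({φ} : Set (AddMonoid.End V)))[X]).degree
          < (X ^ q ^ e : (Subring.closure ({φ} : Set (AddMonoid.End V)))[X]).degree := by
        rw [degree_X_pow, degree_X]
        exact mod_cast hn1
      rw [natDegree_eq_of_degree_eq (degree_sub_eq_left_of_degree_lt h1), natDegree_X_pow]
    have hne : (X ^ q ^ e - X : (Subring.closure ({φ} : Set (AddMonoid.End V)))[X]) ≠ 0 := by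
      apply ne_zero_of_natDegree_gt (n := 1)
      rw [hdeg]; exact hn1
    have hroots : (Finset.univ : Finset (Subring.closure ({φ} : Set (AddMonoid.End V)))).val
        ⊆ (X ^ q ^ e - X : (Subring.closure ({φ} : Set (AddMonoid.End V)))[X]).roots := by
      intro u _
      rw [mem_roots hne, IsRoot.def, eval_sub, eval_pow, eval_X, hfix u, sub_self]
    have := card_le_degree_of_subset_roots hroots
    rw [hdeg] at this
    simpa using this
  -- |V| ≤ |K|
  have hcardV : Nat.card V ≤ Nat.card (Subring.closure ({φ} : Set (AddMonoid.End V))) := by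
    apply Nat.card_le_card_of_surjective
      (fun u : Subring.closure ({φ} : Set (AddMonoid.End V)) => (u : AddMonoid.End V) a)
    let B : AddSubgroup V :=
      { carrier := {v | ∃ u : Subring.closure ({φ} : Set (AddMonoid.End V)),
          (u : AddMonoid.End V) a = v}
        zero_mem' := ⟨0, by simp⟩
        add_mem' := by
          rintro _ _ ⟨u, rfl⟩ ⟨u', rfl⟩
          exact ⟨u + u', rfl⟩
        neg_mem' := by
          rintro _ ⟨u, rfl⟩
          exact ⟨-u, rfl⟩ }
    have hB : ∀ v ∈ B, φ v ∈ B := by
      rintro _ ⟨u, rfl⟩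
      refine ⟨⟨φ, Subring.subset_closure (Set.mem_singleton φ)⟩ * u, ?_⟩
      simp [AddMonoid.End.coe_mul]
    have haB : a ∈ B := ⟨1, by simp⟩
    rcases hirr B hB with h | h
    · rw [h, AddSubgroup.mem_bot] at haB
      exact absurd haB ha
    · intro v
      have : v ∈ B := by rw [h]; trivial
      exact this
  -- |V| = q ^ k with e ∣ k
  have hVp : IsPGroup q (Multiplicative V) := by
    intro g
    refine ⟨1, ?_⟩
    rw [pow_one]
    show Multiplicative.ofAdd (q • Multiplicative.toAdd g) = 1
    rw [hV]; rfl
  obtain ⟨k, hk⟩ := IsPGroup.iff_card.mp hVp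
  have hk' : Nat.card V = q ^ k := hk
  have hfixpt : ∀ v : V, φ v = v → v = 0 := by
    intro v hv
    let B : AddSubgroup V :=
      { carrier := {w | φ w = w}
        zero_mem' := map_zero φ
        add_mem' := fun {x y} hx hy => by
          show φ (x + y) = x + y
          rw [map_add, hx, hy]
        neg_mem' := fun {x} hx => by
          show φ (-x) = -x
          rw [map_neg, hx] }
    have hB : ∀ w ∈ B, φ w ∈ B := by
      intro w hw
      have hw' : φ w = w := hw
      show φ (φ w) = φ w
      exact congrArg φ hw'
    rcases hirr B hB with h | h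
    · have : v ∈ B := hv
      rw [h, AddSubgroup.mem_bot] at this
      exact this
    · exfalso
      apply hφ1
      ext w
      have : w ∈ B := by rw [h]; trivial
      exact this
  have hmodk : q ^ k ≡ 1 [MOD p] := by
    letI : Fintype V := Fintype.ofFinite V
    let f : Function.End V := fun w => φ w
    have hiter : ∀ n : ℕ, ∀ v : V, (f ^ n) v = (φ ^ n) v := by
      intro n
      induction n with
      | zero => intro v; rfl
      | succ n ih =>
        intro v
        rw [pow_succ, pow_succ]
        show (f ^ n) (φ v) = (φ ^ n) (φ v)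
        exact ih (φ v)
    have hf : f ^ p ^ 1 = 1 := by
      rw [pow_one]
      funext v
      rw [hiter, hφp]
      rfl
    have h1 := Equiv.Perm.card_fixedPoints_modEq (p := p) (n := 1) hf
    have h2 : Fintype.card (Function.fixedPoints f) = 1 := by
      rw [Fintype.card_eq_one_iff]
      refine ⟨⟨0, map_zero φ⟩, ?_⟩
      rintro ⟨v, hv⟩
      apply Subtype.ext
      exact hfixpt v hv
    rw [h2, ← Nat.card_eq_fintype_card, hk'] at h1
    exact h1
  have hek : e ∣ k := by
    rw [he]
    apply orderOf_dvd_of_pow_eq_one
    have h1 : ((q ^ k : ℕ) : ZMod p) = ((1 : ℕ) : ZMod p) :=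
      (ZMod.natCast_eq_natCast_iff _ _ _).mpr hmodk
    rw [Nat.cast_pow, Nat.cast_one] at h1
    exact h1
  have hk0 : k ≠ 0 := by
    rintro rfl
    rw [pow_zero] at hk'
    have : Subsingleton V := (Nat.card_eq_one_iff_unique.mp hk').1
    exact not_subsingleton V this
  have hle : q ^ e ≤ q ^ k :=
    Nat.pow_le_pow_right hq.out.pos (Nat.le_of_dvd (Nat.pos_of_ne_zero hk0) hek)
  rw [hk'] at hcardV ⊢
  exact le_antisymm (hcardV.trans hcardK) hle

end Cfsg.Agent.Lib.Helper64
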