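import Mathlib
import Cfsg.Agent.Lib.Helper64.IrredCyclic

set_option autoImplicit false

namespace Cfsg.Agent.Lib.Helper64

/-- Group form: an element `x` with `x ^ p = 1` acting irreducibly and nontrivially by conjugation
on an elementary abelian `q`-subgroup `A` forces `|A| = q ^ ord_p(q)`. -/
theorem card_eq_pow_orderOf_of_irreducible_conj {G : Type*} [Group G] (A : Subgroup G) [Finite A]
    {p q : ℕ} [hp : Fact p.Prime] [hq : Fact q.Prime] (hpq : p ≠ q)
    (hAcomm : ∀ a ∈ A, ∀ b ∈ A, a * b = b * a) (hAq : ∀ a ∈ A, a ^ q = 1)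
    (x : G) (hxA : ∀ a ∈ A, x * a * x⁻¹ ∈ A) (hxp : x ^ p = 1)
    (hnt : ∃ a ∈ A, x * a * x⁻¹ ≠ a)
    (hirr : ∀ B : Subgroup G, B ≤ A → (∀ b ∈ B, x * b * x⁻¹ ∈ B) → B = ⊥ ∨ B = A) :
    Nat.card A = q ^ orderOf (q : ZMod p) := by
  classical
  letI : CommGroup A :=
    { (inferInstance : Group A) with
      mul_comm := fun a b => Subtype.ext (hAcomm a a.2 b b.2) }
  let ψ : A →* A :=
    { toFun := fun a => ⟨x * a * x⁻¹, hxA a a.2⟩
      map_one' := by apply Subtype.ext; simp
      map_mul' := fun a b => by apply Subtype.ext; simp [mul_assoc] }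
  let φ : AddMonoid.End (Additive A) := MonoidHom.toAdditive ψ
  have hφapp : ∀ a : A, φ (Additive.ofMul a) = Additive.ofMul (ψ a) := fun a => rfl
  have hpow : ∀ n : ℕ, ∀ a : A, (φ ^ n) (Additive.ofMul a)
      = Additive.ofMul (⟨x ^ n * a * (x ^ n)⁻¹, by
          have : ∀ n : ℕ, ∀ a : G, a ∈ A → x ^ n * a * (x ^ n)⁻¹ ∈ A := by
            intro n
            induction n with
            | zero => intro a ha; simpa using ha
            | succ n ih =>
              intro a ha
              have h1 := ih _ (hxA a ha)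
              have h2 : x ^ (n + 1) * a * (x ^ (n + 1))⁻¹ = x ^ n * (x * a * x⁻¹) * (x ^ n)⁻¹ := by
                rw [pow_succ]; group
              rw [h2]; exact h1
          exact this n a a.2⟩ : A) := by
    intro n
    induction n with
    | zero =>
      intro a
      simp
    | succ n ih =>
      intro a
      rw [pow_succ, AddMonoid.End.coe_mul, Function.comp_apply, hφapp, ih]
      congr 1
      apply Subtype.ext
      show x ^ n * (x * (a : G) * x⁻¹) * (x ^ n)⁻¹ = x ^ (n + 1) * (a : G) * (x ^ (n + 1))⁻¹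
      rw [pow_succ]; group
  have hφp : φ ^ p = 1 := by
    ext v
    obtain ⟨a, rfl⟩ : ∃ a : A, Additive.ofMul a = v := ⟨Additive.toMul v, rfl⟩
    rw [hpow p a]
    simp [hxp]
  have hφ1 : φ ≠ 1 := by
    obtain ⟨a, ha, hne⟩ := hnt
    intro h
    apply hne
    have := congrArg (fun f : AddMonoid.End (Additive A) => f (Additive.ofMul (⟨a, ha⟩ : A))) h
    simp only [AddMonoid.End.coe_one, id_eq] at this
    rw [hφapp] at this
    have h2 : ψ ⟨a, ha⟩ = ⟨a, ha⟩ := Additive.ofMul.injective this
    exact congrArg Subtype.val h2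
  have hV : ∀ v : Additive A, q • v = 0 := by
    intro v
    obtain ⟨a, rfl⟩ : ∃ a : A, Additive.ofMul a = v := ⟨Additive.toMul v, rfl⟩
    rw [← ofMul_pow]
    have : a ^ q = 1 := Subtype.ext (by simpa using hAq a a.2)
    rw [this]; rfl
  have hirr' : ∀ B : AddSubgroup (Additive A), (∀ v ∈ B, φ v ∈ B) → B = ⊥ ∨ B = ⊤ := by
    intro B hB
    have h1 := hirr ((AddSubgroup.toSubgroup' B).map A.subtype) (Subgroup.map_subtype_le _) (by
      rintro _ ⟨b, hb, rfl⟩
      refine ⟨ψ b, ?_, rfl⟩
      rw [SetLike.mem_coe, AddSubgroup.mem_toSubgroup'] at hb ⊢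
      rw [← hφapp]
      exact hB _ hb)
    rcases h1 with h | h
    · left
      rw [Subgroup.map_eq_bot_iff_of_injective _ A.subtype_injective] at h
      have := congrArg Subgroup.toAddSubgroup h
      simpa using this
    · right
      have h2 : AddSubgroup.toSubgroup' B = ⊤ := by
        rw [eq_top_iff]
        intro a _
        have : (a : G) ∈ (AddSubgroup.toSubgroup' B).map A.subtype := by rw [h]; exact a.2
        obtain ⟨b, hb, hba⟩ := this
        have : b = a := Subtype.ext hba
        rw [← this]; exact hb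
      have := congrArg Subgroup.toAddSubgroup h2
      simpa using this
  have := card_eq_pow_orderOf_of_irreducible hpq hV φ hφp hφ1 hirr'
  exact this

end Cfsg.Agent.Lib.Helper64
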