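import Mathlib
import Cfsg.Agent.Lib.Helper64.MetaCore

set_option autoImplicit false

namespace Cfsg.Agent.Lib.Helper64

open Finset

namespace MetaDatum

variable {G : Type*} [Group G] {p : ℕ} (D : MetaDatum G p)

theorem hr_pow [Fact p.Prime] (j : ℕ) : (p : ℤ) ∣ ((D.r ^ j : ℕ) : ℤ) - 1 := by
  push_cast
  exact D.hr.trans (sub_one_dvd_pow_sub_one _ _)

/-- `p^s`-th powers lie in `U s`. -/
theorem pow_mem_U [Finite G] [Fact p.Prime] (hp2 : p ≠ 2) (s : ℕ) (y : G) :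
    y ^ p ^ s ∈ D.U s := by
  have hp : p.Prime := Fact.out
  obtain ⟨i, j, rfl⟩ := D.hgen y
  rw [D.pow_formula, D.mem_U]
  have h1 : (p : ℤ) ^ s ∣ (i : ℤ) * ∑ x ∈ range (p ^ s), ((D.r ^ j : ℕ) : ℤ) ^ x := by
    rw [geom_dvd hp hp2 (D.hr_pow j)]
    exact ⟨i, by push_cast; ring⟩
  have h2 : p ^ s ∣ i * ∑ x ∈ range (p ^ s), (D.r ^ j) ^ x := by
    rw [← Int.natCast_dvd_natCast]
    push_cast
    push_cast at h1
    exact h1
  obtain ⟨q, hq⟩ := h2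
  exact ⟨q, j, by rw [hq, mul_comm j]⟩

theorem closure_pow_eq_U [Finite G] [Fact p.Prime] (hp2 : p ≠ 2) (s : ℕ) :
    Subgroup.closure {x : G | ∃ y : G, y ^ p ^ s = x} = D.U s := by
  apply le_antisymm
  · rw [Subgroup.closure_le]
    rintro x ⟨y, rfl⟩
    exact D.pow_mem_U hp2 s y
  · unfold U
    rw [sup_le_iff, Subgroup.zpowers_le, Subgroup.zpowers_le]
    exact ⟨Subgroup.subset_closure ⟨_, rfl⟩, Subgroup.subset_closure ⟨_, rfl⟩⟩

theorem U_anti [Finite G] {s t : ℕ} (h : s ≤ t) : D.U t ≤ D.U s := by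
  intro g hg
  obtain ⟨i, j, rfl⟩ := (D.mem_U t g).mp hg
  rw [D.mem_U]
  refine ⟨p ^ (t - s) * i, p ^ (t - s) * j, ?_⟩
  rw [← mul_assoc, ← mul_assoc, ← pow_add, Nat.add_sub_cancel' h]

end MetaDatum

end Cfsg.Agent.Lib.Helper64
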