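import Mathlib
import Cfsg.Agent.Lib.Helper64.MetaPow
import Cfsg.Agent.Lib.Helper64.SylowMax

set_option autoImplicit false

namespace Cfsg.Agent.Lib.Helper64

open Finset

/-- The exponents `i` with `x^i ∈ H` are the multiples of some `d > 0`. -/
theorem exists_dvd_iff_pow_mem {G : Type*} [Group G] [Finite G] (x : G) (H : Subgroup G) :
    ∃ d : ℕ, 0 < d ∧ ∀ i : ℕ, x ^ i ∈ H ↔ d ∣ i := by
  classical
  have hex : ∃ i : ℕ, 0 < i ∧ x ^ i ∈ H :=
    ⟨orderOf x, orderOf_pos x, by rw [pow_orderOf_eq_one]; exact H.one_mem⟩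
  refine ⟨Nat.find hex, (Nat.find_spec hex).1, ?_⟩
  intro i
  constructor
  · intro hi
    by_contra hnd
    have hpos : 0 < i % Nat.find hex := Nat.pos_of_ne_zero (fun h => hnd (Nat.dvd_of_mod_eq_zero h))
    have hlt : i % Nat.find hex < Nat.find hex := Nat.mod_lt _ (Nat.find_spec hex).1
    have hmem : x ^ (i % Nat.find hex) ∈ H := by
      have e : x ^ i = x ^ (i % Nat.find hex) * (x ^ Nat.find hex) ^ (i / Nat.find hex) := by
        rw [← pow_mul, ← pow_add, Nat.mod_add_div]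
      have h2 : x ^ (i % Nat.find hex) = x ^ i * ((x ^ Nat.find hex) ^ (i / Nat.find hex))⁻¹ := by
        rw [e]; group
      rw [h2]
      exact H.mul_mem hi (H.inv_mem (H.pow_mem (Nat.find_spec hex).2 _))
    exact Nat.find_min hex hlt ⟨hpos, hmem⟩
  · rintro ⟨q, rfl⟩
    rw [pow_mul]
    exact H.pow_mem (Nat.find_spec hex).2 _

theorem relIndex_zpowers_eq {G : Type*} [Group G] [Finite G] (x : G) (H : Subgroup G) (d : ℕ)
    (hd : 0 < d) (h : ∀ i : ℕ, x ^ i ∈ H ↔ d ∣ i) : H.relIndex (Subgroup.zpowers x) = d := by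
  have h1 := card_eq_card_inf_mul_relIndex H (Subgroup.zpowers x)
  have h2 : H ⊓ Subgroup.zpowers x = Subgroup.zpowers (x ^ d) := by
    apply le_antisymm
    · rintro g ⟨hgH, hgx⟩
      have hgH : g ∈ H := hgH
      have hgx : g ∈ Subgroup.zpowers x := hgx
      rw [← (isOfFinOrder_of_finite x).mem_powers_iff_mem_zpowers, Submonoid.mem_powers_iff] at hgx
      obtain ⟨i, rfl⟩ := hgx
      obtain ⟨q, rfl⟩ := (h i).mp hgH
      rw [pow_mul]
      exact Subgroup.pow_mem _ (Subgroup.mem_zpowers _) _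
    · rw [Subgroup.zpowers_le]
      exact ⟨(h d).mpr dvd_rfl, Subgroup.pow_mem _ (Subgroup.mem_zpowers _) _⟩
  have hdo : d ∣ orderOf x := by
    rw [← h, pow_orderOf_eq_one]; exact H.one_mem
  rw [h2, Nat.card_zpowers, Nat.card_zpowers, orderOf_pow, Nat.gcd_eq_right hdo] at h1
  have hpos : 0 < orderOf x / d := Nat.div_pos (Nat.le_of_dvd (orderOf_pos x) hdo) hd
  have h3 : orderOf x / d * d = orderOf x / d * H.relIndex (Subgroup.zpowers x) := by
    rw [Nat.div_mul_cancel hdo]; exact h1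
  exact (Nat.eq_of_mul_eq_mul_left hpos h3).symm

namespace MetaDatum

variable {G : Type*} [Group G] {p : ℕ} (D : MetaDatum G p)

theorem exists_subDatum [Finite G] [Fact p.Prime] (hp2 : p ≠ 2) (hG : IsPGroup p G)
    {n : ℕ} (hn : orderOf D.c = p ^ n) (R : Subgroup G) :
    ∃ (DR : MetaDatum ↥R p) (w : ℕ), R.index = p ^ w ∧ orderOf DR.c = p ^ (n - w) := by
  classical
  have hp : p.Prime := Fact.out
  set N : Subgroup G := Subgroup.zpowers D.a with hN
  haveI hNn : N.Normal := by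
    have := D.normal_zpowers_a_pow 1
    rwa [pow_one] at this
  set π := QuotientGroup.mk' N with hπ
  obtain ⟨d, hd0, hd⟩ := exists_dvd_iff_pow_mem D.a R
  obtain ⟨e, he0, he⟩ := exists_dvd_iff_pow_mem (π D.b) (R.map π)
  -- the element y
  obtain ⟨y, hyR, hy⟩ : ∃ y ∈ R, π y = π D.b ^ e := (he e).mpr dvd_rfl
  have hNa : ∀ x ∈ N, ∃ i : ℕ, x = D.a ^ i := by
    intro x hx
    rw [hN, ← (isOfFinOrder_of_finite _).mem_powers_iff_mem_zpowers, Submonoid.mem_powers_iff] at hx
    obtain ⟨i, rfl⟩ := hx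
    exact ⟨i, rfl⟩
  have hπN : ∀ x : G, π x = 1 ↔ x ∈ N := fun x => QuotientGroup.eq_one_iff x
  obtain ⟨cc, hcc⟩ : ∃ cc : ℕ, y = D.a ^ cc * D.b ^ e := by
    have h1 : y * (D.b ^ e)⁻¹ ∈ N := by
      rw [← hπN, map_mul, map_inv, map_pow, hy, mul_inv_cancel]
    obtain ⟨cc, hcc⟩ := hNa _ h1
    exact ⟨cc, by rw [← hcc]; group⟩
  -- generation of R
  have hgenR : ∀ g ∈ R, ∃ i j : ℕ, g = (D.a ^ d) ^ i * y ^ j := by
    intro g hg
    obtain ⟨u, v, huv⟩ := D.hgen g
    have h1 : π g = π D.b ^ v := by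
      rw [huv, map_mul, map_pow, map_pow, (hπN D.a).mpr (Subgroup.mem_zpowers _), one_pow, one_mul]
    have h2 : π D.b ^ v ∈ R.map π := by rw [← h1]; exact Subgroup.mem_map_of_mem _ hg
    obtain ⟨j, rfl⟩ := (he v).mp h2
    have h3 : g * (y ^ j)⁻¹ ∈ N := by
      rw [← hπN, map_mul, map_inv, map_pow, hy, h1, ← pow_mul, mul_inv_cancel]
    obtain ⟨t, ht⟩ := hNa _ h3
    have h4 : D.a ^ t ∈ R := by
      rw [← ht]; exact R.mul_mem hg (R.inv_mem (R.pow_mem hyR _))
    obtain ⟨i, rfl⟩ := (hd t).mp h4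
    refine ⟨i, j, ?_⟩
    rw [← pow_mul, ← ht]; group
  have hadR : D.a ^ d ∈ R := (hd d).mpr dvd_rfl
  have hconjR : y * D.a ^ d * y⁻¹ = (D.a ^ d) ^ (D.r ^ e) := by
    rw [hcc, D.conj_a_pow, pow_mul]
  let DR : MetaDatum ↥R p :=
    { a := ⟨D.a ^ d, hadR⟩
      b := ⟨y, hyR⟩
      r := D.r ^ e
      hr := D.hr_pow e
      hconj := Subtype.ext (by simpa using hconjR)
      hgen := by
        rintro ⟨g, hg⟩
        obtain ⟨i, j, hij⟩ := hgenR g hg
        exact ⟨i, j, Subtype.ext (by simpa using hij)⟩ }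
  -- index formula
  have hidx : R.index = d * e := by
    have hker : π.ker = N := QuotientGroup.ker_mk' N
    have hrange : π.range = ⊤ := MonoidHom.range_eq_top.mpr (QuotientGroup.mk'_surjective N)
    have h1 : (R.map π).index = (R ⊔ N).index := by
      rw [Subgroup.index_map, hker, hrange, Subgroup.index_top, mul_one]
    have htop : Subgroup.zpowers (π D.b) = ⊤ := by
      rw [eq_top_iff]
      intro q _
      obtain ⟨g, rfl⟩ := QuotientGroup.mk'_surjective N q
      obtain ⟨u, v, huv⟩ := D.hgen g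
      have : π g = π D.b ^ v := by
        rw [huv, map_mul, map_pow, map_pow, (hπN D.a).mpr (Subgroup.mem_zpowers _), one_pow,
          one_mul]
      rw [this]
      exact Subgroup.pow_mem _ (Subgroup.mem_zpowers _) _
    have h2 : (R.map π).index = e := by
      rw [← Subgroup.relIndex_top_right, ← htop]
      exact relIndex_zpowers_eq _ _ e he0 he
    have h3 : R.relIndex N = d := relIndex_zpowers_eq _ _ d hd0 hd
    have h4 : R.relIndex (R ⊔ N) = R.relIndex N := by
      have k1 := card_eq_card_inf_mul_relIndex R (R ⊔ N)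
      rw [inf_eq_left.mpr (le_sup_left : R ≤ R ⊔ N)] at k1
      have k2 := card_eq_card_inf_mul_relIndex R N
      have k3 := card_sup_mul_card_inf R N
      rw [k1, k2] at k3
      have hpos : 0 < Nat.card R * Nat.card ↥(R ⊓ N) := Nat.mul_pos Nat.card_pos Nat.card_pos
      apply Nat.eq_of_mul_eq_mul_left hpos
      calc Nat.card R * Nat.card ↥(R ⊓ N) * R.relIndex (R ⊔ N)
          = Nat.card R * R.relIndex (R ⊔ N) * Nat.card ↥(R ⊓ N) := by ring
        _ = Nat.card ↥(R ⊓ N) * R.relIndex N * Nat.card R := k3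
        _ = Nat.card R * Nat.card ↥(R ⊓ N) * R.relIndex N := by ring
    rw [← Subgroup.relIndex_mul_index (le_sup_left : R ≤ R ⊔ N), h4, h3, ← h1, h2]
  obtain ⟨w, hw⟩ : ∃ w, R.index = p ^ w := by
    obtain ⟨M, hM⟩ := IsPGroup.iff_card.mp hG
    have hdv : R.index ∣ p ^ M := by rw [← hM]; exact Subgroup.index_dvd_card R
    obtain ⟨w, _, hw⟩ := (Nat.dvd_prime_pow hp).mp hdv
    exact ⟨w, hw⟩
  refine ⟨DR, w, hw, ?_⟩
  -- order of the commutator
  have hord : ∀ x : ℕ, orderOf DR.c ∣ x ↔ p ^ n ∣ p ^ w * x := by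
    intro x
    have e1 : ((DR.c : ↥R) : G) = D.a ^ (d * (D.r ^ e - 1)) := by
      show ((⟨D.a ^ d, hadR⟩ : ↥R) ^ (D.r ^ e - 1) : ↥R).val = _
      rw [Subgroup.coe_pow, ← pow_mul]
    rw [← Subgroup.orderOf_coe, e1, orderOf_dvd_iff_pow_eq_one, ← pow_mul]
    have h1 : Commute (D.b ^ e) (D.a ^ (d * x)) ↔ D.a ^ (d * (D.r ^ e - 1) * x) = 1 := by
      unfold Commute SemiconjBy
      rw [D.b_pow_mul_a_pow, mul_left_inj]
      have hre : 1 ≤ D.r ^ e := Nat.one_le_pow _ _ D.r_pos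
      have e2 : d * x * D.r ^ e = d * (D.r ^ e - 1) * x + d * x := by
        have : D.r ^ e = (D.r ^ e - 1) + 1 := (Nat.sub_add_cancel hre).symm
        calc d * x * D.r ^ e = d * x * ((D.r ^ e - 1) + 1) := by rw [← this]
          _ = d * (D.r ^ e - 1) * x + d * x := by ring
      rw [e2, pow_add]
      constructor
      · intro h; exact mul_eq_right.mp h
      · intro h; rw [h, one_mul]
    rw [← h1, D.commute_b_pow_a_pow hp2 hG, hn, ← hw, hidx]
    have : d * x * e = d * e * x := by ring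
    rw [this]
  apply Nat.dvd_antisymm
  · rw [hord, ← pow_add]
    exact pow_dvd_pow p (by omega)
  · have h1 := (hord (orderOf DR.c)).mp dvd_rfl
    by_cases hwn : w ≤ n
    · have : p ^ n = p ^ w * p ^ (n - w) := by rw [← pow_add, Nat.add_sub_cancel' hwn]
      rw [this] at h1
      exact Nat.dvd_of_mul_dvd_mul_left (pow_pos hp.pos _) h1
    · have : n - w = 0 := by omega
      rw [this, pow_zero]; exact one_dvd _

end MetaDatum

end Cfsg.Agent.Lib.Helper64
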