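import Mathlib
import Cfsg.Agent.Lib.Helper64.MetaSub
import Cfsg.Agent.Lib.Helper2.PGroup
import Cfsg.Agent.Lib.Helper47.Frattini

set_option autoImplicit false

namespace Cfsg.Agent.Lib.Helper64

open Finset
open scoped commutatorElement

namespace MetaDatum

variable {G : Type*} [Group G] {p : ℕ} (D : MetaDatum G p)

theorem isMulCommutative_iff [Fact p.Prime] : IsMulCommutative G ↔ D.c = 1 := by
  constructor
  · intro h
    have h1 : D.b * D.a * D.b⁻¹ = D.a := by
      rw [h.is_comm.comm D.b D.a]; group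
    rw [D.hconj] at h1
    have h2 : D.a ^ (D.r - 1) * D.a = D.a := by
      rw [← pow_succ, Nat.sub_add_cancel D.r_pos]; exact h1
    exact mul_eq_right.mp h2
  · intro h
    have hbot : commutator G = ⊥ := by
      rw [D.commutator_eq, h, Subgroup.zpowers_one_eq_bot]
    refine ⟨⟨fun x y => ?_⟩⟩
    have : ⁅x, y⁆ ∈ commutator G := by
      rw [commutator_def]
      exact Subgroup.commutator_mem_commutator (Subgroup.mem_top _) (Subgroup.mem_top _)
    rw [hbot, Subgroup.mem_bot, commutatorElement_def] at this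
    calc x * y = (x * y * x⁻¹ * y⁻¹) * y * x := by group
      _ = y * x := by rw [this, one_mul]

theorem card_eq_pow_mul_index [Fact p.Prime] {n : ℕ} (hn : orderOf D.c = p ^ n) :
    Nat.card G = p ^ n * (commutator G).index := by
  rw [← hn, ← D.card_commutator]; exact (Subgroup.card_mul_index _).symm

/-- Structure of an arbitrary subgroup of a metacyclic `p`-group (`p` odd). -/
theorem subgroup_structure [Finite G] [Fact p.Prime] (hp2 : p ≠ 2) (hG : IsPGroup p G)
    {n : ℕ} (hn : orderOf D.c = p ^ n) (R : Subgroup G) :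
    ∃ w : ℕ, R.index = p ^ w ∧
      Nat.card ↥R = Nat.card ↥(Subgroup.center ↥R) * p ^ (2 * (n - w)) ∧
      (IsMulCommutative ↥R ↔ n ≤ w) ∧ Nat.card ↥(commutator ↥R) = p ^ (n - w) := by
  have hp : p.Prime := Fact.out
  obtain ⟨DR, w, hw, hcR⟩ := D.exists_subDatum hp2 hG hn R
  refine ⟨w, hw, ?_, ?_, ?_⟩
  · have h1 := DR.card_eq_card_U_mul hp2 (hG.to_subgroup R) hcR le_rfl
    rw [DR.U_eq_center hp2 (hG.to_subgroup R) hcR] at h1
    exact h1
  · rw [DR.isMulCommutative_iff, ← orderOf_eq_one_iff, hcR]
    constructor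
    · intro h
      by_contra hlt
      push Not at hlt
      have : 1 < p ^ (n - w) := Nat.one_lt_pow (by omega) hp.one_lt
      omega
    · intro h
      have : n - w = 0 := by omega
      rw [this, pow_zero]
  · rw [DR.card_commutator, hcR]

theorem subgroup_comm_iff [Finite G] [Fact p.Prime] (hp2 : p ≠ 2) (hG : IsPGroup p G)
    {n : ℕ} (hn : orderOf D.c = p ^ n) (R : Subgroup G) :
    IsMulCommutative ↥R ↔ Nat.card R ≤ (commutator G).index := by
  have hp : p.Prime := Fact.out
  obtain ⟨w, hw, -, hcomm, -⟩ := D.subgroup_structure hp2 hG hn R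
  have h1 : Nat.card R * p ^ w = Nat.card G := by rw [← hw]; exact Subgroup.card_mul_index R
  have h2 := D.card_eq_pow_mul_index hn
  rw [hcomm]
  constructor
  · intro hnw
    have : Nat.card R * p ^ n ≤ (commutator G).index * p ^ n := by
      calc Nat.card R * p ^ n ≤ Nat.card R * p ^ w :=
            Nat.mul_le_mul_left _ (Nat.pow_le_pow_right hp.pos hnw)
        _ = (commutator G).index * p ^ n := by rw [h1, h2, mul_comm]
    exact Nat.le_of_mul_le_mul_right this (pow_pos hp.pos _)
  · intro h
    have h3 : Nat.card R * p ^ n ≤ Nat.card R * p ^ w := by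
      calc Nat.card R * p ^ n ≤ (commutator G).index * p ^ n := Nat.mul_le_mul_right _ h
        _ = Nat.card R * p ^ w := by rw [h1, h2, mul_comm]
    have h4 : p ^ n ≤ p ^ w := Nat.le_of_mul_le_mul_left h3 Nat.card_pos
    exact (Nat.pow_le_pow_iff_right hp.one_lt).mp h4

theorem frattini_eq_U [Finite G] [Fact p.Prime] (hp2 : p ≠ 2) (hG : IsPGroup p G) :
    frattini G = D.U 1 := by
  apply le_antisymm
  · apply Cfsg.Agent.Lib.Helper47.frattini_le_of_elementary_abelian_quotient p
    · intro x y
      have h1 : ⁅x, y⁆ ∈ commutator G := by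
        rw [commutator_def]
        exact Subgroup.commutator_mem_commutator (Subgroup.mem_top _) (Subgroup.mem_top _)
      rw [D.commutator_eq] at h1
      have h2 : Subgroup.zpowers D.c ≤ D.U 1 := by
        rw [Subgroup.zpowers_le, D.mem_U]
        obtain ⟨q, hq⟩ : p ∣ D.r - 1 := by
          rw [← Int.natCast_dvd_natCast, D.r_cast]; exact D.hr
        exact ⟨q, 0, by unfold c; rw [hq, pow_one]; simp⟩
      exact h2 h1
    · intro x
      have := D.pow_mem_U hp2 1 x
      rwa [pow_one] at this
  · rw [← D.closure_pow_eq_U hp2 1, Subgroup.closure_le]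
    rintro x ⟨y, rfl⟩
    rw [pow_one]
    exact Cfsg.Agent.Lib.Helper2.pow_mem_frattini hG y

end MetaDatum

end Cfsg.Agent.Lib.Helper64
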