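import Mathlib
import Cfsg.Agent.Lib.Helper64.MetaSub

set_option autoImplicit false

namespace Cfsg.Agent.Lib.Helper64

open Finset

namespace MetaDatum

variable {G : Type*} [Group G] {p : ℕ} (D : MetaDatum G p)

/-- Parameters of a subgroup `R`: `R ∩ ⟨a⟩ = ⟨a^d⟩`, `R` contains `a^cc b^e`, `|G : R| = d e`. -/
theorem exists_params [Finite G] (R : Subgroup G) :
    ∃ d e cc : ℕ, 0 < d ∧ 0 < e ∧ (∀ i : ℕ, D.a ^ i ∈ R ↔ d ∣ i) ∧
      D.a ^ cc * D.b ^ e ∈ R ∧ R.index = d * e := by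
  classical
  set N : Subgroup G := Subgroup.zpowers D.a with hN
  haveI hNn : N.Normal := by
    have := D.normal_zpowers_a_pow 1
    rwa [pow_one] at this
  set π := QuotientGroup.mk' N with hπ
  obtain ⟨d, hd0, hd⟩ := exists_dvd_iff_pow_mem D.a R
  obtain ⟨e, he0, he⟩ := exists_dvd_iff_pow_mem (π D.b) (R.map π)
  obtain ⟨y, hyR, hy⟩ : ∃ y ∈ R, π y = π D.b ^ e := (he e).mpr dvd_rfl
  have hNa : ∀ x ∈ N, ∃ i : ℕ, x = D.a ^ i := by
    intro x hx
    rw [hN, ← (isOfFinOrder_of_finite _).mem_powers_iff_mem_zpowers, Submonoid.mem_powers_iff] at hx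
    obtain ⟨i, rfl⟩ := hx
    exact ⟨i, rfl⟩
  have hπN : ∀ x : G, π x = 1 ↔ x ∈ N := fun x => QuotientGroup.eq_one_iff x
  obtain ⟨cc, hcc⟩ : ∃ cc : ℕ, y = D.a ^ cc * D.b ^ e := by
    have h1 : y * (D.b ^ e)⁻¹ ∈ N := by
      rw [← hπN, map_mul, map_inv, map_pow, hy, mul_inv_cancel]
    obtain ⟨cc, hcc⟩ := hNa _ h1
    exact ⟨cc, by rw [← hcc]; group⟩
  refine ⟨d, e, cc, hd0, he0, hd, by rw [← hcc]; exact hyR, ?_⟩
  have hker : π.ker = N := QuotientGroup.ker_mk' N
  have hrange : π.range = ⊤ := MonoidHom.range_eq_top.mpr (QuotientGroup.mk'_surjective N)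
  have h1 : (R.map π).index = (R ⊔ N).index := by
    rw [Subgroup.index_map, hker, hrange, Subgroup.index_top, mul_one]
  have htop : Subgroup.zpowers (π D.b) = ⊤ := by
    rw [eq_top_iff]
    intro q _
    obtain ⟨g, rfl⟩ := QuotientGroup.mk'_surjective N q
    obtain ⟨u, v, huv⟩ := D.hgen g
    have : π g = π D.b ^ v := by
      rw [huv, map_mul, map_pow, map_pow, (hπN D.a).mpr (Subgroup.mem_zpowers _), one_pow,
        one_mul]
    rw [this]
    exact Subgroup.pow_mem _ (Subgroup.mem_zpowers _) _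
  have h2 : (R.map π).index = e := by
    rw [← Subgroup.relIndex_top_right, ← htop]
    exact relIndex_zpowers_eq _ _ e he0 he
  have h3 : R.relIndex N = d := relIndex_zpowers_eq _ _ d hd0 hd
  have h4 : R.relIndex (R ⊔ N) = R.relIndex N := by
    have k1 := card_eq_card_inf_mul_relIndex R (R ⊔ N)
    rw [inf_eq_left.mpr (le_sup_left : R ≤ R ⊔ N)] at k1
    have k2 := card_eq_card_inf_mul_relIndex R N
    have k3 := card_sup_mul_card_inf R N
    rw [k1, k2] at k3
    have hpos : 0 < Nat.card R * Nat.card ↥(R ⊓ N) := Nat.mul_pos Nat.card_pos Nat.card_pos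
    apply Nat.eq_of_mul_eq_mul_left hpos
    calc Nat.card R * Nat.card ↥(R ⊓ N) * R.relIndex (R ⊔ N)
        = Nat.card R * R.relIndex (R ⊔ N) * Nat.card ↥(R ⊓ N) := by ring
      _ = Nat.card ↥(R ⊓ N) * R.relIndex N * Nat.card R := k3
      _ = Nat.card R * Nat.card ↥(R ⊓ N) * R.relIndex N := by ring
  rw [← Subgroup.relIndex_mul_index (le_sup_left : R ≤ R ⊔ N), h4, h3, ← h1, h2]

/-- Upper bound for the Chermak–Delgado measure: `p^(2n)` divides `|G:R| |G:C_G(R)|`. -/
theorem pow_dvd_index_mul_index_centralizer [Finite G] [Fact p.Prime] (hp2 : p ≠ 2)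
    (hG : IsPGroup p G) {n : ℕ} (hn : orderOf D.c = p ^ n) (R : Subgroup G) :
    p ^ (2 * n) ∣ R.index * (Subgroup.centralizer (R : Set G)).index := by
  obtain ⟨d, e, cc, -, -, hd, hy, hidx⟩ := D.exists_params R
  obtain ⟨d', e', cc', -, -, hd', hy', hidx'⟩ := D.exists_params (Subgroup.centralizer (R : Set G))
  have h1 : p ^ n ∣ d' * e := by
    have hmem : D.a ^ d' ∈ Subgroup.centralizer (R : Set G) := (hd' d').mpr dvd_rfl
    have hc : Commute (D.a ^ cc * D.b ^ e) (D.a ^ d') := Subgroup.mem_centralizer_iff.mp hmem _ hy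
    have hc2 : Commute (D.a ^ cc) (D.a ^ d') := (Commute.refl D.a).pow_pow _ _
    have hc3 : Commute (D.b ^ e) (D.a ^ d') := by
      have := hc2.inv_left.mul_left hc
      simpa using this
    rwa [D.commute_b_pow_a_pow hp2 hG, hn] at hc3
  have h2 : p ^ n ∣ d * e' := by
    have hmem : D.a ^ d ∈ R := (hd d).mpr dvd_rfl
    have hc : Commute (D.a ^ d) (D.a ^ cc' * D.b ^ e') := Subgroup.mem_centralizer_iff.mp hy' _ hmem
    have hc2 : Commute (D.a ^ d) (D.a ^ cc') := (Commute.refl D.a).pow_pow _ _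
    have hc3 : Commute (D.a ^ d) (D.b ^ e') := by
      have := hc2.inv_right.mul_right hc
      simpa using this
    have hc4 := hc3.symm
    rwa [D.commute_b_pow_a_pow hp2 hG, hn] at hc4
  rw [hidx, hidx', two_mul, pow_add]
  have : d * e * (d' * e') = (d' * e) * (d * e') := by ring
  rw [this]
  exact Nat.mul_dvd_mul h1 h2

end MetaDatum

end Cfsg.Agent.Lib.Helper64
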