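import Mathlib
import Cfsg.Agent.Lib.Helper64.MetaParams
import Cfsg.Agent.Lib.Helper2.PGroup

set_option autoImplicit false

namespace Cfsg.Agent.Lib.Helper64

open Finset

theorem card_le_card_inf_centralizer_mul {G : Type*} [Group G] [Finite G] (A : Subgroup G) (g : G)
    (M : Subgroup G) (h : ∀ x ∈ A, x * g * x⁻¹ * g⁻¹ ∈ M) :
    Nat.card A ≤ Nat.card ↥(Subgroup.centralizer ({g} : Set G) ⊓ A) * Nat.card M := by
  classical
  have h1 := card_eq_card_inf_mul_relIndex (Subgroup.centralizer ({g} : Set G)) A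
  rw [h1]
  apply Nat.mul_le_mul_left
  rw [Subgroup.relIndex, Subgroup.index]
  let f : ↥A ⧸ (Subgroup.centralizer ({g} : Set G)).subgroupOf A → M :=
    fun q => ⟨(q.out : G) * g * (q.out : G)⁻¹ * g⁻¹, h _ q.out.2⟩
  apply Nat.card_le_card_of_injective f
  intro q q' hqq
  have e1 : (q.out : G) * g * (q.out : G)⁻¹ * g⁻¹ = (q'.out : G) * g * (q'.out : G)⁻¹ * g⁻¹ :=
    congrArg Subtype.val hqq
  have e2 : (q.out : G) * g * (q.out : G)⁻¹ = (q'.out : G) * g * (q'.out : G)⁻¹ :=
    mul_right_cancel e1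
  rw [← QuotientGroup.out_eq' q, ← QuotientGroup.out_eq' q', QuotientGroup.eq,
    Subgroup.mem_subgroupOf, Subgroup.mem_centralizer_iff]
  intro y hy
  rw [Set.mem_singleton_iff] at hy; subst hy
  simp only [Subgroup.coe_mul, Subgroup.coe_inv]
  calc y * ((q.out : G)⁻¹ * (q'.out : G))
      = (q.out : G)⁻¹ * ((q.out : G) * y * (q.out : G)⁻¹) * (q'.out : G) := by group
    _ = (q.out : G)⁻¹ * ((q'.out : G) * y * (q'.out : G)⁻¹) * (q'.out : G) := by rw [e2]
    _ = (q.out : G)⁻¹ * (q'.out : G) * y := by group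

namespace MetaDatum

variable {G : Type*} [Group G] {p : ℕ} (D : MetaDatum G p)

include D in
/-- If `x` commutes with `g^p` then the commutator of `x` and `g` has order dividing `p`. -/
theorem comm_pow_eq_one [Finite G] [Fact p.Prime] (hp2 : p ≠ 2) (hG : IsPGroup p G) (x g : G)
    (h : Commute x (g ^ p)) : (x * g * x⁻¹ * g⁻¹) ^ p = 1 := by
  have hp : p.Prime := Fact.out
  obtain ⟨m, hm⟩ := (IsPGroup.iff_orderOf.mp hG) D.a
  obtain ⟨u, v, rfl⟩ := D.hgen x
  obtain ⟨i, j, rfl⟩ := D.hgen g
  have h2 : (D.a ^ u * D.b ^ v) * (D.a ^ i * D.b ^ j) ^ p * (D.a ^ u * D.b ^ v)⁻¹ *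
      ((D.a ^ i * D.b ^ j) ^ p)⁻¹ = 1 := by
    rw [h.eq]; group
  rw [D.pow_formula, D.comm_formula] at h2
  rw [D.comm_formula, ← zpow_natCast, ← zpow_mul]
  rw [← orderOf_dvd_iff_zpow_eq_one, hm] at h2 ⊢
  set S : ℤ := ∑ t ∈ range p, ((D.r ^ j : ℕ) : ℤ) ^ t with hS
  set E1 : ℤ := ((u + i * D.r ^ v : ℕ) : ℤ) - ((i + u * D.r ^ j : ℕ) : ℤ) with hE1
  have hgs : (((D.r ^ j : ℕ) : ℤ) - 1) * S = ((D.r ^ j : ℕ) : ℤ) ^ p - 1 := mul_geom_sum _ _
  have hE2 : ((u + i * (∑ t ∈ range p, (D.r ^ j) ^ t) * D.r ^ v : ℕ) : ℤ) -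
      ((i * (∑ t ∈ range p, (D.r ^ j) ^ t) + u * D.r ^ (j * p) : ℕ) : ℤ) = E1 * S := by
    have e3 : ((D.r ^ (j * p) : ℕ) : ℤ) = (((D.r ^ j : ℕ) : ℤ) - 1) * S + 1 := by
      rw [hgs, pow_mul]; push_cast; ring
    have e4 : ((∑ t ∈ range p, (D.r ^ j) ^ t : ℕ) : ℤ) = S := by
      rw [hS]; push_cast; rfl
    rw [hE1]
    push_cast at e3 e4 ⊢
    rw [e3, e4]
    ring
  rw [hE2] at h2
  have h3 : (p : ℤ) ^ m ∣ E1 * S := by exact_mod_cast h2
  rw [hS, geom_dvd hp hp2 (D.hr_pow j)] at h3
  exact_mod_cast h3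

theorem exists_small_subgroup [Finite G] [Fact p.Prime] (hG : IsPGroup p G) :
    ∃ M : Subgroup G, Nat.card M ≤ p ∧ ∀ z ∈ Subgroup.zpowers D.a, z ^ p = 1 → z ∈ M := by
  have hp : p.Prime := Fact.out
  obtain ⟨m, hm⟩ := (IsPGroup.iff_orderOf.mp hG) D.a
  rcases Nat.eq_zero_or_pos m with h0 | hpos
  · refine ⟨⊥, by rw [Subgroup.card_bot]; exact hp.one_lt.le, ?_⟩
    intro z hz _
    rw [h0, pow_zero, orderOf_eq_one_iff] at hm
    rw [hm, Subgroup.zpowers_one_eq_bot] at hz
    exact hz
  · refine ⟨Subgroup.zpowers (D.a ^ p ^ (m - 1)), ?_, ?_⟩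
    · rw [Nat.card_zpowers, orderOf_pow, hm, Nat.gcd_eq_right (pow_dvd_pow p (Nat.sub_le m 1)),
        Nat.pow_div (Nat.sub_le m 1) hp.pos]
      have : m - (m - 1) = 1 := by omega
      rw [this, pow_one]
    · intro z hz hzp
      rw [← (isOfFinOrder_of_finite _).mem_powers_iff_mem_zpowers, Submonoid.mem_powers_iff] at hz
      obtain ⟨i, rfl⟩ := hz
      rw [← pow_mul, ← orderOf_dvd_iff_pow_eq_one, hm] at hzp
      have hpm : p ^ m = p ^ (m - 1) * p := by rw [← pow_succ, Nat.sub_add_cancel hpos]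
      rw [hpm] at hzp
      obtain ⟨q, rfl⟩ := Nat.dvd_of_mul_dvd_mul_right hp.pos hzp
      rw [pow_mul]
      exact Subgroup.pow_mem _ (Subgroup.mem_zpowers _) _

include D in
/-- Lower bound for the Chermak–Delgado measure of subgroups containing the centre. -/
theorem card_mul_card_center_le [Finite G] [Fact p.Prime] (hp2 : p ≠ 2) (hG : IsPGroup p G)
    (R : Subgroup G) (hZR : Subgroup.center G ≤ R) :
    Nat.card G * Nat.card (Subgroup.center G) ≤
      Nat.card R * Nat.card (Subgroup.centralizer (R : Set G)) := by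
  classical
  have hp : p.Prime := Fact.out
  obtain ⟨M, hMp, hM⟩ := D.exists_small_subgroup hG
  induction' hk : Nat.card R using Nat.strong_induction_on with k ih generalizing R
  subst hk
  by_cases hRZ : R = Subgroup.center G
  · rw [hRZ]
    have : Subgroup.centralizer ((Subgroup.center G : Subgroup G) : Set G) = ⊤ := by
      rw [Subgroup.centralizer_eq_top_iff_subset]
    rw [this, Subgroup.card_top, mul_comm]
  · -- a maximal subgroup of R containing the centre
    have hne : (Subgroup.center G).subgroupOf R ≠ ⊤ := by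
      intro h
      rw [Subgroup.subgroupOf_eq_top] at h
      exact hRZ (le_antisymm h hZR)
    obtain h | ⟨M₀, hM₀, hZM₀⟩ := IsCoatomic.eq_top_or_exists_le_coatom
      ((Subgroup.center G).subgroupOf R)
    · exact absurd h hne
    have hRp : IsPGroup p ↥R := hG.to_subgroup R
    haveI := Cfsg.Agent.Lib.Helper2.coatom_normal hRp M₀ hM₀
    have hcq := Cfsg.Agent.Lib.Helper2.coatom_card_quotient hRp M₀ hM₀
    set R₀ : Subgroup G := M₀.map R.subtype with hR₀
    have hR₀R : R₀ ≤ R := Subgroup.map_subtype_le _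
    have hcardR₀ : Nat.card R₀ = Nat.card M₀ :=
      Subgroup.card_map_of_injective R.subtype_injective
    have hcardR : Nat.card R = Nat.card R₀ * p := by
      rw [hcardR₀, ← hcq]
      exact (Subgroup.card_eq_card_quotient_mul_card_subgroup M₀).trans (mul_comm _ _)
    have hZR₀ : Subgroup.center G ≤ R₀ := by
      intro z hz
      exact ⟨⟨z, hZR hz⟩, hZM₀ (Subgroup.mem_subgroupOf.mpr hz), rfl⟩
    -- an element outside
    obtain ⟨g', hg'⟩ : ∃ g' : ↥R, g' ∉ M₀ := by
      by_contra hcon
      push Not at hcon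
      exact hM₀.1 (eq_top_iff.mpr fun x _ => hcon x)
    have hgp : (g' : G) ^ p ∈ R₀ :=
      ⟨g' ^ p, Cfsg.Agent.Lib.Helper2.pow_mem_coatom hRp M₀ hM₀ g', by simp⟩
    -- R is generated by R₀ and g'
    have hRgen : R ≤ R₀ ⊔ Subgroup.zpowers (g' : G) := by
      have htop : M₀ ⊔ Subgroup.zpowers g' = ⊤ := by
        apply hM₀.2
        refine lt_of_le_of_ne le_sup_left ?_
        intro h
        apply hg'
        rw [h]
        exact Subgroup.mem_sup_right (Subgroup.mem_zpowers _)
      intro x hx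
      have hx' : (⟨x, hx⟩ : ↥R) ∈ M₀ ⊔ Subgroup.zpowers g' := by rw [htop]; trivial
      have := Subgroup.mem_map_of_mem R.subtype hx'
      rw [Subgroup.map_sup, MonoidHom.map_zpowers] at this
      exact this
    have hCle : Subgroup.centralizer ({(g' : G)} : Set G) ⊓ Subgroup.centralizer (R₀ : Set G) ≤
        Subgroup.centralizer (R : Set G) := by
      rintro x ⟨hx1, hx2⟩
      have hx1 : x ∈ Subgroup.centralizer ({(g' : G)} : Set G) := hx1
      have hx2 : x ∈ Subgroup.centralizer (R₀ : Set G) := hx2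
      have hle : R₀ ⊔ Subgroup.zpowers (g' : G) ≤ Subgroup.centralizer ({x} : Set G) := by
        rw [sup_le_iff, Subgroup.zpowers_le]
        constructor
        · intro y hy
          rw [Subgroup.mem_centralizer_iff]
          intro z hz
          rw [Set.mem_singleton_iff] at hz; subst hz
          exact (Subgroup.mem_centralizer_iff.mp hx2 y hy).symm
        · rw [Subgroup.mem_centralizer_iff]
          intro z hz
          rw [Set.mem_singleton_iff] at hz; subst hz
          exact (Subgroup.mem_centralizer_iff.mp hx1 _ rfl).symm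
      rw [Subgroup.mem_centralizer_iff]
      intro y hy
      have := hle (hRgen hy)
      rw [Subgroup.mem_centralizer_iff] at this
      exact (this x rfl).symm
    -- the commutators with g' lie in M
    have hcomm : ∀ x ∈ Subgroup.centralizer (R₀ : Set G),
        x * (g' : G) * x⁻¹ * (g' : G)⁻¹ ∈ M := by
      intro x hx
      apply hM
      · have h1 : x * (g' : G) * x⁻¹ * (g' : G)⁻¹ ∈ commutator G := by
          rw [commutator_def, ← commutatorElement_def]
          exact Subgroup.commutator_mem_commutator (Subgroup.mem_top _) (Subgroup.mem_top _)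
        rw [D.commutator_eq] at h1
        have h2 : Subgroup.zpowers D.c ≤ Subgroup.zpowers D.a := by
          rw [Subgroup.zpowers_le]
          exact Subgroup.pow_mem _ (Subgroup.mem_zpowers _) _
        exact h2 h1
      · apply D.comm_pow_eq_one hp2 hG
        exact (Subgroup.mem_centralizer_iff.mp hx _ hgp).symm
    have hstep := card_le_card_inf_centralizer_mul (Subgroup.centralizer (R₀ : Set G)) (g' : G) M hcomm
    have hle2 : Nat.card ↥(Subgroup.centralizer ({(g' : G)} : Set G) ⊓
        Subgroup.centralizer (R₀ : Set G)) ≤ Nat.card (Subgroup.centralizer (R : Set G)) :=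
      Subgroup.card_le_of_le hCle
    have hlt : Nat.card R₀ < Nat.card R := by
      rw [hcardR]
      exact lt_mul_of_one_lt_right Nat.card_pos hp.one_lt
    have hih := ih _ hlt R₀ hZR₀ rfl
    calc Nat.card G * Nat.card (Subgroup.center G)
        ≤ Nat.card R₀ * Nat.card (Subgroup.centralizer (R₀ : Set G)) := hih
      _ ≤ Nat.card R₀ * (Nat.card (Subgroup.centralizer (R : Set G)) * p) := by
          apply Nat.mul_le_mul_left
          exact hstep.trans (Nat.mul_le_mul hle2 hMp)
      _ = Nat.card R * Nat.card (Subgroup.centralizer (R : Set G)) := by rw [hcardR]; ring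


include D in
/-- Upper bound for the Chermak–Delgado measure. -/
theorem card_mul_card_centralizer_le [Finite G] [Fact p.Prime] (hp2 : p ≠ 2) (hG : IsPGroup p G)
    (R : Subgroup G) :
    Nat.card R * Nat.card (Subgroup.centralizer (R : Set G)) ≤
      Nat.card G * Nat.card (Subgroup.center G) := by
  have hp : p.Prime := Fact.out
  obtain ⟨n, hn⟩ := (IsPGroup.iff_orderOf.mp hG) D.c
  have hdvd := D.pow_dvd_index_mul_index_centralizer hp2 hG hn R
  have h1 := Subgroup.card_mul_index R
  have h2 := Subgroup.card_mul_index (Subgroup.centralizer (R : Set G))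
  have h3 := D.card_eq_card_U_mul hp2 hG hn le_rfl
  rw [D.U_eq_center hp2 hG hn] at h3
  have hpos : 0 < R.index * (Subgroup.centralizer (R : Set G)).index :=
    Nat.mul_pos (Nat.pos_of_ne_zero Subgroup.index_ne_zero_of_finite)
      (Nat.pos_of_ne_zero Subgroup.index_ne_zero_of_finite)
  have hle : p ^ (2 * n) ≤ R.index * (Subgroup.centralizer (R : Set G)).index :=
    Nat.le_of_dvd hpos hdvd
  have key : Nat.card R * Nat.card (Subgroup.centralizer (R : Set G)) * p ^ (2 * n) ≤
      Nat.card G * Nat.card (Subgroup.center G) * p ^ (2 * n) := by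
    calc Nat.card R * Nat.card (Subgroup.centralizer (R : Set G)) * p ^ (2 * n)
        ≤ Nat.card R * Nat.card (Subgroup.centralizer (R : Set G)) *
            (R.index * (Subgroup.centralizer (R : Set G)).index) := Nat.mul_le_mul_left _ hle
      _ = (Nat.card R * R.index) * (Nat.card (Subgroup.centralizer (R : Set G)) *
            (Subgroup.centralizer (R : Set G)).index) := by ring
      _ = Nat.card G * Nat.card G := by rw [h1, h2]
      _ = Nat.card G * Nat.card (Subgroup.center G) * p ^ (2 * n) := by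
          rw [mul_assoc, ← h3]
  exact Nat.le_of_mul_le_mul_right key (pow_pos hp.pos _)

include D in
/-- Subgroups containing the centre have Chermak–Delgado measure `|G| |Z(G)|`. -/
theorem card_mul_card_centralizer_eq [Finite G] [Fact p.Prime] (hp2 : p ≠ 2) (hG : IsPGroup p G)
    (R : Subgroup G) (hZR : Subgroup.center G ≤ R) :
    Nat.card R * Nat.card (Subgroup.centralizer (R : Set G)) =
      Nat.card G * Nat.card (Subgroup.center G) :=
  le_antisymm (D.card_mul_card_centralizer_le hp2 hG R) (D.card_mul_card_center_le hp2 hG R hZR)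

end MetaDatum

end Cfsg.Agent.Lib.Helper64
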