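import Cfsg.Agent.Lib.Helper64.MiKIDefs

set_option autoImplicit false

namespace Cfsg.Agent.Lib.Helper81.Mi

open Matrix

section abstractKI

variable {F : Type*} [Field F] {k : ℕ} {G : Type*} [Group G]

theorem kigraph_one (u : (Fin k → F) → (Fin k → F) → F → G)
    (hmul : ∀ (a b : Fin k → F) (c : F) (a' b' : Fin k → F) (c' : F),
      u a b c * u a' b' c' = u (a + a') (b + b') (c + c' + a ⬝ᵥ b')) : u 0 0 0 = 1 := by
  have h := hmul 0 0 0 0 0 0
  simp only [add_zero, zero_dotProduct] at h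
  exact mul_eq_left.mp h

theorem kigraph_inv (u : (Fin k → F) → (Fin k → F) → F → G)
    (hmul : ∀ (a b : Fin k → F) (c : F) (a' b' : Fin k → F) (c' : F),
      u a b c * u a' b' c' = u (a + a') (b + b') (c + c' + a ⬝ᵥ b')) (a b : Fin k → F) (c : F) :
    (u a b c)⁻¹ = u (-a) (-b) (-c + a ⬝ᵥ b) := by
  rw [inv_eq_iff_mul_eq_one, hmul]
  have : c + (-c + a ⬝ᵥ b) + a ⬝ᵥ (-b) = 0 := by
    rw [dotProduct_neg]; ring
  rw [this, add_neg_cancel, add_neg_cancel]
  exact kigraph_one u hmul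

theorem heis_graph (H : Subgroup G) (u : (Fin k → F) → (Fin k → F) → F → G)
    (hmul : ∀ (a b : Fin k → F) (c : F) (a' b' : Fin k → F) (c' : F),
      u a b c * u a' b' c' = u (a + a') (b + b') (c + c' + a ⬝ᵥ b'))
    (hnt : ∀ (a b : Fin k → F) (c : F), (a = 0 ∨ b = 0) → u a b c ∈ H → a = 0 ∧ b = 0 ∧ c = 0)
    (htr : ∀ g : G, ∃ (a0 : Fin k → F) (c0 : F), (u a0 0 c0)⁻¹ * g ∈ H) :
    ∃ (α : (Fin k → F) → (Fin k → F)) (γ : (Fin k → F) → F),
      (∀ (a b : Fin k → F) (c : F), u a b c ∈ H ↔ a = α b ∧ c = γ b) ∧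
      (∀ b b' : Fin k → F, α (b + b') = α b + α b') ∧
      (∀ b b' : Fin k → F, (α b) ⬝ᵥ b' = (α b') ⬝ᵥ b) ∧
      (∀ b : Fin k → F, α b = 0 → b = 0) ∧
      ((2 : F) = 0 → ∀ b : Fin k → F, (α b) ⬝ᵥ b = 0) := by
  -- existence over each `b`
  have hex : ∀ b : Fin k → F, ∃ (a : Fin k → F) (c : F), u a b c ∈ H := by
    intro b
    obtain ⟨a0, c0, h⟩ := htr (u 0 b 0)
    rw [kigraph_inv u hmul, hmul] at h
    exact ⟨_, _, by simpa using h⟩
  -- uniqueness
  have huniq : ∀ (a a' b : Fin k → F) (c c' : F), u a b c ∈ H → u a' b c' ∈ H → a = a' ∧ c = c' := by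
    intro a a' b c c' h1 h2
    have h3 : u a b c * (u a' b c')⁻¹ ∈ H := H.mul_mem h1 (H.inv_mem h2)
    rw [kigraph_inv u hmul, hmul] at h3
    have hb : b + -b = 0 := add_neg_cancel b
    rw [hb] at h3
    obtain ⟨ha, -, hc⟩ := hnt _ _ _ (Or.inr rfl) h3
    have haa : a = a' := by
      have := ha
      rwa [← sub_eq_add_neg, sub_eq_zero] at this
    subst haa
    refine ⟨rfl, ?_⟩
    have : c + (-c' + a ⬝ᵥ b) + a ⬝ᵥ (-b) = c - c' := by
      rw [dotProduct_neg]; ring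
    rw [this, sub_eq_zero] at hc
    exact hc
  choose α γ hαγ using hex
  have hgraph : ∀ (a b : Fin k → F) (c : F), u a b c ∈ H ↔ a = α b ∧ c = γ b := by
    intro a b c
    constructor
    · intro h
      exact huniq _ _ _ _ _ h (hαγ b)
    · rintro ⟨rfl, rfl⟩
      exact hαγ b
  have hprod : ∀ b b' : Fin k → F,
      α (b + b') = α b + α b' ∧ γ (b + b') = γ b + γ b' + (α b) ⬝ᵥ b' := by
    intro b b'
    have h := H.mul_mem (hαγ b) (hαγ b')
    rw [hmul] at h
    obtain ⟨h1, h2⟩ := (hgraph _ _ _).1 h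
    exact ⟨h1.symm, h2.symm⟩
  refine ⟨α, γ, hgraph, fun b b' => (hprod b b').1, ?_, ?_, ?_⟩
  · intro b b'
    have h1 := (hprod b b').2
    have h2 := (hprod b' b).2
    rw [add_comm b' b] at h2
    rw [h1] at h2
    have : γ b + γ b' + α b ⬝ᵥ b' = γ b + γ b' + α b' ⬝ᵥ b := by rw [h2]; ring
    exact add_left_cancel this
  · intro b hb
    have h := hαγ b
    rw [hb] at h
    exact (hnt _ _ _ (Or.inl rfl) h).2.1
  · intro h2 b
    have hγ0 : γ 0 = 0 := by
      have h0 : α (0 : Fin k → F) = 0 := by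
        have := (hprod 0 0).1
        simp only [add_zero] at this
        exact left_eq_add.mp this
      have h := hαγ 0
      rw [h0] at h
      exact (hnt _ _ _ (Or.inl rfl) h).2.2
    have hbb : b + b = 0 := by
      funext i
      simp only [Pi.add_apply, Pi.zero_apply]
      rw [← two_mul, h2, zero_mul]
    have h1 := (hprod b b).2
    rw [hbb, hγ0] at h1
    have : γ b + γ b = 0 := by rw [← two_mul, h2, zero_mul]
    rw [this, zero_add] at h1
    exact h1.symm

end abstractKI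

end Cfsg.Agent.Lib.Helper81.Mi
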