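import Cfsg.Agent.Lib.Helper81.Mi.Defs
import Cfsg.Agent.Lib.Helper43.MiTV1
import Cfsg.Agent.Lib.Helper69.MiQV
import Cfsg.Agent.Lib.Helper13.MiTRANS
import Cfsg.Agent.Lib.Helper78.MiGEN

set_option autoImplicit false

namespace Cfsg.Agent.Lib.Helper81.Mi

open Matrix

section concreteKI

variable {F : Type*} [Field F] {n : ℕ}

theorem kis1b_cj_eq_top {G : Type*} [Group G] (g : G) (H : Subgroup G) (h : cj g H = ⊤) : H = ⊤ := by
  rw [eq_top_iff]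
  intro x _
  have hx : g * x * g⁻¹ ∈ cj g H := by rw [h]; trivial
  rw [mem_cj] at hx
  simpa [mul_assoc] using hx

theorem no_tv (hn : 3 ≤ n) (H : Subgroup (SLn n F)) (hH : H ≠ ⊤)
    (h1 : ∀ v : Fin n → F, v ≠ 0 → CaseI H v) (h2 : ∀ φ : Fin n → F, φ ≠ 0 → CaseI' H φ)
    (g : SLn n F) (v φ : Fin n → F) (hφv : φ ⬝ᵥ v = 0) (hmem : tv v φ ∈ cj g H) : tv v φ = 1 := by
  by_contra hne
  have hvφ : ¬ (v = 0 ∨ φ = 0) := fun h => hne ((tv_eq_one_iff v φ hφv).2 h)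
  obtain ⟨hv, hφ⟩ := not_or.mp hvφ
  have hQ : Qv v ≤ cj g H :=
    (h1 v hv).1 g (tv v φ) ((mem_Qv_iff v _).2 ⟨φ, hφv, rfl⟩) hne hmem
  -- every `Qv v''` lies in `cj g H`
  have hall : ∀ v'' : Fin n → F, v'' ≠ 0 → Qv v'' ≤ cj g H := by
    intro v'' hv''
    obtain ⟨φ'', hφ''0, hφ''v, hφ''v''⟩ := exists_covector hn v v''
    have ht1 : tv v φ'' ∈ cj g H := hQ ((mem_Qv_iff v _).2 ⟨φ'', hφ''v, rfl⟩)
    have ht1ne : tv v φ'' ≠ 1 := by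
      intro h
      rcases (tv_eq_one_iff v φ'' hφ''v).1 h with h | h
      · exact hv h
      · exact hφ''0 h
    have hR : Rphi φ'' ≤ cj g H :=
      h2 φ'' hφ''0 g (tv v φ'') ((mem_Rphi_iff φ'' _).2 ⟨v, hφ''v, rfl⟩) ht1ne ht1
    have ht2 : tv v'' φ'' ∈ cj g H := hR ((mem_Rphi_iff φ'' _).2 ⟨v'', hφ''v'', rfl⟩)
    have ht2ne : tv v'' φ'' ≠ 1 := by
      intro h
      rcases (tv_eq_one_iff v'' φ'' hφ''v'').1 h with h | h
      · exact hv'' h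
      · exact hφ''0 h
    exact (h1 v'' hv'').1 g (tv v'' φ'') ((mem_Qv_iff v'' _).2 ⟨φ'', hφ''v'', rfl⟩) ht2ne ht2
  have htop : cj g H = ⊤ := by
    rw [eq_top_iff, ← closure_tv_eq_top (F := F) (n := n), Subgroup.closure_le]
    rintro x ⟨w, ψ, rfl⟩
    by_cases hψw : ψ ⬝ᵥ w = 0
    · by_cases hw : w = 0
      · subst hw
        rw [tv_zero_left]; exact Subgroup.one_mem _
      · exact hall w hw ((mem_Qv_iff w _).2 ⟨ψ, hψw, rfl⟩)
    · rw [tv_of_ne w ψ hψw]; exact Subgroup.one_mem _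
  exact hH (kis1b_cj_eq_top g H htop)

end concreteKI

end Cfsg.Agent.Lib.Helper81.Mi
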