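import Cfsg.Agent.Lib.Helper64.MiKIDefs

set_option autoImplicit false

namespace Cfsg.Agent.Lib.Helper81.Mi

open Matrix

section abstractKI

variable {F : Type*} [Field F] {k : ℕ} {G : Type*} [Group G]

theorem kitorabs_one (u : (Fin k → F) → (Fin k → F) → F → G)
    (hmul : ∀ (a b : Fin k → F) (c : F) (a' b' : Fin k → F) (c' : F),
      u a b c * u a' b' c' = u (a + a') (b + b') (c + c' + a ⬝ᵥ b')) : u 0 0 0 = 1 := by
  have h := hmul 0 0 0 0 0 0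
  simp only [add_zero, zero_dotProduct] at h
  exact mul_eq_left.mp h

theorem kitorabs_inv (u : (Fin k → F) → (Fin k → F) → F → G)
    (hmul : ∀ (a b : Fin k → F) (c : F) (a' b' : Fin k → F) (c' : F),
      u a b c * u a' b' c' = u (a + a') (b + b') (c + c' + a ⬝ᵥ b')) (a b : Fin k → F) (c : F) :
    (u a b c)⁻¹ = u (-a) (-b) (-c + a ⬝ᵥ b) := by
  rw [inv_eq_iff_mul_eq_one, hmul]
  have : c + (-c + a ⬝ᵥ b) + a ⬝ᵥ (-b) = 0 := by
    rw [dotProduct_neg]; ring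
  rw [this, add_neg_cancel, add_neg_cancel]
  exact kitorabs_one u hmul

theorem heis_torus (H : Subgroup G) (u : (Fin k → F) → (Fin k → F) → F → G)
    (hmul : ∀ (a b : Fin k → F) (c : F) (a' b' : Fin k → F) (c' : F),
      u a b c * u a' b' c' = u (a + a') (b + b') (c + c' + a ⬝ᵥ b'))
    (htr : ∀ g : G, ∃ (a0 : Fin k → F) (c0 : F), (u a0 0 c0)⁻¹ * g ∈ H)
    (α : (Fin k → F) → (Fin k → F)) (γ : (Fin k → F) → F)
    (hgraph : ∀ (a b : Fin k → F) (c : F), u a b c ∈ H ↔ a = α b ∧ c = γ b)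
    (h : Matrix (Fin k) (Fin k) F) (c1 c3 : F) (m : G)
    (hm : ∀ (a b : Fin k → F) (c : F),
      m * u a b c * m⁻¹ = u (c1 • ((h⁻¹)ᵀ *ᵥ a)) (c3⁻¹ • (h *ᵥ b)) (c1 * c3⁻¹ * c)) :
    ∀ b : Fin k → F, α (c3⁻¹ • (h *ᵥ b)) = c1 • ((h⁻¹)ᵀ *ᵥ α b) := by
  intro b
  obtain ⟨a0, c0, hx⟩ := htr m
  set x := u a0 0 c0 with hxdef
  have hs : u (α b) b (γ b) ∈ H := (hgraph _ _ _).2 ⟨rfl, rfl⟩
  have h1 : (x⁻¹ * m) * u (α b) b (γ b) * (x⁻¹ * m)⁻¹ ∈ H :=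
    H.mul_mem (H.mul_mem hx hs) (H.inv_mem hx)
  have h2 : (x⁻¹ * m) * u (α b) b (γ b) * (x⁻¹ * m)⁻¹
      = x⁻¹ * (m * u (α b) b (γ b) * m⁻¹) * x := by group
  rw [h2, hm, hxdef, kitorabs_inv u hmul, hmul, hmul] at h1
  have h3 := ((hgraph _ _ _).1 h1).1
  simpa using h3.symm

end abstractKI

end Cfsg.Agent.Lib.Helper81.Mi
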