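import Cfsg.Agent.Lib.Helper64.MiKIDefs
import Cfsg.Agent.Lib.Helper64.MiKIGRAPH
import Cfsg.Agent.Lib.Helper64.MiKITORABS
import Cfsg.Agent.Lib.Helper27.MiKIMAT
import Cfsg.Agent.Lib.Helper54.MiKIHB
import Cfsg.Agent.Lib.Helper69.MiKIS2
import Cfsg.Agent.Lib.Helper48.MiFORM
import Cfsg.Agent.Lib.Helper43.MiTV1
import Cfsg.Agent.Lib.Helper64.MiKIS1
import Cfsg.Agent.Lib.Helper74.MiKIHA
import Cfsg.Agent.Lib.Helper90.MiKITOR

/-!
# Mi hive (S2140, owner helper81): sub-hive MI-KI, final assembly `kill_I` (owner helper64)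

Case I on both sides (points and hyperplanes) forces `(n, q) = (4, 2)` and index `8`.
Leaves: KI-S1 `no_tv` (helper64), KI-S2 `index_trans` (helper69), KI-HA `hu_coe/hu_mul` (helper74), KI-HB (helper54),
KI-TOR `exists_torus` (helper90), KI-GRAPH/KI-TORABS (helper64), KI-MAT `heis_matrix` (helper27), MI-FORM `mi_form` (helper48).
-/

set_option autoImplicit false

namespace Cfsg.Agent.Lib.Helper81.Mi

open Matrix

section abstractKI

variable {F : Type*} [Field F] {k : ℕ} {G : Type*} [Group G]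

/-- core assembly: GRAPH + TORABS + MAT. -/
theorem heis_core (hk : 1 ≤ k) (H : Subgroup G) (u : (Fin k → F) → (Fin k → F) → F → G)
    (hmul : ∀ (a b : Fin k → F) (c : F) (a' b' : Fin k → F) (c' : F),
      u a b c * u a' b' c' = u (a + a') (b + b') (c + c' + a ⬝ᵥ b'))
    (hnt : ∀ (a b : Fin k → F) (c : F), (a = 0 ∨ b = 0) → u a b c ∈ H → a = 0 ∧ b = 0 ∧ c = 0)
    (htr : ∀ g : G, ∃ (a0 : Fin k → F) (c0 : F), (u a0 0 c0)⁻¹ * g ∈ H)
    (htor : ∀ (h : Matrix (Fin k) (Fin k) F) (c1 c3 : F), c1 * c3 * h.det = 1 →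
      ∃ m : G, ∀ (a b : Fin k → F) (c : F),
        m * u a b c * m⁻¹ = u (c1 • ((h⁻¹)ᵀ *ᵥ a)) (c3⁻¹ • (h *ᵥ b)) (c1 * c3⁻¹ * c)) :
    ∃ A : Matrix (Fin k) (Fin k) F, A ≠ 0 ∧ Aᵀ = A ∧
      (∀ h : Matrix (Fin k) (Fin k) F, IsUnit h.det → hᵀ * A * h = (h.det)⁻¹ • A) ∧
      (ringChar F = 2 → ∀ b : Fin k → F, b ⬝ᵥ (A *ᵥ b) = 0) := by
  obtain ⟨α, γ, hgraph, hadd, hsym, hinj0, halt⟩ := heis_graph H u hmul hnt htr
  refine heis_matrix hk α hadd hsym hinj0 halt ?_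
  intro h c1 c3 hdet
  obtain ⟨m, hm⟩ := htor h c1 c3 hdet
  exact heis_torus H u hmul htr α γ hgraph h c1 c3 m hm

end abstractKI

section concreteKI

variable {F : Type*} [Field F] {n k : ℕ}

/-- MI-KI assembly = EXACT `kill_I` of tools/helper81/MiSkel.lean.txt. -/
theorem kill_I [Finite F] (hn : 3 ≤ n) (H : Subgroup (SLn n F)) (hH : H ≠ ⊤)
    (h1 : ∀ v : Fin n → F, v ≠ 0 → CaseI H v) (h2 : ∀ φ : Fin n → F, φ ≠ 0 → CaseI' H φ) :
    n = 4 ∧ Nat.card F = 2 ∧ H.index = 8 := by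
  obtain ⟨k, rfl⟩ : ∃ k, n = k + 2 := ⟨n - 2, by omega⟩
  have hk : 1 ≤ k := by omega
  have hno := no_tv hn H hH h1 h2
  obtain ⟨hidx, htrans⟩ := index_trans (by omega) H (h1 _ (e0_ne_zero k)) hno
  have hnt : ∀ (a b : Fin k → F) (c : F), (a = 0 ∨ b = 0) → hu a b c ∈ H → a = 0 ∧ b = 0 ∧ c = 0 := by
    intro a b c hab hmem
    have hmem' : hu a b c ∈ cj 1 H := by
      rw [mem_cj]; simpa using hmem
    rcases hab with rfl | rfl
    · rw [hu_right] at hmem'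
      have h1' := hno 1 _ _ (hu_right_pair b c) hmem'
      rw [tv_eq_one_iff _ _ (hu_right_pair b c)] at h1'
      rcases h1' with h | h
      · obtain ⟨hb, hc⟩ := emb_add_smul_e0_eq_zero b c h
        exact ⟨rfl, hb, hc⟩
      · exact absurd h (elast_ne_zero k)
    · rw [hu_left] at hmem'
      have h1' := hno 1 _ _ (hu_left_pair a c) hmem'
      rw [tv_eq_one_iff _ _ (hu_left_pair a c)] at h1'
      rcases h1' with h | h
      · exact absurd h (e0_ne_zero k)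
      · obtain ⟨ha, hc⟩ := emb_add_smul_elast_eq_zero a c h
        exact ⟨ha, rfl, hc⟩
  have htr : ∀ g : SLn (k + 2) F, ∃ (a0 : Fin k → F) (c0 : F), (hu a0 0 c0)⁻¹ * g ∈ H := by
    intro g
    obtain ⟨x, hx, hxg⟩ := htrans g
    obtain ⟨a, c, rfl⟩ := mem_Qv_e0 x hx
    exact ⟨a, c, hxg⟩
  obtain ⟨A, hA0, hAs, hAinv, hA2⟩ := heis_core (F := F) hk H hu hu_mul hnt htr exists_torus
  obtain ⟨hk2, hq⟩ := Cfsg.Agent.Lib.Helper48.Mi.mi_form hk A hA0 hAs hAinv hA2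
  subst hk2
  refine ⟨rfl, hq, ?_⟩
  rw [hidx, hq]
  norm_num

end concreteKI

end Cfsg.Agent.Lib.Helper81.Mi
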