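import Cfsg.Agent.Lib.Helper81.Mi.Defs

/-!
# Mi hive (S2140), sub-hive MI-KI (owner helper64): definitions

`n = k + 2`.  `elast` = last coordinate functional / last basis vector, `emb a` = the vector `a ∈ F^k` placed in the
middle coordinates `1..k` of `F^(k+2)`, `hu a b c` = the Heisenberg element `[[1,aᵀ,c],[0,I,b],[0,0,1]]` of
`U = Q_{e0} R_{elast}`, written as a product of two transvections.
-/

set_option autoImplicit false

namespace Cfsg.Agent.Lib.Helper81.Mi

open Matrix

/-- the last coordinate functional (= last standard basis vector). -/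
def elast (F : Type*) [Field F] (n : ℕ) : Fin n → F := fun i => if (i : ℕ) + 1 = n then 1 else 0

variable {F : Type*} [Field F] {k : ℕ}

/-- `F^k` embedded as the middle coordinates `1, …, k` of `F^(k+2)`. -/
def emb (a : Fin k → F) : Fin (k + 2) → F :=
  fun i => if h : 1 ≤ (i : ℕ) ∧ (i : ℕ) ≤ k then a ⟨(i : ℕ) - 1, by omega⟩ else 0

/-- the Heisenberg element `u(a,b,c) = [[1,aᵀ,c],[0,I,b],[0,0,1]] ∈ SL_(k+2)(F)`. -/
noncomputable def hu (a b : Fin k → F) (c : F) : SLn (k + 2) F :=
  tv (e0 F (k + 2)) (emb a + (c - a ⬝ᵥ b) • elast F (k + 2)) * tv (emb b) (elast F (k + 2))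

end Cfsg.Agent.Lib.Helper81.Mi
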