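import Mathlib
import Cfsg.Agent.Lib.Helper64.TI

set_option autoImplicit false

namespace Cfsg.Agent.Lib.Helper64

variable {G : Type*} [Group G]

/-- Every nontrivial normal subgroup of a finite group contains a minimal normal subgroup. -/
theorem exists_minimal_normal [Finite G] (N : Subgroup G) (hN : N.Normal) (hN0 : N ≠ ⊥) :
    ∃ A : Subgroup G, A ≤ N ∧ A.Normal ∧ A ≠ ⊥ ∧
      ∀ B : Subgroup G, B.Normal → B ≤ A → B = ⊥ ∨ B = A := by
  induction N using WellFoundedLT.induction with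
  | ind N ih =>
    by_cases hmin : ∀ B : Subgroup G, B.Normal → B ≤ N → B = ⊥ ∨ B = N
    · exact ⟨N, le_refl N, hN, hN0, hmin⟩
    · push Not at hmin
      obtain ⟨B, hBn, hBN, hB0, hBne⟩ := hmin
      obtain ⟨A, hAB, hAn, hA0, hAmin⟩ := ih B (lt_of_le_of_ne hBN hBne) hBn hB0
      exact ⟨A, hAB.trans hBN, hAn, hA0, hAmin⟩

/-- A normal Sylow subgroup of a normal subgroup is normal in the whole group. -/
theorem normal_map_of_sylow_normal [Finite G] {p : ℕ} [Fact p.Prime] {H : Subgroup G} [H.Normal]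
    (S : Sylow p H) (hS : (S : Subgroup H).Normal) : ((S : Subgroup H).map H.subtype).Normal := by
  haveI := Sylow.characteristic_of_normal S hS
  infer_instance

/-- In a `p`-closed subgroup `K`, a `p`-element `y ∈ K` normalizing a subgroup `Q ≤ K` of order
prime to `p` centralizes it. -/
theorem conj_eq_of_pClosed [Finite G] {p : ℕ} [Fact p.Prime] {K : Subgroup G}
    (hK : ∀ S : Sylow p K, (S : Subgroup K).Normal) {y : G} (hyK : y ∈ K)
    (hy : ∃ j : ℕ, orderOf y = p ^ j) {Q : Subgroup G} (hQK : Q ≤ K)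
    (hyQ : ∀ b ∈ Q, y * b * y⁻¹ ∈ Q) (hpQ : ¬ p ∣ Nat.card Q) :
    ∀ b ∈ Q, y * b * y⁻¹ = b := by
  intro b hb
  let S : Sylow p K := default
  have hSn := hK S
  have hyp : IsPGroup p (Subgroup.zpowers y) := by
    obtain ⟨j, hj⟩ := hy
    apply IsPGroup.of_card (n := j)
    rw [Nat.card_zpowers, hj]
  have hyS : y ∈ (S : Subgroup K).map K.subtype :=
    le_map_sylow_of_normal S hSn hyp (Subgroup.zpowers_le.mpr hyK) (Subgroup.mem_zpowers y)
  obtain ⟨y', hy'S, hy'⟩ := hyS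
  have hc1 : y * b * y⁻¹ * b⁻¹ ∈ (S : Subgroup K).map K.subtype := by
    have hbK : b ∈ K := hQK hb
    have h1 : (⟨b, hbK⟩ : K) * y'⁻¹ * (⟨b, hbK⟩ : K)⁻¹ ∈ (S : Subgroup K) :=
      hSn.conj_mem _ (Subgroup.inv_mem _ hy'S) _
    refine ⟨y' * ((⟨b, hbK⟩ : K) * y'⁻¹ * (⟨b, hbK⟩ : K)⁻¹), Subgroup.mul_mem _ hy'S h1, ?_⟩
    simp only [Subgroup.subtype_apply, Subgroup.coe_mul, Subgroup.coe_inv]
    have : (y' : G) = y := hy'
    rw [this]; group
  have hc2 : y * b * y⁻¹ * b⁻¹ ∈ Q := Q.mul_mem (hyQ b hb) (Q.inv_mem hb)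
  have hSp : IsPGroup p ((S : Subgroup K).map K.subtype) := S.isPGroup'.map _
  obtain ⟨j, hj⟩ := (IsPGroup.iff_orderOf.mp hSp) ⟨_, hc1⟩
  rw [Subgroup.orderOf_mk] at hj
  have hdvd : orderOf (y * b * y⁻¹ * b⁻¹) ∣ Nat.card Q := Subgroup.orderOf_dvd_natCard Q hc2
  have hj0 : j = 0 := by
    by_contra hne
    apply hpQ
    rw [hj] at hdvd
    exact (dvd_pow_self p hne).trans hdvd
  rw [hj0, pow_zero, orderOf_eq_one_iff] at hj
  exact mul_inv_eq_one.mp hj

end Cfsg.Agent.Lib.Helper64
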