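import Mathlib

set_option autoImplicit false

namespace Cfsg.Agent.Lib.Helper64

variable {G : Type*} [Group G]

theorem conj_pow_mem_of_forall_conj_mem {B : Subgroup G} {y : G}
    (h : ∀ b ∈ B, y * b * y⁻¹ ∈ B) (n : ℕ) : ∀ b ∈ B, y ^ n * b * (y ^ n)⁻¹ ∈ B := by
  induction n with
  | zero => intro b hb; simpa using hb
  | succ n ih =>
    intro b hb
    have h1 := ih _ (h b hb)
    have h2 : y ^ (n + 1) * b * (y ^ (n + 1))⁻¹ = y ^ n * (y * b * y⁻¹) * (y ^ n)⁻¹ := by
      rw [pow_succ]; group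
    rw [h2]; exact h1

theorem conj_inv_mem_of_forall_conj_mem [Finite G] {B : Subgroup G} {y : G}
    (h : ∀ b ∈ B, y * b * y⁻¹ ∈ B) : ∀ b ∈ B, y⁻¹ * b * y ∈ B := by
  intro b hb
  have hpos := orderOf_pos y
  have hinv : y⁻¹ = y ^ (orderOf y - 1) := by
    apply inv_eq_of_mul_eq_one_left
    rw [← pow_succ, Nat.sub_add_cancel hpos, pow_orderOf_eq_one]
  have := conj_pow_mem_of_forall_conj_mem h (orderOf y - 1) b hb
  rw [← hinv, inv_inv] at this
  exact this

theorem mem_normalizer_of_forall_conj_mem [Finite G] {B : Subgroup G} {y : G}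
    (h : ∀ b ∈ B, y * b * y⁻¹ ∈ B) : y ∈ Subgroup.normalizer (B : Set G) := by
  rw [Subgroup.mem_normalizer_iff]
  intro b
  constructor
  · exact h b
  · intro hb
    have := conj_inv_mem_of_forall_conj_mem h _ hb
    have e : y⁻¹ * (y * b * y⁻¹) * y = b := by group
    rwa [e] at this

/-- If `A` has prime index, then `A` together with any element outside `A` generates `G`. -/
theorem sup_zpowers_eq_top_of_prime_index {p : ℕ} (hp : p.Prime) (A : Subgroup G)
    (hidx : A.index = p) {y : G} (hy : y ∉ A) : A ⊔ Subgroup.zpowers y = ⊤ := by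
  have h1 := Subgroup.relIndex_mul_index (le_sup_left : A ≤ A ⊔ Subgroup.zpowers y)
  rw [hidx] at h1
  have h2 : A.relIndex (A ⊔ Subgroup.zpowers y) ≠ 1 := by
    rw [Ne, Subgroup.relIndex_eq_one]
    intro hle
    exact hy (hle (Subgroup.mem_sup_right (Subgroup.mem_zpowers y)))
  have h3 : A.relIndex (A ⊔ Subgroup.zpowers y) ∣ p := Dvd.intro _ h1
  rcases (Nat.dvd_prime hp).mp h3 with h | h
  · exact absurd h h2
  · rw [h] at h1
    have h4 : (A ⊔ Subgroup.zpowers y).index = 1 := by
      have hp0 : 0 < p := hp.pos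
      exact Nat.eq_of_mul_eq_mul_left hp0 (by rw [h1, mul_one])
    exact Subgroup.index_eq_one.mp h4

/-- A subgroup `B` of an abelian normal subgroup `A` of prime index which is invariant under an
element outside `A` is normal in `G`. -/
theorem normal_of_invariant_of_prime_index [Finite G] {p : ℕ} (hp : p.Prime) (A : Subgroup G)
    (hidx : A.index = p) (hAcomm : ∀ a ∈ A, ∀ b ∈ A, a * b = b * a) {B : Subgroup G} (hBA : B ≤ A)
    {y : G} (hy : y ∉ A) (h : ∀ b ∈ B, y * b * y⁻¹ ∈ B) : B.Normal := by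
  rw [← Subgroup.normalizer_eq_top_iff, eq_top_iff, ← sup_zpowers_eq_top_of_prime_index hp A hidx hy,
    sup_le_iff]
  constructor
  · intro a ha
    apply mem_normalizer_of_forall_conj_mem
    intro b hb
    have : a * b * a⁻¹ = b := by
      rw [hAcomm a ha b (hBA hb)]; group
    rwa [this]
  · rw [Subgroup.zpowers_le]
    exact mem_normalizer_of_forall_conj_mem h

end Cfsg.Agent.Lib.Helper64
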