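import Mathlib
import Cfsg.Agent.Lib.Helper64.SylowMax
import Cfsg.Agent.Lib.Helper64.SylowCount
import Cfsg.Agent.Lib.Helper64.TI
import Cfsg.Agent.Lib.Helper64.MinNormal
import Cfsg.Agent.Lib.Helper64.InvSylow
import Cfsg.Agent.Lib.Helper64.PrimeIndex
import Cfsg.Agent.Lib.Helper64.IrredCyclicGroup

set_option autoImplicit false

namespace Cfsg.Agent.Lib.Helper64

variable {G : Type*} [Group G]

/-- If `G / D` is `p`-closed for a normal `p`-subgroup `D`, then so is `G`. -/
theorem sylow_normal_of_quotient_pgroup [Finite G] {p : ℕ} [Fact p.Prime] (D : Subgroup G)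
    [D.Normal] (P : Sylow p G) (hDP : D ≤ P)
    (hq : ∀ S : Sylow p (G ⧸ D), (S : Subgroup (G ⧸ D)).Normal) : (P : Subgroup G).Normal := by
  have hn := hq (P.mapSurjective (QuotientGroup.mk'_surjective D))
  have hcomap : ((P : Subgroup G).map (QuotientGroup.mk' D)).comap (QuotientGroup.mk' D) = P := by
    rw [Subgroup.comap_map_eq, QuotientGroup.ker_mk', sup_eq_left.mpr hDP]
  rw [← hcomap]
  exact Subgroup.Normal.comap hn _

/-- First structural step for a minimal non-`p`-closed group with a proper minimal normal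
subgroup `A`: a Sylow `p`-subgroup `P` has order `p`, complements `A`, and `A` is a `p'`-group. -/
theorem minNonPClosed_step1 [Finite G] {p : ℕ} [Fact p.Prime]
    (hsub : ∀ H : Subgroup G, H ≠ ⊤ → ∀ S : Sylow p H, (S : Subgroup H).Normal)
    (hquo : ∀ (N : Subgroup G) [N.Normal], N ≠ ⊥ → ∀ S : Sylow p (G ⧸ N), (S : Subgroup (G ⧸ N)).Normal)
    (P : Sylow p G) (hP : ¬ (P : Subgroup G).Normal)
    (A : Subgroup G) [hAn : A.Normal] (hA0 : A ≠ ⊥) (hAtop : A ≠ ⊤)
    (hAmin : ∀ B : Subgroup G, B.Normal → B ≤ A → B = ⊥ ∨ B = A) :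
    (P : Subgroup G) ⊔ A = ⊤ ∧ ¬ p ∣ Nat.card A ∧ (P : Subgroup G) ⊓ A = ⊥ ∧
      (P : Subgroup G) ⊓ Subgroup.centralizer (A : Set G) = ⊥ ∧ Nat.card (P : Subgroup G) = p := by
  -- P ⊔ A is normal
  have hPAn : ((P : Subgroup G) ⊔ A).Normal := by
    have hn := hquo A hA0 (P.mapSurjective (QuotientGroup.mk'_surjective A))
    have hcomap : ((P : Subgroup G).map (QuotientGroup.mk' A)).comap (QuotientGroup.mk' A)
        = (P : Subgroup G) ⊔ A := by
      rw [Subgroup.comap_map_eq, QuotientGroup.ker_mk']
    rw [← hcomap]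
    exact Subgroup.Normal.comap hn _
  have hPA : (P : Subgroup G) ⊔ A = ⊤ := by
    by_contra hne
    apply hP
    have hS := hsub _ hne (P.subtype le_sup_left)
    have := normal_map_of_sylow_normal (P.subtype (le_sup_left : (P : Subgroup G) ≤ (P : Subgroup G) ⊔ A)) hS
    rw [Sylow.coe_subtype, Subgroup.subgroupOf_map_subtype, inf_eq_left.mpr le_sup_left] at this
    exact this
  -- A is a p'-group
  let S : Sylow p A := default
  have hSn := hsub A hAtop S
  have hSG := normal_map_of_sylow_normal S hSn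
  have hS0 : (S : Subgroup A) = ⊥ := by
    rcases hAmin _ hSG (Subgroup.map_subtype_le _) with h | h
    · exact (Subgroup.map_eq_bot_iff_of_injective _ A.subtype_injective).mp h
    · exfalso
      apply hP
      have hAp : IsPGroup p A := by
        have := S.isPGroup'.map A.subtype
        rwa [h] at this
      have htop : IsPGroup p ((P : Subgroup G) ⊔ A : Subgroup G) :=
        IsPGroup.to_sup_of_normal_right P.isPGroup' hAp
      rw [hPA] at htop
      have : (⊤ : Subgroup G) = P := P.is_maximal' htop le_top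
      rw [← this]; infer_instance
  have hpA : ¬ p ∣ Nat.card A := by
    intro h
    exact S.ne_bot_of_dvd_card h hS0
  have hPiA : (P : Subgroup G) ⊓ A = ⊥ := by
    obtain ⟨S', hS'⟩ := exists_sylow_inf_normal P A
    letI := Sylow.unique_of_normal S hSn
    have : S' = S := Subsingleton.elim _ _
    rw [← hS', this, hS0, Subgroup.map_bot]
  -- C_P(A) = 1
  have hC : (P : Subgroup G) ⊓ Subgroup.centralizer (A : Set G) = ⊥ := by
    by_contra hne
    apply hP
    have hCn : ((P : Subgroup G) ⊓ Subgroup.centralizer (A : Set G)).Normal := by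
      rw [← Subgroup.normalizer_eq_top_iff, eq_top_iff, ← hPA, sup_le_iff]
      constructor
      · intro x hx
        apply mem_normalizer_of_forall_conj_mem
        intro c hc
        exact ⟨Subgroup.mul_mem _ (Subgroup.mul_mem _ hx hc.1) (Subgroup.inv_mem _ hx),
          (Subgroup.normal_centralizer (H := A)).conj_mem c hc.2 x⟩
      · intro a ha
        apply mem_normalizer_of_forall_conj_mem
        intro c hc
        have h1 : a * c = c * a := (Subgroup.mem_centralizer_iff.mp hc.2 a ha)
        have : a * c * a⁻¹ = c := by rw [h1]; group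
        rw [this]; exact hc
    haveI := hCn
    exact sylow_normal_of_quotient_pgroup _ P inf_le_left (hquo _ hne)
  -- proper subgroups of P centralize A
  have hprop : ∀ y ∈ (P : Subgroup G), Subgroup.zpowers y ≠ (P : Subgroup G) → y = 1 := by
    intro y hyP hyne
    have hH : Subgroup.zpowers y ⊔ A ≠ ⊤ := by
      intro htop
      apply hyne
      apply le_antisymm (Subgroup.zpowers_le.mpr hyP)
      intro x hx
      have hx' : x ∈ Subgroup.zpowers y ⊔ A := by rw [htop]; exact Subgroup.mem_top x
      obtain ⟨z, hz, a, ha, hza⟩ := Subgroup.mem_sup_of_normal_right.mp hx'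
      have ha' : a ∈ (P : Subgroup G) ⊓ A := by
        refine ⟨?_, ha⟩
        have : a = z⁻¹ * x := by rw [← hza]; group
        rw [this]
        exact Subgroup.mul_mem _ (Subgroup.inv_mem _ (Subgroup.zpowers_le.mpr hyP hz)) hx
      rw [hPiA, Subgroup.mem_bot] at ha'
      rw [ha', mul_one] at hza
      rw [← hza]; exact hz
    have hcent := conj_eq_of_pClosed (hsub _ hH) (Subgroup.mem_sup_left (Subgroup.mem_zpowers y))
      ((IsPGroup.iff_orderOf.mp P.isPGroup') ⟨y, hyP⟩ |>.imp fun j hj => by
        rwa [Subgroup.orderOf_mk] at hj)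
      (le_sup_right : A ≤ Subgroup.zpowers y ⊔ A) (fun b hb => hAn.conj_mem b hb y) hpA
    have hyC : y ∈ (P : Subgroup G) ⊓ Subgroup.centralizer (A : Set G) := by
      refine ⟨hyP, ?_⟩
      show y ∈ Subgroup.centralizer (A : Set G)
      rw [Subgroup.mem_centralizer_iff]
      intro a ha
      have := hcent a ha
      calc a * y = (y * a * y⁻¹) * y := by rw [this]
        _ = y * a := by group
    rw [hC, Subgroup.mem_bot] at hyC
    exact hyC
  have hPne : (P : Subgroup G) ≠ ⊥ := by
    intro h; apply hP; rw [h]; infer_instance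
  have hpP : p ∣ Nat.card (P : Subgroup G) := by
    rcases P.isPGroup'.card_eq_or_dvd with h | h
    · exact absurd (Subgroup.eq_bot_of_card_eq _ h) hPne
    · exact h
  obtain ⟨x, hx⟩ := exists_prime_orderOf_dvd_card' p hpP
  have hx' : orderOf (x : G) = p := by rw [Subgroup.orderOf_coe]; exact hx
  have hx1 : (x : G) ≠ 1 := by
    intro h
    rw [h, orderOf_one] at hx'
    exact (Fact.out : p.Prime).one_lt.ne hx'
  have hzp : Subgroup.zpowers (x : G) = (P : Subgroup G) := by
    by_contra hne
    exact hx1 (hprop x x.2 hne)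
  have hcardP : Nat.card (P : Subgroup G) = p := by
    rw [← hzp, Nat.card_zpowers, hx']
  exact ⟨hPA, hpA, hPiA, hC, hcardP⟩

/-- Second structural step: the minimal normal `p'`-subgroup `A` is a `q`-group for some prime. -/
theorem minNonPClosed_step2 [Finite G] {p : ℕ} [Fact p.Prime]
    (hsub : ∀ H : Subgroup G, H ≠ ⊤ → ∀ S : Sylow p H, (S : Subgroup H).Normal)
    (P : Sylow p G) (hP1 : (P : Subgroup G) ≠ ⊥)
    (A : Subgroup G) [hAn : A.Normal]
    (hAmin : ∀ B : Subgroup G, B.Normal → B ≤ A → B = ⊥ ∨ B = A)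
    (hpA : ¬ p ∣ Nat.card A)
    (hC : (P : Subgroup G) ⊓ Subgroup.centralizer (A : Set G) = ⊥) :
    ∃ q : ℕ, q.Prime ∧ q ≠ p ∧ IsPGroup q A := by
  by_contra hcon
  push Not at hcon
  have hp : p.Prime := Fact.out
  have key : ∀ q : ℕ, q.Prime →
      q ^ (Nat.card A).factorization q ∣ Nat.card ↥(A ⊓ Subgroup.centralizer ((P : Subgroup G) : Set G)) := by
    intro q hq
    by_cases hqp : q = p
    · rw [hqp, Nat.factorization_eq_zero_of_not_dvd hpA, pow_zero]
      exact one_dvd _
    · haveI : Fact q.Prime := ⟨hq⟩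
      obtain ⟨Q, hQ⟩ := exists_invariant_sylow (q := q) A hpA P.isPGroup'
      have hcardQ : Nat.card ((Q : Subgroup A).map A.subtype) = q ^ (Nat.card A).factorization q := by
        rw [Subgroup.card_map_of_injective A.subtype_injective]
        exact Q.card_eq_multiplicity
      rw [← hcardQ]
      by_cases hK : Subgroup.normalizer (((Q : Subgroup A).map A.subtype : Subgroup G) : Set G) = ⊤
      · rw [Subgroup.normalizer_eq_top_iff] at hK
        rcases hAmin _ hK (Subgroup.map_subtype_le _) with h | h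
        · rw [h, Subgroup.card_bot]; exact one_dvd _
        · exfalso
          apply hcon q hq hqp
          have := Q.isPGroup'.map A.subtype
          rwa [h] at this
      · apply Subgroup.card_dvd_of_le
        intro b hb
        refine ⟨Subgroup.map_subtype_le _ hb, ?_⟩
        show b ∈ Subgroup.centralizer ((P : Subgroup G) : Set G)
        rw [Subgroup.mem_centralizer_iff]
        intro x hx
        have hxK : x ∈ Subgroup.normalizer (((Q : Subgroup A).map A.subtype : Subgroup G) : Set G) :=
          mem_normalizer_of_forall_conj_mem (hQ x hx)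
        have hpQ : ¬ p ∣ Nat.card ((Q : Subgroup A).map A.subtype) := by
          intro h
          exact hpA (h.trans (Subgroup.card_dvd_of_le (Subgroup.map_subtype_le _)))
        have hcent := conj_eq_of_pClosed (hsub _ hK) hxK
          ((IsPGroup.iff_orderOf.mp P.isPGroup') ⟨x, hx⟩ |>.imp fun j hj => by
            rwa [Subgroup.orderOf_mk] at hj)
          Subgroup.le_normalizer (hQ x hx) hpQ b hb
        calc x * b = (x * b * x⁻¹) * x := by group
          _ = b * x := by rw [hcent]
  have hdvd : Nat.card A ∣ Nat.card ↥(A ⊓ Subgroup.centralizer ((P : Subgroup G) : Set G)) := by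
    rw [← Nat.factorization_prime_le_iff_dvd Nat.card_pos.ne' Nat.card_pos.ne']
    intro q hq
    exact (hq.pow_dvd_iff_le_factorization Nat.card_pos.ne').mp (key q hq)
  have hEq : A ⊓ Subgroup.centralizer ((P : Subgroup G) : Set G) = A :=
    Subgroup.eq_of_le_of_card_ge inf_le_left (Nat.le_of_dvd Nat.card_pos hdvd)
  apply hP1
  rw [eq_bot_iff, ← hC]
  intro x hx
  refine ⟨hx, ?_⟩
  show x ∈ Subgroup.centralizer (A : Set G)
  rw [Subgroup.mem_centralizer_iff]
  intro a ha
  have haC : a ∈ Subgroup.centralizer ((P : Subgroup G) : Set G) := by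
    have : a ∈ A ⊓ Subgroup.centralizer ((P : Subgroup G) : Set G) := by rw [hEq]; exact ha
    exact this.2
  exact ((Subgroup.mem_centralizer_iff.mp haC) x hx).symm

/-- A minimal normal subgroup which is a `q`-group is elementary abelian. -/
theorem elemAbelian_of_minimal_normal_pgroup [Finite G] {q : ℕ} [Fact q.Prime]
    (A : Subgroup G) [hAn : A.Normal] (hA0 : A ≠ ⊥)
    (hAmin : ∀ B : Subgroup G, B.Normal → B ≤ A → B = ⊥ ∨ B = A) (hAq : IsPGroup q A) :
    (∀ a ∈ A, ∀ b ∈ A, a * b = b * a) ∧ ∀ a ∈ A, a ^ q = 1 := by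
  have hnt : Nontrivial A := (Subgroup.nontrivial_iff_ne_bot A).mpr hA0
  have hcomm : ∀ a ∈ A, ∀ b ∈ A, a * b = b * a := by
    have hZn : ((Subgroup.center A).map A.subtype).Normal := inferInstance
    have hZ0 : (Subgroup.center A).map A.subtype ≠ ⊥ := by
      rw [Ne, Subgroup.map_eq_bot_iff_of_injective _ A.subtype_injective]
      exact (Subgroup.nontrivial_iff_ne_bot _).mp hAq.center_nontrivial
    have hZ := (hAmin _ hZn (Subgroup.map_subtype_le _)).resolve_left hZ0
    intro a ha b hb
    have : b ∈ (Subgroup.center A).map A.subtype := by rw [hZ]; exact hb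
    obtain ⟨b', hb', rfl⟩ := this
    have := Subgroup.mem_center_iff.mp hb' ⟨a, ha⟩
    exact congrArg Subtype.val this
  refine ⟨hcomm, ?_⟩
  letI : CommGroup A :=
    { (inferInstance : Group A) with
      mul_comm := fun a b => Subtype.ext (hcomm a a.2 b b.2) }
  have hBn : (((powMonoidHom q : A →* A).range).map A.subtype).Normal := by
    refine ⟨?_⟩
    rintro _ ⟨_, ⟨a, rfl⟩, rfl⟩ g
    refine ⟨_, ⟨⟨g * a * g⁻¹, hAn.conj_mem a a.2 g⟩, rfl⟩, ?_⟩
    simp [conj_pow]
  have hBne : ((powMonoidHom q : A →* A).range).map A.subtype ≠ A := by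
    intro h
    have hsurj : Function.Surjective (powMonoidHom q : A →* A) := by
      intro a
      have : (a : G) ∈ ((powMonoidHom q : A →* A).range).map A.subtype := by rw [h]; exact a.2
      obtain ⟨_, ⟨c, rfl⟩, hc⟩ := this
      exact ⟨c, Subtype.ext hc⟩
    have hinj := (Finite.injective_iff_surjective).mpr hsurj
    have hqA : q ∣ Nat.card A := by
      rcases hAq.card_eq_or_dvd with h1 | h1
      · exact absurd (Subgroup.eq_bot_of_card_eq _ h1) hA0
      · exact h1
    obtain ⟨c, hc⟩ := exists_prime_orderOf_dvd_card' q hqA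
    have hc1 : c ≠ 1 := by
      intro h1
      rw [h1, orderOf_one] at hc
      exact (Fact.out : q.Prime).one_lt.ne hc
    apply hc1
    apply hinj
    show c ^ q = 1 ^ q
    rw [one_pow, ← hc, pow_orderOf_eq_one]
  have hB := (hAmin _ hBn (Subgroup.map_subtype_le _)).resolve_right hBne
  intro a ha
  have : a ^ q ∈ ((powMonoidHom q : A →* A).range).map A.subtype :=
    ⟨_, ⟨⟨a, ha⟩, rfl⟩, rfl⟩
  rw [hB, Subgroup.mem_bot] at this
  exact this

end Cfsg.Agent.Lib.Helper64
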