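import Mathlib
import Cfsg.Agent.Lib.Helper64.NilCover

/-!
# Symmetric and alternating groups have no nilpotent minimal cover
-/

set_option autoImplicit false

namespace Cfsg.Agent.Lib.Helper64.NilCoverSym

open Subgroup Equiv Cfsg.Agent.Lib.Helper64.NilCover

open scoped Pointwise

section Abstract

variable {G : Type*} [Group G] [Finite G] {p : ℕ} [hp : Fact p.Prime]

/-- key lemma: in a group with a nilpotent minimal cover and abelian Sylow `p`-subgroups, a `p`-element `x`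
commutes with its conjugates under any proper subgroup containing `C_G(x)` -/
theorem commute_conj_of_cover {𝓐 : Finset (Subgroup G)} (h : NilMinCover G 𝓐) (P : Sylow p G)
    (hab : ∀ a ∈ (P : Subgroup G), ∀ b ∈ (P : Subgroup G), a * b = b * a) {x : G}
    (hx : ∃ k : ℕ, x ^ p ^ k = 1) {H : Subgroup G} (hH : H ≠ ⊤)
    (hCH : centralizer ({x} : Set G) ≤ H) {τ : G} (hτ : τ ∈ H) : Commute x (τ * x * τ⁻¹) := by
  obtain ⟨A, hA, hxA⟩ := h.cover x
  obtain ⟨A', hA', hxA'⟩ := h.cover (τ * x * τ⁻¹)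
  have hx' : ∃ k : ℕ, (τ * x * τ⁻¹) ^ p ^ k = 1 := by
    obtain ⟨k, hk⟩ := hx
    exact ⟨k, by rw [conj_pow, hk, mul_one, mul_inv_cancel]⟩
  have h1 : A ≤ H := (h.le_centralizer P hab hA hxA hx).trans hCH
  have h2 : A' ≤ H := by
    intro y hy
    have hyc := h.le_centralizer P hab hA' hxA' hx' hy
    rw [mem_centralizer_iff] at hyc
    have h3 := hyc _ rfl
    have h4 : τ⁻¹ * y * τ ∈ centralizer ({x} : Set G) := by
      rw [mem_centralizer_iff]
      intro z hz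
      rw [Set.mem_singleton_iff] at hz
      rw [hz]
      calc x * (τ⁻¹ * y * τ) = τ⁻¹ * (τ * x * τ⁻¹ * y) * τ := by group
        _ = τ⁻¹ * (y * (τ * x * τ⁻¹)) * τ := by rw [h3]
        _ = τ⁻¹ * y * τ * x := by group
    have h5 := H.mul_mem (H.mul_mem hτ (hCH h4)) (H.inv_mem hτ)
    have h6 : τ * (τ⁻¹ * y * τ) * τ⁻¹ = y := by group
    rwa [h6] at h5
  have hAA' : A = A' := h.eq_of_le hH hA hA' h1 h2
  have h3 : τ * x * τ⁻¹ ∈ centralizer ({x} : Set G) := by
    apply h.le_centralizer P hab hA hxA hx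
    rw [hAA']; exact hxA'
  rw [mem_centralizer_iff] at h3
  exact h3 x rfl

/-- packaged criterion -/
theorem not_nilMinCover (hcard : (Nat.card G).factorization p = 1) {x : G} (hx : x ^ p = 1)
    {H : Subgroup G} (hH : H ≠ ⊤) (hCH : centralizer ({x} : Set G) ≤ H) {τ : G} (hτ : τ ∈ H)
    (hnc : ¬ Commute x (τ * x * τ⁻¹)) (𝓐 : Finset (Subgroup G)) : ¬ NilMinCover G 𝓐 := by
  intro h
  obtain ⟨P⟩ : Nonempty (Sylow p G) := inferInstance
  have hcP : Nat.card (P : Subgroup G) = p := by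
    rw [P.card_eq_multiplicity, hcard, pow_one]
  have hcyc : IsCyclic (P : Subgroup G) := isCyclic_of_prime_card hcP
  have hab : ∀ a ∈ (P : Subgroup G), ∀ b ∈ (P : Subgroup G), a * b = b * a := by
    intro a ha b hb
    obtain ⟨g, hg⟩ := hcyc.exists_generator
    obtain ⟨i, hi⟩ := mem_zpowers_iff.mp (hg ⟨a, ha⟩)
    obtain ⟨j, hj⟩ := mem_zpowers_iff.mp (hg ⟨b, hb⟩)
    have h1 : (⟨a, ha⟩ : ↥(P : Subgroup G)) * ⟨b, hb⟩ = ⟨b, hb⟩ * ⟨a, ha⟩ := by
      rw [← hi, ← hj, ← zpow_add, ← zpow_add, add_comm]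
    exact congrArg Subtype.val h1
  exact hnc (commute_conj_of_cover h P hab ⟨1, by rw [pow_one]; exact hx⟩ hH hCH hτ)

/-- the statement form -/
theorem not_exists_cover (hcard : (Nat.card G).factorization p = 1) {x : G} (hx : x ^ p = 1)
    {H : Subgroup G} (hH : H ≠ ⊤) (hCH : centralizer ({x} : Set G) ≤ H) {τ : G} (hτ : τ ∈ H)
    (hnc : ¬ Commute x (τ * x * τ⁻¹)) :
    ¬ ∃ 𝓐 : Finset (Subgroup G), ((∀ A ∈ 𝓐, A ≠ ⊤) ∧ (∀ g : G, ∃ A ∈ 𝓐, g ∈ A)) ∧
      (∀ 𝓑 : Finset (Subgroup G), (∀ A ∈ 𝓑, A ≠ ⊤) ∧ (∀ g : G, ∃ A ∈ 𝓑, g ∈ A) → 𝓐.card ≤ 𝓑.card) ∧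
      (∀ A ∈ 𝓐, Group.IsNilpotent ↥A) := by
  rintro ⟨𝓐, ⟨h1, h2⟩, h3, h4⟩
  exact not_nilMinCover hcard hx hH hCH hτ hnc 𝓐 ⟨h1, h2, h3, h4⟩

end Abstract

section Arith

/-- `v_p(n!) = 1` for `p ≤ n < 2p` -/
theorem factorization_factorial_eq_one {p n : ℕ} (hp : p.Prime) (h1 : p ≤ n) (h2 : n < 2 * p) :
    (n.factorial).factorization p = 1 := by
  have : Fact p.Prime := ⟨hp⟩
  rw [Nat.factorization_def _ hp]
  have hlog : Nat.log p n < 2 := by
    apply Nat.log_lt_of_lt_pow (by have := hp.pos; omega)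
    have : 2 * p ≤ p * p := Nat.mul_le_mul_right p hp.two_le
    rw [pow_two]; omega
  rw [padicValNat_factorial hlog]
  have : Finset.Ico 1 2 = {1} := by decide
  rw [this, Finset.sum_singleton, pow_one]
  apply Nat.div_eq_of_lt_le
  · omega
  · omega

theorem card_perm_factorization {p n : ℕ} (hp : p.Prime) (h1 : p ≤ n) (h2 : n < 2 * p) :
    (Nat.card (Perm (Fin n))).factorization p = 1 := by
  rw [Nat.card_perm, Nat.card_eq_fintype_card, Fintype.card_fin]
  exact factorization_factorial_eq_one hp h1 h2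

theorem card_alt_factorization {p n : ℕ} (hp : p.Prime) (hp2 : p ≠ 2) (h1 : p ≤ n) (h2 : n < 2 * p) :
    (Nat.card (alternatingGroup (Fin n))).factorization p = 1 := by
  have hn2 : 2 ≤ n := by have := hp.two_le; omega
  have : Nontrivial (Fin n) := Fin.nontrivial_iff_two_le.mpr hn2
  have h3 := two_mul_card_alternatingGroup (α := Fin n)
  rw [Fintype.card_perm, Fintype.card_fin, ← Nat.card_eq_fintype_card] at h3
  have h4 := factorization_factorial_eq_one hp h1 h2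
  rw [← h3, Nat.factorization_mul (by norm_num) Nat.card_pos.ne'] at h4
  have h5 : (2 : ℕ).factorization p = 0 := by
    apply Nat.factorization_eq_zero_of_not_dvd
    intro hd
    exact hp2 ((Nat.prime_dvd_prime_iff_eq hp Nat.prime_two).mp hd)
  rw [Finsupp.add_apply, h5, zero_add] at h4
  exact h4

end Arith

section General

variable {n p : ℕ}

/-- the point `i` of `Fin n` -/
def pt (hn : 5 < n) (i : Fin 5) : Fin n := ⟨i.val, by have := i.2; omega⟩

/-- the `p`-cycle `(0 1 ... p-1)` -/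
def sig (hpn : p < n) : Perm (Fin n) := Fin.cycleRange (⟨p - 1, by omega⟩ : Fin n)

/-- the `3`-cycle on the points `0, 1, 2` -/
def tau (hn : 5 < n) : Perm (Fin n) := swap (pt hn 0) (pt hn 1) * swap (pt hn 0) (pt hn 2)

/-- the fixed points of `sig` -/
def fixSet (n p : ℕ) : Set (Fin n) := {j | p ≤ j.val}

theorem pt_val (hn : 5 < n) (i : Fin 5) : (pt hn i).val = i.val := rfl

theorem pt_ne (hn : 5 < n) {i j : Fin 5} (h : i ≠ j) : pt hn i ≠ pt hn j := by
  intro he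
  apply h
  have := congrArg Fin.val he
  rw [pt_val, pt_val] at this
  exact Fin.ext this

theorem sig_val_of_lt (hpn : p < n) {j : Fin n} (hj : j.val < p - 1) : (sig hpn j).val = j.val + 1 := by
  unfold sig
  exact Fin.coe_cycleRange_of_lt (Fin.lt_def.mpr hj)

theorem sig_of_ge (hp1 : 1 ≤ p) (hpn : p < n) {j : Fin n} (hj : p ≤ j.val) : sig hpn j = j := by
  unfold sig
  apply Fin.cycleRange_of_gt
  rw [Fin.lt_def]
  show p - 1 < j.val
  omega

theorem ge_of_sig_fixed (hp2 : 2 ≤ p) (hpn : p < n) {j : Fin n} (hj : sig hpn j = j) : p ≤ j.val := by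
  by_contra hlt
  push Not at hlt
  have h1 : (sig hpn j).val = j.val := by rw [hj]
  unfold sig at h1
  have hle : j ≤ (⟨p - 1, by omega⟩ : Fin n) := by
    rw [Fin.le_def]
    show j.val ≤ p - 1
    omega
  rw [Fin.coe_cycleRange_of_le hle] at h1
  split_ifs at h1 with h2
  · have h3 : j.val = p - 1 := by rw [h2]
    omega
  · omega

theorem sig_pt (hp5 : 5 ≤ p) (hpn : p < n) (hn : 5 < n) (i : Fin 5) (hi : i.val < 3) :
    sig hpn (pt hn i) = pt hn ⟨i.val + 1, by omega⟩ := by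
  apply Fin.ext
  rw [sig_val_of_lt hpn (by rw [pt_val]; omega), pt_val, pt_val]

theorem sig_pow (hp2 : 2 ≤ p) (hpn : p < n) : sig hpn ^ p = 1 := by
  have : NeZero n := ⟨by omega⟩
  have h0 : (⟨p - 1, by omega⟩ : Fin n) ≠ 0 := by
    intro h
    have := congrArg Fin.val h
    simp at this
    omega
  have h1 : (sig hpn).cycleType = {p} := by
    unfold sig
    rw [Fin.cycleType_cycleRange h0]
    congr 1
    show p - 1 + 1 = p
    omega
  have h2 : orderOf (sig hpn) = p := by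
    rw [← Equiv.Perm.lcm_cycleType, h1, Multiset.lcm_singleton, normalize_eq]
  have h3 := pow_orderOf_eq_one (sig hpn)
  rwa [h2] at h3

theorem sign_sig (hodd : Odd p) (hpn : p < n) : Perm.sign (sig hpn) = 1 := by
  unfold sig
  rw [Fin.sign_cycleRange]
  show (-1 : ℤˣ) ^ (p - 1) = 1
  obtain ⟨k, hk⟩ := hodd
  have : p - 1 = 2 * k := by omega
  rw [this, pow_mul]
  simp

theorem sign_tau (hn : 5 < n) : Perm.sign (tau hn) = 1 := by
  unfold tau
  rw [Perm.sign_mul, Perm.sign_swap (pt_ne hn (by decide)), Perm.sign_swap (pt_ne hn (by decide))]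
  simp

theorem tau_of_ge (hn : 5 < n) {j : Fin n} (hj : 3 ≤ j.val) : tau hn j = j := by
  unfold tau
  have h0 : j ≠ pt hn 0 := fun h => by have := congrArg Fin.val h; rw [pt_val] at this; simp at this; omega
  have h1 : j ≠ pt hn 1 := fun h => by have := congrArg Fin.val h; rw [pt_val] at this; simp at this; omega
  have h2 : j ≠ pt hn 2 := fun h => by have := congrArg Fin.val h; rw [pt_val] at this; simp at this; omega
  rw [Perm.mul_apply, swap_apply_of_ne_of_ne h0 h2, swap_apply_of_ne_of_ne h0 h1]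

theorem tau_pt1 (hn : 5 < n) : tau hn (pt hn 1) = pt hn 0 := by
  unfold tau
  rw [Perm.mul_apply, swap_apply_of_ne_of_ne (pt_ne hn (by decide)) (pt_ne hn (by decide)),
    swap_apply_right]

theorem tau_pt2 (hn : 5 < n) : tau hn (pt hn 2) = pt hn 1 := by
  unfold tau
  rw [Perm.mul_apply, swap_apply_right, swap_apply_left]

/-- `sig` does not commute with its conjugate by `tau` -/
theorem not_commute (hp5 : 5 ≤ p) (hpn : p < n) (hn : 5 < n) :
    ¬ Commute (sig hpn) (tau hn * sig hpn * (tau hn)⁻¹) := by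
  intro hc
  have h1 := congrArg (fun f : Perm (Fin n) => f (pt hn 0)) hc.eq
  simp only [Perm.mul_apply] at h1
  have hi0 : (tau hn)⁻¹ (pt hn 0) = pt hn 1 := by
    rw [Perm.inv_eq_iff_eq, tau_pt1]
  have hi1 : (tau hn)⁻¹ (pt hn 1) = pt hn 2 := by
    rw [Perm.inv_eq_iff_eq, tau_pt2]
  have hs0 : sig hpn (pt hn 0) = pt hn 1 := sig_pt hp5 hpn hn 0 (by decide)
  have hs1 : sig hpn (pt hn 1) = pt hn 2 := sig_pt hp5 hpn hn 1 (by decide)
  have hs2 : sig hpn (pt hn 2) = pt hn 3 := sig_pt hp5 hpn hn 2 (by decide)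
  have ht3 : tau hn (pt hn 3) = pt hn 3 := tau_of_ge hn (by rw [pt_val]; decide)
  rw [hi0, hs1, tau_pt2, hs1, hs0, hi1, hs2, ht3] at h1
  exact pt_ne hn (by decide) h1

theorem fixSet_finite : (fixSet n p).Finite := Set.toFinite _

/-- elements commuting with `sig` stabilize its fixed point set -/
theorem smul_mem_fixSet_of_commute (hp2 : 2 ≤ p) (hpn : p < n) {g : Perm (Fin n)}
    (hg : g * sig hpn = sig hpn * g) {j : Fin n} (hj : j ∈ fixSet n p) : g j ∈ fixSet n p := by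
  apply ge_of_sig_fixed hp2 hpn
  have h1 := congrArg (fun f : Perm (Fin n) => f j) hg
  simp only [Perm.mul_apply] at h1
  rw [sig_of_ge (by omega) hpn hj] at h1
  exact h1.symm

theorem tau_mem_fixSet (hp3 : 3 ≤ p) (hn : 5 < n) {j : Fin n} (hj : j ∈ fixSet n p) :
    tau hn j ∈ fixSet n p := by
  have hj' : p ≤ j.val := hj
  rw [tau_of_ge hn (by omega)]
  exact hj

/-- the symmetric group, general case -/
theorem perm_general (hp : p.Prime) (hp5 : 5 ≤ p) (hpn : p < n) (h2p : n < 2 * p) :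
    ¬ ∃ 𝓐 : Finset (Subgroup (Perm (Fin n))), ((∀ A ∈ 𝓐, A ≠ ⊤) ∧ (∀ g : Perm (Fin n), ∃ A ∈ 𝓐, g ∈ A)) ∧
      (∀ 𝓑 : Finset (Subgroup (Perm (Fin n))), (∀ A ∈ 𝓑, A ≠ ⊤) ∧ (∀ g : Perm (Fin n), ∃ A ∈ 𝓑, g ∈ A) →
        𝓐.card ≤ 𝓑.card) ∧ (∀ A ∈ 𝓐, Group.IsNilpotent ↥A) := by
  have : Fact p.Prime := ⟨hp⟩
  have hn : 5 < n := by omega
  apply not_exists_cover (p := p) (card_perm_factorization hp (by omega) h2p) (x := sig hpn)
    (sig_pow (by omega) hpn) (H := MulAction.stabilizer (Perm (Fin n)) (fixSet n p)) ?_ ?_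
    (τ := tau hn) ?_ (not_commute hp5 hpn hn)
  · apply Equiv.Perm.stabilizer_ne_top_of_nonempty_of_nonempty_compl
    · exact ⟨⟨p, hpn⟩, le_refl p⟩
    · refine ⟨pt hn 0, ?_⟩
      show ¬ (p ≤ (pt hn 0).val)
      rw [pt_val]
      simp
      omega
  · intro g hg
    rw [mem_centralizer_iff] at hg
    have hg' := hg _ rfl
    rw [MulAction.mem_stabilizer_set' fixSet_finite]
    intro j hj
    exact smul_mem_fixSet_of_commute (by omega) hpn hg'.symm hj
  · rw [MulAction.mem_stabilizer_set' fixSet_finite]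
    intro j hj
    exact tau_mem_fixSet (by omega) hn hj

/-- the alternating group, general case -/
theorem alt_general (hp : p.Prime) (hp5 : 5 ≤ p) (hpn : p < n) (h2p : n < 2 * p) :
    ¬ ∃ 𝓐 : Finset (Subgroup ↥(alternatingGroup (Fin n))), ((∀ A ∈ 𝓐, A ≠ ⊤) ∧
      (∀ g : ↥(alternatingGroup (Fin n)), ∃ A ∈ 𝓐, g ∈ A)) ∧
      (∀ 𝓑 : Finset (Subgroup ↥(alternatingGroup (Fin n))), (∀ A ∈ 𝓑, A ≠ ⊤) ∧
        (∀ g : ↥(alternatingGroup (Fin n)), ∃ A ∈ 𝓑, g ∈ A) → 𝓐.card ≤ 𝓑.card) ∧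
      (∀ A ∈ 𝓐, Group.IsNilpotent ↥A) := by
  have : Fact p.Prime := ⟨hp⟩
  have hn : 5 < n := by omega
  have hodd : Odd p := hp.odd_of_ne_two (by omega)
  have hsA : sig hpn ∈ alternatingGroup (Fin n) := Perm.mem_alternatingGroup.mpr (sign_sig hodd hpn)
  have htA : tau hn ∈ alternatingGroup (Fin n) := Perm.mem_alternatingGroup.mpr (sign_tau hn)
  apply not_exists_cover (p := p) (card_alt_factorization hp (by omega) (by omega) h2p)
    (x := (⟨sig hpn, hsA⟩ : ↥(alternatingGroup (Fin n)))) ?_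
    (H := MulAction.stabilizer ↥(alternatingGroup (Fin n)) (fixSet n p)) ?_ ?_
    (τ := ⟨tau hn, htA⟩) ?_ ?_
  · apply Subtype.ext
    rw [Subgroup.coe_pow]
    exact sig_pow (by omega) hpn
  · apply alternatingGroup.stabilizer_ne_top
    · exact ⟨⟨p, hpn⟩, le_refl p⟩
    · refine ⟨pt hn 0, ?_, pt hn 1, ?_, pt_ne hn (by decide)⟩
      · show ¬ (p ≤ (pt hn 0).val)
        rw [pt_val]
        simp
        omega
      · show ¬ (p ≤ (pt hn 1).val)
        rw [pt_val]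
        simp
        omega
  · intro g hg
    rw [mem_centralizer_iff] at hg
    have hg' := congrArg Subtype.val (hg _ rfl)
    rw [MulAction.mem_stabilizer_set' fixSet_finite]
    intro j hj
    exact smul_mem_fixSet_of_commute (by omega) hpn (g := (g : Perm (Fin n))) hg'.symm hj
  · rw [MulAction.mem_stabilizer_set' fixSet_finite]
    intro j hj
    exact tau_mem_fixSet (by omega) hn hj
  · intro hc
    apply not_commute hp5 hpn hn
    exact congrArg Subtype.val hc.eq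

end General

section Small

set_option maxRecDepth 100000 in
theorem perm4_centralizer : ∀ g : Perm (Fin 4), g * (swap 0 1 * swap 0 2) = (swap 0 1 * swap 0 2) * g →
    Perm.sign g = 1 := by
  decide

set_option maxRecDepth 100000 in
theorem perm5_centralizer : ∀ g : Perm (Fin 5),
    g * (swap 0 1 * swap 1 2 * swap 2 3 * swap 3 4) = (swap 0 1 * swap 1 2 * swap 2 3 * swap 3 4) * g →
    Perm.sign g = 1 := by
  decide

set_option maxRecDepth 100000 in
theorem alt5_centralizer : ∀ g : Perm (Fin 5), g * (swap 0 1 * swap 0 2) = (swap 0 1 * swap 0 2) * g →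
    Perm.sign g = 1 → g 3 = 3 := by
  decide

theorem alternatingGroup_ne_top {m : ℕ} (hm : 2 ≤ m) : alternatingGroup (Fin m) ≠ ⊤ := by
  intro h
  have h01 : (⟨0, by omega⟩ : Fin m) ≠ ⟨1, by omega⟩ := by
    intro h; have := congrArg Fin.val h; simp at this
  have : swap (⟨0, by omega⟩ : Fin m) ⟨1, by omega⟩ ∈ alternatingGroup (Fin m) := by
    rw [h]; exact mem_top _
  rw [Perm.mem_alternatingGroup, Perm.sign_swap h01] at this
  exact absurd this (by decide)

theorem perm4 :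
    ¬ ∃ 𝓐 : Finset (Subgroup (Perm (Fin 4))), ((∀ A ∈ 𝓐, A ≠ ⊤) ∧ (∀ g : Perm (Fin 4), ∃ A ∈ 𝓐, g ∈ A)) ∧
      (∀ 𝓑 : Finset (Subgroup (Perm (Fin 4))), (∀ A ∈ 𝓑, A ≠ ⊤) ∧ (∀ g : Perm (Fin 4), ∃ A ∈ 𝓑, g ∈ A) →
        𝓐.card ≤ 𝓑.card) ∧ (∀ A ∈ 𝓐, Group.IsNilpotent ↥A) := by
  have : Fact (Nat.Prime 3) := ⟨Nat.prime_three⟩
  apply not_exists_cover (p := 3) (card_perm_factorization Nat.prime_three (by norm_num) (by norm_num))
    (x := swap 0 1 * swap 0 2) (by decide) (H := alternatingGroup (Fin 4))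
    (alternatingGroup_ne_top (by norm_num)) ?_ (τ := swap 0 1 * swap 2 3)
    (Perm.mem_alternatingGroup.mpr (by decide)) (fun hc => absurd hc.eq (by decide))
  intro g hg
  rw [mem_centralizer_iff] at hg
  exact Perm.mem_alternatingGroup.mpr (perm4_centralizer g (hg _ rfl).symm)

theorem perm5 :
    ¬ ∃ 𝓐 : Finset (Subgroup (Perm (Fin 5))), ((∀ A ∈ 𝓐, A ≠ ⊤) ∧ (∀ g : Perm (Fin 5), ∃ A ∈ 𝓐, g ∈ A)) ∧
      (∀ 𝓑 : Finset (Subgroup (Perm (Fin 5))), (∀ A ∈ 𝓑, A ≠ ⊤) ∧ (∀ g : Perm (Fin 5), ∃ A ∈ 𝓑, g ∈ A) →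
        𝓐.card ≤ 𝓑.card) ∧ (∀ A ∈ 𝓐, Group.IsNilpotent ↥A) := by
  have : Fact (Nat.Prime 5) := ⟨Nat.prime_five⟩
  apply not_exists_cover (p := 5) (card_perm_factorization Nat.prime_five (by norm_num) (by norm_num))
    (x := swap 0 1 * swap 1 2 * swap 2 3 * swap 3 4) (by decide) (H := alternatingGroup (Fin 5))
    (alternatingGroup_ne_top (by norm_num)) ?_ (τ := swap 0 1 * swap 0 2)
    (Perm.mem_alternatingGroup.mpr (by decide)) (fun hc => absurd hc.eq (by decide))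
  intro g hg
  rw [mem_centralizer_iff] at hg
  exact Perm.mem_alternatingGroup.mpr (perm5_centralizer g (hg _ rfl).symm)

theorem alt5 :
    ¬ ∃ 𝓐 : Finset (Subgroup ↥(alternatingGroup (Fin 5))), ((∀ A ∈ 𝓐, A ≠ ⊤) ∧
      (∀ g : ↥(alternatingGroup (Fin 5)), ∃ A ∈ 𝓐, g ∈ A)) ∧
      (∀ 𝓑 : Finset (Subgroup ↥(alternatingGroup (Fin 5))), (∀ A ∈ 𝓑, A ≠ ⊤) ∧
        (∀ g : ↥(alternatingGroup (Fin 5)), ∃ A ∈ 𝓑, g ∈ A) → 𝓐.card ≤ 𝓑.card) ∧
      (∀ A ∈ 𝓐, Group.IsNilpotent ↥A) := by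
  have : Fact (Nat.Prime 3) := ⟨Nat.prime_three⟩
  have hx : swap (0 : Fin 5) 1 * swap 0 2 ∈ alternatingGroup (Fin 5) :=
    Perm.mem_alternatingGroup.mpr (by decide)
  have ht : swap (0 : Fin 5) 1 * swap 2 4 ∈ alternatingGroup (Fin 5) :=
    Perm.mem_alternatingGroup.mpr (by decide)
  have hy : swap (0 : Fin 5) 3 * swap 1 2 ∈ alternatingGroup (Fin 5) :=
    Perm.mem_alternatingGroup.mpr (by decide)
  apply not_exists_cover (p := 3)
    (card_alt_factorization Nat.prime_three (by norm_num) (by norm_num) (by norm_num))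
    (x := (⟨swap 0 1 * swap 0 2, hx⟩ : ↥(alternatingGroup (Fin 5)))) ?_
    (H := (MulAction.stabilizer (Perm (Fin 5)) (3 : Fin 5)).subgroupOf (alternatingGroup (Fin 5))) ?_ ?_
    (τ := ⟨swap 0 1 * swap 2 4, ht⟩) ?_ ?_
  · apply Subtype.ext
    rw [Subgroup.coe_pow]
    show (swap (0 : Fin 5) 1 * swap 0 2) ^ 3 = 1
    decide
  · intro h
    have h1 : (⟨swap 0 3 * swap 1 2, hy⟩ : ↥(alternatingGroup (Fin 5))) ∈
        (MulAction.stabilizer (Perm (Fin 5)) (3 : Fin 5)).subgroupOf (alternatingGroup (Fin 5)) := by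
      rw [h]; exact mem_top _
    rw [mem_subgroupOf, MulAction.mem_stabilizer_iff] at h1
    revert h1
    show ¬ ((swap (0 : Fin 5) 3 * swap 1 2 : Perm (Fin 5)) 3 = 3)
    decide
  · intro g hg
    rw [mem_centralizer_iff] at hg
    have hg' := congrArg Subtype.val (hg _ rfl)
    rw [mem_subgroupOf, MulAction.mem_stabilizer_iff]
    exact alt5_centralizer (g : Perm (Fin 5)) hg'.symm (Perm.mem_alternatingGroup.mp g.2)
  · rw [mem_subgroupOf, MulAction.mem_stabilizer_iff]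
    show (swap (0 : Fin 5) 1 * swap 2 4 : Perm (Fin 5)) 3 = 3
    decide
  · intro hc
    have h1 := congrArg Subtype.val hc.eq
    revert h1
    show ¬ ((swap (0 : Fin 5) 1 * swap 0 2 : Perm (Fin 5)) * ((swap 0 1 * swap 2 4) * (swap 0 1 * swap 0 2) *
      (swap 0 1 * swap 2 4)⁻¹) = ((swap 0 1 * swap 2 4) * (swap 0 1 * swap 0 2) *
      (swap 0 1 * swap 2 4)⁻¹) * (swap 0 1 * swap 0 2))
    decide

end Small

end Cfsg.Agent.Lib.Helper64.NilCoverSym
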