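import Mathlib
import Cfsg.Agent.Lib.Helper64.TwoClassesA
import Cfsg.Agent.S0071

/-!
# Groups without a normal `2`-complement have at most `|P|/2` classes of `2`-elements
-/

set_option autoImplicit false

namespace Cfsg.Agent.Lib.Helper64.TwoClasses

open Subgroup Cfsg.Agent.Lib.Helper64.PiClasses Cfsg.Agent.Lib.Helper64.NilCover

section InnLift

variable {G : Type*} [Group G]

/-- the elements inducing on `Q` an inner automorphism of `Q` (this is `Q C_G(Q)`) -/
def innLift (Q : Subgroup G) : Subgroup G where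
  carrier := {x | ∃ q ∈ Q, ∀ y ∈ Q, x * y * x⁻¹ = q * y * q⁻¹}
  one_mem' := ⟨1, Q.one_mem, fun y _ => by simp⟩
  mul_mem' := by
    rintro a b ⟨q₁, hq₁, h₁⟩ ⟨q₂, hq₂, h₂⟩
    refine ⟨q₁ * q₂, Q.mul_mem hq₁ hq₂, ?_⟩
    intro y hy
    have hy' : q₂ * y * q₂⁻¹ ∈ Q := Q.mul_mem (Q.mul_mem hq₂ hy) (Q.inv_mem hq₂)
    calc a * b * y * (a * b)⁻¹ = a * (b * y * b⁻¹) * a⁻¹ := by group
      _ = a * (q₂ * y * q₂⁻¹) * a⁻¹ := by rw [h₂ y hy]
      _ = q₁ * (q₂ * y * q₂⁻¹) * q₁⁻¹ := h₁ _ hy'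
      _ = q₁ * q₂ * y * (q₁ * q₂)⁻¹ := by group
  inv_mem' := by
    rintro a ⟨q, hq, h⟩
    refine ⟨q⁻¹, Q.inv_mem hq, ?_⟩
    intro y hy
    have hy' : q⁻¹ * y * q ∈ Q := Q.mul_mem (Q.mul_mem (Q.inv_mem hq) hy) hq
    have h1 := h _ hy'
    have h2 : a * (q⁻¹ * y * q) * a⁻¹ = y := by rw [h1]; group
    calc a⁻¹ * y * a⁻¹⁻¹ = a⁻¹ * (a * (q⁻¹ * y * q) * a⁻¹) * a := by rw [h2]; group
      _ = q⁻¹ * y * q⁻¹⁻¹ := by group

theorem mem_innLift {Q : Subgroup G} {x : G} :
    x ∈ innLift Q ↔ ∃ q ∈ Q, ∀ y ∈ Q, x * y * x⁻¹ = q * y * q⁻¹ := Iff.rfl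

theorem le_innLift (Q : Subgroup G) : Q ≤ innLift Q := fun x hx => ⟨x, hx, fun _ _ => rfl⟩

theorem centralizer_le_innLift (Q : Subgroup G) : centralizer (Q : Set G) ≤ innLift Q := by
  intro x hx
  refine ⟨1, Q.one_mem, ?_⟩
  intro y hy
  rw [mem_centralizer_iff] at hx
  have := hx y hy
  rw [← this]; group

theorem conj_mem_of_mem_innLift {Q : Subgroup G} {x : G} (hx : x ∈ innLift Q) {y : G} (hy : y ∈ Q) :
    x * y * x⁻¹ ∈ Q := by
  obtain ⟨q, hq, h⟩ := hx
  rw [h y hy]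
  exact Q.mul_mem (Q.mul_mem hq hy) (Q.inv_mem hq)

/-- a subgroup all of whose elements conjugate `S` into itself normalizes `S` -/
theorem le_normalizer_of_conj_mem {H S : Subgroup G} (h : ∀ a ∈ H, ∀ s ∈ S, a * s * a⁻¹ ∈ S) :
    H ≤ normalizer (S : Set G) := by
  intro a ha
  rw [mem_normalizer_iff]
  intro s
  constructor
  · exact h a ha s
  · intro hs
    have := h a⁻¹ (H.inv_mem ha) _ hs
    have h2 : a⁻¹ * (a * s * a⁻¹) * a⁻¹⁻¹ = s := by group
    rwa [h2] at this

theorem innLift_le_normalizer (Q : Subgroup G) : innLift Q ≤ normalizer (Q : Set G) :=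
  le_normalizer_of_conj_mem fun _ ha _ hs => conj_mem_of_mem_innLift ha hs

theorem conj_mem_of_mem_normalizer {Q : Subgroup G} {g : G} (hg : g ∈ normalizer (Q : Set G)) {y : G}
    (hy : y ∈ Q) : g * y * g⁻¹ ∈ Q := (mem_normalizer_iff.mp hg y).mp hy

theorem conj_mem_of_mem_normalizer' {Q : Subgroup G} {g : G} (hg : g ∈ normalizer (Q : Set G)) {y : G}
    (hy : y ∈ Q) : g⁻¹ * y * g ∈ Q := by
  have := conj_mem_of_mem_normalizer ((normalizer (Q : Set G)).inv_mem hg) hy
  rwa [inv_inv] at this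

/-- the normalizer of `Q` normalizes `innLift Q` -/
theorem normalizer_le_normalizer_innLift (Q : Subgroup G) :
    normalizer (Q : Set G) ≤ normalizer (innLift Q : Set G) := by
  apply le_normalizer_of_conj_mem
  rintro g hg x ⟨q, hq, h⟩
  refine ⟨g * q * g⁻¹, conj_mem_of_mem_normalizer hg hq, ?_⟩
  intro y hy
  have hy' : g⁻¹ * y * g ∈ Q := conj_mem_of_mem_normalizer' hg hy
  calc g * x * g⁻¹ * y * (g * x * g⁻¹)⁻¹ = g * (x * (g⁻¹ * y * g) * x⁻¹) * g⁻¹ := by group
    _ = g * (q * (g⁻¹ * y * g) * q⁻¹) * g⁻¹ := by rw [h _ hy']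
    _ = g * q * g⁻¹ * y * (g * q * g⁻¹)⁻¹ := by group

/-- elements of `innLift Q` of order prime to the exponent of `Q` centralize `Q` -/
theorem mem_centralizer_of_mem_innLift {Q : Subgroup G} {x : G} (hx : x ∈ innLift Q) (e : ℕ)
    (he : ∀ q ∈ Q, q ^ e = 1) {m : ℕ} (hxm : x ^ m = 1) (hcop : Nat.Coprime e m) :
    x ∈ centralizer (Q : Set G) := by
  obtain ⟨q, hq, h⟩ := hx
  set c := q⁻¹ * x with hc
  have hcC : c ∈ centralizer (Q : Set G) := by
    rw [mem_centralizer_iff]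
    intro y hy
    have h1 := h y hy
    calc y * c = q⁻¹ * (q * y * q⁻¹) * x := by rw [hc]; group
      _ = q⁻¹ * (x * y * x⁻¹) * x := by rw [h1]
      _ = c * y := by rw [hc]; group
  have hcomm : Commute q c := by
    rw [mem_centralizer_iff] at hcC
    exact hcC q hq
  have hxqc : x = q * c := by rw [hc]; group
  have h1 : x ^ e ∈ centralizer (Q : Set G) := by
    rw [hxqc, hcomm.mul_pow, he q hq, one_mul]
    exact (centralizer (Q : Set G)).pow_mem hcC e
  have h2 : x ^ m ∈ centralizer (Q : Set G) := by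
    rw [hxm]; exact one_mem _
  exact mem_of_pow_mem_of_coprime _ hcop h1 h2

end InnLift

section Frattini

variable {G : Type*} [Group G] [Finite G] {p : ℕ} [hp : Fact p.Prime]

/-- relative Frattini argument -/
theorem rel_frattini (L : Subgroup G) (S₀ : Sylow p ↥L) {g : G} (hg : g ∈ normalizer (L : Set G)) :
    ∃ l ∈ L, l⁻¹ * g ∈ normalizer (((S₀ : Subgroup ↥L).map L.subtype : Subgroup G) : Set G) := by
  set S := (S₀ : Subgroup ↥L).map L.subtype with hS
  have hSL : S ≤ L := map_subtype_le _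
  have hmemS : ∀ x : ↥L, (x : G) ∈ S ↔ x ∈ (S₀ : Subgroup ↥L) := by
    intro x
    rw [hS, mem_map]
    constructor
    · rintro ⟨y, hy, hyx⟩
      have : y = x := Subtype.ext hyx
      rwa [← this]
    · intro hx
      exact ⟨x, hx, rfl⟩
  -- the conjugate subgroup inside `L`
  let T₁ : Subgroup ↥L := (S.map (MulAut.conj g).toMonoidHom).subgroupOf L
  have hconjL : S.map (MulAut.conj g).toMonoidHom ≤ L := by
    rintro _ ⟨s, hs, rfl⟩
    exact conj_mem_of_mem_normalizer hg (hSL hs)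
  have hcard : Nat.card T₁ = p ^ (Nat.card ↥L).factorization p := by
    rw [← S₀.card_eq_multiplicity]
    calc Nat.card T₁ = Nat.card (S.map (MulAut.conj g).toMonoidHom) :=
          Nat.card_congr (subgroupOfEquivOfLe hconjL).toEquiv
      _ = Nat.card S := Subgroup.card_map_of_injective (MulAut.conj g).injective
      _ = Nat.card (S₀ : Subgroup ↥L) := Subgroup.card_map_of_injective L.subtype_injective
  obtain ⟨l, hl⟩ := MulAction.exists_smul_eq ↥L S₀ (Sylow.ofCard T₁ hcard)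
  refine ⟨(l : G), l.2, ?_⟩
  have hkey : ∀ x : G, x ∈ L → ((l : G)⁻¹ * x * l ∈ S ↔ g⁻¹ * x * g ∈ S) := by
    intro x hx
    have h1 : (⟨x, hx⟩ : ↥L) ∈ ((l • S₀ : Sylow p ↥L) : Subgroup ↥L) ↔
        (⟨x, hx⟩ : ↥L) ∈ ((Sylow.ofCard T₁ hcard : Sylow p ↥L) : Subgroup ↥L) := by rw [hl]
    rw [mem_smul_sylow_iff, Sylow.coe_ofCard, ← hmemS] at h1
    have h2 : (⟨x, hx⟩ : ↥L) ∈ T₁ ↔ g⁻¹ * x * g ∈ S := by
      show (⟨x, hx⟩ : ↥L) ∈ (S.map (MulAut.conj g).toMonoidHom).subgroupOf L ↔ _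
      rw [mem_subgroupOf, mem_map]
      constructor
      · rintro ⟨s, hs, hsx⟩
        have hsx' : g * s * g⁻¹ = x := hsx
        rw [← hsx']
        have : g⁻¹ * (g * s * g⁻¹) * g = s := by group
        rwa [this]
      · intro h3
        refine ⟨g⁻¹ * x * g, h3, ?_⟩
        show g * (g⁻¹ * x * g) * g⁻¹ = x
        group
    rw [h2] at h1
    exact h1
  have hgL : ∀ x : G, x ∈ L ↔ g * x * g⁻¹ ∈ L := mem_normalizer_iff.mp hg
  rw [mem_normalizer_iff]
  intro s
  have hconj : (l : G)⁻¹ * g * s * ((l : G)⁻¹ * g)⁻¹ = (l : G)⁻¹ * (g * s * g⁻¹) * l := by group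
  rw [hconj]
  constructor
  · intro hs
    have hx : g * s * g⁻¹ ∈ L := (hgL s).mp (hSL hs)
    rw [hkey _ hx]
    have : g⁻¹ * (g * s * g⁻¹) * g = s := by group
    rwa [this]
  · intro hs
    have h1 : (l : G)⁻¹ * (g * s * g⁻¹) * l ∈ L := hSL hs
    have hx : g * s * g⁻¹ ∈ L := by
      have h2 := L.mul_mem (L.mul_mem l.2 h1) (L.inv_mem l.2)
      have h3 : (l : G) * ((l : G)⁻¹ * (g * s * g⁻¹) * l) * (l : G)⁻¹ = g * s * g⁻¹ := by group
      rwa [h3] at h2
    rw [hkey _ hx] at hs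
    have : g⁻¹ * (g * s * g⁻¹) * g = s := by group
    rwa [this] at hs

end Frattini

section Config

variable {G : Type*} [Group G] [Finite G]

/-- from the failure of Frobenius' criterion: a `2`-subgroup `S`, Sylow in `S C_G(S)`-like sense,
with an element of odd order normalizing but not centralizing it -/
theorem exists_config (hnpc : ¬ Cfsg.HasNormalPComplement 2 G) (P : Sylow 2 G) :
    ∃ S : Subgroup G, IsPGroup 2 S ∧
      (∃ w ∈ normalizer (S : Set G), ∃ m : ℕ, Odd m ∧ w ^ m = 1 ∧ w ∉ centralizer (S : Set G)) ∧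
      ∀ P₁ : Sylow 2 G, S ≤ P₁ → ∀ z ∈ (P₁ : Subgroup G),
        (∀ y ∈ (P₁ : Subgroup G), z * y = y * z) → z ∈ S := by
  have : Fact (Nat.Prime 2) := ⟨Nat.prime_two⟩
  have hno : ¬ ∃ N : Subgroup G, N.Normal ∧ N.IsComplement' (P : Subgroup G) :=
    fun ⟨N, hN, hc⟩ => hnpc ⟨P, N, hN, hc⟩
  rw [Cfsg.Agent.S0071.result P] at hno
  push Not at hno
  obtain ⟨Q, hQP, g, hgN, hgo, hgC⟩ := hno
  have hQ2 : IsPGroup 2 Q := P.2.to_le hQP
  set L := innLift Q with hL
  obtain ⟨S₀, hS₀⟩ := (hQ2.comap_subtype (K := L)).exists_le_sylow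
  set S := (S₀ : Subgroup ↥L).map L.subtype with hS
  have hSL : S ≤ L := map_subtype_le _
  have hS2 : IsPGroup 2 S := S₀.2.map L.subtype
  have hQS : Q ≤ S := by
    intro y hy
    rw [hS, mem_map]
    exact ⟨⟨y, le_innLift Q hy⟩, hS₀ (mem_subgroupOf.mpr hy), rfl⟩
  have hmax : ∀ T : Subgroup G, T ≤ L → IsPGroup 2 T → S ≤ T → T ≤ S := by
    intro T hTL hT2 hST
    have h1 : (S₀ : Subgroup ↥L) ≤ T.subgroupOf L := by
      intro x hx
      rw [mem_subgroupOf]
      apply hST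
      rw [hS, mem_map]
      exact ⟨x, hx, rfl⟩
    have h2 : T.subgroupOf L = ↑S₀ := S₀.is_maximal' (hT2.comap_subtype (K := L)) h1
    intro t ht
    have h3 : (⟨t, hTL ht⟩ : ↥L) ∈ T.subgroupOf L := mem_subgroupOf.mpr ht
    rw [h2] at h3
    rw [hS, mem_map]
    exact ⟨_, h3, rfl⟩
  have hgL : g ∈ normalizer (L : Set G) := normalizer_le_normalizer_innLift Q hgN
  obtain ⟨l, hlL, hn⟩ := rel_frattini L S₀ hgL
  set n := l⁻¹ * g with hn_def
  obtain ⟨a, m, hm, hnm⟩ := Nat.exists_eq_pow_mul_and_not_dvd (orderOf_pos n).ne' 2 (by norm_num)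
  refine ⟨S, hS2, ⟨n ^ 2 ^ a, pow_mem hn _, m, Nat.odd_iff.mpr (by omega), ?_, ?_⟩, ?_⟩
  · rw [← pow_mul, ← hnm, pow_orderOf_eq_one]
  · intro hw
    have hwL : n ^ 2 ^ a ∈ L := centralizer_le_innLift Q (centralizer_le hQS hw)
    have hpow : ∀ k : ℕ, ∃ l' ∈ L, n ^ k = l' * g ^ k := by
      intro k
      induction k with
      | zero => exact ⟨1, L.one_mem, by simp⟩
      | succ k ih =>
        obtain ⟨l', hl', h⟩ := ih
        refine ⟨l⁻¹ * (g * l' * g⁻¹), L.mul_mem (L.inv_mem hlL)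
          (conj_mem_of_mem_normalizer hgL hl'), ?_⟩
        rw [pow_succ', h, hn_def, pow_succ']
        group
    obtain ⟨l', hl', h⟩ := hpow (2 ^ a)
    have hg2 : g ^ 2 ^ a ∈ L := by
      have : g ^ 2 ^ a = l'⁻¹ * n ^ 2 ^ a := by rw [h]; group
      rw [this]; exact L.mul_mem (L.inv_mem hl') hwL
    have hgL' : g ∈ L := mem_of_pow_mem_of_coprime L (a := 2 ^ a) (b := orderOf g)
      (Nat.Coprime.pow_left a hgo.symm) hg2 (by rw [pow_orderOf_eq_one]; exact L.one_mem)
    apply hgC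
    obtain ⟨j, hj⟩ := IsPGroup.iff_card.mp hQ2
    apply mem_centralizer_of_mem_innLift hgL' (2 ^ j) _ (pow_orderOf_eq_one g)
      (Nat.Coprime.pow_left j hgo.symm)
    intro q hq
    have h1 : (⟨q, hq⟩ : ↥Q) ^ Nat.card ↥Q = 1 := pow_card_eq_one'
    have h2 : (((⟨q, hq⟩ : ↥Q) ^ Nat.card ↥Q : ↥Q) : G) = 1 := by rw [h1]; rfl
    rwa [Subgroup.coe_pow, hj] at h2
  · intro P₁ hSP z hz hzc
    have hzC : z ∈ centralizer (S : Set G) := by
      rw [mem_centralizer_iff]
      intro y hy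
      exact (hzc y (hSP hy)).symm
    have hzL : z ∈ L := centralizer_le_innLift Q (centralizer_le hQS hzC)
    have hT : S ⊔ zpowers z ≤ S := by
      apply hmax
      · exact sup_le hSL ((zpowers_le).mpr hzL)
      · exact P₁.2.to_le (sup_le hSP ((zpowers_le).mpr hz))
      · exact le_sup_left
    exact hT (mem_sup_right (mem_zpowers z))

/-- a subgroup between `S` and `N_G(S)` containing `w` has no normal `2`-complement -/
theorem not_npc_of_config {S H : Subgroup G} (hS2 : IsPGroup 2 S) (hSH : S ≤ H)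
    (hHN : H ≤ normalizer (S : Set G)) {w : G} (hwH : w ∈ H) {m : ℕ} (hm : Odd m) (hwm : w ^ m = 1)
    (hwC : w ∉ centralizer (S : Set G)) : ¬ Cfsg.HasNormalPComplement 2 ↥H := by
  have : Fact (Nat.Prime 2) := ⟨Nat.prime_two⟩
  rintro ⟨PH, K, hKn, hKc⟩
  apply hwC
  have hidx : K.index = Nat.card (PH : Subgroup ↥H) := hKc.symm.index_eq_card
  obtain ⟨j, hj⟩ := IsPGroup.iff_card.mp PH.2
  have hwK : (⟨w, hwH⟩ : ↥H) ∈ K := by
    apply mem_of_pow_mem_of_coprime K (a := K.index) (b := m)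
    · rw [hidx, hj]; exact Nat.Coprime.pow_left j (Nat.coprime_two_left.mpr hm)
    · exact pow_index_mem K _
    · have : (⟨w, hwH⟩ : ↥H) ^ m = 1 := by
        apply Subtype.ext
        rw [Subgroup.coe_pow]
        exact hwm
      rw [this]; exact K.one_mem
  have hKodd : ¬ 2 ∣ Nat.card K := by
    have h1 : (PH : Subgroup ↥H).index = Nat.card K := hKc.index_eq_card
    rw [← h1]; exact PH.not_dvd_index
  rw [mem_centralizer_iff]
  intro s hs
  have hsS : s ∈ S := hs
  set w' : ↥H := ⟨w, hwH⟩ with hw'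
  set s' : ↥H := ⟨s, hSH hsS⟩ with hs'
  have hc1 : w' * s' * w'⁻¹ * s'⁻¹ ∈ K := by
    have : w' * s' * w'⁻¹ * s'⁻¹ = w' * (s' * w'⁻¹ * s'⁻¹) := by group
    rw [this]; exact K.mul_mem hwK (hKn.conj_mem _ (K.inv_mem hwK) s')
  have hc2 : w * s * w⁻¹ * s⁻¹ ∈ S :=
    S.mul_mem (conj_mem_of_mem_normalizer (hHN hwH) hsS) (S.inv_mem hsS)
  have hy1 : (w * s * w⁻¹ * s⁻¹) ^ Nat.card K = 1 := by
    have h1 : (⟨w' * s' * w'⁻¹ * s'⁻¹, hc1⟩ : ↥K) ^ Nat.card ↥K = 1 := pow_card_eq_one'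
    have h2 : ((((⟨w' * s' * w'⁻¹ * s'⁻¹, hc1⟩ : ↥K) ^ Nat.card ↥K : ↥K) : ↥H) : G) = 1 := by
      rw [h1]; rfl
    rw [Subgroup.coe_pow, Subgroup.coe_pow] at h2
    exact h2
  have hy2 : (w * s * w⁻¹ * s⁻¹) ^ Nat.card S = 1 := by
    have h1 : (⟨_, hc2⟩ : ↥S) ^ Nat.card ↥S = 1 := pow_card_eq_one'
    have h2 : (((⟨_, hc2⟩ : ↥S) ^ Nat.card ↥S : ↥S) : G) = 1 := by rw [h1]; rfl
    rwa [Subgroup.coe_pow] at h2
  obtain ⟨i, hi⟩ := IsPGroup.iff_card.mp hS2
  have hcop : Nat.Coprime (Nat.card S) (Nat.card K) := by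
    rw [hi]
    exact Nat.Coprime.pow_left i ((Nat.Prime.coprime_iff_not_dvd Nat.prime_two).mpr hKodd)
  have hy : w * s * w⁻¹ * s⁻¹ ∈ (⊥ : Subgroup G) :=
    mem_of_pow_mem_of_coprime ⊥ hcop (by rw [hy2]; exact one_mem _) (by rw [hy1]; exact one_mem _)
  rw [mem_bot] at hy
  have h3 : w * s * w⁻¹ = s := mul_inv_eq_one.mp hy
  calc s * w = (w * s * w⁻¹) * w := by rw [h3]
    _ = w * s := by group

/-- elements of `2`-power order -/
def Is2 (x : G) : Prop := ∃ k : ℕ, orderOf x = 2 ^ k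

omit [Finite G] in
theorem Is2.conj {x : G} (hx : Is2 x) (g : G) : Is2 (g * x * g⁻¹) := by
  obtain ⟨k, hk⟩ := hx
  exact ⟨k, by rw [orderOf_conj', hk]⟩

omit [Finite G] in
theorem is2_of_mem {S : Subgroup G} (hS2 : IsPGroup 2 S) {x : G} (hx : x ∈ S) : Is2 x := by
  obtain ⟨k, hk⟩ := (IsPGroup.iff_orderOf.mp hS2) ⟨x, hx⟩
  exact ⟨k, by rw [← hk, Subgroup.orderOf_mk]⟩

/-- every `2`-element is conjugate into a given Sylow `2`-subgroup -/
theorem Is2.exists_conj_mem {x : G} (hx : Is2 x) (P₁ : Sylow 2 G) :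
    ∃ g : G, g * x * g⁻¹ ∈ (P₁ : Subgroup G) := by
  have : Fact (Nat.Prime 2) := ⟨Nat.prime_two⟩
  exact exists_conj_mem_sylow P₁ ((isPiElt_singleton_iff Nat.prime_two x).mpr hx)

/-- the final count, when `S` is normal -/
theorem count_of_normal (S : Subgroup G) [hSn : S.Normal] (hS2 : IsPGroup 2 S)
    {w : G} {m : ℕ} (hm : Odd m) (hwm : w ^ m = 1) (hwC : w ∉ centralizer (S : Set G))
    (P₁ : Sylow 2 G)
    (hZ : ∀ z ∈ (P₁ : Subgroup G), (∀ y ∈ (P₁ : Subgroup G), z * y = y * z) → z ∈ S) :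
    2 * kQ (Is2 (G := G)) ≤ Nat.card (P₁ : Subgroup G) := by
  have : Fact (Nat.Prime 2) := ⟨Nat.prime_two⟩
  have hSP : S ≤ P₁ := hS2.le_sylow_of_normal P₁
  have hsplit := kQ_split (Is2 (G := G)) (fun x => x ∈ S) (fun x g hx => hx.conj g)
    (fun x g => ⟨fun hx => hSn.conj_mem x hx g, fun hx => by
      have := hSn.conj_mem _ hx g⁻¹
      simpa [mul_assoc] using this⟩)
  -- (a) inside `S`
  have ha : 2 * kQ (fun x : G => Is2 x ∧ x ∈ S) ≤ Nat.card S := by
    have h1 : kQ (fun x : G => Is2 x ∧ x ∈ S) ≤ kQ (fun x : G => x ∈ S) := kQ_mono fun x hx => hx.2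
    set H' := S ⊔ zpowers w with hH'
    have hSH' : S ≤ H' := le_sup_left
    have hwH' : w ∈ H' := mem_sup_right (mem_zpowers w)
    set S' := S.subgroupOf H' with hS'
    have hS'n : S'.Normal := hSn.subgroupOf H'
    have hS'2 : IsPGroup 2 S' := hS2.comap_subtype
    have hcardS' : Nat.card S' = Nat.card S := Nat.card_congr (subgroupOfEquivOfLe hSH').toEquiv
    have h2 : kQ (fun x : G => x ∈ S) ≤ kQ (fun x : ↥H' => x ∈ S') := by
      apply kQ_le_of_dom H' (fun x : G => x ∈ S) (fun x : ↥H' => x ∈ S')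
      · intro x g hx
        exact hS'n.conj_mem x hx g
      · intro x hx
        refine ⟨1, ?_, ?_⟩
        · simpa using hSH' hx
        · rw [hS', mem_subgroupOf]
          simpa using hx
    set M := S' ⊔ centralizer (S' : Set ↥H') with hM
    have hMn : M.Normal := inferInstance
    have hdvd : M.index ∣ m := by
      have h3 : M.index ∣ S'.index := index_dvd_of_le le_sup_left
      have h4 : S'.index = S.relIndex (zpowers w) := by
        show S.relIndex H' = _
        rw [hH', relIndex_sup_left]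
      have h5 : S.relIndex (zpowers w) ∣ Nat.card (zpowers w) := relIndex_dvd_card _ _
      rw [Nat.card_zpowers] at h5
      exact (h3.trans (h4 ▸ h5)).trans (orderOf_dvd_of_pow_eq_one hwm)
    have hodd : Odd M.index := hm.of_dvd_nat hdvd
    have hcop : Nat.Coprime (Nat.card S') m := by
      obtain ⟨i, hi⟩ := IsPGroup.iff_card.mp hS'2
      rw [hi]
      exact Nat.Coprime.pow_left i (Nat.coprime_two_left.mpr hm)
    have hMtop : M ≠ ⊤ := by
      intro htop
      apply hwC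
      set w' : ↥H' := ⟨w, hwH'⟩ with hw'
      have hwM : w' ∈ ((S' ⊔ centralizer (S' : Set ↥H') : Subgroup ↥H') : Set ↥H') := by
        rw [← hM, htop]; exact mem_top _
      rw [normal_mul, Set.mem_mul] at hwM
      obtain ⟨s, hs, c, hc, hsc⟩ := hwM
      have hcomm : Commute s c := by
        have := (mem_centralizer_iff.mp hc) s hs
        exact this
      have hwC' : w' ∈ centralizer (S' : Set ↥H') := by
        apply mem_of_pow_mem_of_coprime _ hcop
        · rw [← hsc, hcomm.mul_pow]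
          have : s ^ Nat.card S' = 1 := by
            have h1 : (⟨s, hs⟩ : ↥S') ^ Nat.card ↥S' = 1 := pow_card_eq_one'
            have h2 : (((⟨s, hs⟩ : ↥S') ^ Nat.card ↥S' : ↥S') : ↥H') = 1 := by rw [h1]; rfl
            rwa [Subgroup.coe_pow] at h2
          rw [this, one_mul]
          exact (centralizer (S' : Set ↥H')).pow_mem hc _
        · have : w' ^ m = 1 := by
            apply Subtype.ext
            rw [Subgroup.coe_pow]
            exact hwm
          rw [this]; exact one_mem _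
      rw [mem_centralizer_iff]
      intro y hy
      have hyS : y ∈ S := hy
      have hy' : (⟨y, hSH' hyS⟩ : ↥H') ∈ (S' : Set ↥H') := by
        show _ ∈ S'
        rw [hS', mem_subgroupOf]; exact hyS
      have := (mem_centralizer_iff.mp hwC') _ hy'
      exact congrArg Subtype.val this
    have h3 := two_mul_kQ_mem_le S' M hS'2 le_sup_right hodd hMtop
    calc 2 * kQ (fun x : G => Is2 x ∧ x ∈ S) ≤ 2 * kQ (fun x : ↥H' => x ∈ S') :=
          Nat.mul_le_mul_left 2 (h1.trans h2)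
      _ ≤ Nat.card S' := h3
      _ = Nat.card S := hcardS'
  -- (b) outside `S`
  have hb : 2 * kQ (fun x : G => Is2 x ∧ ¬ x ∈ S) + Nat.card S ≤ Nat.card (P₁ : Subgroup G) := by
    set S'' := S.subgroupOf (P₁ : Subgroup G) with hS''
    have hS''n : S''.Normal := hSn.subgroupOf _
    have hcardS'' : Nat.card S'' = Nat.card S := Nat.card_congr (subgroupOfEquivOfLe hSP).toEquiv
    have hZ'' : center ↥(P₁ : Subgroup G) ≤ S'' := by
      intro z hz
      rw [hS'', mem_subgroupOf]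
      apply hZ _ z.2
      intro y hy
      have := mem_center_iff.mp hz ⟨y, hy⟩
      exact (congrArg Subtype.val this).symm
    have h1 : kQ (fun x : G => Is2 x ∧ ¬ x ∈ S) ≤ kQ (fun x : ↥(P₁ : Subgroup G) => x ∉ S'') := by
      apply kQ_le_of_dom (P₁ : Subgroup G) (fun x : G => Is2 x ∧ ¬ x ∈ S)
        (fun x : ↥(P₁ : Subgroup G) => x ∉ S'')
      · intro x g hx h
        apply hx
        have := hS''n.conj_mem _ h g⁻¹
        simpa [mul_assoc] using this
      · rintro x ⟨hx2, hxS⟩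
        obtain ⟨g, hg⟩ := hx2.exists_conj_mem P₁
        refine ⟨g, hg, ?_⟩
        rw [hS'', mem_subgroupOf]
        intro h
        apply hxS
        have := hSn.conj_mem _ h g⁻¹
        simpa [mul_assoc] using this
    have h2 := two_mul_kQ_not_mem_add_le S'' hZ''
    rw [hcardS''] at h2
    omega
  rw [hsplit]
  have hcS : Nat.card S ≤ Nat.card (P₁ : Subgroup G) := card_le_of_le hSP
  omega

end Config

section Main

universe u

open scoped commutatorElement in
/-- **Theorem A**: a finite group without a normal `2`-complement has at most `|P|/2` classes of `2`-elements -/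
theorem main_aux : ∀ n : ℕ, ∀ (G : Type u) [Group G] [Finite G], Nat.card G = n →
    ¬ Cfsg.HasNormalPComplement 2 G → ∀ P : Sylow 2 G,
      2 * kQ (Is2 (G := G)) ≤ Nat.card (P : Subgroup G) := by
  intro n
  induction n using Nat.strong_induction_on with
  | _ n ih =>
    intro G _ _ hcard hnpc P
    have : Fact (Nat.Prime 2) := ⟨Nat.prime_two⟩
    obtain ⟨S, hS2, ⟨w, hwN, m, hm, hwm, hwC⟩, hZ⟩ := exists_config hnpc P
    obtain ⟨P₁, hSP⟩ := hS2.exists_le_sylow
    have hcardP : Nat.card (P₁ : Subgroup G) = Nat.card (P : Subgroup G) := by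
      rw [P₁.card_eq_multiplicity, P.card_eq_multiplicity]
    rw [← hcardP]
    by_cases hk : Nat.card (P₁ : Subgroup G) < 2 * Nat.card (ConjClasses ↥(P₁ : Subgroup G))
    swap
    · have h1 : kQ (Is2 (G := G)) ≤ kQ (fun _ : ↥(P₁ : Subgroup G) => True) := by
        apply kQ_le_of_dom (P₁ : Subgroup G) Is2 (fun _ => True) (fun _ _ _ => trivial)
        intro x hx
        obtain ⟨g, hg⟩ := hx.exists_conj_mem P₁
        exact ⟨g, hg, trivial⟩
      rw [kQ_true] at h1
      omega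
    · have hcomm := commutator_le_center_of_many P₁.2 hk
      have hPN : (P₁ : Subgroup G) ≤ normalizer (S : Set G) := by
        apply le_normalizer_of_conj_mem
        intro a ha s hs
        have hz : a * s * a⁻¹ * s⁻¹ ∈ S := by
          apply hZ P₁ hSP
          · exact mul_mem (mul_mem (mul_mem ha (hSP hs)) (inv_mem ha)) (inv_mem (hSP hs))
          · intro y hy
            have h1 : ⁅(⟨a, ha⟩ : ↥(P₁ : Subgroup G)), ⟨s, hSP hs⟩⁆ ∈
                _root_.commutator ↥(P₁ : Subgroup G) := by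
              rw [_root_.commutator_def]
              exact Subgroup.commutator_mem_commutator (mem_top _) (mem_top _)
            have h2 := mem_center_iff.mp (hcomm h1) ⟨y, hy⟩
            have h3 := congrArg Subtype.val h2
            simpa [commutatorElement_def] using h3.symm
        have : a * s * a⁻¹ = (a * s * a⁻¹ * s⁻¹) * s := by group
        rw [this]; exact S.mul_mem hz hs
      set H := normalizer (S : Set G) with hH
      by_cases hHtop : H = ⊤
      · have hSn : S.Normal := normalizer_eq_top_iff.mp hHtop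
        exact count_of_normal S hS2 hm hwm hwC P₁ (hZ P₁ hSP)
      · have hlt : Nat.card ↥H < n := by
          rw [← hcard]
          have h1 := two_mul_card_le_of_ne_top H hHtop
          have h2 : 0 < Nat.card ↥H := Nat.card_pos
          omega
        have hnpcH : ¬ Cfsg.HasNormalPComplement 2 ↥H :=
          not_npc_of_config hS2 le_normalizer le_rfl hwN hm hwm hwC
        have hIH := ih (Nat.card ↥H) hlt ↥H rfl hnpcH (P₁.subtype hPN)
        have hcardsub : Nat.card ((P₁.subtype hPN : Sylow 2 ↥H) : Subgroup ↥H) =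
            Nat.card (P₁ : Subgroup G) := by
          rw [Sylow.coe_subtype]
          exact Nat.card_congr (subgroupOfEquivOfLe hPN).toEquiv
        rw [hcardsub] at hIH
        have hdom : kQ (Is2 (G := G)) ≤ kQ (Is2 (G := ↥H)) := by
          apply kQ_le_of_dom H Is2 Is2 (fun x g hx => hx.conj g)
          intro x hx
          obtain ⟨g, hg⟩ := hx.exists_conj_mem P₁
          refine ⟨g, hPN hg, ?_⟩
          obtain ⟨k, hk⟩ := hx.conj g
          exact ⟨k, by rw [Subgroup.orderOf_mk, hk]⟩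
        omega

/-- **Theorem A** -/
theorem two_mul_k2_le {G : Type u} [Group G] [Finite G] (hnpc : ¬ Cfsg.HasNormalPComplement 2 G)
    (P : Sylow 2 G) : 2 * kQ (Is2 (G := G)) ≤ Nat.card (P : Subgroup G) :=
  main_aux _ G rfl hnpc P

/-- a normal complement of one Sylow `p`-subgroup is a complement of every Sylow `p`-subgroup -/
theorem isComplement'_of_isComplement' {G : Type u} [Group G] [Finite G] {p : ℕ} [Fact p.Prime]
    (P₀ P : Sylow p G) {K : Subgroup G} (hK : K.IsComplement' (P₀ : Subgroup G)) :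
    K.IsComplement' (P : Subgroup G) := by
  have hcard : Nat.card (P : Subgroup G) = Nat.card (P₀ : Subgroup G) := by
    rw [P.card_eq_multiplicity, P₀.card_eq_multiplicity]
  apply isComplement'_of_coprime
  · rw [hcard]; exact hK.card_mul_card
  · have h1 : (P₀ : Subgroup G).index = Nat.card K := hK.index_eq_card
    rw [← h1, hcard]
    exact (P₀.card_coprime_index).symm

/-- with a normal `p`-complement, there are at least as many classes of `p`-elements as classes of `P` -/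
theorem card_conjClasses_le_of_complement {G : Type u} [Group G] [Finite G] {p : ℕ} [hp : Fact p.Prime]
    (P : Sylow p G) (K : Subgroup G) [hKn : K.Normal] (hK : K.IsComplement' (P : Subgroup G)) :
    Nat.card (ConjClasses ↥(P : Subgroup G)) ≤
      Nat.card {c : ConjClasses G // ∀ x ∈ c.carrier, ∃ k : ℕ, orderOf x = p ^ k} := by
  have hmem : ∀ x : ↥(P : Subgroup G), ∀ y ∈ (ConjClasses.mk (x : G)).carrier,
      ∃ k : ℕ, orderOf y = p ^ k := by
    intro x y hy
    rw [ConjClasses.mem_carrier_iff_mk_eq, ConjClasses.mk_eq_mk_iff_isConj, isConj_comm, isConj_iff] at hy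
    obtain ⟨c, rfl⟩ := hy
    obtain ⟨k, hk⟩ := (IsPGroup.iff_orderOf.mp P.2) x
    exact ⟨k, by rw [orderOf_conj', ← hk, Subgroup.orderOf_coe]⟩
  have hwd : ∀ x y : ↥(P : Subgroup G), IsConj x y → ConjClasses.mk (x : G) = ConjClasses.mk (y : G) := by
    intro x y hxy
    rw [isConj_iff] at hxy
    obtain ⟨c, hc⟩ := hxy
    rw [ConjClasses.mk_eq_mk_iff_isConj, isConj_iff]
    exact ⟨(c : G), by rw [← hc]; rfl⟩
  let f : ConjClasses ↥(P : Subgroup G) → {c : ConjClasses G // ∀ x ∈ c.carrier, ∃ k : ℕ, orderOf x = p ^ k} :=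
    Quotient.lift (fun x => ⟨ConjClasses.mk (x : G), hmem x⟩) (by
      intro a b hab
      apply Subtype.ext
      exact hwd a b hab)
  apply Nat.card_le_card_of_injective f
  intro a b
  refine Quotient.inductionOn₂ a b ?_
  intro x y hxy
  have h1 : ConjClasses.mk (x : G) = ConjClasses.mk (y : G) := congrArg Subtype.val hxy
  rw [ConjClasses.mk_eq_mk_iff_isConj, isConj_iff] at h1
  obtain ⟨g, hg⟩ := h1
  have hgKP : g ∈ ((K ⊔ (P : Subgroup G) : Subgroup G) : Set G) := by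
    rw [hK.sup_eq_top]; exact mem_top g
  rw [normal_mul, Set.mem_mul] at hgKP
  obtain ⟨k, hk, u, hu, rfl⟩ := hgKP
  set x' : G := u * x * u⁻¹ with hx'
  have hx'P : x' ∈ (P : Subgroup G) :=
    (P : Subgroup G).mul_mem ((P : Subgroup G).mul_mem hu x.2) ((P : Subgroup G).inv_mem hu)
  have hy : (y : G) = k * x' * k⁻¹ := by
    rw [← hg, hx']; group
  have h2 : (y : G) * x'⁻¹ ∈ K := by
    rw [hy]
    have : k * x' * k⁻¹ * x'⁻¹ = k * (x' * k⁻¹ * x'⁻¹) := by group
    rw [this]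
    exact K.mul_mem hk (hKn.conj_mem _ (K.inv_mem hk) _)
  have h3 : (y : G) * x'⁻¹ ∈ (P : Subgroup G) :=
    (P : Subgroup G).mul_mem y.2 ((P : Subgroup G).inv_mem hx'P)
  have h4 : (y : G) * x'⁻¹ ∈ K ⊓ (P : Subgroup G) := mem_inf.mpr ⟨h2, h3⟩
  rw [hK.disjoint.eq_bot, mem_bot] at h4
  have h5 : (y : G) = x' := mul_inv_eq_one.mp h4
  apply Quotient.sound
  show IsConj x y
  rw [isConj_iff]
  refine ⟨⟨u, hu⟩, ?_⟩
  apply Subtype.ext
  rw [h5, hx']
  rfl

end Main

end Cfsg.Agent.Lib.Helper64.TwoClasses
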