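import Mathlib
import Cfsg.Agent.Lib.Helper64.PiClasses
import Cfsg.Agent.Lib.Helper64.TwoClassesB

/-!
# Classes of `π`-elements when `2 ∈ π`
-/

set_option autoImplicit false

namespace Cfsg.Agent.Lib.Helper64.PiClasses2

open Subgroup Cfsg.Agent.Lib.Helper64.PiClasses Cfsg.Agent.Lib.Helper64.TwoClasses
  Cfsg.Agent.Lib.Helper64.NilCover

section Weighted

variable {G : Type*} [Group G] [Finite G]

/-- splitting off one prime, with two different bounds according to an invariant predicate `A` -/
theorem kpi_insert_le_two {r : ℕ} (hr : r.Prime) (σ : Finset ℕ) (A : G → Prop)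
    (hA : ∀ x g : G, A x ↔ A (g * x * g⁻¹)) (X Y : ℕ)
    (hX : ∀ u : G, IsPiElt {r} u → A u → kpi σ ↥(centralizer ({u} : Set G)) ≤ X)
    (hY : ∀ u : G, IsPiElt {r} u → ¬ A u → kpi σ ↥(centralizer ({u} : Set G)) ≤ Y) :
    kpi (insert r σ) G ≤ kQ (fun u : G => IsPiElt {r} u ∧ A u) * X +
      kQ (fun u : G => IsPiElt {r} u ∧ ¬ A u) * Y := by
  classical
  have : Fact r.Prime := ⟨hr⟩
  have : Fintype G := Fintype.ofFinite G
  have hdec : ∀ x : G, ∃ u v : G, u * v = x ∧ Commute u v ∧ (∃ k : ℕ, u ^ r ^ k = 1) ∧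
      (orderOf v).Coprime r ∧ u ∈ zpowers x ∧ v ∈ zpowers x := fun x => exists_p_decomp r x
  choose U V hUV hcomm hUr hVr hUz hVz using hdec
  have hU : ∀ x, IsPiElt {r} (U x) := by
    intro x q hq hd
    obtain ⟨k, hk⟩ := hUr x
    have h1 : orderOf (U x) ∣ r ^ k := orderOf_dvd_of_pow_eq_one hk
    rw [Finset.mem_singleton]
    exact (Nat.prime_dvd_prime_iff_eq hq hr).mp (hq.dvd_of_dvd_pow (hd.trans h1))
  have hV : ∀ x, IsPiElt (insert r σ) x → IsPiElt σ (V x) := by
    intro x hx q hq hd
    have h1 : orderOf (V x) ∣ orderOf x := orderOf_dvd_of_mem_zpowers (hVz x)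
    have h2 := hx q hq (hd.trans h1)
    rcases Finset.mem_insert.mp h2 with rfl | h3
    · exfalso
      have := Nat.dvd_gcd hd (dvd_refl q)
      rw [(hVr x).gcd_eq_one] at this
      exact hq.one_lt.ne' (Nat.dvd_one.mp this)
    · exact h3
  have hcz : ∀ x g y : G, Commute x g → y ∈ zpowers x → Commute y g := by
    intro x g y hxg hy
    obtain ⟨j, rfl⟩ := mem_zpowers_iff.mp hy
    exact hxg.zpow_left j
  let R : G → G × G → Prop := fun u q =>
    IsPiElt {r} u ∧ (q.1 ∈ centralizer ({u} : Set G) ∧ q.2 ∈ centralizer ({u} : Set G) ∧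
      IsPiElt σ q.1 ∧ Commute q.1 q.2)
  have hinj : Nat.card {q : G × G // IsPiElt (insert r σ) q.1 ∧ Commute q.1 q.2} ≤
      Nat.card {t : G × (G × G) // R t.1 t.2} := by
    apply Nat.card_le_card_of_injective
      (fun q : {q : G × G // IsPiElt (insert r σ) q.1 ∧ Commute q.1 q.2} =>
        (⟨(U q.1.1, (V q.1.1, q.1.2)), by
          refine ⟨hU _, ?_, ?_, hV _ q.2.1, hcz _ _ _ q.2.2 (hVz _)⟩
          · rw [mem_centralizer_iff]
            intro h hh
            rw [Set.mem_singleton_iff] at hh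
            rw [hh]; exact (hcomm _).eq
          · rw [mem_centralizer_iff]
            intro h hh
            rw [Set.mem_singleton_iff] at hh
            rw [hh]; exact (hcz _ _ _ q.2.2 (hUz _)).eq⟩ : {t : G × (G × G) // R t.1 t.2}))
    rintro ⟨⟨x, g⟩, hx⟩ ⟨⟨x', g'⟩, hx'⟩ h
    have h1 := congrArg Subtype.val h
    simp only [Prod.mk.injEq] at h1
    obtain ⟨h2, h3, h4⟩ := h1
    apply Subtype.ext
    simp only [Prod.mk.injEq]
    refine ⟨?_, h4⟩
    rw [← hUV x, ← hUV x', h2, h3]
  have hsig : Nat.card {t : G × (G × G) // R t.1 t.2} = ∑ u : G, Nat.card {q : G × G // R u q} := by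
    rw [Nat.card_congr (Equiv.subtypeProdEquivSigmaSubtype R), Nat.card_sigma]
  have hsigA : Nat.card {q : G × G // (IsPiElt {r} q.1 ∧ A q.1) ∧ Commute q.1 q.2} =
      ∑ u : G, Nat.card {g : G // (IsPiElt {r} u ∧ A u) ∧ Commute u g} := by
    rw [Nat.card_congr (Equiv.subtypeProdEquivSigmaSubtype
      (fun u g : G => (IsPiElt {r} u ∧ A u) ∧ Commute u g)), Nat.card_sigma]
  have hsigN : Nat.card {q : G × G // (IsPiElt {r} q.1 ∧ ¬ A q.1) ∧ Commute q.1 q.2} =
      ∑ u : G, Nat.card {g : G // (IsPiElt {r} u ∧ ¬ A u) ∧ Commute u g} := by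
    rw [Nat.card_congr (Equiv.subtypeProdEquivSigmaSubtype
      (fun u g : G => (IsPiElt {r} u ∧ ¬ A u) ∧ Commute u g)), Nat.card_sigma]
  have hfib : ∀ u : G, Nat.card {q : G × G // R u q} ≤
      X * Nat.card {g : G // (IsPiElt {r} u ∧ A u) ∧ Commute u g} +
      Y * Nat.card {g : G // (IsPiElt {r} u ∧ ¬ A u) ∧ Commute u g} := by
    intro u
    by_cases hu : IsPiElt {r} u
    · have e1 : {q : G × G // R u q} ≃
          {q : ↥(centralizer ({u} : Set G)) × ↥(centralizer ({u} : Set G)) // IsPiElt σ q.1 ∧ Commute q.1 q.2} :=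
        { toFun := fun q => ⟨(⟨q.1.1, q.2.2.1⟩, ⟨q.1.2, q.2.2.2.1⟩), by
            refine ⟨?_, ?_⟩
            · intro s hs hd
              apply q.2.2.2.2.1 s hs
              rw [← Subgroup.orderOf_coe] at hd
              exact hd
            · apply Subtype.ext
              exact q.2.2.2.2.2.eq⟩
          invFun := fun q => ⟨((q.1.1 : G), (q.1.2 : G)), by
            refine ⟨hu, q.1.1.2, q.1.2.2, ?_, ?_⟩
            · intro s hs hd
              apply q.2.1 s hs
              rw [← Subgroup.orderOf_coe]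
              exact hd
            · exact congrArg Subtype.val q.2.2.eq⟩
          left_inv := by
            rintro ⟨⟨v, g⟩, h⟩
            rfl
          right_inv := by
            rintro ⟨⟨⟨v, hv⟩, ⟨g, hg⟩⟩, h⟩
            rfl }
      rw [Nat.card_congr e1, card_commPairs_pi]
      by_cases hAu : A u
      · have e2 : {g : G // (IsPiElt {r} u ∧ A u) ∧ Commute u g} ≃ ↥(centralizer ({u} : Set G)) := by
          apply Equiv.subtypeEquivRight
          intro g
          rw [mem_centralizer_iff]
          constructor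
          · rintro ⟨-, h⟩ y hy
            rw [Set.mem_singleton_iff] at hy
            rw [hy]; exact h.eq
          · intro h
            exact ⟨⟨hu, hAu⟩, h u rfl⟩
        rw [Nat.card_congr e2]
        exact (Nat.mul_le_mul_right _ (hX u hu hAu)).trans (Nat.le_add_right _ _)
      · have e2 : {g : G // (IsPiElt {r} u ∧ ¬ A u) ∧ Commute u g} ≃ ↥(centralizer ({u} : Set G)) := by
          apply Equiv.subtypeEquivRight
          intro g
          rw [mem_centralizer_iff]
          constructor
          · rintro ⟨-, h⟩ y hy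
            rw [Set.mem_singleton_iff] at hy
            rw [hy]; exact h.eq
          · intro h
            exact ⟨⟨hu, hAu⟩, h u rfl⟩
        rw [Nat.card_congr e2]
        exact (Nat.mul_le_mul_right _ (hY u hu hAu)).trans (Nat.le_add_left _ _)
    · have : IsEmpty {q : G × G // R u q} := ⟨fun q => hu q.2.1⟩
      rw [Nat.card_of_isEmpty]
      exact Nat.zero_le _
  have hcA := card_commPairs (fun u : G => IsPiElt {r} u ∧ A u)
    (fun x g hx => ⟨hx.1.conj g, (hA x g).mp hx.2⟩)
  have hcN := card_commPairs (fun u : G => IsPiElt {r} u ∧ ¬ A u)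
    (fun x g hx => ⟨hx.1.conj g, fun h => hx.2 ((hA x g).mpr h)⟩)
  have hmain : kpi (insert r σ) G * Nat.card G ≤
      (kQ (fun u : G => IsPiElt {r} u ∧ A u) * X + kQ (fun u : G => IsPiElt {r} u ∧ ¬ A u) * Y) *
        Nat.card G := by
    rw [← card_commPairs_pi]
    calc Nat.card {q : G × G // IsPiElt (insert r σ) q.1 ∧ Commute q.1 q.2}
        ≤ Nat.card {t : G × (G × G) // R t.1 t.2} := hinj
      _ = ∑ u : G, Nat.card {q : G × G // R u q} := hsig
      _ ≤ ∑ u : G, (X * Nat.card {g : G // (IsPiElt {r} u ∧ A u) ∧ Commute u g} +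
            Y * Nat.card {g : G // (IsPiElt {r} u ∧ ¬ A u) ∧ Commute u g}) :=
          Finset.sum_le_sum fun u _ => hfib u
      _ = X * Nat.card {q : G × G // (IsPiElt {r} q.1 ∧ A q.1) ∧ Commute q.1 q.2} +
            Y * Nat.card {q : G × G // (IsPiElt {r} q.1 ∧ ¬ A q.1) ∧ Commute q.1 q.2} := by
          rw [hsigA, hsigN, Finset.sum_add_distrib, Finset.mul_sum, Finset.mul_sum]
      _ = _ := by
          rw [hcA, hcN]; ring
  exact Nat.le_of_mul_le_mul_right hmain Nat.card_pos

omit [Finite G] in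
/-- conjugate elements have centralizers of the same order -/
theorem card_centralizer_conj (u g : G) :
    Nat.card (centralizer ({g * u * g⁻¹} : Set G)) = Nat.card (centralizer ({u} : Set G)) := by
  rw [← card_commute_eq, ← card_commute_eq]
  apply Nat.card_congr
  refine
    { toFun := fun h => ⟨g⁻¹ * h.1 * g, ?_⟩
      invFun := fun h => ⟨g * h.1 * g⁻¹, ?_⟩
      left_inv := ?_
      right_inv := ?_ }
  · have h1 := h.2.eq
    show u * (g⁻¹ * h.1 * g) = g⁻¹ * h.1 * g * u
    calc u * (g⁻¹ * h.1 * g) = g⁻¹ * (g * u * g⁻¹ * h.1) * g := by group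
      _ = g⁻¹ * (h.1 * (g * u * g⁻¹)) * g := by rw [h1]
      _ = g⁻¹ * h.1 * g * u := by group
  · have h1 := h.2.eq
    show g * u * g⁻¹ * (g * h.1 * g⁻¹) = g * h.1 * g⁻¹ * (g * u * g⁻¹)
    calc g * u * g⁻¹ * (g * h.1 * g⁻¹) = g * (u * h.1) * g⁻¹ := by group
      _ = g * (h.1 * u) * g⁻¹ := by rw [h1]
      _ = g * h.1 * g⁻¹ * (g * u * g⁻¹) := by group
  · intro h
    apply Subtype.ext
    show g * (g⁻¹ * h.1 * g) * g⁻¹ = h.1
    group
  · intro h
    apply Subtype.ext
    show g⁻¹ * (g * h.1 * g⁻¹) * g = h.1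
    group

end Weighted

section CaseI

variable {G : Type*} [Group G] [Finite G] {r : ℕ} [hr : Fact r.Prime]

/-- if a Sylow `2`-subgroup centralizes the Sylow `r`-subgroup `R` (`r` odd) and there are more than `|R|/2`
classes of `r`-elements, then `N_G(R) = C_G(R)` -/
theorem normalizer_le_centralizer_of_centralizes (hr2 : r ≠ 2) (R : Sylow r G) (P : Sylow 2 G)
    (hPR : (P : Subgroup G) ≤ centralizer ((R : Subgroup G) : Set G))
    (hd : Nat.card ↥(R : Subgroup G) < 2 * kpi {r} G) :
    normalizer ((R : Subgroup G) : Set G) ≤ centralizer ((R : Subgroup G) : Set G) := by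
  have : Fact (Nat.Prime 2) := ⟨Nat.prime_two⟩
  set N := normalizer ((R : Subgroup G) : Set G) with hN
  set C' := (centralizer ((R : Subgroup G) : Set G)).subgroupOf N with hC'
  have hC'n : C'.Normal := by
    rw [hC', hN, ← normalizerMonoidHom_ker]
    exact MonoidHom.normal_ker _
  have hob := orbit_bound R
  have hk := kpi_le_kQ_inP R
  have hidx := C'.card_mul_index
  have hPN : (P : Subgroup G) ≤ N := hPR.trans (centralizer_le_normalizer _)
  have hRN : (R : Subgroup G) ≤ N := le_normalizer
  have hodd : Odd C'.index := by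
    have h1 : C'.index ∣ ((P : Subgroup G).subgroupOf N).index := by
      apply index_dvd_of_le
      intro x hx
      rw [hC', mem_subgroupOf]
      exact hPR (mem_subgroupOf.mp hx)
    have h2 : ((P : Subgroup G).subgroupOf N).index ∣ (P : Subgroup G).index :=
      relIndex_dvd_index_of_le hPN
    have h3 : Odd (P : Subgroup G).index := by
      rw [← Nat.not_even_iff_odd, even_iff_two_dvd]
      exact P.not_dvd_index
    exact h3.of_dvd_nat (h1.trans h2)
  have hr3 : 3 ≤ r := by
    have := hr.out.two_le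
    omega
  -- arithmetic
  have hNpos : 0 < Nat.card ↥N := Nat.card_pos
  have hCpos : 0 < Nat.card ↥C' := Nat.card_pos
  have hRpos : 0 < Nat.card ↥(R : Subgroup G) := Nat.card_pos
  set ω := kQ (InP R) with hω
  set a := Nat.card ↥(R : Subgroup G) with ha
  set n := Nat.card ↥N with hn
  set c := Nat.card ↥C' with hc
  set e := C'.index with he
  have harith : r * e < 2 * e + 2 * (r - 1) := by
    have h1 : a < 2 * ω := lt_of_lt_of_le hd (Nat.mul_le_mul_left 2 hk)
    have h2 : r * (a * n) < r * (2 * ω * n) := by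
      apply Nat.mul_lt_mul_of_pos_left _ hr.out.pos
      exact Nat.mul_lt_mul_of_pos_right h1 hNpos
    have h3 : r * (2 * ω * n) = 2 * (r * (ω * n)) := by ring
    have h4 : r * (a * n) < 2 * (n * a + c * ((r - 1) * a)) := by
      rw [h3] at h2
      exact lt_of_lt_of_le h2 (Nat.mul_le_mul_left 2 hob)
    rw [← hidx] at h4
    have h5 : (r * e) * (c * a) < (2 * e + 2 * (r - 1)) * (c * a) := by
      calc (r * e) * (c * a) = r * (a * (c * e)) := by ring
        _ < 2 * (c * e * a + c * ((r - 1) * a)) := h4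
        _ = (2 * e + 2 * (r - 1)) * (c * a) := by ring
    exact Nat.lt_of_mul_lt_mul_right h5
  have hcases : e = 1 ∨ (e = 3 ∧ r = 3) := by
    obtain ⟨t, ht⟩ := hodd
    rcases t with _ | t
    · left; omega
    · right
      obtain ⟨r₀, hr₀⟩ : ∃ r₀, r = r₀ + 3 := ⟨r - 3, by omega⟩
      rw [hr₀, ht] at harith
      have h6 : r₀ * t = 0 ∧ r₀ = 0 ∧ t = 0 := by
        have h7 : (r₀ + 3) * (2 * (t + 1) + 1) = 2 * (r₀ * t) + 3 * r₀ + 6 * t + 9 := by ring
        rw [h7] at harith
        omega
      omega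
  rcases hcases with h1 | ⟨h3, hr3'⟩
  · have htop : C' = ⊤ := index_eq_one.mp h1
    intro x hx
    have : (⟨x, hx⟩ : ↥N) ∈ C' := by rw [htop]; exact mem_top _
    rw [hC', mem_subgroupOf] at this
    exact this
  · exfalso
    set R' := (R : Subgroup G).subgroupOf N with hR'
    have hZn : (C'.subgroupOf R').Normal := hC'n.subgroupOf R'
    have hi : (C'.subgroupOf R').index = 1 ∨ (C'.subgroupOf R').index = 3 := by
      have h4 : C'.relIndex R' ∣ C'.index := relIndex_dvd_index_of_normal C' R'
      rw [← he, h3] at h4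
      have := (Nat.dvd_prime Nat.prime_three).mp h4
      exact this
    have hcyc : IsCyclic (↥R' ⧸ C'.subgroupOf R') := by
      rcases hi with h4 | h4
      · have : Nat.card (↥R' ⧸ C'.subgroupOf R') = 1 := h4
        have : Subsingleton (↥R' ⧸ C'.subgroupOf R') := (Nat.card_eq_one_iff_unique.mp this).1
        exact isCyclic_of_subsingleton
      · have hcard : Nat.card (↥R' ⧸ C'.subgroupOf R') = 3 := h4
        have : Fact (Nat.Prime 3) := ⟨Nat.prime_three⟩
        exact isCyclic_of_prime_card hcard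
    have hker : (QuotientGroup.mk' (C'.subgroupOf R')).ker ≤ center ↥R' := by
      rw [QuotientGroup.ker_mk']
      intro x hx
      rw [mem_subgroupOf, hC', mem_subgroupOf, mem_centralizer_iff] at hx
      rw [mem_center_iff]
      intro y
      have hy : ((y : ↥N) : G) ∈ (R : Subgroup G) := mem_subgroupOf.mp y.2
      have := hx _ hy
      apply Subtype.ext
      apply Subtype.ext
      exact this
    have hcomm := (QuotientGroup.mk' (C'.subgroupOf R')).isMulCommutative_of_isCyclic_of_ker_le_center hker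
    have hRC : R' ≤ C' := by
      intro x hx
      rw [hC', mem_subgroupOf, mem_centralizer_iff]
      intro y hy
      have hyN : y ∈ N := hRN hy
      have hy' : (⟨y, hyN⟩ : ↥N) ∈ R' := mem_subgroupOf.mpr hy
      have := hcomm.is_comm.comm (⟨⟨y, hyN⟩, hy'⟩ : ↥R') ⟨x, hx⟩
      have h5 := congrArg (fun z : ↥R' => ((z : ↥N) : G)) this
      exact h5
    have h6 : C'.index ∣ R'.index := index_dvd_of_le hRC
    have h7 : R'.index ∣ (R : Subgroup G).index := relIndex_dvd_index_of_le hRN
    have h8 : ¬ r ∣ (R : Subgroup G).index := R.not_dvd_index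
    rw [← he, h3] at h6
    have h10 : r ∣ 3 := by rw [hr3']
    exact h8 (h10.trans (h6.trans h7))

end CaseI

section CaseII

universe u

variable {G : Type u} [Group G] [Finite G] {r : ℕ} [hr : Fact r.Prime]

/-- classes of `r`-elements whose centralizer contains a Sylow `2`-subgroup -/
theorem kQ_two_central_le (P : Sylow 2 G) :
    kQ (fun u : G => IsPiElt {r} u ∧
      (Nat.card (centralizer ({u} : Set G))).factorization 2 = (Nat.card G).factorization 2) ≤
    r ^ (Nat.card (centralizer ((P : Subgroup G) : Set G))).factorization r := by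
  have : Fact (Nat.Prime 2) := ⟨Nat.prime_two⟩
  set H := centralizer ((P : Subgroup G) : Set G) with hH
  have h1 : kQ (fun u : G => IsPiElt {r} u ∧
      (Nat.card (centralizer ({u} : Set G))).factorization 2 = (Nat.card G).factorization 2) ≤
      kQ (IsPiElt (G := ↥H) {r}) := by
    apply kQ_le_of_dom H _ (IsPiElt (G := ↥H) {r}) (fun x g hx => hx.conj g)
    rintro u ⟨hu, hA⟩
    obtain ⟨T₀⟩ : Nonempty (Sylow 2 ↥(centralizer ({u} : Set G))) := inferInstance
    set T := (T₀ : Subgroup ↥(centralizer ({u} : Set G))).map (centralizer ({u} : Set G)).subtype with hT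
    have hcardT : Nat.card T = 2 ^ (Nat.card G).factorization 2 := by
      rw [hT, Subgroup.card_map_of_injective (subtype_injective _), T₀.card_eq_multiplicity, hA]
    obtain ⟨g, hg⟩ := MulAction.exists_smul_eq G (Sylow.ofCard T hcardT) P
    have hmem : g * u * g⁻¹ ∈ H := by
      rw [hH, mem_centralizer_iff]
      intro y hy
      have hyP : y ∈ ((g • Sylow.ofCard T hcardT : Sylow 2 G) : Subgroup G) := by rw [hg]; exact hy
      rw [mem_smul_sylow_iff, Sylow.coe_ofCard, hT, mem_map] at hyP
      obtain ⟨z, _, hz⟩ := hyP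
      have hzu := z.2
      rw [mem_centralizer_iff] at hzu
      have h2 := hzu u rfl
      have hz' : (z : G) = g⁻¹ * y * g := hz
      rw [hz'] at h2
      calc y * (g * u * g⁻¹) = g * ((g⁻¹ * y * g) * u) * g⁻¹ := by group
        _ = g * (u * (g⁻¹ * y * g)) * g⁻¹ := by rw [h2]
        _ = g * u * g⁻¹ * y := by group
    refine ⟨g, hmem, ?_⟩
    intro q hq hd
    apply hu.conj g q hq
    rwa [Subgroup.orderOf_mk] at hd
  obtain ⟨R₀⟩ : Nonempty (Sylow r ↥H) := inferInstance
  have h2 := kpi_singleton_le R₀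
  rw [R₀.card_eq_multiplicity] at h2
  exact h1.trans h2

/-- for `2 ∈ π` and odd `r ∈ π`: many classes of `π`-elements give very many classes of `r`-elements -/
theorem many_singleton_of_many_two (π : Finset ℕ) (hπ : ∀ q ∈ π, q.Prime) (h2 : 2 ∈ π)
    (hk : piPart π (Nat.card G) < 2 * kpi π G) (hrπ : r ∈ π) (hr2 : r ≠ 2) (R : Sylow r G) :
    (r + 1) * Nat.card ↥(R : Subgroup G) < 2 * r * kpi {r} G := by
  classical
  have : Fact (Nat.Prime 2) := ⟨Nat.prime_two⟩
  obtain ⟨P⟩ : Nonempty (Sylow 2 G) := inferInstance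
  have hApos := piPart_pos π hπ (Nat.card G)
  have hd : r ^ (Nat.card G).factorization r < 2 * kpi {r} G := by
    have h1 := kpi_mul_le (G := G) π hπ hrπ
    have : r ^ (Nat.card G).factorization r * piPart π (Nat.card G) <
        2 * kpi {r} G * piPart π (Nat.card G) := by
      calc r ^ (Nat.card G).factorization r * piPart π (Nat.card G)
          = piPart π (Nat.card G) * r ^ (Nat.card G).factorization r := by ring
        _ < (2 * kpi π G) * r ^ (Nat.card G).factorization r :=
            Nat.mul_lt_mul_of_pos_right hk (pow_pos hr.out.pos _)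
        _ = 2 * (kpi π G * r ^ (Nat.card G).factorization r) := by ring
        _ ≤ 2 * (kpi {r} G * piPart π (Nat.card G)) := Nat.mul_le_mul_left 2 h1
        _ = 2 * kpi {r} G * piPart π (Nat.card G) := by ring
    exact Nat.lt_of_mul_lt_mul_right this
  rw [R.card_eq_multiplicity]
  set H := centralizer ((P : Subgroup G) : Set G) with hH
  by_cases hI : (Nat.card H).factorization r = (Nat.card G).factorization r
  · -- Case I
    obtain ⟨R₀⟩ : Nonempty (Sylow r ↥H) := inferInstance
    set T := (R₀ : Subgroup ↥H).map H.subtype with hT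
    have hcardT : Nat.card T = r ^ (Nat.card G).factorization r := by
      rw [hT, Subgroup.card_map_of_injective (subtype_injective _), R₀.card_eq_multiplicity, hI]
    set R₁ := Sylow.ofCard T hcardT with hR₁
    have hPR : (P : Subgroup G) ≤ centralizer ((R₁ : Subgroup G) : Set G) := by
      intro y hy
      rw [mem_centralizer_iff]
      intro x hx
      have hxT : x ∈ T := hx
      have hxH : x ∈ H := by
        rw [hT] at hxT
        exact map_subtype_le _ hxT
      rw [hH, mem_centralizer_iff] at hxH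
      exact (hxH y hy).symm
    have hd₁ : Nat.card ↥(R₁ : Subgroup G) < 2 * kpi {r} G := by
      rw [R₁.card_eq_multiplicity]; exact hd
    have hle := normalizer_le_centralizer_of_centralizes hr2 R₁ P hPR hd₁
    have hmany := (many_iff R₁).mpr ⟨⟨(MonoidHom.transferSylow R₁ hle).ker, MonoidHom.normal_ker _,
      MonoidHom.ker_transferSylow_isComplement' R₁ hle⟩,
      fun a ha b hb => (hle (le_normalizer ha) b hb).symm⟩
    rwa [R₁.card_eq_multiplicity] at hmany
  · -- Case II
    by_contra hcon
    push Not at hcon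
    set v := (Nat.card G).factorization r with hv
    set v₂ := (Nat.card G).factorization 2 with hv₂
    set σ := π.erase r with hσ
    set ρ := σ.erase 2 with hρ
    have h2σ : 2 ∈ σ := Finset.mem_erase.mpr ⟨fun h => hr2 h.symm, h2⟩
    have hσp : ∀ q ∈ σ, q.Prime := fun q hq => hπ q (Finset.mem_of_mem_erase hq)
    have hcardne : Nat.card G ≠ 0 := Nat.card_pos.ne'
    set X := 2 ^ v₂ * piPart ρ (Nat.card G) with hX
    let A : G → Prop := fun u => (Nat.card (centralizer ({u} : Set G))).factorization 2 = v₂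
    have hA : ∀ x g : G, A x ↔ A (g * x * g⁻¹) := by
      intro x g
      show _ = v₂ ↔ _ = v₂
      rw [card_centralizer_conj]
    have hbound : ∀ u : G, kpi σ ↥(centralizer ({u} : Set G)) ≤
        2 ^ (Nat.card (centralizer ({u} : Set G))).factorization 2 * piPart ρ (Nat.card G) := by
      intro u
      have h1 := kpi_le_piPart σ hσp ↥(centralizer ({u} : Set G))
      have h3 : piPart σ (Nat.card (centralizer ({u} : Set G))) =
          2 ^ (Nat.card (centralizer ({u} : Set G))).factorization 2 *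
            piPart ρ (Nat.card (centralizer ({u} : Set G))) := by
        unfold piPart
        rw [Finset.mul_prod_erase σ (fun q => q ^ (Nat.card (centralizer ({u} : Set G))).factorization q) h2σ]
      rw [h3] at h1
      exact h1.trans (Nat.mul_le_mul_left _
        (piPart_le_of_dvd ρ hcardne (Subgroup.card_subgroup_dvd_card _)))
    have hvle : ∀ u : G, (Nat.card (centralizer ({u} : Set G))).factorization 2 ≤ v₂ := by
      intro u
      exact (Nat.factorization_le_iff_dvd Nat.card_pos.ne' hcardne).mpr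
        (Subgroup.card_subgroup_dvd_card _) 2
    have hXb : ∀ u : G, IsPiElt {r} u → A u → kpi σ ↥(centralizer ({u} : Set G)) ≤ X := by
      intro u _ hAu
      have := hbound u
      rwa [show (Nat.card (centralizer ({u} : Set G))).factorization 2 = v₂ from hAu] at this
    have hYb : ∀ u : G, IsPiElt {r} u → ¬ A u → kpi σ ↥(centralizer ({u} : Set G)) ≤ X / 2 := by
      intro u _ hAu
      have h1 := hbound u
      have h3 : (Nat.card (centralizer ({u} : Set G))).factorization 2 < v₂ :=
        lt_of_le_of_ne (hvle u) hAu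
      rw [Nat.le_div_iff_mul_le (by norm_num)]
      calc kpi σ ↥(centralizer ({u} : Set G)) * 2
          ≤ 2 ^ (Nat.card (centralizer ({u} : Set G))).factorization 2 * piPart ρ (Nat.card G) * 2 :=
            Nat.mul_le_mul_right 2 h1
        _ = 2 ^ ((Nat.card (centralizer ({u} : Set G))).factorization 2 + 1) * piPart ρ (Nat.card G) := by
            rw [pow_succ]; ring
        _ ≤ 2 ^ v₂ * piPart ρ (Nat.card G) :=
            Nat.mul_le_mul_right _ (Nat.pow_le_pow_right (by norm_num) h3)
    have hins := kpi_insert_le_two hr.out σ A hA X (X / 2) hXb hYb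
    rw [hσ, Finset.insert_erase hrπ] at hins
    have hsplit := kQ_split (IsPiElt (G := G) {r}) A (fun x g hx => hx.conj g) hA
    have hkA := kQ_two_central_le (r := r) P
    have hvH : (Nat.card H).factorization r ≤ v :=
      (Nat.factorization_le_iff_dvd Nat.card_pos.ne' hcardne).mpr (Subgroup.card_subgroup_dvd_card _) r
    have hvH' : (Nat.card H).factorization r + 1 ≤ v := by
      have := lt_of_le_of_ne hvH hI
      omega
    set kA := kQ (fun u : G => IsPiElt {r} u ∧ A u) with hkA_def
    set kN := kQ (fun u : G => IsPiElt {r} u ∧ ¬ A u) with hkN_def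
    have hkr : kpi {r} G = kA + kN := hsplit
    have hkA' : kA * r ≤ r ^ v := by
      calc kA * r ≤ r ^ (Nat.card H).factorization r * r := Nat.mul_le_mul_right r hkA
        _ = r ^ ((Nat.card H).factorization r + 1) := (pow_succ _ _).symm
        _ ≤ r ^ v := Nat.pow_le_pow_right hr.out.pos hvH'
    have hr3 : 3 ≤ r := by
      have := hr.out.two_le
      omega
    -- `kA + k_r ≤ r ^ v`
    have hsum : kA + kpi {r} G ≤ r ^ v := by
      have h5 : 2 * r * (kA + kpi {r} G) ≤ 2 * r * r ^ v := by
        calc 2 * r * (kA + kpi {r} G) = 2 * (kA * r) + 2 * r * kpi {r} G := by ring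
          _ ≤ 2 * r ^ v + (r + 1) * r ^ v := Nat.add_le_add (Nat.mul_le_mul_left 2 hkA') hcon
          _ = (r + 3) * r ^ v := by ring
          _ ≤ 2 * r * r ^ v := Nat.mul_le_mul_right _ (by omega)
      exact Nat.le_of_mul_le_mul_left h5 (by have := hr.out.pos; omega)
    have hX2 : 2 * (X / 2) ≤ X := Nat.mul_div_le X 2
    have hfinal : 2 * kpi π G ≤ piPart π (Nat.card G) := by
      have h6 : piPart π (Nat.card G) = r ^ v * X := by
        have h7 : piPart π (Nat.card G) = r ^ v * piPart σ (Nat.card G) := by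
          unfold piPart
          rw [Finset.mul_prod_erase π (fun q => q ^ (Nat.card G).factorization q) hrπ]
        have h8 : piPart σ (Nat.card G) = 2 ^ v₂ * piPart ρ (Nat.card G) := by
          unfold piPart
          rw [Finset.mul_prod_erase σ (fun q => q ^ (Nat.card G).factorization q) h2σ]
        rw [h7, h8]
      rw [h6]
      calc 2 * kpi π G ≤ 2 * (kA * X + kN * (X / 2)) := Nat.mul_le_mul_left 2 hins
        _ = 2 * kA * X + kN * (2 * (X / 2)) := by ring
        _ ≤ 2 * kA * X + kN * X := Nat.add_le_add_left (Nat.mul_le_mul_left _ hX2) _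
        _ = (kA + (kA + kN)) * X := by ring
        _ = (kA + kpi {r} G) * X := by rw [hkr]
        _ ≤ r ^ v * X := Nat.mul_le_mul_right _ hsum
    omega

/-- assembling normal `r`-complements for all `r ∈ π` into a normal `π`-complement -/
theorem exists_normal_pi_complement (π : Finset ℕ) (hπ : ∀ q ∈ π, q.Prime)
    (hK : ∀ q ∈ π, ∃ (R : Sylow q G) (K : Subgroup G), K.Normal ∧ K.IsComplement' (R : Subgroup G)) :
    ∃ N : Subgroup G, N.Normal ∧ (∀ q : ℕ, q.Prime → q ∣ Nat.card ↥N → q ∉ π) ∧
      (∀ q : ℕ, q.Prime → q ∣ N.index → q ∈ π) := by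
  classical
  choose R K hKn hKc using hK
  let K' : ℕ → Subgroup G := fun q => if h : q ∈ π then K q h else ⊤
  have hK' : ∀ q (h : q ∈ π), K' q = K q h := fun q h => dif_pos h
  have hK'n : ∀ q, (K' q).Normal := by
    intro q
    by_cases h : q ∈ π
    · rw [hK' q h]; exact hKn q h
    · have : K' q = ⊤ := dif_neg h
      rw [this]; infer_instance
  have hnd : ∀ q (h : q ∈ π), ¬ q ∣ Nat.card ↥(K' q) := by
    intro q h
    have : Fact q.Prime := ⟨hπ q h⟩
    rw [hK' q h, ← (hKc q h).index_eq_card]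
    exact (R q h).not_dvd_index
  have hidx : ∀ q (h : q ∈ π), ∃ k : ℕ, (K' q).index = q ^ k := by
    intro q h
    have : Fact q.Prime := ⟨hπ q h⟩
    rw [hK' q h, (hKc q h).symm.index_eq_card]
    exact IsPGroup.iff_card.mp (R q h).2
  have hind : ∀ s : Finset ℕ, (s.inf K').Normal ∧ (s.inf K').index ∣ ∏ q ∈ s, (K' q).index := by
    intro s
    induction s using Finset.induction_on with
    | empty =>
      rw [Finset.inf_empty, Finset.prod_empty, Subgroup.index_top]
      exact ⟨inferInstance, dvd_refl 1⟩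
    | insert a s ha ih =>
      obtain ⟨ihn, ihd⟩ := ih
      rw [Finset.inf_insert, Finset.prod_insert ha]
      have := hK'n a
      refine ⟨inferInstance, ?_⟩
      have h1 : (K' a ⊓ s.inf K').index = (K' a ⊓ s.inf K').relIndex (s.inf K') * (s.inf K').index :=
        (Subgroup.relIndex_mul_index inf_le_right).symm
      rw [h1, Subgroup.inf_relIndex_right]
      exact Nat.mul_dvd_mul (Subgroup.relIndex_dvd_index_of_normal _ _) ihd
  set N := π.inf K' with hN
  have hNn : N.Normal := (hind π).1
  have hNle : ∀ q ∈ π, N ≤ K' q := fun q h => Finset.inf_le h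
  refine ⟨N, hNn, ?_, ?_⟩
  · intro q _ hd hq
    exact hnd q hq (hd.trans (Subgroup.card_dvd_of_le (hNle q hq)))
  · intro q hq hd
    have h3 := hd.trans (hind π).2
    obtain ⟨q', hq', hqd⟩ := (Prime.dvd_finsetProd_iff hq.prime _).mp h3
    obtain ⟨k, hk⟩ := hidx q' hq'
    rw [hk] at hqd
    have := (Nat.prime_dvd_prime_iff_eq hq (hπ q' hq')).mp (hq.dvd_of_dvd_pow hqd)
    rw [this]; exact hq'

omit hr in
/-- **Main theorem** for `2 ∈ π` -/
theorem main_two (π : Finset ℕ) (hπ : ∀ q ∈ π, q.Prime) (h2 : 2 ∈ π)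
    (hk : piPart π (Nat.card G) < 2 * kpi π G) :
    (∃ N : Subgroup G, N.Normal ∧ (∀ q : ℕ, q.Prime → q ∣ Nat.card ↥N → q ∉ π) ∧
      ∀ q : ℕ, q.Prime → q ∣ N.index → q ∈ π) ∧
    ∃ H : Subgroup G, ((∀ q : ℕ, q.Prime → q ∣ Nat.card ↥H → q ∈ π.erase 2) ∧
      ∀ q : ℕ, q.Prime → q ∈ π.erase 2 → ¬ q ∣ H.index) ∧ ∀ a ∈ H, ∀ b ∈ H, a * b = b * a := by
  have : Fact (Nat.Prime 2) := ⟨Nat.prime_two⟩
  have hApos := piPart_pos π hπ (Nat.card G)
  -- normal 2-complement
  have hnpc : Cfsg.HasNormalPComplement 2 G := by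
    by_contra hno
    obtain ⟨P⟩ : Nonempty (Sylow 2 G) := inferInstance
    have h1 := two_mul_k2_le hno P
    rw [P.card_eq_multiplicity] at h1
    have h3 : kpi {2} G ≤ kQ (Is2 (G := G)) :=
      kQ_mono fun x hx => (isPiElt_singleton_iff Nat.prime_two x).mp hx
    have h4 := kpi_mul_le (G := G) π hπ h2
    have : 2 ^ (Nat.card G).factorization 2 * piPart π (Nat.card G) <
        2 * kpi {2} G * piPart π (Nat.card G) := by
      calc 2 ^ (Nat.card G).factorization 2 * piPart π (Nat.card G)
          = piPart π (Nat.card G) * 2 ^ (Nat.card G).factorization 2 := by ring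
        _ < (2 * kpi π G) * 2 ^ (Nat.card G).factorization 2 :=
            Nat.mul_lt_mul_of_pos_right hk (pow_pos (by norm_num) _)
        _ = 2 * (kpi π G * 2 ^ (Nat.card G).factorization 2) := by ring
        _ ≤ 2 * (kpi {2} G * piPart π (Nat.card G)) := Nat.mul_le_mul_left 2 h4
        _ = 2 * kpi {2} G * piPart π (Nat.card G) := by ring
    have h5 := Nat.lt_of_mul_lt_mul_right this
    omega
  -- odd primes
  have hodd : ∀ q ∈ π.erase 2, ∃ (R : Sylow q G) (K : Subgroup G), K.Normal ∧
      K.IsComplement' (R : Subgroup G) ∧ ∀ a ∈ (R : Subgroup G), ∀ b ∈ (R : Subgroup G), a * b = b * a := by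
    intro q hq
    have hqπ : q ∈ π := Finset.mem_of_mem_erase hq
    have hq2 : q ≠ 2 := (Finset.mem_erase.mp hq).1
    have : Fact q.Prime := ⟨hπ q hqπ⟩
    obtain ⟨R⟩ : Nonempty (Sylow q G) := inferInstance
    have hmany := many_singleton_of_many_two π hπ h2 hk hqπ hq2 R
    obtain ⟨⟨K, hKn, hKc⟩, hab⟩ := (many_iff R).mp hmany
    exact ⟨R, K, hKn, hKc, hab⟩
  constructor
  · apply exists_normal_pi_complement π hπ
    intro q hq
    by_cases hq2 : q = 2
    · subst hq2
      obtain ⟨P, K, hKn, hKc⟩ := hnpc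
      exact ⟨P, K, hKn, hKc⟩
    · obtain ⟨R, K, hKn, hKc, _⟩ := hodd q (Finset.mem_erase.mpr ⟨hq2, hq⟩)
      exact ⟨R, K, hKn, hKc⟩
  · obtain ⟨N, hNn, h1, h3, H, hH, hab⟩ := exists_pi_complement (π.erase 2)
      (fun q hq => hπ q (Finset.mem_of_mem_erase hq)) hodd
    refine ⟨H, ⟨?_, ?_⟩, hab⟩
    · intro q hq hd
      apply h3 q hq
      rwa [hH.symm.index_eq_card]
    · intro q hq hqσ hd
      apply h1 q hq _ hqσ
      rwa [← hH.index_eq_card]

end CaseII

end Cfsg.Agent.Lib.Helper64.PiClasses2
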