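import Mathlib

/-!
# Polynomial elements with respect to a filtration (Lazard–Leibman)

Let `H` be a group with an endomorphism `τ` and subgroups `Hs i` (`i : ℕ`), decreasing, with
`⁅Hs i, Hs j⁆ ≤ Hs (i + j)`.  Put `D h = τ h * h⁻¹`.  `IsPoly τ Hs i h` says `D^r h ∈ Hs (i + r)` for all `r`.
We prove that `IsPoly τ Hs i` is closed under products, inverses, and that commutators add the degrees
(`IsPoly.mul`, `IsPoly.inv`, `IsPoly.comm`).  The proof is "coinductive": the filtration generated by the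
polynomial elements under products, inverses and commutators is again stable under `D`.
-/

set_option autoImplicit false

namespace Cfsg.Agent.Lib.Helper64

open scoped commutatorElement

section Abstract

variable {H : Type*} [Group H] (τ : H →* H) (Hs : ℕ → Subgroup H)

/-- the discrete derivative `D h = τ h * h⁻¹` -/
def polyD (h : H) : H := τ h * h⁻¹

theorem polyD_one : polyD τ (1 : H) = 1 := by simp [polyD]

theorem polyD_iterate_one (r : ℕ) : (polyD τ)^[r] (1 : H) = 1 := by
  induction r with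
  | zero => rfl
  | succ r ih => rw [Function.iterate_succ_apply, polyD_one, ih]

/-- `h` is polynomial of shifted degree `i`: all iterated derivatives `D^r h` lie in `Hs (i + r)` -/
def IsPoly (i : ℕ) (h : H) : Prop := ∀ r : ℕ, (polyD τ)^[r] h ∈ Hs (i + r)

variable {τ Hs}

theorem IsPoly.mem {i : ℕ} {h : H} (hh : IsPoly τ Hs i h) : h ∈ Hs i := by
  simpa using hh 0

theorem IsPoly.deriv {i : ℕ} {h : H} (hh : IsPoly τ Hs i h) : IsPoly τ Hs (i + 1) (polyD τ h) := by
  intro r
  have := hh (r + 1)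
  rw [Function.iterate_succ_apply] at this
  have e : i + (r + 1) = i + 1 + r := by omega
  rwa [e] at this

theorem isPoly_of_deriv {i : ℕ} {h : H} (h0 : h ∈ Hs i) (h1 : IsPoly τ Hs (i + 1) (polyD τ h)) :
    IsPoly τ Hs i h := by
  intro r
  cases r with
  | zero => simpa using h0
  | succ r =>
    rw [Function.iterate_succ_apply]
    have := h1 r
    have e : i + 1 + r = i + (r + 1) := by omega
    rwa [e] at this

theorem isPoly_one (i : ℕ) : IsPoly τ Hs i (1 : H) := by
  intro r
  rw [polyD_iterate_one]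
  exact Subgroup.one_mem _

variable (τ Hs) in
/-- the filtration generated by polynomial elements -/
inductive PolyMem : ℕ → H → Prop
  | base {i : ℕ} {h : H} : IsPoly τ Hs i h → PolyMem i h
  | mono {i : ℕ} {h : H} : PolyMem (i + 1) h → PolyMem i h
  | one {i : ℕ} : PolyMem i 1
  | mul {i : ℕ} {h g : H} : PolyMem i h → PolyMem i g → PolyMem i (h * g)
  | inv {i : ℕ} {h : H} : PolyMem i h → PolyMem i h⁻¹
  | comm {a b : ℕ} {h g : H} : PolyMem a h → PolyMem b g → PolyMem (a + b) ⁅h, g⁆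

theorem PolyMem.mono_le {i j : ℕ} {h : H} (hij : i ≤ j) (hh : PolyMem τ Hs j h) : PolyMem τ Hs i h := by
  induction j, hij using Nat.le_induction with
  | base => exact hh
  | succ j _ ih => exact ih (PolyMem.mono hh)

theorem PolyMem.cast {i j : ℕ} {h : H} (hij : i = j) (hh : PolyMem τ Hs j h) : PolyMem τ Hs i h :=
  PolyMem.mono_le (le_of_eq hij) hh

theorem PolyMem.conj {i : ℕ} {h g : H} (hh : PolyMem τ Hs i h) (hg : PolyMem τ Hs 0 g) :
    PolyMem τ Hs i (g * h * g⁻¹) := by
  have e : g * h * g⁻¹ = ⁅g, h⁆ * h := by rw [commutatorElement_def]; group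
  rw [e]
  exact PolyMem.mul (PolyMem.cast (Nat.zero_add i).symm (PolyMem.comm hg hh)) hh

section
variable (hanti : ∀ i, Hs (i + 1) ≤ Hs i) (hcomm : ∀ i j, ⁅Hs i, Hs j⁆ ≤ Hs (i + j))
include hanti hcomm

theorem PolyMem.mem {i : ℕ} {h : H} (hh : PolyMem τ Hs i h) : h ∈ Hs i := by
  induction hh with
  | base hb => exact hb.mem
  | mono _ ih => exact hanti _ ih
  | one => exact Subgroup.one_mem _
  | mul _ _ ih1 ih2 => exact Subgroup.mul_mem _ ih1 ih2
  | inv _ ih => exact Subgroup.inv_mem _ ih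
  | comm _ _ ih1 ih2 => exact hcomm _ _ (Subgroup.commutator_mem_commutator ih1 ih2)

omit hanti hcomm in
theorem PolyMem.deriv {i : ℕ} {h : H} (hh : PolyMem τ Hs i h) : PolyMem τ Hs (i + 1) (polyD τ h) := by
  induction hh with
  | base hb => exact PolyMem.base hb.deriv
  | mono _ ih => exact PolyMem.mono ih
  | one => rw [polyD_one]; exact PolyMem.one
  | @mul i h g hh hg ih1 ih2 =>
    have e : polyD τ (h * g) = polyD τ h * ⁅h, polyD τ g⁆ * polyD τ g := by
      simp only [polyD, map_mul, commutatorElement_def]; group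
    rw [e]
    refine PolyMem.mul (PolyMem.mul ih1 ?_) ih2
    have h2 : PolyMem τ Hs (i + (i + 1)) ⁅h, polyD τ g⁆ := PolyMem.comm hh ih2
    exact PolyMem.mono_le (by omega) h2
  | @inv i h hh ih =>
    have e : polyD τ h⁻¹ = h⁻¹ * (polyD τ h)⁻¹ * h⁻¹⁻¹ := by
      simp only [polyD, map_inv]; group
    rw [e]
    exact PolyMem.conj (PolyMem.inv ih) (PolyMem.inv (PolyMem.mono_le (Nat.zero_le _) hh))
  | @comm a b h g hh hg ih1 ih2 =>
    have hτg : PolyMem τ Hs b (τ g) := by
      have e : τ g = polyD τ g * g := by simp [polyD]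
      rw [e]
      exact PolyMem.mul (PolyMem.mono ih2) hg
    have e : polyD τ ⁅h, g⁆ =
        (polyD τ h * ⁅h, polyD τ g⁆ * (polyD τ h)⁻¹) * ⁅polyD τ h * polyD τ g, ⁅h, g⁆⁆ *
          (⁅h, g⁆ * ⁅polyD τ h, τ g⁆ * ⁅h, g⁆⁻¹) := by
      simp only [polyD, map_commutatorElement]
      simp only [commutatorElement_def]; group
    rw [e]
    have hDh0 : PolyMem τ Hs 0 (polyD τ h) := PolyMem.mono_le (Nat.zero_le _) ih1
    have hc : PolyMem τ Hs (a + b) ⁅h, g⁆ := PolyMem.comm hh hg
    refine PolyMem.mul (PolyMem.mul ?_ ?_) ?_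
    · have h2 : PolyMem τ Hs (a + (b + 1)) ⁅h, polyD τ g⁆ := PolyMem.comm hh ih2
      exact PolyMem.conj (PolyMem.cast (by omega) h2) hDh0
    · have h1 : PolyMem τ Hs 1 (polyD τ h * polyD τ g) :=
        PolyMem.mul (PolyMem.mono_le (by omega) ih1) (PolyMem.mono_le (by omega) ih2)
      have h2 : PolyMem τ Hs (1 + (a + b)) ⁅polyD τ h * polyD τ g, ⁅h, g⁆⁆ := PolyMem.comm h1 hc
      exact PolyMem.cast (by omega) h2
    · have h2 : PolyMem τ Hs (a + 1 + b) ⁅polyD τ h, τ g⁆ := PolyMem.comm ih1 hτg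
      exact PolyMem.conj (PolyMem.cast (by omega) h2) (PolyMem.mono_le (Nat.zero_le _) hc)

theorem PolyMem.isPoly {i : ℕ} {h : H} (hh : PolyMem τ Hs i h) : IsPoly τ Hs i h := by
  intro r
  induction r generalizing i h with
  | zero => simpa using PolyMem.mem hanti hcomm hh
  | succ r ih =>
    rw [Function.iterate_succ_apply]
    have := ih hh.deriv
    have e : i + 1 + r = i + (r + 1) := by omega
    rwa [e] at this

theorem IsPoly.mul {i : ℕ} {h g : H} (hh : IsPoly τ Hs i h) (hg : IsPoly τ Hs i g) :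
    IsPoly τ Hs i (h * g) :=
  PolyMem.isPoly hanti hcomm (PolyMem.mul (PolyMem.base hh) (PolyMem.base hg))

theorem IsPoly.inv {i : ℕ} {h : H} (hh : IsPoly τ Hs i h) : IsPoly τ Hs i h⁻¹ :=
  PolyMem.isPoly hanti hcomm (PolyMem.inv (PolyMem.base hh))

theorem IsPoly.comm {a b : ℕ} {h g : H} (hh : IsPoly τ Hs a h) (hg : IsPoly τ Hs b g) :
    IsPoly τ Hs (a + b) ⁅h, g⁆ :=
  PolyMem.isPoly hanti hcomm (PolyMem.comm (PolyMem.base hh) (PolyMem.base hg))

theorem IsPoly.mono_le {i j : ℕ} {h : H} (hij : i ≤ j) (hh : IsPoly τ Hs j h) : IsPoly τ Hs i h :=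
  PolyMem.isPoly hanti hcomm (PolyMem.mono_le hij (PolyMem.base hh))

end

end Abstract

end Cfsg.Agent.Lib.Helper64
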