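import Mathlib

set_option autoImplicit false

namespace Cfsg.Agent.Lib.Helper64

variable {G : Type*} [Group G]

/-- if `g` inverts `x` then `g ^ m` inverts `x` for odd `m`. -/
theorem conj_pow_odd_of_inverts {g x : G} (h : g * x * g⁻¹ = x⁻¹) {m : ℕ} (hm : Odd m) :
    g ^ m * x * (g ^ m)⁻¹ = x⁻¹ := by
  have h2 : Commute (g ^ 2) x := by
    have hinv : g * x⁻¹ * g⁻¹ = x := by
      have := congrArg (fun y => y⁻¹) h
      simp only [mul_inv_rev, inv_inv] at this
      rw [← mul_assoc] at this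
      exact this
    have : g ^ 2 * x * (g ^ 2)⁻¹ = x := by
      rw [pow_two, mul_inv_rev]
      calc g * g * x * (g⁻¹ * g⁻¹) = g * (g * x * g⁻¹) * g⁻¹ := by group
        _ = g * x⁻¹ * g⁻¹ := by rw [h]
        _ = x := hinv
    show g ^ 2 * x = x * g ^ 2
    calc g ^ 2 * x = g ^ 2 * x * (g ^ 2)⁻¹ * g ^ 2 := by group
      _ = x * g ^ 2 := by rw [this]
  obtain ⟨k, rfl⟩ := hm
  have h3 : Commute ((g ^ 2) ^ k) x := h2.pow_left k
  have h4 : g ^ (2 * k + 1) = (g ^ 2) ^ k * g := by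
    rw [pow_succ, pow_mul]
  rw [h4, mul_inv_rev]
  calc (g ^ 2) ^ k * g * x * (g⁻¹ * ((g ^ 2) ^ k)⁻¹)
      = (g ^ 2) ^ k * (g * x * g⁻¹) * ((g ^ 2) ^ k)⁻¹ := by group
    _ = (g ^ 2) ^ k * x⁻¹ * ((g ^ 2) ^ k)⁻¹ := by rw [h]
    _ = x⁻¹ := by
      have := h3.inv_right
      rw [this.eq, mul_inv_cancel_right]

/-- A real element of a finite group is inverted by a 2-element. -/
theorem exists_two_element_inverting [Finite G] {x : G} (hx : IsConj x x⁻¹) :
    ∃ t : G, (∃ j : ℕ, orderOf t = 2 ^ j) ∧ t * x * t⁻¹ = x⁻¹ := by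
  obtain ⟨g, hg⟩ := isConj_iff.mp hx
  have hn : orderOf g ≠ 0 := (orderOf_pos g).ne'
  obtain ⟨j, m, hm, hnm⟩ := Nat.exists_eq_two_pow_mul_odd hn
  refine ⟨g ^ m, ⟨j, ?_⟩, conj_pow_odd_of_inverts hg hm⟩
  have hm0 : m ≠ 0 := by
    rintro rfl
    simp at hm
  rw [orderOf_pow' g hm0, hnm, Nat.gcd_eq_right (Dvd.intro_left _ rfl)]
  exact Nat.mul_div_cancel _ (Nat.pos_of_ne_zero hm0)

/-- An element whose order is coprime to the index of a normal subgroup lies in it. -/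
theorem mem_of_coprime_orderOf_index [Finite G] (N : Subgroup G) [N.Normal] {t : G}
    (h : (orderOf t).Coprime N.index) : t ∈ N := by
  by_cases h1 : orderOf t = 1
  · rw [orderOf_eq_one_iff] at h1
    rw [h1]; exact N.one_mem
  have hlt : 1 < orderOf t := by
    have := orderOf_pos t
    omega
  obtain ⟨m, -, hm⟩ := Nat.exists_mul_mod_eq_one_of_coprime h.symm hlt
  have : t = (t ^ N.index) ^ m := by
    rw [← pow_mul, ← pow_mod_orderOf, hm, pow_one]
  rw [this]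
  exact N.pow_mem (N.pow_index_mem t) m

end Cfsg.Agent.Lib.Helper64
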