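import Mathlib
import Cfsg.Agent.Lib.Helper64.Real

set_option autoImplicit false

namespace Cfsg.Agent.Lib.Helper64

/-- Lifting of real odd-order elements: normal form inside a group `K` in which `H` is normal. -/
theorem exists_real_of_inverted_section {K : Type*} [Group K] [Finite K] (D H : Subgroup K)
    [D.Normal] [H.Normal] (hD2 : IsPGroup 2 D) (t : K)
    (hab : ∀ h ∈ H, ∀ h' ∈ H, h * h' * h⁻¹ * h'⁻¹ ∈ D)
    (hinv : ∀ h ∈ H, t * h * t⁻¹ * h ∈ D) (q : ℕ) [hq : Fact q.Prime] (hq2 : q ≠ 2)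
    (hqH : q ∣ Nat.card H) :
    ∃ y : K, y ≠ 1 ∧ Odd (orderOf y) ∧ IsConj y y⁻¹ := by
  let Y : Sylow q H := default
  have hfrat := Sylow.normalizer_sup_eq_top Y
  have htmem : t ∈ Subgroup.normalizer (((Y : Subgroup H).map H.subtype : Subgroup K) : Set K) ⊔ H := by
    rw [hfrat]; exact Subgroup.mem_top t
  obtain ⟨n, hn, h, hh, hnh⟩ := Subgroup.mem_sup_of_normal_right.mp htmem
  have hYne : (Y : Subgroup H) ≠ ⊥ := Y.ne_bot_of_dvd_card hqH
  obtain ⟨y0, hy0⟩ := (Subgroup.ne_bot_iff_exists_ne_one).mp hYne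
  have hy0Y : (y0 : H) ∈ (Y : Subgroup H) := y0.2
  set y : K := ((y0 : H) : K) with hy
  have hyY : y ∈ (Y : Subgroup H).map H.subtype := ⟨(y0 : H), hy0Y, rfl⟩
  have hyH : y ∈ H := (y0 : H).2
  have hy1 : y ≠ 1 := by
    intro h1
    apply hy0
    apply Subtype.ext
    apply Subtype.ext
    exact h1
  have hYq : IsPGroup q ((Y : Subgroup H).map H.subtype) := Y.isPGroup'.map H.subtype
  have hodd : Odd (orderOf y) := by
    obtain ⟨k, hk⟩ := (IsPGroup.iff_orderOf.mp hYq) ⟨y, hyY⟩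
    rw [Subgroup.orderOf_mk] at hk
    rw [hk]
    exact (hq.out.odd_of_ne_two hq2).pow
  refine ⟨y, hy1, hodd, isConj_iff.mpr ⟨n, ?_⟩⟩
  have hnY : n * y * n⁻¹ ∈ (Y : Subgroup H).map H.subtype :=
    ((Subgroup.mem_normalizer_iff.mp hn) y).mp hyY
  have hc1 : n * y * n⁻¹ * y ∈ (Y : Subgroup H).map H.subtype := Subgroup.mul_mem _ hnY hyY
  have hnt : n = t * h⁻¹ := by rw [← hnh]; group
  have hy' : h⁻¹ * y * h ∈ H := H.mul_mem (H.mul_mem (H.inv_mem hh) hyH) hh
  have hc2 : n * y * n⁻¹ * y ∈ D := by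
    have e : n * y * n⁻¹ * y
        = (t * (h⁻¹ * y * h) * t⁻¹ * (h⁻¹ * y * h)) * (h⁻¹ * y⁻¹ * h⁻¹⁻¹ * y⁻¹⁻¹) := by
      rw [hnt]; group
    rw [e]
    exact D.mul_mem (hinv _ hy') (hab _ (H.inv_mem hh) _ (H.inv_mem hyH))
  have hdisj := IsPGroup.disjoint_of_ne q 2 hq2 _ _ hYq hD2
  have hc : n * y * n⁻¹ * y = 1 := by
    have := (Subgroup.disjoint_def.mp hdisj) hc1 hc2
    exact this
  exact mul_eq_one_iff_eq_inv.mp hc

end Cfsg.Agent.Lib.Helper64

namespace Cfsg.Agent.Lib.Helper64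

/-- A nontrivial real element of odd order in the quotient by a normal 2-subgroup lifts. -/
theorem exists_real_of_quotient {G : Type*} [Group G] [Finite G] (D : Subgroup G) [D.Normal]
    (hD2 : IsPGroup 2 D) (xb : G ⧸ D) (hx1 : xb ≠ 1) (hodd : Odd (orderOf xb))
    (hreal : IsConj xb xb⁻¹) :
    ∃ y : G, y ≠ 1 ∧ Odd (orderOf y) ∧ IsConj y y⁻¹ := by
  obtain ⟨tb, htb⟩ := isConj_iff.mp hreal
  obtain ⟨t, rfl⟩ := QuotientGroup.mk_surjective tb
  obtain ⟨x, rfl⟩ := QuotientGroup.mk_surjective xb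
  set π := QuotientGroup.mk' D with hπ
  have hπt : ∀ g : G, (g : G ⧸ D) = π g := fun g => rfl
  rw [hπt t, hπt x] at htb
  rw [hπt x] at hx1 hodd
  have hZinv : ∀ z ∈ Subgroup.zpowers (π x), π t * z * (π t)⁻¹ = z⁻¹ := by
    intro z hz
    obtain ⟨k, rfl⟩ := Subgroup.mem_zpowers_iff.mp hz
    rw [← conj_zpow, htb, inv_zpow]
  have hZinv' : ∀ z ∈ Subgroup.zpowers (π x), (π t)⁻¹ * z * (π t) = z⁻¹ := by
    intro z hz
    have := hZinv z⁻¹ (Subgroup.inv_mem _ hz)
    rw [inv_inv] at this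
    calc (π t)⁻¹ * z * π t = (π t)⁻¹ * (π t * z⁻¹ * (π t)⁻¹) * π t := by rw [this]
      _ = z⁻¹ := by group
  have hZcomm : ∀ z ∈ Subgroup.zpowers (π x), ∀ z' ∈ Subgroup.zpowers (π x), z * z' = z' * z := by
    intro z hz z' hz'
    obtain ⟨k, rfl⟩ := Subgroup.mem_zpowers_iff.mp hz
    obtain ⟨k', rfl⟩ := Subgroup.mem_zpowers_iff.mp hz'
    exact (Commute.zpow_zpow_self (π x) k k').eq
  set H : Subgroup G := (Subgroup.zpowers (π x)).comap π with hH
  have hmemH : ∀ g : G, g ∈ H ↔ π g ∈ Subgroup.zpowers (π x) := fun g => Iff.rfl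
  have htN : t ∈ Subgroup.normalizer (H : Set G) := by
    rw [Subgroup.mem_normalizer_iff]
    intro h
    rw [hmemH, hmemH, map_mul, map_mul, map_inv]
    constructor
    · intro hh
      rw [hZinv _ hh]
      exact Subgroup.inv_mem _ hh
    · intro hh
      have := hZinv' _ hh
      have e : (π t)⁻¹ * (π t * π h * (π t)⁻¹) * π t = π h := by group
      rw [e] at this
      rw [this]
      exact Subgroup.inv_mem _ hh
  have hDH : D ≤ H := by
    intro d hd
    rw [hmemH]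
    have : π d = 1 := (QuotientGroup.eq_one_iff d).mpr hd
    rw [this]; exact Subgroup.one_mem _
  have hxH : x ∈ H := by
    rw [hmemH]; exact Subgroup.mem_zpowers _
  have hq1 : orderOf (π x) ≠ 1 := by
    rw [Ne, orderOf_eq_one_iff]; exact hx1
  have hqp : (Nat.minFac (orderOf (π x))).Prime := Nat.minFac_prime hq1
  have : Fact (Nat.minFac (orderOf (π x))).Prime := ⟨hqp⟩
  have hq2 : Nat.minFac (orderOf (π x)) ≠ 2 := by
    intro h2
    have := Nat.minFac_dvd (orderOf (π x))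
    rw [h2] at this
    exact (Nat.not_even_iff_odd.mpr hodd) (even_iff_two_dvd.mpr this)
  have hqH : Nat.minFac (orderOf (π x)) ∣ Nat.card (H.subgroupOf (Subgroup.normalizer (H : Set G))) := by
    rw [Nat.card_congr (Subgroup.subgroupOfEquivOfLe (Subgroup.le_normalizer (H := H))).toEquiv]
    refine (Nat.minFac_dvd _).trans ((orderOf_map_dvd π x).trans ?_)
    have := Subgroup.orderOf_dvd_natCard H hxH
    exact this
  have : (D.subgroupOf (Subgroup.normalizer (H : Set G))).Normal :=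
    Subgroup.Normal.subgroupOf inferInstance _
  have : (H.subgroupOf (Subgroup.normalizer (H : Set G))).Normal := Subgroup.normal_in_normalizer
  obtain ⟨y, hy1, hyodd, hyreal⟩ := exists_real_of_inverted_section
    (D.subgroupOf (Subgroup.normalizer (H : Set G))) (H.subgroupOf (Subgroup.normalizer (H : Set G)))
    hD2.comap_subtype ⟨t, htN⟩
    (by
      intro h hh h' hh'
      rw [Subgroup.mem_subgroupOf] at hh hh' ⊢
      rw [hmemH] at hh hh'
      show ((h : G) * (h' : G) * (h : G)⁻¹ * (h' : G)⁻¹) ∈ D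
      rw [← QuotientGroup.eq_one_iff]
      show π ((h : G) * (h' : G) * (h : G)⁻¹ * (h' : G)⁻¹) = 1
      rw [map_mul, map_mul, map_mul, map_inv, map_inv, hZcomm _ hh _ hh']
      group)
    (by
      intro h hh
      rw [Subgroup.mem_subgroupOf] at hh ⊢
      rw [hmemH] at hh
      show (t * (h : G) * t⁻¹ * (h : G)) ∈ D
      rw [← QuotientGroup.eq_one_iff]
      show π (t * (h : G) * t⁻¹ * (h : G)) = 1
      rw [map_mul, map_mul, map_mul, map_inv, hZinv _ hh]
      group)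
    (Nat.minFac (orderOf (π x))) hq2 hqH
  refine ⟨(y : G), ?_, ?_, ?_⟩
  · intro h
    exact hy1 (Subtype.ext h)
  · rw [Subgroup.orderOf_coe]; exact hyodd
  · obtain ⟨c, hc⟩ := isConj_iff.mp hyreal
    refine isConj_iff.mpr ⟨(c : G), ?_⟩
    have := congrArg Subtype.val hc
    simpa using this

end Cfsg.Agent.Lib.Helper64
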